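import Cfsg.Agent.Lib.TCOP2D0

set_option autoImplicit false
set_option maxRecDepth 100000

namespace Cfsg.Agent.Lib.TCOP2
open Cfsg.Agent.Lib.TCCore

noncomputable def n0 : T := (.node (nat_lit 436) l3 l4)
noncomputable def n1 : T := (.node (nat_lit 981) l8 l9)
noncomputable def n2 : T := (.node (nat_lit 1526) l13 l14)
noncomputable def n3 : T := (.node (nat_lit 2071) l18 l19)
noncomputable def n4 : T := (.node (nat_lit 2616) l23 l24)
noncomputable def n5 : T := (.node (nat_lit 3161) l28 l29)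
noncomputable def n6 : T := (.node (nat_lit 3706) l33 l34)
noncomputable def n7 : T := (.node (nat_lit 4251) l38 l39)
noncomputable def tb : T := (.node (nat_lit 2180) (.node (nat_lit 1090) (.node (nat_lit 545) (.node (nat_lit 218) (.node (nat_lit 109) l0 l1) (.node (nat_lit 327) l2 n0)) (.node (nat_lit 763) (.node (nat_lit 654) l5 l6) (.node (nat_lit 872) l7 n1))) (.node (nat_lit 1635) (.node (nat_lit 1308) (.node (nat_lit 1199) l10 l11) (.node (nat_lit 1417) l12 n2)) (.node (nat_lit 1853) (.node (nat_lit 1744) l15 l16) (.node (nat_lit 1962) l17 n3)))) (.node (nat_lit 3270) (.node (nat_lit 2725) (.node (nat_lit 2398) (.node (nat_lit 2289) l20 l21) (.node (nat_lit 2507) l22 n4)) (.node (nat_lit 2943) (.node (nat_lit 2834) l25 l26) (.node (nat_lit 3052) l27 n5))) (.node (nat_lit 3815) (.node (nat_lit 3488) (.node (nat_lit 3379) l30 l31) (.node (nat_lit 3597) l32 n6)) (.node (nat_lit 4033) (.node (nat_lit 3924) l35 l36) (.node (nat_lit 4142) l37 n7)))))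
noncomputable def r0 : WT := (.leaf (nat_lit 8196) [nat_lit 154, nat_lit 44, nat_lit 154, nat_lit 44, nat_lit 154, nat_lit 44, nat_lit 88, nat_lit 66, nat_lit 132, nat_lit 66, nat_lit 132, nat_lit 66, nat_lit 132, nat_lit 66, nat_lit 132, nat_lit 66, nat_lit 110, nat_lit 44, nat_lit 154])
noncomputable def r1 : WT := (.leaf (nat_lit 9232) [nat_lit 88, nat_lit 66, nat_lit 154, nat_lit 44, nat_lit 154, nat_lit 66, nat_lit 132, nat_lit 44, nat_lit 132, nat_lit 66, nat_lit 88, nat_lit 44, nat_lit 154, nat_lit 66, nat_lit 154, nat_lit 44, nat_lit 132, nat_lit 66, nat_lit 132])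
noncomputable def r2 : WT := (.node (nat_lit 5) r0 r1)
noncomputable def r3 : WT := (.leaf (nat_lit 8200) [nat_lit 154, nat_lit 44, nat_lit 154, nat_lit 44, nat_lit 88, nat_lit 66, nat_lit 132, nat_lit 66, nat_lit 132, nat_lit 66, nat_lit 132, nat_lit 66, nat_lit 132, nat_lit 66, nat_lit 110, nat_lit 44, nat_lit 154, nat_lit 44, nat_lit 154])
noncomputable def r4 : WT := (.leaf (nat_lit 9248) [nat_lit 132, nat_lit 66, nat_lit 88, nat_lit 44, nat_lit 154, nat_lit 66, nat_lit 154, nat_lit 44, nat_lit 132, nat_lit 66, nat_lit 132, nat_lit 44, nat_lit 88, nat_lit 66, nat_lit 154, nat_lit 44, nat_lit 154, nat_lit 66, nat_lit 132])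
noncomputable def r5 : WT := (.leaf (nat_lit 8204) [nat_lit 154, nat_lit 44, nat_lit 88, nat_lit 66, nat_lit 132, nat_lit 66, nat_lit 132, nat_lit 66, nat_lit 132, nat_lit 66, nat_lit 132, nat_lit 66, nat_lit 110, nat_lit 44, nat_lit 154, nat_lit 44, nat_lit 154, nat_lit 44, nat_lit 154])
noncomputable def r6 : WT := (.leaf (nat_lit 10248) [nat_lit 132, nat_lit 44, nat_lit 132, nat_lit 44, nat_lit 88, nat_lit 66, nat_lit 154, nat_lit 66, nat_lit 154, nat_lit 66, nat_lit 154, nat_lit 66, nat_lit 154, nat_lit 66, nat_lit 110, nat_lit 44, nat_lit 132, nat_lit 44, nat_lit 132])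
noncomputable def r7 : WT := (.leaf (nat_lit 9251) [nat_lit 132, nat_lit 66, nat_lit 110, nat_lit 44, nat_lit 154, nat_lit 66, nat_lit 154, nat_lit 44, nat_lit 132, nat_lit 66, nat_lit 132, nat_lit 44, nat_lit 110, nat_lit 66, nat_lit 154, nat_lit 44, nat_lit 154, nat_lit 66, nat_lit 132])
noncomputable def r8 : WT := (.leaf (nat_lit 9235) [nat_lit 110, nat_lit 66, nat_lit 154, nat_lit 44, nat_lit 154, nat_lit 66, nat_lit 132, nat_lit 44, nat_lit 132, nat_lit 66, nat_lit 110, nat_lit 44, nat_lit 154, nat_lit 66, nat_lit 154, nat_lit 44, nat_lit 132, nat_lit 66, nat_lit 132])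
noncomputable def r9 : WT := (.leaf (nat_lit 10244) [nat_lit 132, nat_lit 44, nat_lit 132, nat_lit 44, nat_lit 132, nat_lit 44, nat_lit 88, nat_lit 66, nat_lit 154, nat_lit 66, nat_lit 154, nat_lit 66, nat_lit 154, nat_lit 66, nat_lit 154, nat_lit 66, nat_lit 110, nat_lit 44, nat_lit 132])
noncomputable def r10 : WT := (.leaf (nat_lit 9224) [nat_lit 132, nat_lit 66, nat_lit 132, nat_lit 44, nat_lit 88, nat_lit 66, nat_lit 154, nat_lit 44, nat_lit 154, nat_lit 66, nat_lit 132, nat_lit 44, nat_lit 132, nat_lit 66, nat_lit 88, nat_lit 44, nat_lit 154, nat_lit 66, nat_lit 154])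
noncomputable def r11 : WT := (.node (nat_lit 9) (.node (nat_lit 7) r3 (.node (nat_lit 8) r4 (.leaf (nat_lit 3072) [nat_lit 44, nat_lit 44, nat_lit 44, nat_lit 44, nat_lit 44, nat_lit 44]))) (.node (nat_lit 12) (.node (nat_lit 10) r5 (.node (nat_lit 11) r6 r7)) (.node (nat_lit 13) r8 (.node (nat_lit 14) r9 r10))))
noncomputable def r12 : WT := (.leaf (nat_lit 11290) [nat_lit 132, nat_lit 66, nat_lit 154, nat_lit 110, nat_lit 44, nat_lit 88, nat_lit 66, nat_lit 88, nat_lit 132, nat_lit 44, nat_lit 154, nat_lit 66, nat_lit 132, nat_lit 110, nat_lit 44, nat_lit 132, nat_lit 66, nat_lit 88, nat_lit 154])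
noncomputable def r13 : WT := (.leaf (nat_lit 10252) [nat_lit 132, nat_lit 44, nat_lit 88, nat_lit 66, nat_lit 154, nat_lit 66, nat_lit 154, nat_lit 66, nat_lit 154, nat_lit 66, nat_lit 154, nat_lit 66, nat_lit 110, nat_lit 44, nat_lit 132, nat_lit 44, nat_lit 132, nat_lit 44, nat_lit 132])
noncomputable def r14 : WT := (.leaf (nat_lit 8199) [nat_lit 154, nat_lit 44, nat_lit 154, nat_lit 44, nat_lit 154, nat_lit 44, nat_lit 110, nat_lit 66, nat_lit 132, nat_lit 66, nat_lit 132, nat_lit 66, nat_lit 132, nat_lit 66, nat_lit 132, nat_lit 66, nat_lit 88, nat_lit 44, nat_lit 154])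
noncomputable def r15 : WT := (.leaf (nat_lit 11293) [nat_lit 132, nat_lit 66, nat_lit 154, nat_lit 110, nat_lit 44, nat_lit 110, nat_lit 66, nat_lit 88, nat_lit 132, nat_lit 44, nat_lit 154, nat_lit 66, nat_lit 132, nat_lit 110, nat_lit 44, nat_lit 154, nat_lit 66, nat_lit 88, nat_lit 154])
noncomputable def r16 : WT := (.leaf (nat_lit 9240) [nat_lit 154, nat_lit 66, nat_lit 132, nat_lit 44, nat_lit 132, nat_lit 66, nat_lit 88, nat_lit 44, nat_lit 154, nat_lit 66, nat_lit 154, nat_lit 44, nat_lit 132, nat_lit 66, nat_lit 132, nat_lit 44, nat_lit 88, nat_lit 66, nat_lit 154])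
noncomputable def r17 : WT := (.leaf (nat_lit 11280) [nat_lit 132, nat_lit 66, nat_lit 88, nat_lit 154, nat_lit 44, nat_lit 132, nat_lit 66, nat_lit 154, nat_lit 110, nat_lit 44, nat_lit 88, nat_lit 66, nat_lit 88, nat_lit 132, nat_lit 44, nat_lit 154, nat_lit 66, nat_lit 132, nat_lit 110])
noncomputable def r18 : WT := (.leaf (nat_lit 11273) [nat_lit 154, nat_lit 66, nat_lit 132, nat_lit 110, nat_lit 44, nat_lit 154, nat_lit 66, nat_lit 88, nat_lit 154, nat_lit 44, nat_lit 132, nat_lit 66, nat_lit 154, nat_lit 110, nat_lit 44, nat_lit 110, nat_lit 66, nat_lit 88, nat_lit 132])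
noncomputable def r19 : WT := (.node (nat_lit 21) r17 r18)
noncomputable def r20 : WT := (.leaf (nat_lit 8208) [nat_lit 88, nat_lit 66, nat_lit 132, nat_lit 66, nat_lit 132, nat_lit 66, nat_lit 132, nat_lit 66, nat_lit 132, nat_lit 66, nat_lit 110, nat_lit 44, nat_lit 154, nat_lit 44, nat_lit 154, nat_lit 44, nat_lit 154, nat_lit 44, nat_lit 154])
noncomputable def r21 : WT := (.leaf (nat_lit 9227) [nat_lit 132, nat_lit 66, nat_lit 132, nat_lit 44, nat_lit 110, nat_lit 66, nat_lit 154, nat_lit 44, nat_lit 154, nat_lit 66, nat_lit 132, nat_lit 44, nat_lit 132, nat_lit 66, nat_lit 110, nat_lit 44, nat_lit 154, nat_lit 66, nat_lit 154])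
noncomputable def r22 : WT := (.leaf (nat_lit 9243) [nat_lit 154, nat_lit 66, nat_lit 132, nat_lit 44, nat_lit 132, nat_lit 66, nat_lit 110, nat_lit 44, nat_lit 154, nat_lit 66, nat_lit 154, nat_lit 44, nat_lit 132, nat_lit 66, nat_lit 132, nat_lit 44, nat_lit 110, nat_lit 66, nat_lit 154])
noncomputable def r23 : WT := (.node (nat_lit 24) r21 r22)
noncomputable def r24 : WT := (.leaf (nat_lit 13330) [nat_lit 88, nat_lit 132, nat_lit 44, nat_lit 88, nat_lit 88, nat_lit 66, nat_lit 154, nat_lit 88, nat_lit 66, nat_lit 154, nat_lit 88, nat_lit 66, nat_lit 154, nat_lit 88, nat_lit 66, nat_lit 154, nat_lit 88, nat_lit 66, nat_lit 44, nat_lit 88, nat_lit 132, nat_lit 44, nat_lit 88, nat_lit 132, nat_lit 44, nat_lit 88, nat_lit 132])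
noncomputable def r25 : WT := (.leaf (nat_lit 12314) [nat_lit 132, nat_lit 66, nat_lit 154, nat_lit 110, nat_lit 44, nat_lit 154, nat_lit 66, nat_lit 88, nat_lit 132, nat_lit 44, nat_lit 154, nat_lit 66, nat_lit 132, nat_lit 110, nat_lit 44, nat_lit 88, nat_lit 66, nat_lit 88, nat_lit 154])
noncomputable def r26 : WT := (.node (nat_lit 26) r24 r25)
noncomputable def r27 : WT := (.leaf (nat_lit 12324) [nat_lit 154, nat_lit 66, nat_lit 88, nat_lit 132, nat_lit 44, nat_lit 154, nat_lit 66, nat_lit 132, nat_lit 110, nat_lit 44, nat_lit 88, nat_lit 66, nat_lit 88, nat_lit 154, nat_lit 44, nat_lit 132, nat_lit 66, nat_lit 154, nat_lit 110])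
noncomputable def r28 : WT := (.leaf (nat_lit 11270) [nat_lit 154, nat_lit 66, nat_lit 132, nat_lit 110, nat_lit 44, nat_lit 132, nat_lit 66, nat_lit 88, nat_lit 154, nat_lit 44, nat_lit 132, nat_lit 66, nat_lit 154, nat_lit 110, nat_lit 44, nat_lit 88, nat_lit 66, nat_lit 88, nat_lit 132])
noncomputable def r29 : WT := (.node (nat_lit 28) r27 r28)
noncomputable def r30 : WT := (.leaf (nat_lit 11303) [nat_lit 110, nat_lit 66, nat_lit 88, nat_lit 132, nat_lit 44, nat_lit 154, nat_lit 66, nat_lit 132, nat_lit 110, nat_lit 44, nat_lit 154, nat_lit 66, nat_lit 88, nat_lit 154, nat_lit 44, nat_lit 132, nat_lit 66, nat_lit 154, nat_lit 110])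
noncomputable def r31 : WT := (.leaf (nat_lit 13325) [nat_lit 110, nat_lit 132, nat_lit 44, nat_lit 110, nat_lit 132, nat_lit 44, nat_lit 110, nat_lit 110, nat_lit 66, nat_lit 154, nat_lit 110, nat_lit 66, nat_lit 154, nat_lit 110, nat_lit 66, nat_lit 154, nat_lit 110, nat_lit 66, nat_lit 154, nat_lit 110, nat_lit 66, nat_lit 44, nat_lit 110, nat_lit 132, nat_lit 44, nat_lit 110, nat_lit 132])
noncomputable def r32 : WT := (.node (nat_lit 30) r30 r31)
noncomputable def r33 : WT := (.leaf (nat_lit 12297) [nat_lit 154, nat_lit 66, nat_lit 132, nat_lit 110, nat_lit 44, nat_lit 110, nat_lit 66, nat_lit 88, nat_lit 154, nat_lit 44, nat_lit 132, nat_lit 66, nat_lit 154, nat_lit 110, nat_lit 44, nat_lit 132, nat_lit 66, nat_lit 88, nat_lit 132])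
noncomputable def r34 : WT := (.leaf (nat_lit 8203) [nat_lit 154, nat_lit 44, nat_lit 154, nat_lit 44, nat_lit 110, nat_lit 66, nat_lit 132, nat_lit 66, nat_lit 132, nat_lit 66, nat_lit 132, nat_lit 66, nat_lit 132, nat_lit 66, nat_lit 88, nat_lit 44, nat_lit 154, nat_lit 44, nat_lit 154])
noncomputable def r35 : WT := (.node (nat_lit 32) r33 r34)
noncomputable def r36 : WT := (.leaf (nat_lit 13331) [nat_lit 110, nat_lit 132, nat_lit 44, nat_lit 110, nat_lit 110, nat_lit 66, nat_lit 154, nat_lit 110, nat_lit 66, nat_lit 154, nat_lit 110, nat_lit 66, nat_lit 154, nat_lit 110, nat_lit 66, nat_lit 154, nat_lit 110, nat_lit 66, nat_lit 44, nat_lit 110, nat_lit 132, nat_lit 44, nat_lit 110, nat_lit 132, nat_lit 44, nat_lit 110, nat_lit 132])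
noncomputable def r37 : WT := (.leaf (nat_lit 12327) [nat_lit 132, nat_lit 66, nat_lit 88, nat_lit 132, nat_lit 44, nat_lit 154, nat_lit 66, nat_lit 132, nat_lit 110, nat_lit 44, nat_lit 110, nat_lit 66, nat_lit 88, nat_lit 154, nat_lit 44, nat_lit 132, nat_lit 66, nat_lit 154, nat_lit 110])
noncomputable def r38 : WT := (.leaf (nat_lit 13324) [nat_lit 88, nat_lit 132, nat_lit 44, nat_lit 88, nat_lit 132, nat_lit 44, nat_lit 88, nat_lit 88, nat_lit 66, nat_lit 154, nat_lit 88, nat_lit 66, nat_lit 154, nat_lit 88, nat_lit 66, nat_lit 154, nat_lit 88, nat_lit 66, nat_lit 154, nat_lit 88, nat_lit 66, nat_lit 44, nat_lit 88, nat_lit 132, nat_lit 44, nat_lit 88, nat_lit 132])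
noncomputable def r39 : WT := (.node (nat_lit 34) r36 (.node (nat_lit 35) r37 r38))
noncomputable def r40 : WT := (.leaf (nat_lit 12294) [nat_lit 154, nat_lit 66, nat_lit 132, nat_lit 110, nat_lit 44, nat_lit 88, nat_lit 66, nat_lit 88, nat_lit 154, nat_lit 44, nat_lit 132, nat_lit 66, nat_lit 154, nat_lit 110, nat_lit 44, nat_lit 154, nat_lit 66, nat_lit 88, nat_lit 132])
noncomputable def r41 : WT := (.leaf (nat_lit 13337) [nat_lit 110, nat_lit 110, nat_lit 66, nat_lit 154, nat_lit 110, nat_lit 66, nat_lit 154, nat_lit 110, nat_lit 66, nat_lit 154, nat_lit 110, nat_lit 66, nat_lit 154, nat_lit 110, nat_lit 66, nat_lit 44, nat_lit 110, nat_lit 132, nat_lit 44, nat_lit 110, nat_lit 132, nat_lit 44, nat_lit 110, nat_lit 132, nat_lit 44, nat_lit 110, nat_lit 132])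
noncomputable def r42 : WT := (.leaf (nat_lit 11283) [nat_lit 154, nat_lit 66, nat_lit 88, nat_lit 154, nat_lit 44, nat_lit 132, nat_lit 66, nat_lit 154, nat_lit 110, nat_lit 44, nat_lit 110, nat_lit 66, nat_lit 88, nat_lit 132, nat_lit 44, nat_lit 154, nat_lit 66, nat_lit 132, nat_lit 110])
noncomputable def r43 : WT := (.leaf (nat_lit 11300) [nat_lit 88, nat_lit 66, nat_lit 88, nat_lit 132, nat_lit 44, nat_lit 154, nat_lit 66, nat_lit 132, nat_lit 110, nat_lit 44, nat_lit 132, nat_lit 66, nat_lit 88, nat_lit 154, nat_lit 44, nat_lit 132, nat_lit 66, nat_lit 154, nat_lit 110])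
noncomputable def r44 : WT := (.node (nat_lit 38) (.node (nat_lit 37) r40 r41) (.node (nat_lit 39) r42 r43))
noncomputable def r45 : WT := (.leaf (nat_lit 10251) [nat_lit 132, nat_lit 44, nat_lit 132, nat_lit 44, nat_lit 110, nat_lit 66, nat_lit 154, nat_lit 66, nat_lit 154, nat_lit 66, nat_lit 154, nat_lit 66, nat_lit 154, nat_lit 66, nat_lit 88, nat_lit 44, nat_lit 132, nat_lit 44, nat_lit 132])
noncomputable def r46 : WT := (.leaf (nat_lit 10247) [nat_lit 132, nat_lit 44, nat_lit 132, nat_lit 44, nat_lit 132, nat_lit 44, nat_lit 110, nat_lit 66, nat_lit 154, nat_lit 66, nat_lit 154, nat_lit 66, nat_lit 154, nat_lit 66, nat_lit 154, nat_lit 66, nat_lit 88, nat_lit 44, nat_lit 132])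
noncomputable def r47 : WT := (.leaf (nat_lit 10256) [nat_lit 88, nat_lit 66, nat_lit 154, nat_lit 66, nat_lit 154, nat_lit 66, nat_lit 154, nat_lit 66, nat_lit 154, nat_lit 66, nat_lit 110, nat_lit 44, nat_lit 132, nat_lit 44, nat_lit 132, nat_lit 44, nat_lit 132, nat_lit 44, nat_lit 132])
noncomputable def r48 : WT := (.leaf (nat_lit 8207) [nat_lit 154, nat_lit 44, nat_lit 110, nat_lit 66, nat_lit 132, nat_lit 66, nat_lit 132, nat_lit 66, nat_lit 132, nat_lit 66, nat_lit 132, nat_lit 66, nat_lit 88, nat_lit 44, nat_lit 154, nat_lit 44, nat_lit 154, nat_lit 44, nat_lit 154])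
noncomputable def r49 : WT := (.node (nat_lit 42) (.node (nat_lit 41) r45 r46) (.node (nat_lit 43) r47 r48))
noncomputable def r50 : WT := (.leaf (nat_lit 10259) [nat_lit 110, nat_lit 66, nat_lit 154, nat_lit 66, nat_lit 154, nat_lit 66, nat_lit 154, nat_lit 66, nat_lit 154, nat_lit 66, nat_lit 88, nat_lit 44, nat_lit 132, nat_lit 44, nat_lit 132, nat_lit 44, nat_lit 132, nat_lit 44, nat_lit 132])
noncomputable def r51 : WT := (.leaf (nat_lit 10255) [nat_lit 132, nat_lit 44, nat_lit 110, nat_lit 66, nat_lit 154, nat_lit 66, nat_lit 154, nat_lit 66, nat_lit 154, nat_lit 66, nat_lit 154, nat_lit 66, nat_lit 88, nat_lit 44, nat_lit 132, nat_lit 44, nat_lit 132, nat_lit 44, nat_lit 132])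
noncomputable def r52 : WT := (.leaf (nat_lit 12317) [nat_lit 132, nat_lit 66, nat_lit 154, nat_lit 110, nat_lit 44, nat_lit 132, nat_lit 66, nat_lit 88, nat_lit 132, nat_lit 44, nat_lit 154, nat_lit 66, nat_lit 132, nat_lit 110, nat_lit 44, nat_lit 110, nat_lit 66, nat_lit 88, nat_lit 154])
noncomputable def r53 : WT := (.leaf (nat_lit 13336) [nat_lit 88, nat_lit 88, nat_lit 66, nat_lit 154, nat_lit 88, nat_lit 66, nat_lit 154, nat_lit 88, nat_lit 66, nat_lit 154, nat_lit 88, nat_lit 66, nat_lit 154, nat_lit 88, nat_lit 66, nat_lit 44, nat_lit 88, nat_lit 132, nat_lit 44, nat_lit 88, nat_lit 132, nat_lit 44, nat_lit 88, nat_lit 132, nat_lit 44, nat_lit 88, nat_lit 132])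
noncomputable def r54 : WT := (.leaf (nat_lit 13319) [nat_lit 110, nat_lit 132, nat_lit 44, nat_lit 110, nat_lit 132, nat_lit 44, nat_lit 110, nat_lit 132, nat_lit 44, nat_lit 110, nat_lit 110, nat_lit 66, nat_lit 154, nat_lit 110, nat_lit 66, nat_lit 154, nat_lit 110, nat_lit 66, nat_lit 154, nat_lit 110, nat_lit 66, nat_lit 154, nat_lit 110, nat_lit 66, nat_lit 44, nat_lit 110, nat_lit 132])
noncomputable def r55 : WT := (.leaf (nat_lit 9216) [nat_lit 154, nat_lit 66, nat_lit 154, nat_lit 44, nat_lit 132, nat_lit 66, nat_lit 132, nat_lit 44, nat_lit 88, nat_lit 66, nat_lit 154, nat_lit 44, nat_lit 154, nat_lit 66, nat_lit 132, nat_lit 44, nat_lit 132, nat_lit 66, nat_lit 88])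
noncomputable def r56 : WT := (.leaf (nat_lit 8195) [nat_lit 154, nat_lit 44, nat_lit 154, nat_lit 44, nat_lit 154, nat_lit 44, nat_lit 154, nat_lit 44, nat_lit 110, nat_lit 66, nat_lit 132, nat_lit 66, nat_lit 132, nat_lit 66, nat_lit 132, nat_lit 66, nat_lit 132, nat_lit 66, nat_lit 88])
noncomputable def r57 : WT := (.node (nat_lit 47) (.node (nat_lit 45) r50 (.node (nat_lit 46) r51 r52)) (.node (nat_lit 49) (.node (nat_lit 48) r53 r54) (.node (nat_lit 50) r55 r56)))
noncomputable def r58 : WT := (.node (nat_lit 25) (.node (nat_lit 19) (.node (nat_lit 17) (.node (nat_lit 16) r12 r13) (.node (nat_lit 18) r14 r15)) (.node (nat_lit 22) (.node (nat_lit 20) r16 r19) (.node (nat_lit 23) r20 r23))) (.node (nat_lit 33) (.node (nat_lit 29) (.node (nat_lit 27) r26 r29) (.node (nat_lit 31) r32 r35)) (.node (nat_lit 40) (.node (nat_lit 36) r39 r44) (.node (nat_lit 44) r49 r57))))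
noncomputable def w0 : WT := (.node (nat_lit 1) (.leaf (nat_lit 0) [nat_lit 66]) (.node (nat_lit 3) (.node (nat_lit 2) (.leaf (nat_lit 6147) [nat_lit 88, nat_lit 66, nat_lit 110, nat_lit 44]) (.leaf (nat_lit 6145) [nat_lit 44, nat_lit 88, nat_lit 66, nat_lit 110])) (.node (nat_lit 6) (.node (nat_lit 4) (.leaf (nat_lit 6146) [nat_lit 110, nat_lit 66, nat_lit 66, nat_lit 88]) r2) (.node (nat_lit 15) r11 r58))))
noncomputable def r59 : WT := (.leaf (nat_lit 9220) [nat_lit 154, nat_lit 44, nat_lit 132, nat_lit 66, nat_lit 132, nat_lit 44, nat_lit 88, nat_lit 66, nat_lit 154, nat_lit 44, nat_lit 154, nat_lit 66, nat_lit 132, nat_lit 44, nat_lit 132, nat_lit 66, nat_lit 88, nat_lit 44, nat_lit 154])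
noncomputable def r60 : WT := (.leaf (nat_lit 8216) [nat_lit 132, nat_lit 66, nat_lit 132, nat_lit 66, nat_lit 132, nat_lit 66, nat_lit 110, nat_lit 44, nat_lit 154, nat_lit 44, nat_lit 154, nat_lit 44, nat_lit 154, nat_lit 44, nat_lit 154, nat_lit 44, nat_lit 88, nat_lit 66, nat_lit 132])
noncomputable def r61 : WT := (.node (nat_lit 5) r59 r60)
noncomputable def r62 : WT := (.leaf (nat_lit 9244) [nat_lit 132, nat_lit 44, nat_lit 132, nat_lit 66, nat_lit 88, nat_lit 44, nat_lit 154, nat_lit 66, nat_lit 154, nat_lit 44, nat_lit 132, nat_lit 66, nat_lit 132, nat_lit 44, nat_lit 88, nat_lit 66, nat_lit 154, nat_lit 44, nat_lit 154])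
noncomputable def r63 : WT := (.leaf (nat_lit 8220) [nat_lit 132, nat_lit 66, nat_lit 132, nat_lit 66, nat_lit 110, nat_lit 44, nat_lit 154, nat_lit 44, nat_lit 154, nat_lit 44, nat_lit 154, nat_lit 44, nat_lit 154, nat_lit 44, nat_lit 88, nat_lit 66, nat_lit 132, nat_lit 66, nat_lit 132])
noncomputable def r64 : WT := (.leaf (nat_lit 8224) [nat_lit 132, nat_lit 66, nat_lit 110, nat_lit 44, nat_lit 154, nat_lit 44, nat_lit 154, nat_lit 44, nat_lit 154, nat_lit 44, nat_lit 154, nat_lit 44, nat_lit 88, nat_lit 66, nat_lit 132, nat_lit 66, nat_lit 132, nat_lit 66, nat_lit 132])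
noncomputable def r65 : WT := (.leaf (nat_lit 9223) [nat_lit 154, nat_lit 44, nat_lit 132, nat_lit 66, nat_lit 132, nat_lit 44, nat_lit 110, nat_lit 66, nat_lit 154, nat_lit 44, nat_lit 154, nat_lit 66, nat_lit 132, nat_lit 44, nat_lit 132, nat_lit 66, nat_lit 110, nat_lit 44, nat_lit 154])
noncomputable def r66 : WT := (.leaf (nat_lit 13349) [nat_lit 154, nat_lit 110, nat_lit 66, nat_lit 154, nat_lit 110, nat_lit 66, nat_lit 154, nat_lit 110, nat_lit 66, nat_lit 44, nat_lit 110, nat_lit 132, nat_lit 44, nat_lit 110, nat_lit 132, nat_lit 44, nat_lit 110, nat_lit 132, nat_lit 44, nat_lit 110, nat_lit 132, nat_lit 44, nat_lit 110, nat_lit 110, nat_lit 66, nat_lit 154, nat_lit 110])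
noncomputable def r67 : WT := (.leaf (nat_lit 13348) [nat_lit 154, nat_lit 88, nat_lit 66, nat_lit 154, nat_lit 88, nat_lit 66, nat_lit 154, nat_lit 88, nat_lit 66, nat_lit 44, nat_lit 88, nat_lit 132, nat_lit 44, nat_lit 88, nat_lit 132, nat_lit 44, nat_lit 88, nat_lit 132, nat_lit 44, nat_lit 88, nat_lit 132, nat_lit 44, nat_lit 88, nat_lit 88, nat_lit 66, nat_lit 154, nat_lit 88])
noncomputable def r68 : WT := (.leaf (nat_lit 11284) [nat_lit 88, nat_lit 154, nat_lit 44, nat_lit 132, nat_lit 66, nat_lit 154, nat_lit 110, nat_lit 44, nat_lit 88, nat_lit 66, nat_lit 88, nat_lit 132, nat_lit 44, nat_lit 154, nat_lit 66, nat_lit 132, nat_lit 110, nat_lit 44, nat_lit 132])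
noncomputable def r69 : WT := (.leaf (nat_lit 11294) [nat_lit 154, nat_lit 110, nat_lit 44, nat_lit 88, nat_lit 66, nat_lit 88, nat_lit 132, nat_lit 44, nat_lit 154, nat_lit 66, nat_lit 132, nat_lit 110, nat_lit 44, nat_lit 132, nat_lit 66, nat_lit 88, nat_lit 154, nat_lit 44, nat_lit 132])
noncomputable def r70 : WT := (.node (nat_lit 10) (.node (nat_lit 8) (.node (nat_lit 7) r62 (.leaf (nat_lit 3073) [nat_lit 66, nat_lit 66, nat_lit 66, nat_lit 66, nat_lit 66, nat_lit 66])) (.node (nat_lit 9) r63 r64)) (.node (nat_lit 12) (.node (nat_lit 11) r65 r66) (.node (nat_lit 13) r67 (.node (nat_lit 14) r68 r69))))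
noncomputable def r71 : WT := (.leaf (nat_lit 9228) [nat_lit 132, nat_lit 44, nat_lit 88, nat_lit 66, nat_lit 154, nat_lit 44, nat_lit 154, nat_lit 66, nat_lit 132, nat_lit 44, nat_lit 132, nat_lit 66, nat_lit 88, nat_lit 44, nat_lit 154, nat_lit 66, nat_lit 154, nat_lit 44, nat_lit 132])
noncomputable def r72 : WT := (.leaf (nat_lit 13354) [nat_lit 154, nat_lit 88, nat_lit 66, nat_lit 154, nat_lit 88, nat_lit 66, nat_lit 44, nat_lit 88, nat_lit 132, nat_lit 44, nat_lit 88, nat_lit 132, nat_lit 44, nat_lit 88, nat_lit 132, nat_lit 44, nat_lit 88, nat_lit 132, nat_lit 44, nat_lit 88, nat_lit 88, nat_lit 66, nat_lit 154, nat_lit 88, nat_lit 66, nat_lit 154, nat_lit 88])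
noncomputable def r73 : WT := (.leaf (nat_lit 8219) [nat_lit 132, nat_lit 66, nat_lit 132, nat_lit 66, nat_lit 132, nat_lit 66, nat_lit 88, nat_lit 44, nat_lit 154, nat_lit 44, nat_lit 154, nat_lit 44, nat_lit 154, nat_lit 44, nat_lit 154, nat_lit 44, nat_lit 110, nat_lit 66, nat_lit 132])
noncomputable def r74 : WT := (.leaf (nat_lit 9247) [nat_lit 132, nat_lit 44, nat_lit 132, nat_lit 66, nat_lit 110, nat_lit 44, nat_lit 154, nat_lit 66, nat_lit 154, nat_lit 44, nat_lit 132, nat_lit 66, nat_lit 132, nat_lit 44, nat_lit 110, nat_lit 66, nat_lit 154, nat_lit 44, nat_lit 154])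
noncomputable def r75 : WT := (.leaf (nat_lit 10264) [nat_lit 154, nat_lit 66, nat_lit 154, nat_lit 66, nat_lit 154, nat_lit 66, nat_lit 110, nat_lit 44, nat_lit 132, nat_lit 44, nat_lit 132, nat_lit 44, nat_lit 132, nat_lit 44, nat_lit 132, nat_lit 44, nat_lit 88, nat_lit 66, nat_lit 154])
noncomputable def r76 : WT := (.leaf (nat_lit 9231) [nat_lit 132, nat_lit 44, nat_lit 110, nat_lit 66, nat_lit 154, nat_lit 44, nat_lit 154, nat_lit 66, nat_lit 132, nat_lit 44, nat_lit 132, nat_lit 66, nat_lit 110, nat_lit 44, nat_lit 154, nat_lit 66, nat_lit 154, nat_lit 44, nat_lit 132])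
noncomputable def r77 : WT := (.leaf (nat_lit 11274) [nat_lit 132, nat_lit 110, nat_lit 44, nat_lit 132, nat_lit 66, nat_lit 88, nat_lit 154, nat_lit 44, nat_lit 132, nat_lit 66, nat_lit 154, nat_lit 110, nat_lit 44, nat_lit 88, nat_lit 66, nat_lit 88, nat_lit 132, nat_lit 44, nat_lit 154])
noncomputable def r78 : WT := (.node (nat_lit 21) r76 r77)
noncomputable def r79 : WT := (.leaf (nat_lit 13343) [nat_lit 154, nat_lit 110, nat_lit 66, nat_lit 154, nat_lit 110, nat_lit 66, nat_lit 154, nat_lit 110, nat_lit 66, nat_lit 154, nat_lit 110, nat_lit 66, nat_lit 44, nat_lit 110, nat_lit 132, nat_lit 44, nat_lit 110, nat_lit 132, nat_lit 44, nat_lit 110, nat_lit 132, nat_lit 44, nat_lit 110, nat_lit 132, nat_lit 44, nat_lit 110, nat_lit 110])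
noncomputable def r80 : WT := (.leaf (nat_lit 10268) [nat_lit 154, nat_lit 66, nat_lit 154, nat_lit 66, nat_lit 110, nat_lit 44, nat_lit 132, nat_lit 44, nat_lit 132, nat_lit 44, nat_lit 132, nat_lit 44, nat_lit 132, nat_lit 44, nat_lit 88, nat_lit 66, nat_lit 154, nat_lit 66, nat_lit 154])
noncomputable def r81 : WT := (.leaf (nat_lit 13342) [nat_lit 154, nat_lit 88, nat_lit 66, nat_lit 154, nat_lit 88, nat_lit 66, nat_lit 154, nat_lit 88, nat_lit 66, nat_lit 154, nat_lit 88, nat_lit 66, nat_lit 44, nat_lit 88, nat_lit 132, nat_lit 44, nat_lit 88, nat_lit 132, nat_lit 44, nat_lit 88, nat_lit 132, nat_lit 44, nat_lit 88, nat_lit 132, nat_lit 44, nat_lit 88, nat_lit 88])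
noncomputable def r82 : WT := (.node (nat_lit 24) r80 r81)
noncomputable def r83 : WT := (.leaf (nat_lit 12291) [nat_lit 88, nat_lit 132, nat_lit 44, nat_lit 154, nat_lit 66, nat_lit 132, nat_lit 110, nat_lit 44, nat_lit 110, nat_lit 66, nat_lit 88, nat_lit 154, nat_lit 44, nat_lit 132, nat_lit 66, nat_lit 154, nat_lit 110, nat_lit 44, nat_lit 132])
noncomputable def r84 : WT := (.leaf (nat_lit 12318) [nat_lit 154, nat_lit 110, nat_lit 44, nat_lit 154, nat_lit 66, nat_lit 88, nat_lit 132, nat_lit 44, nat_lit 154, nat_lit 66, nat_lit 132, nat_lit 110, nat_lit 44, nat_lit 88, nat_lit 66, nat_lit 88, nat_lit 154, nat_lit 44, nat_lit 132])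
noncomputable def r85 : WT := (.node (nat_lit 26) r83 r84)
noncomputable def r86 : WT := (.leaf (nat_lit 9255) [nat_lit 110, nat_lit 44, nat_lit 154, nat_lit 66, nat_lit 154, nat_lit 44, nat_lit 132, nat_lit 66, nat_lit 132, nat_lit 44, nat_lit 110, nat_lit 66, nat_lit 154, nat_lit 44, nat_lit 154, nat_lit 66, nat_lit 132, nat_lit 44, nat_lit 132])
noncomputable def r87 : WT := (.leaf (nat_lit 12298) [nat_lit 132, nat_lit 110, nat_lit 44, nat_lit 88, nat_lit 66, nat_lit 88, nat_lit 154, nat_lit 44, nat_lit 132, nat_lit 66, nat_lit 154, nat_lit 110, nat_lit 44, nat_lit 154, nat_lit 66, nat_lit 88, nat_lit 132, nat_lit 44, nat_lit 154])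
noncomputable def r88 : WT := (.node (nat_lit 28) r86 r87)
noncomputable def r89 : WT := (.leaf (nat_lit 8223) [nat_lit 132, nat_lit 66, nat_lit 132, nat_lit 66, nat_lit 88, nat_lit 44, nat_lit 154, nat_lit 44, nat_lit 154, nat_lit 44, nat_lit 154, nat_lit 44, nat_lit 154, nat_lit 44, nat_lit 110, nat_lit 66, nat_lit 132, nat_lit 66, nat_lit 132])
noncomputable def r90 : WT := (.leaf (nat_lit 11297) [nat_lit 154, nat_lit 110, nat_lit 44, nat_lit 110, nat_lit 66, nat_lit 88, nat_lit 132, nat_lit 44, nat_lit 154, nat_lit 66, nat_lit 132, nat_lit 110, nat_lit 44, nat_lit 154, nat_lit 66, nat_lit 88, nat_lit 154, nat_lit 44, nat_lit 132])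
noncomputable def r91 : WT := (.node (nat_lit 30) r89 r90)
noncomputable def r92 : WT := (.leaf (nat_lit 11277) [nat_lit 132, nat_lit 110, nat_lit 44, nat_lit 154, nat_lit 66, nat_lit 88, nat_lit 154, nat_lit 44, nat_lit 132, nat_lit 66, nat_lit 154, nat_lit 110, nat_lit 44, nat_lit 110, nat_lit 66, nat_lit 88, nat_lit 132, nat_lit 44, nat_lit 154])
noncomputable def r93 : WT := (.leaf (nat_lit 8227) [nat_lit 132, nat_lit 66, nat_lit 88, nat_lit 44, nat_lit 154, nat_lit 44, nat_lit 154, nat_lit 44, nat_lit 154, nat_lit 44, nat_lit 154, nat_lit 44, nat_lit 110, nat_lit 66, nat_lit 132, nat_lit 66, nat_lit 132, nat_lit 66, nat_lit 132])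
noncomputable def r94 : WT := (.node (nat_lit 32) r92 r93)
noncomputable def r95 : WT := (.leaf (nat_lit 11287) [nat_lit 88, nat_lit 154, nat_lit 44, nat_lit 132, nat_lit 66, nat_lit 154, nat_lit 110, nat_lit 44, nat_lit 110, nat_lit 66, nat_lit 88, nat_lit 132, nat_lit 44, nat_lit 154, nat_lit 66, nat_lit 132, nat_lit 110, nat_lit 44, nat_lit 154])
noncomputable def r96 : WT := (.leaf (nat_lit 8228) [nat_lit 110, nat_lit 44, nat_lit 154, nat_lit 44, nat_lit 154, nat_lit 44, nat_lit 154, nat_lit 44, nat_lit 154, nat_lit 44, nat_lit 88, nat_lit 66, nat_lit 132, nat_lit 66, nat_lit 132, nat_lit 66, nat_lit 132, nat_lit 66, nat_lit 132])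
noncomputable def r97 : WT := (.node (nat_lit 34) r95 r96)
noncomputable def r98 : WT := (.leaf (nat_lit 10271) [nat_lit 154, nat_lit 66, nat_lit 154, nat_lit 66, nat_lit 88, nat_lit 44, nat_lit 132, nat_lit 44, nat_lit 132, nat_lit 44, nat_lit 132, nat_lit 44, nat_lit 132, nat_lit 44, nat_lit 110, nat_lit 66, nat_lit 154, nat_lit 66, nat_lit 154])
noncomputable def r99 : WT := (.leaf (nat_lit 10267) [nat_lit 154, nat_lit 66, nat_lit 154, nat_lit 66, nat_lit 154, nat_lit 66, nat_lit 88, nat_lit 44, nat_lit 132, nat_lit 44, nat_lit 132, nat_lit 44, nat_lit 132, nat_lit 44, nat_lit 132, nat_lit 44, nat_lit 110, nat_lit 66, nat_lit 154])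
noncomputable def r100 : WT := (.leaf (nat_lit 10272) [nat_lit 154, nat_lit 66, nat_lit 110, nat_lit 44, nat_lit 132, nat_lit 44, nat_lit 132, nat_lit 44, nat_lit 132, nat_lit 44, nat_lit 132, nat_lit 44, nat_lit 88, nat_lit 66, nat_lit 154, nat_lit 66, nat_lit 154, nat_lit 66, nat_lit 154])
noncomputable def r101 : WT := (.node (nat_lit 36) r98 (.node (nat_lit 37) r99 r100))
noncomputable def r102 : WT := (.leaf (nat_lit 10276) [nat_lit 110, nat_lit 44, nat_lit 132, nat_lit 44, nat_lit 132, nat_lit 44, nat_lit 132, nat_lit 44, nat_lit 132, nat_lit 44, nat_lit 88, nat_lit 66, nat_lit 154, nat_lit 66, nat_lit 154, nat_lit 66, nat_lit 154, nat_lit 66, nat_lit 154])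
noncomputable def r103 : WT := (.leaf (nat_lit 8212) [nat_lit 132, nat_lit 66, nat_lit 132, nat_lit 66, nat_lit 132, nat_lit 66, nat_lit 132, nat_lit 66, nat_lit 110, nat_lit 44, nat_lit 154, nat_lit 44, nat_lit 154, nat_lit 44, nat_lit 154, nat_lit 44, nat_lit 154, nat_lit 44, nat_lit 88])
noncomputable def r104 : WT := (.leaf (nat_lit 13355) [nat_lit 154, nat_lit 110, nat_lit 66, nat_lit 154, nat_lit 110, nat_lit 66, nat_lit 44, nat_lit 110, nat_lit 132, nat_lit 44, nat_lit 110, nat_lit 132, nat_lit 44, nat_lit 110, nat_lit 132, nat_lit 44, nat_lit 110, nat_lit 132, nat_lit 44, nat_lit 110, nat_lit 110, nat_lit 66, nat_lit 154, nat_lit 110, nat_lit 66, nat_lit 154, nat_lit 110])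
noncomputable def r105 : WT := (.leaf (nat_lit 12301) [nat_lit 132, nat_lit 110, nat_lit 44, nat_lit 110, nat_lit 66, nat_lit 88, nat_lit 154, nat_lit 44, nat_lit 132, nat_lit 66, nat_lit 154, nat_lit 110, nat_lit 44, nat_lit 132, nat_lit 66, nat_lit 88, nat_lit 132, nat_lit 44, nat_lit 154])
noncomputable def r106 : WT := (.node (nat_lit 40) (.node (nat_lit 39) r102 r103) (.node (nat_lit 41) r104 r105))
noncomputable def r107 : WT := (.leaf (nat_lit 12288) [nat_lit 88, nat_lit 132, nat_lit 44, nat_lit 154, nat_lit 66, nat_lit 132, nat_lit 110, nat_lit 44, nat_lit 88, nat_lit 66, nat_lit 88, nat_lit 154, nat_lit 44, nat_lit 132, nat_lit 66, nat_lit 154, nat_lit 110, nat_lit 44, nat_lit 154])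
noncomputable def r108 : WT := (.leaf (nat_lit 9252) [nat_lit 88, nat_lit 44, nat_lit 154, nat_lit 66, nat_lit 154, nat_lit 44, nat_lit 132, nat_lit 66, nat_lit 132, nat_lit 44, nat_lit 88, nat_lit 66, nat_lit 154, nat_lit 44, nat_lit 154, nat_lit 66, nat_lit 132, nat_lit 44, nat_lit 132])
noncomputable def r109 : WT := (.leaf (nat_lit 9239) [nat_lit 154, nat_lit 44, nat_lit 154, nat_lit 66, nat_lit 132, nat_lit 44, nat_lit 132, nat_lit 66, nat_lit 110, nat_lit 44, nat_lit 154, nat_lit 66, nat_lit 154, nat_lit 44, nat_lit 132, nat_lit 66, nat_lit 132, nat_lit 44, nat_lit 110])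
noncomputable def r110 : WT := (.leaf (nat_lit 10279) [nat_lit 88, nat_lit 44, nat_lit 132, nat_lit 44, nat_lit 132, nat_lit 44, nat_lit 132, nat_lit 44, nat_lit 132, nat_lit 44, nat_lit 110, nat_lit 66, nat_lit 154, nat_lit 66, nat_lit 154, nat_lit 66, nat_lit 154, nat_lit 66, nat_lit 154])
noncomputable def r111 : WT := (.leaf (nat_lit 13361) [nat_lit 154, nat_lit 110, nat_lit 66, nat_lit 44, nat_lit 110, nat_lit 132, nat_lit 44, nat_lit 110, nat_lit 132, nat_lit 44, nat_lit 110, nat_lit 132, nat_lit 44, nat_lit 110, nat_lit 132, nat_lit 44, nat_lit 110, nat_lit 110, nat_lit 66, nat_lit 154, nat_lit 110, nat_lit 66, nat_lit 154, nat_lit 110, nat_lit 66, nat_lit 154, nat_lit 110])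
noncomputable def r112 : WT := (.node (nat_lit 44) (.node (nat_lit 43) r107 r108) (.node (nat_lit 45) r109 (.node (nat_lit 46) r110 r111)))
noncomputable def r113 : WT := (.node (nat_lit 25) (.node (nat_lit 19) (.node (nat_lit 17) (.node (nat_lit 16) r71 r72) (.node (nat_lit 18) r73 r74)) (.node (nat_lit 22) (.node (nat_lit 20) r75 r78) (.node (nat_lit 23) r79 r82))) (.node (nat_lit 33) (.node (nat_lit 29) (.node (nat_lit 27) r85 r88) (.node (nat_lit 31) r91 r94)) (.node (nat_lit 38) (.node (nat_lit 35) r97 r101) (.node (nat_lit 42) r106 r112))))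
noncomputable def w1 : WT := (.node (nat_lit 1) (.leaf (nat_lit 2) [nat_lit 44]) (.node (nat_lit 3) (.node (nat_lit 2) (.leaf (nat_lit 6150) [nat_lit 66, nat_lit 88, nat_lit 44, nat_lit 110]) (.leaf (nat_lit 6152) [nat_lit 88, nat_lit 44, nat_lit 110, nat_lit 66])) (.node (nat_lit 6) (.node (nat_lit 4) (.leaf (nat_lit 6151) [nat_lit 110, nat_lit 44, nat_lit 44, nat_lit 88]) r61) (.node (nat_lit 15) r70 r113))))
noncomputable def r114 : WT := (.leaf (nat_lit 8193) [nat_lit 44, nat_lit 154, nat_lit 44, nat_lit 154, nat_lit 44, nat_lit 154, nat_lit 44, nat_lit 154, nat_lit 44, nat_lit 110, nat_lit 66, nat_lit 132, nat_lit 66, nat_lit 132, nat_lit 66, nat_lit 132, nat_lit 66, nat_lit 132, nat_lit 66])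
noncomputable def r115 : WT := (.leaf (nat_lit 11286) [nat_lit 154, nat_lit 44, nat_lit 132, nat_lit 66, nat_lit 154, nat_lit 110, nat_lit 44, nat_lit 88, nat_lit 66, nat_lit 88, nat_lit 132, nat_lit 44, nat_lit 154, nat_lit 66, nat_lit 132, nat_lit 110, nat_lit 44, nat_lit 132, nat_lit 66])
noncomputable def r116 : WT := (.leaf (nat_lit 11289) [nat_lit 154, nat_lit 44, nat_lit 132, nat_lit 66, nat_lit 154, nat_lit 110, nat_lit 44, nat_lit 110, nat_lit 66, nat_lit 88, nat_lit 132, nat_lit 44, nat_lit 154, nat_lit 66, nat_lit 132, nat_lit 110, nat_lit 44, nat_lit 154, nat_lit 66])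
noncomputable def r117 : WT := (.leaf (nat_lit 13364) [nat_lit 66, nat_lit 44, nat_lit 88, nat_lit 132, nat_lit 44, nat_lit 88, nat_lit 132, nat_lit 44, nat_lit 88, nat_lit 132, nat_lit 44, nat_lit 88, nat_lit 132, nat_lit 44, nat_lit 88, nat_lit 88, nat_lit 66, nat_lit 154, nat_lit 88, nat_lit 66, nat_lit 154, nat_lit 88, nat_lit 66, nat_lit 154, nat_lit 88, nat_lit 66, nat_lit 154])
noncomputable def r118 : WT := (.leaf (nat_lit 8210) [nat_lit 66, nat_lit 132, nat_lit 66, nat_lit 132, nat_lit 66, nat_lit 132, nat_lit 66, nat_lit 132, nat_lit 66, nat_lit 110, nat_lit 44, nat_lit 154, nat_lit 44, nat_lit 154, nat_lit 44, nat_lit 154, nat_lit 44, nat_lit 154, nat_lit 44])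
noncomputable def r119 : WT := (.node (nat_lit 10) r117 r118)
noncomputable def r120 : WT := (.leaf (nat_lit 10241) [nat_lit 44, nat_lit 132, nat_lit 44, nat_lit 132, nat_lit 44, nat_lit 132, nat_lit 44, nat_lit 132, nat_lit 44, nat_lit 110, nat_lit 66, nat_lit 154, nat_lit 66, nat_lit 154, nat_lit 66, nat_lit 154, nat_lit 66, nat_lit 154, nat_lit 66])
noncomputable def r121 : WT := (.leaf (nat_lit 11266) [nat_lit 132, nat_lit 44, nat_lit 154, nat_lit 66, nat_lit 132, nat_lit 110, nat_lit 44, nat_lit 132, nat_lit 66, nat_lit 88, nat_lit 154, nat_lit 44, nat_lit 132, nat_lit 66, nat_lit 154, nat_lit 110, nat_lit 44, nat_lit 88, nat_lit 66])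
noncomputable def r122 : WT := (.node (nat_lit 12) r120 r121)
noncomputable def r123 : WT := (.leaf (nat_lit 9234) [nat_lit 66, nat_lit 154, nat_lit 44, nat_lit 154, nat_lit 66, nat_lit 132, nat_lit 44, nat_lit 132, nat_lit 66, nat_lit 88, nat_lit 44, nat_lit 154, nat_lit 66, nat_lit 154, nat_lit 44, nat_lit 132, nat_lit 66, nat_lit 132, nat_lit 44])
noncomputable def r124 : WT := (.leaf (nat_lit 13326) [nat_lit 132, nat_lit 44, nat_lit 88, nat_lit 132, nat_lit 44, nat_lit 88, nat_lit 88, nat_lit 66, nat_lit 154, nat_lit 88, nat_lit 66, nat_lit 154, nat_lit 88, nat_lit 66, nat_lit 154, nat_lit 88, nat_lit 66, nat_lit 154, nat_lit 88, nat_lit 66, nat_lit 44, nat_lit 88, nat_lit 132, nat_lit 44, nat_lit 88, nat_lit 132, nat_lit 44])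
noncomputable def r125 : WT := (.leaf (nat_lit 13346) [nat_lit 66, nat_lit 154, nat_lit 88, nat_lit 66, nat_lit 154, nat_lit 88, nat_lit 66, nat_lit 154, nat_lit 88, nat_lit 66, nat_lit 44, nat_lit 88, nat_lit 132, nat_lit 44, nat_lit 88, nat_lit 132, nat_lit 44, nat_lit 88, nat_lit 132, nat_lit 44, nat_lit 88, nat_lit 132, nat_lit 44, nat_lit 88, nat_lit 88, nat_lit 66, nat_lit 154])
noncomputable def r126 : WT := (.node (nat_lit 14) r123 (.node (nat_lit 15) r124 r125))
noncomputable def r127 : WT := (.leaf (nat_lit 13314) [nat_lit 132, nat_lit 44, nat_lit 88, nat_lit 132, nat_lit 44, nat_lit 88, nat_lit 132, nat_lit 44, nat_lit 88, nat_lit 132, nat_lit 44, nat_lit 88, nat_lit 88, nat_lit 66, nat_lit 154, nat_lit 88, nat_lit 66, nat_lit 154, nat_lit 88, nat_lit 66, nat_lit 154, nat_lit 88, nat_lit 66, nat_lit 154, nat_lit 88, nat_lit 66, nat_lit 44])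
noncomputable def r128 : WT := (.leaf (nat_lit 13320) [nat_lit 132, nat_lit 44, nat_lit 88, nat_lit 132, nat_lit 44, nat_lit 88, nat_lit 132, nat_lit 44, nat_lit 88, nat_lit 88, nat_lit 66, nat_lit 154, nat_lit 88, nat_lit 66, nat_lit 154, nat_lit 88, nat_lit 66, nat_lit 154, nat_lit 88, nat_lit 66, nat_lit 154, nat_lit 88, nat_lit 66, nat_lit 44, nat_lit 88, nat_lit 132, nat_lit 44])
noncomputable def r129 : WT := (.leaf (nat_lit 13332) [nat_lit 132, nat_lit 44, nat_lit 88, nat_lit 88, nat_lit 66, nat_lit 154, nat_lit 88, nat_lit 66, nat_lit 154, nat_lit 88, nat_lit 66, nat_lit 154, nat_lit 88, nat_lit 66, nat_lit 154, nat_lit 88, nat_lit 66, nat_lit 44, nat_lit 88, nat_lit 132, nat_lit 44, nat_lit 88, nat_lit 132, nat_lit 44, nat_lit 88, nat_lit 132, nat_lit 44])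
noncomputable def r130 : WT := (.leaf (nat_lit 13358) [nat_lit 66, nat_lit 154, nat_lit 88, nat_lit 66, nat_lit 44, nat_lit 88, nat_lit 132, nat_lit 44, nat_lit 88, nat_lit 132, nat_lit 44, nat_lit 88, nat_lit 132, nat_lit 44, nat_lit 88, nat_lit 132, nat_lit 44, nat_lit 88, nat_lit 88, nat_lit 66, nat_lit 154, nat_lit 88, nat_lit 66, nat_lit 154, nat_lit 88, nat_lit 66, nat_lit 154])
noncomputable def r131 : WT := (.node (nat_lit 18) (.node (nat_lit 17) r127 r128) (.node (nat_lit 19) r129 r130))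
noncomputable def r132 : WT := (.leaf (nat_lit 10258) [nat_lit 66, nat_lit 154, nat_lit 66, nat_lit 154, nat_lit 66, nat_lit 154, nat_lit 66, nat_lit 154, nat_lit 66, nat_lit 110, nat_lit 44, nat_lit 132, nat_lit 44, nat_lit 132, nat_lit 44, nat_lit 132, nat_lit 44, nat_lit 132, nat_lit 44])
noncomputable def r133 : WT := (.leaf (nat_lit 9254) [nat_lit 44, nat_lit 154, nat_lit 66, nat_lit 154, nat_lit 44, nat_lit 132, nat_lit 66, nat_lit 132, nat_lit 44, nat_lit 88, nat_lit 66, nat_lit 154, nat_lit 44, nat_lit 154, nat_lit 66, nat_lit 132, nat_lit 44, nat_lit 132, nat_lit 66])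
noncomputable def r134 : WT := (.leaf (nat_lit 11302) [nat_lit 66, nat_lit 88, nat_lit 132, nat_lit 44, nat_lit 154, nat_lit 66, nat_lit 132, nat_lit 110, nat_lit 44, nat_lit 132, nat_lit 66, nat_lit 88, nat_lit 154, nat_lit 44, nat_lit 132, nat_lit 66, nat_lit 154, nat_lit 110, nat_lit 44])
noncomputable def r135 : WT := (.leaf (nat_lit 11269) [nat_lit 132, nat_lit 44, nat_lit 154, nat_lit 66, nat_lit 132, nat_lit 110, nat_lit 44, nat_lit 154, nat_lit 66, nat_lit 88, nat_lit 154, nat_lit 44, nat_lit 132, nat_lit 66, nat_lit 154, nat_lit 110, nat_lit 44, nat_lit 110, nat_lit 66])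
noncomputable def r136 : WT := (.leaf (nat_lit 12290) [nat_lit 132, nat_lit 44, nat_lit 154, nat_lit 66, nat_lit 132, nat_lit 110, nat_lit 44, nat_lit 88, nat_lit 66, nat_lit 88, nat_lit 154, nat_lit 44, nat_lit 132, nat_lit 66, nat_lit 154, nat_lit 110, nat_lit 44, nat_lit 154, nat_lit 66])
noncomputable def r137 : WT := (.leaf (nat_lit 12310) [nat_lit 154, nat_lit 44, nat_lit 132, nat_lit 66, nat_lit 154, nat_lit 110, nat_lit 44, nat_lit 154, nat_lit 66, nat_lit 88, nat_lit 132, nat_lit 44, nat_lit 154, nat_lit 66, nat_lit 132, nat_lit 110, nat_lit 44, nat_lit 88, nat_lit 66])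
noncomputable def r138 : WT := (.leaf (nat_lit 13338) [nat_lit 88, nat_lit 66, nat_lit 154, nat_lit 88, nat_lit 66, nat_lit 154, nat_lit 88, nat_lit 66, nat_lit 154, nat_lit 88, nat_lit 66, nat_lit 154, nat_lit 88, nat_lit 66, nat_lit 44, nat_lit 88, nat_lit 132, nat_lit 44, nat_lit 88, nat_lit 132, nat_lit 44, nat_lit 88, nat_lit 132, nat_lit 44, nat_lit 88, nat_lit 132, nat_lit 44])
noncomputable def r139 : WT := (.leaf (nat_lit 13352) [nat_lit 66, nat_lit 154, nat_lit 88, nat_lit 66, nat_lit 154, nat_lit 88, nat_lit 66, nat_lit 44, nat_lit 88, nat_lit 132, nat_lit 44, nat_lit 88, nat_lit 132, nat_lit 44, nat_lit 88, nat_lit 132, nat_lit 44, nat_lit 88, nat_lit 132, nat_lit 44, nat_lit 88, nat_lit 88, nat_lit 66, nat_lit 154, nat_lit 88, nat_lit 66, nat_lit 154])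
noncomputable def r140 : WT := (.node (nat_lit 24) (.node (nat_lit 22) (.node (nat_lit 21) r132 r133) (.node (nat_lit 23) r134 r135)) (.node (nat_lit 26) (.node (nat_lit 25) r136 r137) (.node (nat_lit 27) r138 r139)))
noncomputable def r141 : WT := (.node (nat_lit 6) (.leaf (nat_lit 7168) [nat_lit 132, nat_lit 110, nat_lit 154]) (.node (nat_lit 11) (.node (nat_lit 8) (.node (nat_lit 7) r114 r115) (.node (nat_lit 9) r116 r119)) (.node (nat_lit 16) (.node (nat_lit 13) r122 r126) (.node (nat_lit 20) r131 r140))))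
noncomputable def w2 : WT := (.node (nat_lit 1) (.leaf (nat_lit 1024) [nat_lit 110]) (.node (nat_lit 3) (.node (nat_lit 2) (.leaf (nat_lit 4096) [nat_lit 88, nat_lit 88]) (.leaf (nat_lit 6144) [nat_lit 44, nat_lit 110, nat_lit 66, nat_lit 66])) (.node (nat_lit 4) (.leaf (nat_lit 6149) [nat_lit 66, nat_lit 110, nat_lit 44, nat_lit 44]) (.node (nat_lit 5) (.leaf (nat_lit 7171) [nat_lit 154, nat_lit 110, nat_lit 132]) r141))))
noncomputable def r142 : WT := (.leaf (nat_lit 10278) [nat_lit 44, nat_lit 132, nat_lit 44, nat_lit 132, nat_lit 44, nat_lit 132, nat_lit 44, nat_lit 132, nat_lit 44, nat_lit 88, nat_lit 66, nat_lit 154, nat_lit 66, nat_lit 154, nat_lit 66, nat_lit 154, nat_lit 66, nat_lit 154, nat_lit 66])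
noncomputable def r143 : WT := (.leaf (nat_lit 8230) [nat_lit 44, nat_lit 154, nat_lit 44, nat_lit 154, nat_lit 44, nat_lit 154, nat_lit 44, nat_lit 154, nat_lit 44, nat_lit 88, nat_lit 66, nat_lit 132, nat_lit 66, nat_lit 132, nat_lit 66, nat_lit 132, nat_lit 66, nat_lit 132, nat_lit 66])
noncomputable def r144 : WT := (.leaf (nat_lit 11298) [nat_lit 44, nat_lit 88, nat_lit 66, nat_lit 88, nat_lit 132, nat_lit 44, nat_lit 154, nat_lit 66, nat_lit 132, nat_lit 110, nat_lit 44, nat_lit 132, nat_lit 66, nat_lit 88, nat_lit 154, nat_lit 44, nat_lit 132, nat_lit 66, nat_lit 154])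
noncomputable def r145 : WT := (.leaf (nat_lit 8213) [nat_lit 66, nat_lit 132, nat_lit 66, nat_lit 132, nat_lit 66, nat_lit 132, nat_lit 66, nat_lit 132, nat_lit 66, nat_lit 88, nat_lit 44, nat_lit 154, nat_lit 44, nat_lit 154, nat_lit 44, nat_lit 154, nat_lit 44, nat_lit 154, nat_lit 44])
noncomputable def r146 : WT := (.leaf (nat_lit 9237) [nat_lit 66, nat_lit 154, nat_lit 44, nat_lit 154, nat_lit 66, nat_lit 132, nat_lit 44, nat_lit 132, nat_lit 66, nat_lit 110, nat_lit 44, nat_lit 154, nat_lit 66, nat_lit 154, nat_lit 44, nat_lit 132, nat_lit 66, nat_lit 132, nat_lit 44])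
noncomputable def r147 : WT := (.node (nat_lit 10) r145 r146)
noncomputable def r148 : WT := (.leaf (nat_lit 13347) [nat_lit 66, nat_lit 154, nat_lit 110, nat_lit 66, nat_lit 154, nat_lit 110, nat_lit 66, nat_lit 154, nat_lit 110, nat_lit 66, nat_lit 44, nat_lit 110, nat_lit 132, nat_lit 44, nat_lit 110, nat_lit 132, nat_lit 44, nat_lit 110, nat_lit 132, nat_lit 44, nat_lit 110, nat_lit 132, nat_lit 44, nat_lit 110, nat_lit 110, nat_lit 66, nat_lit 154])
noncomputable def r149 : WT := (.leaf (nat_lit 11278) [nat_lit 44, nat_lit 132, nat_lit 66, nat_lit 88, nat_lit 154, nat_lit 44, nat_lit 132, nat_lit 66, nat_lit 154, nat_lit 110, nat_lit 44, nat_lit 88, nat_lit 66, nat_lit 88, nat_lit 132, nat_lit 44, nat_lit 154, nat_lit 66, nat_lit 132])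
noncomputable def r150 : WT := (.node (nat_lit 12) r148 r149)
noncomputable def r151 : WT := (.leaf (nat_lit 13333) [nat_lit 132, nat_lit 44, nat_lit 110, nat_lit 110, nat_lit 66, nat_lit 154, nat_lit 110, nat_lit 66, nat_lit 154, nat_lit 110, nat_lit 66, nat_lit 154, nat_lit 110, nat_lit 66, nat_lit 154, nat_lit 110, nat_lit 66, nat_lit 44, nat_lit 110, nat_lit 132, nat_lit 44, nat_lit 110, nat_lit 132, nat_lit 44, nat_lit 110, nat_lit 132, nat_lit 44])
noncomputable def r152 : WT := (.leaf (nat_lit 11281) [nat_lit 44, nat_lit 154, nat_lit 66, nat_lit 88, nat_lit 154, nat_lit 44, nat_lit 132, nat_lit 66, nat_lit 154, nat_lit 110, nat_lit 44, nat_lit 110, nat_lit 66, nat_lit 88, nat_lit 132, nat_lit 44, nat_lit 154, nat_lit 66, nat_lit 132])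
noncomputable def r153 : WT := (.node (nat_lit 14) r151 r152)
noncomputable def r154 : WT := (.leaf (nat_lit 11301) [nat_lit 44, nat_lit 110, nat_lit 66, nat_lit 88, nat_lit 132, nat_lit 44, nat_lit 154, nat_lit 66, nat_lit 132, nat_lit 110, nat_lit 44, nat_lit 154, nat_lit 66, nat_lit 88, nat_lit 154, nat_lit 44, nat_lit 132, nat_lit 66, nat_lit 154])
noncomputable def r155 : WT := (.leaf (nat_lit 12302) [nat_lit 44, nat_lit 88, nat_lit 66, nat_lit 88, nat_lit 154, nat_lit 44, nat_lit 132, nat_lit 66, nat_lit 154, nat_lit 110, nat_lit 44, nat_lit 154, nat_lit 66, nat_lit 88, nat_lit 132, nat_lit 44, nat_lit 154, nat_lit 66, nat_lit 132])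
noncomputable def r156 : WT := (.leaf (nat_lit 12322) [nat_lit 44, nat_lit 154, nat_lit 66, nat_lit 88, nat_lit 132, nat_lit 44, nat_lit 154, nat_lit 66, nat_lit 132, nat_lit 110, nat_lit 44, nat_lit 88, nat_lit 66, nat_lit 88, nat_lit 154, nat_lit 44, nat_lit 132, nat_lit 66, nat_lit 154])
noncomputable def r157 : WT := (.leaf (nat_lit 12325) [nat_lit 44, nat_lit 132, nat_lit 66, nat_lit 88, nat_lit 132, nat_lit 44, nat_lit 154, nat_lit 66, nat_lit 132, nat_lit 110, nat_lit 44, nat_lit 110, nat_lit 66, nat_lit 88, nat_lit 154, nat_lit 44, nat_lit 132, nat_lit 66, nat_lit 154])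
noncomputable def r158 : WT := (.node (nat_lit 17) (.node (nat_lit 16) r154 r155) (.node (nat_lit 18) r156 r157))
noncomputable def r159 : WT := (.leaf (nat_lit 13339) [nat_lit 110, nat_lit 66, nat_lit 154, nat_lit 110, nat_lit 66, nat_lit 154, nat_lit 110, nat_lit 66, nat_lit 154, nat_lit 110, nat_lit 66, nat_lit 154, nat_lit 110, nat_lit 66, nat_lit 44, nat_lit 110, nat_lit 132, nat_lit 44, nat_lit 110, nat_lit 132, nat_lit 44, nat_lit 110, nat_lit 132, nat_lit 44, nat_lit 110, nat_lit 132, nat_lit 44])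
noncomputable def r160 : WT := (.leaf (nat_lit 13341) [nat_lit 66, nat_lit 154, nat_lit 110, nat_lit 66, nat_lit 154, nat_lit 110, nat_lit 66, nat_lit 154, nat_lit 110, nat_lit 66, nat_lit 154, nat_lit 110, nat_lit 66, nat_lit 44, nat_lit 110, nat_lit 132, nat_lit 44, nat_lit 110, nat_lit 132, nat_lit 44, nat_lit 110, nat_lit 132, nat_lit 44, nat_lit 110, nat_lit 132, nat_lit 44, nat_lit 110])
noncomputable def r161 : WT := (.leaf (nat_lit 10261) [nat_lit 66, nat_lit 154, nat_lit 66, nat_lit 154, nat_lit 66, nat_lit 154, nat_lit 66, nat_lit 154, nat_lit 66, nat_lit 88, nat_lit 44, nat_lit 132, nat_lit 44, nat_lit 132, nat_lit 44, nat_lit 132, nat_lit 44, nat_lit 132, nat_lit 44])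
noncomputable def r162 : WT := (.leaf (nat_lit 13365) [nat_lit 66, nat_lit 44, nat_lit 110, nat_lit 132, nat_lit 44, nat_lit 110, nat_lit 132, nat_lit 44, nat_lit 110, nat_lit 132, nat_lit 44, nat_lit 110, nat_lit 132, nat_lit 44, nat_lit 110, nat_lit 110, nat_lit 66, nat_lit 154, nat_lit 110, nat_lit 66, nat_lit 154, nat_lit 110, nat_lit 66, nat_lit 154, nat_lit 110, nat_lit 66, nat_lit 154])
noncomputable def r163 : WT := (.node (nat_lit 21) (.node (nat_lit 20) r159 r160) (.node (nat_lit 22) r161 r162))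
noncomputable def r164 : WT := (.node (nat_lit 6) (.leaf (nat_lit 7172) [nat_lit 154, nat_lit 88, nat_lit 132]) (.node (nat_lit 11) (.node (nat_lit 8) (.node (nat_lit 7) r142 r143) (.node (nat_lit 9) r144 r147)) (.node (nat_lit 15) (.node (nat_lit 13) r150 r153) (.node (nat_lit 19) r158 r163))))
noncomputable def w3 : WT := (.node (nat_lit 1) (.leaf (nat_lit 1026) [nat_lit 88]) (.node (nat_lit 2) (.leaf (nat_lit 4097) [nat_lit 110, nat_lit 110]) (.node (nat_lit 4) (.node (nat_lit 3) (.leaf (nat_lit 6153) [nat_lit 44, nat_lit 44, nat_lit 88, nat_lit 66]) (.leaf (nat_lit 6148) [nat_lit 66, nat_lit 66, nat_lit 88, nat_lit 44])) (.node (nat_lit 5) (.leaf (nat_lit 7175) [nat_lit 132, nat_lit 88, nat_lit 154]) r164))))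
noncomputable def r165 : WT := (.leaf (nat_lit 8218) [nat_lit 66, nat_lit 132, nat_lit 66, nat_lit 132, nat_lit 66, nat_lit 110, nat_lit 44, nat_lit 154, nat_lit 44, nat_lit 154, nat_lit 44, nat_lit 154, nat_lit 44, nat_lit 154, nat_lit 44, nat_lit 88, nat_lit 66, nat_lit 132, nat_lit 66])
noncomputable def r166 : WT := (.leaf (nat_lit 9226) [nat_lit 66, nat_lit 132, nat_lit 44, nat_lit 88, nat_lit 66, nat_lit 154, nat_lit 44, nat_lit 154, nat_lit 66, nat_lit 132, nat_lit 44, nat_lit 132, nat_lit 66, nat_lit 88, nat_lit 44, nat_lit 154, nat_lit 66, nat_lit 154, nat_lit 44])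
noncomputable def r167 : WT := (.node (nat_lit 5) r165 r166)
noncomputable def r168 : WT := (.leaf (nat_lit 8214) [nat_lit 66, nat_lit 132, nat_lit 66, nat_lit 132, nat_lit 66, nat_lit 132, nat_lit 66, nat_lit 110, nat_lit 44, nat_lit 154, nat_lit 44, nat_lit 154, nat_lit 44, nat_lit 154, nat_lit 44, nat_lit 154, nat_lit 44, nat_lit 88, nat_lit 66])
noncomputable def r169 : WT := (.leaf (nat_lit 8222) [nat_lit 66, nat_lit 132, nat_lit 66, nat_lit 110, nat_lit 44, nat_lit 154, nat_lit 44, nat_lit 154, nat_lit 44, nat_lit 154, nat_lit 44, nat_lit 154, nat_lit 44, nat_lit 88, nat_lit 66, nat_lit 132, nat_lit 66, nat_lit 132, nat_lit 66])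
noncomputable def r170 : WT := (.leaf (nat_lit 9246) [nat_lit 44, nat_lit 132, nat_lit 66, nat_lit 88, nat_lit 44, nat_lit 154, nat_lit 66, nat_lit 154, nat_lit 44, nat_lit 132, nat_lit 66, nat_lit 132, nat_lit 44, nat_lit 88, nat_lit 66, nat_lit 154, nat_lit 44, nat_lit 154, nat_lit 66])
noncomputable def r171 : WT := (.leaf (nat_lit 9250) [nat_lit 66, nat_lit 88, nat_lit 44, nat_lit 154, nat_lit 66, nat_lit 154, nat_lit 44, nat_lit 132, nat_lit 66, nat_lit 132, nat_lit 44, nat_lit 88, nat_lit 66, nat_lit 154, nat_lit 44, nat_lit 154, nat_lit 66, nat_lit 132, nat_lit 44])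
noncomputable def r172 : WT := (.leaf (nat_lit 8226) [nat_lit 66, nat_lit 110, nat_lit 44, nat_lit 154, nat_lit 44, nat_lit 154, nat_lit 44, nat_lit 154, nat_lit 44, nat_lit 154, nat_lit 44, nat_lit 88, nat_lit 66, nat_lit 132, nat_lit 66, nat_lit 132, nat_lit 66, nat_lit 132, nat_lit 66])
noncomputable def r173 : WT := (.leaf (nat_lit 11282) [nat_lit 66, nat_lit 88, nat_lit 154, nat_lit 44, nat_lit 132, nat_lit 66, nat_lit 154, nat_lit 110, nat_lit 44, nat_lit 88, nat_lit 66, nat_lit 88, nat_lit 132, nat_lit 44, nat_lit 154, nat_lit 66, nat_lit 132, nat_lit 110, nat_lit 44])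
noncomputable def r174 : WT := (.node (nat_lit 8) (.node (nat_lit 7) r168 r169) (.node (nat_lit 10) (.node (nat_lit 9) r170 r171) (.node (nat_lit 11) r172 r173)))
noncomputable def r175 : WT := (.leaf (nat_lit 9253) [nat_lit 66, nat_lit 110, nat_lit 44, nat_lit 154, nat_lit 66, nat_lit 154, nat_lit 44, nat_lit 132, nat_lit 66, nat_lit 132, nat_lit 44, nat_lit 110, nat_lit 66, nat_lit 154, nat_lit 44, nat_lit 154, nat_lit 66, nat_lit 132, nat_lit 44])
noncomputable def r176 : WT := (.leaf (nat_lit 11276) [nat_lit 110, nat_lit 44, nat_lit 132, nat_lit 66, nat_lit 88, nat_lit 154, nat_lit 44, nat_lit 132, nat_lit 66, nat_lit 154, nat_lit 110, nat_lit 44, nat_lit 88, nat_lit 66, nat_lit 88, nat_lit 132, nat_lit 44, nat_lit 154, nat_lit 66])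
noncomputable def r177 : WT := (.leaf (nat_lit 9249) [nat_lit 44, nat_lit 132, nat_lit 66, nat_lit 110, nat_lit 44, nat_lit 154, nat_lit 66, nat_lit 154, nat_lit 44, nat_lit 132, nat_lit 66, nat_lit 132, nat_lit 44, nat_lit 110, nat_lit 66, nat_lit 154, nat_lit 44, nat_lit 154, nat_lit 66])
noncomputable def r178 : WT := (.leaf (nat_lit 9230) [nat_lit 44, nat_lit 88, nat_lit 66, nat_lit 154, nat_lit 44, nat_lit 154, nat_lit 66, nat_lit 132, nat_lit 44, nat_lit 132, nat_lit 66, nat_lit 88, nat_lit 44, nat_lit 154, nat_lit 66, nat_lit 154, nat_lit 44, nat_lit 132, nat_lit 66])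
noncomputable def r179 : WT := (.leaf (nat_lit 9229) [nat_lit 66, nat_lit 132, nat_lit 44, nat_lit 110, nat_lit 66, nat_lit 154, nat_lit 44, nat_lit 154, nat_lit 66, nat_lit 132, nat_lit 44, nat_lit 132, nat_lit 66, nat_lit 110, nat_lit 44, nat_lit 154, nat_lit 66, nat_lit 154, nat_lit 44])
noncomputable def r180 : WT := (.leaf (nat_lit 10250) [nat_lit 44, nat_lit 132, nat_lit 44, nat_lit 88, nat_lit 66, nat_lit 154, nat_lit 66, nat_lit 154, nat_lit 66, nat_lit 154, nat_lit 66, nat_lit 154, nat_lit 66, nat_lit 110, nat_lit 44, nat_lit 132, nat_lit 44, nat_lit 132, nat_lit 44])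
noncomputable def r181 : WT := (.leaf (nat_lit 12300) [nat_lit 110, nat_lit 44, nat_lit 88, nat_lit 66, nat_lit 88, nat_lit 154, nat_lit 44, nat_lit 132, nat_lit 66, nat_lit 154, nat_lit 110, nat_lit 44, nat_lit 154, nat_lit 66, nat_lit 88, nat_lit 132, nat_lit 44, nat_lit 154, nat_lit 66])
noncomputable def r182 : WT := (.leaf (nat_lit 8217) [nat_lit 66, nat_lit 132, nat_lit 66, nat_lit 132, nat_lit 66, nat_lit 132, nat_lit 66, nat_lit 88, nat_lit 44, nat_lit 154, nat_lit 44, nat_lit 154, nat_lit 44, nat_lit 154, nat_lit 44, nat_lit 154, nat_lit 44, nat_lit 110, nat_lit 66])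
noncomputable def r183 : WT := (.leaf (nat_lit 10242) [nat_lit 44, nat_lit 132, nat_lit 44, nat_lit 132, nat_lit 44, nat_lit 132, nat_lit 44, nat_lit 88, nat_lit 66, nat_lit 154, nat_lit 66, nat_lit 154, nat_lit 66, nat_lit 154, nat_lit 66, nat_lit 154, nat_lit 66, nat_lit 110, nat_lit 44])
noncomputable def r184 : WT := (.node (nat_lit 20) r182 r183)
noncomputable def r185 : WT := (.leaf (nat_lit 11268) [nat_lit 44, nat_lit 154, nat_lit 66, nat_lit 132, nat_lit 110, nat_lit 44, nat_lit 132, nat_lit 66, nat_lit 88, nat_lit 154, nat_lit 44, nat_lit 132, nat_lit 66, nat_lit 154, nat_lit 110, nat_lit 44, nat_lit 88, nat_lit 66, nat_lit 88])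
noncomputable def r186 : WT := (.leaf (nat_lit 9233) [nat_lit 44, nat_lit 110, nat_lit 66, nat_lit 154, nat_lit 44, nat_lit 154, nat_lit 66, nat_lit 132, nat_lit 44, nat_lit 132, nat_lit 66, nat_lit 110, nat_lit 44, nat_lit 154, nat_lit 66, nat_lit 154, nat_lit 44, nat_lit 132, nat_lit 66])
noncomputable def r187 : WT := (.node (nat_lit 22) r185 r186)
noncomputable def r188 : WT := (.leaf (nat_lit 8229) [nat_lit 66, nat_lit 88, nat_lit 44, nat_lit 154, nat_lit 44, nat_lit 154, nat_lit 44, nat_lit 154, nat_lit 44, nat_lit 154, nat_lit 44, nat_lit 110, nat_lit 66, nat_lit 132, nat_lit 66, nat_lit 132, nat_lit 66, nat_lit 132, nat_lit 66])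
noncomputable def r189 : WT := (.leaf (nat_lit 11292) [nat_lit 66, nat_lit 154, nat_lit 110, nat_lit 44, nat_lit 88, nat_lit 66, nat_lit 88, nat_lit 132, nat_lit 44, nat_lit 154, nat_lit 66, nat_lit 132, nat_lit 110, nat_lit 44, nat_lit 132, nat_lit 66, nat_lit 88, nat_lit 154, nat_lit 44])
noncomputable def r190 : WT := (.node (nat_lit 24) r188 r189)
noncomputable def r191 : WT := (.leaf (nat_lit 12319) [nat_lit 66, nat_lit 154, nat_lit 110, nat_lit 44, nat_lit 132, nat_lit 66, nat_lit 88, nat_lit 132, nat_lit 44, nat_lit 154, nat_lit 66, nat_lit 132, nat_lit 110, nat_lit 44, nat_lit 110, nat_lit 66, nat_lit 88, nat_lit 154, nat_lit 44])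
noncomputable def r192 : WT := (.leaf (nat_lit 11279) [nat_lit 110, nat_lit 44, nat_lit 154, nat_lit 66, nat_lit 88, nat_lit 154, nat_lit 44, nat_lit 132, nat_lit 66, nat_lit 154, nat_lit 110, nat_lit 44, nat_lit 110, nat_lit 66, nat_lit 88, nat_lit 132, nat_lit 44, nat_lit 154, nat_lit 66])
noncomputable def r193 : WT := (.node (nat_lit 26) r191 r192)
noncomputable def r194 : WT := (.leaf (nat_lit 10245) [nat_lit 44, nat_lit 132, nat_lit 44, nat_lit 132, nat_lit 44, nat_lit 132, nat_lit 44, nat_lit 110, nat_lit 66, nat_lit 154, nat_lit 66, nat_lit 154, nat_lit 66, nat_lit 154, nat_lit 66, nat_lit 154, nat_lit 66, nat_lit 88, nat_lit 44])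
noncomputable def r195 : WT := (.leaf (nat_lit 13323) [nat_lit 44, nat_lit 110, nat_lit 132, nat_lit 44, nat_lit 110, nat_lit 132, nat_lit 44, nat_lit 110, nat_lit 110, nat_lit 66, nat_lit 154, nat_lit 110, nat_lit 66, nat_lit 154, nat_lit 110, nat_lit 66, nat_lit 154, nat_lit 110, nat_lit 66, nat_lit 154, nat_lit 110, nat_lit 66, nat_lit 44, nat_lit 110, nat_lit 132, nat_lit 44, nat_lit 110])
noncomputable def r196 : WT := (.node (nat_lit 28) r194 r195)
noncomputable def r197 : WT := (.leaf (nat_lit 10246) [nat_lit 44, nat_lit 132, nat_lit 44, nat_lit 132, nat_lit 44, nat_lit 88, nat_lit 66, nat_lit 154, nat_lit 66, nat_lit 154, nat_lit 66, nat_lit 154, nat_lit 66, nat_lit 154, nat_lit 66, nat_lit 110, nat_lit 44, nat_lit 132, nat_lit 44])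
noncomputable def r198 : WT := (.leaf (nat_lit 13335) [nat_lit 44, nat_lit 110, nat_lit 110, nat_lit 66, nat_lit 154, nat_lit 110, nat_lit 66, nat_lit 154, nat_lit 110, nat_lit 66, nat_lit 154, nat_lit 110, nat_lit 66, nat_lit 154, nat_lit 110, nat_lit 66, nat_lit 44, nat_lit 110, nat_lit 132, nat_lit 44, nat_lit 110, nat_lit 132, nat_lit 44, nat_lit 110, nat_lit 132, nat_lit 44, nat_lit 110])
noncomputable def r199 : WT := (.leaf (nat_lit 10253) [nat_lit 44, nat_lit 132, nat_lit 44, nat_lit 110, nat_lit 66, nat_lit 154, nat_lit 66, nat_lit 154, nat_lit 66, nat_lit 154, nat_lit 66, nat_lit 154, nat_lit 66, nat_lit 88, nat_lit 44, nat_lit 132, nat_lit 44, nat_lit 132, nat_lit 44])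
noncomputable def r200 : WT := (.node (nat_lit 30) r197 (.node (nat_lit 31) r198 r199))
noncomputable def r201 : WT := (.leaf (nat_lit 13334) [nat_lit 44, nat_lit 88, nat_lit 88, nat_lit 66, nat_lit 154, nat_lit 88, nat_lit 66, nat_lit 154, nat_lit 88, nat_lit 66, nat_lit 154, nat_lit 88, nat_lit 66, nat_lit 154, nat_lit 88, nat_lit 66, nat_lit 44, nat_lit 88, nat_lit 132, nat_lit 44, nat_lit 88, nat_lit 132, nat_lit 44, nat_lit 88, nat_lit 132, nat_lit 44, nat_lit 88])
noncomputable def r202 : WT := (.leaf (nat_lit 13328) [nat_lit 44, nat_lit 88, nat_lit 132, nat_lit 44, nat_lit 88, nat_lit 88, nat_lit 66, nat_lit 154, nat_lit 88, nat_lit 66, nat_lit 154, nat_lit 88, nat_lit 66, nat_lit 154, nat_lit 88, nat_lit 66, nat_lit 154, nat_lit 88, nat_lit 66, nat_lit 44, nat_lit 88, nat_lit 132, nat_lit 44, nat_lit 88, nat_lit 132, nat_lit 44, nat_lit 88])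
noncomputable def r203 : WT := (.leaf (nat_lit 8225) [nat_lit 66, nat_lit 132, nat_lit 66, nat_lit 88, nat_lit 44, nat_lit 154, nat_lit 44, nat_lit 154, nat_lit 44, nat_lit 154, nat_lit 44, nat_lit 154, nat_lit 44, nat_lit 110, nat_lit 66, nat_lit 132, nat_lit 66, nat_lit 132, nat_lit 66])
noncomputable def r204 : WT := (.leaf (nat_lit 12303) [nat_lit 110, nat_lit 44, nat_lit 110, nat_lit 66, nat_lit 88, nat_lit 154, nat_lit 44, nat_lit 132, nat_lit 66, nat_lit 154, nat_lit 110, nat_lit 44, nat_lit 132, nat_lit 66, nat_lit 88, nat_lit 132, nat_lit 44, nat_lit 154, nat_lit 66])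
noncomputable def r205 : WT := (.node (nat_lit 34) (.node (nat_lit 33) r201 r202) (.node (nat_lit 35) r203 r204))
noncomputable def r206 : WT := (.leaf (nat_lit 12289) [nat_lit 66, nat_lit 88, nat_lit 132, nat_lit 44, nat_lit 154, nat_lit 66, nat_lit 132, nat_lit 110, nat_lit 44, nat_lit 110, nat_lit 66, nat_lit 88, nat_lit 154, nat_lit 44, nat_lit 132, nat_lit 66, nat_lit 154, nat_lit 110, nat_lit 44])
noncomputable def r207 : WT := (.leaf (nat_lit 12316) [nat_lit 66, nat_lit 154, nat_lit 110, nat_lit 44, nat_lit 154, nat_lit 66, nat_lit 88, nat_lit 132, nat_lit 44, nat_lit 154, nat_lit 66, nat_lit 132, nat_lit 110, nat_lit 44, nat_lit 88, nat_lit 66, nat_lit 88, nat_lit 154, nat_lit 44])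
noncomputable def r208 : WT := (.leaf (nat_lit 10254) [nat_lit 44, nat_lit 88, nat_lit 66, nat_lit 154, nat_lit 66, nat_lit 154, nat_lit 66, nat_lit 154, nat_lit 66, nat_lit 154, nat_lit 66, nat_lit 110, nat_lit 44, nat_lit 132, nat_lit 44, nat_lit 132, nat_lit 44, nat_lit 132, nat_lit 44])
noncomputable def r209 : WT := (.leaf (nat_lit 11295) [nat_lit 66, nat_lit 154, nat_lit 110, nat_lit 44, nat_lit 110, nat_lit 66, nat_lit 88, nat_lit 132, nat_lit 44, nat_lit 154, nat_lit 66, nat_lit 132, nat_lit 110, nat_lit 44, nat_lit 154, nat_lit 66, nat_lit 88, nat_lit 154, nat_lit 44])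
noncomputable def r210 : WT := (.node (nat_lit 38) (.node (nat_lit 37) r206 r207) (.node (nat_lit 39) r208 r209))
noncomputable def r211 : WT := (.leaf (nat_lit 13316) [nat_lit 44, nat_lit 88, nat_lit 132, nat_lit 44, nat_lit 88, nat_lit 132, nat_lit 44, nat_lit 88, nat_lit 132, nat_lit 44, nat_lit 88, nat_lit 88, nat_lit 66, nat_lit 154, nat_lit 88, nat_lit 66, nat_lit 154, nat_lit 88, nat_lit 66, nat_lit 154, nat_lit 88, nat_lit 66, nat_lit 154, nat_lit 88, nat_lit 66, nat_lit 44, nat_lit 88])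
noncomputable def r212 : WT := (.leaf (nat_lit 12292) [nat_lit 44, nat_lit 154, nat_lit 66, nat_lit 132, nat_lit 110, nat_lit 44, nat_lit 88, nat_lit 66, nat_lit 88, nat_lit 154, nat_lit 44, nat_lit 132, nat_lit 66, nat_lit 154, nat_lit 110, nat_lit 44, nat_lit 154, nat_lit 66, nat_lit 88])
noncomputable def r213 : WT := (.leaf (nat_lit 12295) [nat_lit 44, nat_lit 154, nat_lit 66, nat_lit 132, nat_lit 110, nat_lit 44, nat_lit 110, nat_lit 66, nat_lit 88, nat_lit 154, nat_lit 44, nat_lit 132, nat_lit 66, nat_lit 154, nat_lit 110, nat_lit 44, nat_lit 132, nat_lit 66, nat_lit 88])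
noncomputable def r214 : WT := (.leaf (nat_lit 13322) [nat_lit 44, nat_lit 88, nat_lit 132, nat_lit 44, nat_lit 88, nat_lit 132, nat_lit 44, nat_lit 88, nat_lit 88, nat_lit 66, nat_lit 154, nat_lit 88, nat_lit 66, nat_lit 154, nat_lit 88, nat_lit 66, nat_lit 154, nat_lit 88, nat_lit 66, nat_lit 154, nat_lit 88, nat_lit 66, nat_lit 44, nat_lit 88, nat_lit 132, nat_lit 44, nat_lit 88])
noncomputable def r215 : WT := (.leaf (nat_lit 11271) [nat_lit 44, nat_lit 154, nat_lit 66, nat_lit 132, nat_lit 110, nat_lit 44, nat_lit 154, nat_lit 66, nat_lit 88, nat_lit 154, nat_lit 44, nat_lit 132, nat_lit 66, nat_lit 154, nat_lit 110, nat_lit 44, nat_lit 110, nat_lit 66, nat_lit 88])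
noncomputable def r216 : WT := (.leaf (nat_lit 10249) [nat_lit 44, nat_lit 132, nat_lit 44, nat_lit 132, nat_lit 44, nat_lit 110, nat_lit 66, nat_lit 154, nat_lit 66, nat_lit 154, nat_lit 66, nat_lit 154, nat_lit 66, nat_lit 154, nat_lit 66, nat_lit 88, nat_lit 44, nat_lit 132, nat_lit 44])
noncomputable def r217 : WT := (.leaf (nat_lit 8221) [nat_lit 66, nat_lit 132, nat_lit 66, nat_lit 132, nat_lit 66, nat_lit 88, nat_lit 44, nat_lit 154, nat_lit 44, nat_lit 154, nat_lit 44, nat_lit 154, nat_lit 44, nat_lit 154, nat_lit 44, nat_lit 110, nat_lit 66, nat_lit 132, nat_lit 66])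
noncomputable def r218 : WT := (.leaf (nat_lit 13329) [nat_lit 44, nat_lit 110, nat_lit 132, nat_lit 44, nat_lit 110, nat_lit 110, nat_lit 66, nat_lit 154, nat_lit 110, nat_lit 66, nat_lit 154, nat_lit 110, nat_lit 66, nat_lit 154, nat_lit 110, nat_lit 66, nat_lit 154, nat_lit 110, nat_lit 66, nat_lit 44, nat_lit 110, nat_lit 132, nat_lit 44, nat_lit 110, nat_lit 132, nat_lit 44, nat_lit 110])
noncomputable def r219 : WT := (.leaf (nat_lit 10257) [nat_lit 44, nat_lit 110, nat_lit 66, nat_lit 154, nat_lit 66, nat_lit 154, nat_lit 66, nat_lit 154, nat_lit 66, nat_lit 154, nat_lit 66, nat_lit 88, nat_lit 44, nat_lit 132, nat_lit 44, nat_lit 132, nat_lit 44, nat_lit 132, nat_lit 44])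
noncomputable def r220 : WT := (.node (nat_lit 44) (.node (nat_lit 42) (.node (nat_lit 41) r211 r212) (.node (nat_lit 43) r213 r214)) (.node (nat_lit 46) (.node (nat_lit 45) r215 r216) (.node (nat_lit 47) r217 (.node (nat_lit 48) r218 r219))))
noncomputable def r221 : WT := (.node (nat_lit 21) (.node (nat_lit 16) (.node (nat_lit 14) (.node (nat_lit 13) r175 r176) (.node (nat_lit 15) r177 r178)) (.node (nat_lit 18) (.node (nat_lit 17) r179 r180) (.node (nat_lit 19) r181 r184))) (.node (nat_lit 29) (.node (nat_lit 25) (.node (nat_lit 23) r187 r190) (.node (nat_lit 27) r193 r196)) (.node (nat_lit 36) (.node (nat_lit 32) r200 r205) (.node (nat_lit 40) r210 r220))))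
noncomputable def w4 : WT := (.node (nat_lit 1) (.leaf (nat_lit 2048) [nat_lit 154]) (.node (nat_lit 3) (.node (nat_lit 2) (.leaf (nat_lit 7169) [nat_lit 88, nat_lit 154, nat_lit 110]) (.leaf (nat_lit 5120) [nat_lit 132, nat_lit 132])) (.node (nat_lit 6) (.node (nat_lit 4) (.leaf (nat_lit 7170) [nat_lit 110, nat_lit 154, nat_lit 88]) r167) (.node (nat_lit 12) r174 r221))))
noncomputable def r222 : WT := (.leaf (nat_lit 9222) [nat_lit 44, nat_lit 132, nat_lit 66, nat_lit 132, nat_lit 44, nat_lit 88, nat_lit 66, nat_lit 154, nat_lit 44, nat_lit 154, nat_lit 66, nat_lit 132, nat_lit 44, nat_lit 132, nat_lit 66, nat_lit 88, nat_lit 44, nat_lit 154, nat_lit 66])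
noncomputable def r223 : WT := (.leaf (nat_lit 8198) [nat_lit 44, nat_lit 154, nat_lit 44, nat_lit 154, nat_lit 44, nat_lit 88, nat_lit 66, nat_lit 132, nat_lit 66, nat_lit 132, nat_lit 66, nat_lit 132, nat_lit 66, nat_lit 132, nat_lit 66, nat_lit 110, nat_lit 44, nat_lit 154, nat_lit 44])
noncomputable def r224 : WT := (.leaf (nat_lit 9238) [nat_lit 44, nat_lit 154, nat_lit 66, nat_lit 132, nat_lit 44, nat_lit 132, nat_lit 66, nat_lit 88, nat_lit 44, nat_lit 154, nat_lit 66, nat_lit 154, nat_lit 44, nat_lit 132, nat_lit 66, nat_lit 132, nat_lit 44, nat_lit 88, nat_lit 66])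
noncomputable def r225 : WT := (.leaf (nat_lit 10266) [nat_lit 66, nat_lit 154, nat_lit 66, nat_lit 154, nat_lit 66, nat_lit 110, nat_lit 44, nat_lit 132, nat_lit 44, nat_lit 132, nat_lit 44, nat_lit 132, nat_lit 44, nat_lit 132, nat_lit 44, nat_lit 88, nat_lit 66, nat_lit 154, nat_lit 66])
noncomputable def r226 : WT := (.leaf (nat_lit 8194) [nat_lit 44, nat_lit 154, nat_lit 44, nat_lit 154, nat_lit 44, nat_lit 154, nat_lit 44, nat_lit 88, nat_lit 66, nat_lit 132, nat_lit 66, nat_lit 132, nat_lit 66, nat_lit 132, nat_lit 66, nat_lit 132, nat_lit 66, nat_lit 110, nat_lit 44])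
noncomputable def r227 : WT := (.leaf (nat_lit 9225) [nat_lit 44, nat_lit 132, nat_lit 66, nat_lit 132, nat_lit 44, nat_lit 110, nat_lit 66, nat_lit 154, nat_lit 44, nat_lit 154, nat_lit 66, nat_lit 132, nat_lit 44, nat_lit 132, nat_lit 66, nat_lit 110, nat_lit 44, nat_lit 154, nat_lit 66])
noncomputable def r228 : WT := (.leaf (nat_lit 8202) [nat_lit 44, nat_lit 154, nat_lit 44, nat_lit 88, nat_lit 66, nat_lit 132, nat_lit 66, nat_lit 132, nat_lit 66, nat_lit 132, nat_lit 66, nat_lit 132, nat_lit 66, nat_lit 110, nat_lit 44, nat_lit 154, nat_lit 44, nat_lit 154, nat_lit 44])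
noncomputable def r229 : WT := (.leaf (nat_lit 9218) [nat_lit 66, nat_lit 154, nat_lit 44, nat_lit 132, nat_lit 66, nat_lit 132, nat_lit 44, nat_lit 88, nat_lit 66, nat_lit 154, nat_lit 44, nat_lit 154, nat_lit 66, nat_lit 132, nat_lit 44, nat_lit 132, nat_lit 66, nat_lit 88, nat_lit 44])
noncomputable def r230 : WT := (.leaf (nat_lit 9241) [nat_lit 44, nat_lit 154, nat_lit 66, nat_lit 132, nat_lit 44, nat_lit 132, nat_lit 66, nat_lit 110, nat_lit 44, nat_lit 154, nat_lit 66, nat_lit 154, nat_lit 44, nat_lit 132, nat_lit 66, nat_lit 132, nat_lit 44, nat_lit 110, nat_lit 66])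
noncomputable def r231 : WT := (.node (nat_lit 8) (.node (nat_lit 6) r223 (.node (nat_lit 7) r224 r225)) (.node (nat_lit 10) (.node (nat_lit 9) r226 r227) (.node (nat_lit 11) r228 (.node (nat_lit 12) r229 r230))))
noncomputable def r232 : WT := (.leaf (nat_lit 11272) [nat_lit 66, nat_lit 132, nat_lit 110, nat_lit 44, nat_lit 132, nat_lit 66, nat_lit 88, nat_lit 154, nat_lit 44, nat_lit 132, nat_lit 66, nat_lit 154, nat_lit 110, nat_lit 44, nat_lit 88, nat_lit 66, nat_lit 88, nat_lit 132, nat_lit 44])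
noncomputable def r233 : WT := (.leaf (nat_lit 11299) [nat_lit 110, nat_lit 44, nat_lit 110, nat_lit 66, nat_lit 88, nat_lit 132, nat_lit 44, nat_lit 154, nat_lit 66, nat_lit 132, nat_lit 110, nat_lit 44, nat_lit 154, nat_lit 66, nat_lit 88, nat_lit 154, nat_lit 44, nat_lit 132, nat_lit 66])
noncomputable def r234 : WT := (.leaf (nat_lit 8206) [nat_lit 44, nat_lit 88, nat_lit 66, nat_lit 132, nat_lit 66, nat_lit 132, nat_lit 66, nat_lit 132, nat_lit 66, nat_lit 132, nat_lit 66, nat_lit 110, nat_lit 44, nat_lit 154, nat_lit 44, nat_lit 154, nat_lit 44, nat_lit 154, nat_lit 44])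
noncomputable def r235 : WT := (.leaf (nat_lit 11285) [nat_lit 66, nat_lit 88, nat_lit 154, nat_lit 44, nat_lit 132, nat_lit 66, nat_lit 154, nat_lit 110, nat_lit 44, nat_lit 110, nat_lit 66, nat_lit 88, nat_lit 132, nat_lit 44, nat_lit 154, nat_lit 66, nat_lit 132, nat_lit 110, nat_lit 44])
noncomputable def r236 : WT := (.leaf (nat_lit 11296) [nat_lit 110, nat_lit 44, nat_lit 88, nat_lit 66, nat_lit 88, nat_lit 132, nat_lit 44, nat_lit 154, nat_lit 66, nat_lit 132, nat_lit 110, nat_lit 44, nat_lit 132, nat_lit 66, nat_lit 88, nat_lit 154, nat_lit 44, nat_lit 132, nat_lit 66])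
noncomputable def r237 : WT := (.leaf (nat_lit 9242) [nat_lit 66, nat_lit 132, nat_lit 44, nat_lit 132, nat_lit 66, nat_lit 88, nat_lit 44, nat_lit 154, nat_lit 66, nat_lit 154, nat_lit 44, nat_lit 132, nat_lit 66, nat_lit 132, nat_lit 44, nat_lit 88, nat_lit 66, nat_lit 154, nat_lit 44])
noncomputable def r238 : WT := (.leaf (nat_lit 10270) [nat_lit 66, nat_lit 154, nat_lit 66, nat_lit 110, nat_lit 44, nat_lit 132, nat_lit 44, nat_lit 132, nat_lit 44, nat_lit 132, nat_lit 44, nat_lit 132, nat_lit 44, nat_lit 88, nat_lit 66, nat_lit 154, nat_lit 66, nat_lit 154, nat_lit 66])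
noncomputable def r239 : WT := (.leaf (nat_lit 10262) [nat_lit 66, nat_lit 154, nat_lit 66, nat_lit 154, nat_lit 66, nat_lit 154, nat_lit 66, nat_lit 110, nat_lit 44, nat_lit 132, nat_lit 44, nat_lit 132, nat_lit 44, nat_lit 132, nat_lit 44, nat_lit 132, nat_lit 44, nat_lit 88, nat_lit 66])
noncomputable def r240 : WT := (.leaf (nat_lit 13350) [nat_lit 88, nat_lit 66, nat_lit 154, nat_lit 88, nat_lit 66, nat_lit 154, nat_lit 88, nat_lit 66, nat_lit 44, nat_lit 88, nat_lit 132, nat_lit 44, nat_lit 88, nat_lit 132, nat_lit 44, nat_lit 88, nat_lit 132, nat_lit 44, nat_lit 88, nat_lit 132, nat_lit 44, nat_lit 88, nat_lit 88, nat_lit 66, nat_lit 154, nat_lit 88, nat_lit 66])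
noncomputable def r241 : WT := (.node (nat_lit 21) r239 r240)
noncomputable def r242 : WT := (.leaf (nat_lit 10277) [nat_lit 66, nat_lit 88, nat_lit 44, nat_lit 132, nat_lit 44, nat_lit 132, nat_lit 44, nat_lit 132, nat_lit 44, nat_lit 132, nat_lit 44, nat_lit 110, nat_lit 66, nat_lit 154, nat_lit 66, nat_lit 154, nat_lit 66, nat_lit 154, nat_lit 66])
noncomputable def r243 : WT := (.leaf (nat_lit 12320) [nat_lit 110, nat_lit 44, nat_lit 154, nat_lit 66, nat_lit 88, nat_lit 132, nat_lit 44, nat_lit 154, nat_lit 66, nat_lit 132, nat_lit 110, nat_lit 44, nat_lit 88, nat_lit 66, nat_lit 88, nat_lit 154, nat_lit 44, nat_lit 132, nat_lit 66])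
noncomputable def r244 : WT := (.leaf (nat_lit 13345) [nat_lit 110, nat_lit 66, nat_lit 154, nat_lit 110, nat_lit 66, nat_lit 154, nat_lit 110, nat_lit 66, nat_lit 154, nat_lit 110, nat_lit 66, nat_lit 44, nat_lit 110, nat_lit 132, nat_lit 44, nat_lit 110, nat_lit 132, nat_lit 44, nat_lit 110, nat_lit 132, nat_lit 44, nat_lit 110, nat_lit 132, nat_lit 44, nat_lit 110, nat_lit 110, nat_lit 66])
noncomputable def r245 : WT := (.node (nat_lit 24) r243 r244)
noncomputable def r246 : WT := (.leaf (nat_lit 13344) [nat_lit 88, nat_lit 66, nat_lit 154, nat_lit 88, nat_lit 66, nat_lit 154, nat_lit 88, nat_lit 66, nat_lit 154, nat_lit 88, nat_lit 66, nat_lit 44, nat_lit 88, nat_lit 132, nat_lit 44, nat_lit 88, nat_lit 132, nat_lit 44, nat_lit 88, nat_lit 132, nat_lit 44, nat_lit 88, nat_lit 132, nat_lit 44, nat_lit 88, nat_lit 88, nat_lit 66])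
noncomputable def r247 : WT := (.leaf (nat_lit 10274) [nat_lit 66, nat_lit 110, nat_lit 44, nat_lit 132, nat_lit 44, nat_lit 132, nat_lit 44, nat_lit 132, nat_lit 44, nat_lit 132, nat_lit 44, nat_lit 88, nat_lit 66, nat_lit 154, nat_lit 66, nat_lit 154, nat_lit 66, nat_lit 154, nat_lit 66])
noncomputable def r248 : WT := (.node (nat_lit 26) r246 r247)
noncomputable def r249 : WT := (.leaf (nat_lit 8197) [nat_lit 44, nat_lit 154, nat_lit 44, nat_lit 154, nat_lit 44, nat_lit 154, nat_lit 44, nat_lit 110, nat_lit 66, nat_lit 132, nat_lit 66, nat_lit 132, nat_lit 66, nat_lit 132, nat_lit 66, nat_lit 132, nat_lit 66, nat_lit 88, nat_lit 44])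
noncomputable def r250 : WT := (.leaf (nat_lit 12296) [nat_lit 66, nat_lit 132, nat_lit 110, nat_lit 44, nat_lit 88, nat_lit 66, nat_lit 88, nat_lit 154, nat_lit 44, nat_lit 132, nat_lit 66, nat_lit 154, nat_lit 110, nat_lit 44, nat_lit 154, nat_lit 66, nat_lit 88, nat_lit 132, nat_lit 44])
noncomputable def r251 : WT := (.leaf (nat_lit 13357) [nat_lit 110, nat_lit 66, nat_lit 154, nat_lit 110, nat_lit 66, nat_lit 44, nat_lit 110, nat_lit 132, nat_lit 44, nat_lit 110, nat_lit 132, nat_lit 44, nat_lit 110, nat_lit 132, nat_lit 44, nat_lit 110, nat_lit 132, nat_lit 44, nat_lit 110, nat_lit 110, nat_lit 66, nat_lit 154, nat_lit 110, nat_lit 66, nat_lit 154, nat_lit 110, nat_lit 66])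
noncomputable def r252 : WT := (.node (nat_lit 28) r249 (.node (nat_lit 29) r250 r251))
noncomputable def r253 : WT := (.leaf (nat_lit 9245) [nat_lit 66, nat_lit 132, nat_lit 44, nat_lit 132, nat_lit 66, nat_lit 110, nat_lit 44, nat_lit 154, nat_lit 66, nat_lit 154, nat_lit 44, nat_lit 132, nat_lit 66, nat_lit 132, nat_lit 44, nat_lit 110, nat_lit 66, nat_lit 154, nat_lit 44])
noncomputable def r254 : WT := (.leaf (nat_lit 8205) [nat_lit 44, nat_lit 154, nat_lit 44, nat_lit 110, nat_lit 66, nat_lit 132, nat_lit 66, nat_lit 132, nat_lit 66, nat_lit 132, nat_lit 66, nat_lit 132, nat_lit 66, nat_lit 88, nat_lit 44, nat_lit 154, nat_lit 44, nat_lit 154, nat_lit 44])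
noncomputable def r255 : WT := (.leaf (nat_lit 13362) [nat_lit 88, nat_lit 66, nat_lit 44, nat_lit 88, nat_lit 132, nat_lit 44, nat_lit 88, nat_lit 132, nat_lit 44, nat_lit 88, nat_lit 132, nat_lit 44, nat_lit 88, nat_lit 132, nat_lit 44, nat_lit 88, nat_lit 88, nat_lit 66, nat_lit 154, nat_lit 88, nat_lit 66, nat_lit 154, nat_lit 88, nat_lit 66, nat_lit 154, nat_lit 88, nat_lit 66])
noncomputable def r256 : WT := (.node (nat_lit 31) r253 (.node (nat_lit 32) r254 r255))
noncomputable def r257 : WT := (.leaf (nat_lit 12299) [nat_lit 66, nat_lit 132, nat_lit 110, nat_lit 44, nat_lit 110, nat_lit 66, nat_lit 88, nat_lit 154, nat_lit 44, nat_lit 132, nat_lit 66, nat_lit 154, nat_lit 110, nat_lit 44, nat_lit 132, nat_lit 66, nat_lit 88, nat_lit 132, nat_lit 44])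
noncomputable def r258 : WT := (.leaf (nat_lit 10269) [nat_lit 66, nat_lit 154, nat_lit 66, nat_lit 154, nat_lit 66, nat_lit 88, nat_lit 44, nat_lit 132, nat_lit 44, nat_lit 132, nat_lit 44, nat_lit 132, nat_lit 44, nat_lit 132, nat_lit 44, nat_lit 110, nat_lit 66, nat_lit 154, nat_lit 66])
noncomputable def r259 : WT := (.leaf (nat_lit 11275) [nat_lit 66, nat_lit 132, nat_lit 110, nat_lit 44, nat_lit 154, nat_lit 66, nat_lit 88, nat_lit 154, nat_lit 44, nat_lit 132, nat_lit 66, nat_lit 154, nat_lit 110, nat_lit 44, nat_lit 110, nat_lit 66, nat_lit 88, nat_lit 132, nat_lit 44])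
noncomputable def r260 : WT := (.leaf (nat_lit 11288) [nat_lit 44, nat_lit 132, nat_lit 66, nat_lit 154, nat_lit 110, nat_lit 44, nat_lit 88, nat_lit 66, nat_lit 88, nat_lit 132, nat_lit 44, nat_lit 154, nat_lit 66, nat_lit 132, nat_lit 110, nat_lit 44, nat_lit 132, nat_lit 66, nat_lit 88])
noncomputable def r261 : WT := (.node (nat_lit 35) (.node (nat_lit 34) r257 r258) (.node (nat_lit 36) r259 r260))
noncomputable def r262 : WT := (.leaf (nat_lit 13351) [nat_lit 110, nat_lit 66, nat_lit 154, nat_lit 110, nat_lit 66, nat_lit 154, nat_lit 110, nat_lit 66, nat_lit 44, nat_lit 110, nat_lit 132, nat_lit 44, nat_lit 110, nat_lit 132, nat_lit 44, nat_lit 110, nat_lit 132, nat_lit 44, nat_lit 110, nat_lit 132, nat_lit 44, nat_lit 110, nat_lit 110, nat_lit 66, nat_lit 154, nat_lit 110, nat_lit 66])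
noncomputable def r263 : WT := (.leaf (nat_lit 8209) [nat_lit 44, nat_lit 110, nat_lit 66, nat_lit 132, nat_lit 66, nat_lit 132, nat_lit 66, nat_lit 132, nat_lit 66, nat_lit 132, nat_lit 66, nat_lit 88, nat_lit 44, nat_lit 154, nat_lit 44, nat_lit 154, nat_lit 44, nat_lit 154, nat_lit 44])
noncomputable def r264 : WT := (.leaf (nat_lit 8201) [nat_lit 44, nat_lit 154, nat_lit 44, nat_lit 154, nat_lit 44, nat_lit 110, nat_lit 66, nat_lit 132, nat_lit 66, nat_lit 132, nat_lit 66, nat_lit 132, nat_lit 66, nat_lit 132, nat_lit 66, nat_lit 88, nat_lit 44, nat_lit 154, nat_lit 44])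
noncomputable def r265 : WT := (.leaf (nat_lit 13356) [nat_lit 88, nat_lit 66, nat_lit 154, nat_lit 88, nat_lit 66, nat_lit 44, nat_lit 88, nat_lit 132, nat_lit 44, nat_lit 88, nat_lit 132, nat_lit 44, nat_lit 88, nat_lit 132, nat_lit 44, nat_lit 88, nat_lit 132, nat_lit 44, nat_lit 88, nat_lit 88, nat_lit 66, nat_lit 154, nat_lit 88, nat_lit 66, nat_lit 154, nat_lit 88, nat_lit 66])
noncomputable def r266 : WT := (.leaf (nat_lit 13363) [nat_lit 110, nat_lit 66, nat_lit 44, nat_lit 110, nat_lit 132, nat_lit 44, nat_lit 110, nat_lit 132, nat_lit 44, nat_lit 110, nat_lit 132, nat_lit 44, nat_lit 110, nat_lit 132, nat_lit 44, nat_lit 110, nat_lit 110, nat_lit 66, nat_lit 154, nat_lit 110, nat_lit 66, nat_lit 154, nat_lit 110, nat_lit 66, nat_lit 154, nat_lit 110, nat_lit 66])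
noncomputable def r267 : WT := (.node (nat_lit 39) (.node (nat_lit 38) r262 r263) (.node (nat_lit 40) r264 (.node (nat_lit 41) r265 r266)))
noncomputable def r268 : WT := (.leaf (nat_lit 12315) [nat_lit 44, nat_lit 132, nat_lit 66, nat_lit 154, nat_lit 110, nat_lit 44, nat_lit 132, nat_lit 66, nat_lit 88, nat_lit 132, nat_lit 44, nat_lit 154, nat_lit 66, nat_lit 132, nat_lit 110, nat_lit 44, nat_lit 110, nat_lit 66, nat_lit 88])
noncomputable def r269 : WT := (.leaf (nat_lit 12326) [nat_lit 66, nat_lit 88, nat_lit 132, nat_lit 44, nat_lit 154, nat_lit 66, nat_lit 132, nat_lit 110, nat_lit 44, nat_lit 88, nat_lit 66, nat_lit 88, nat_lit 154, nat_lit 44, nat_lit 132, nat_lit 66, nat_lit 154, nat_lit 110, nat_lit 44])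
noncomputable def r270 : WT := (.leaf (nat_lit 10273) [nat_lit 66, nat_lit 154, nat_lit 66, nat_lit 88, nat_lit 44, nat_lit 132, nat_lit 44, nat_lit 132, nat_lit 44, nat_lit 132, nat_lit 44, nat_lit 132, nat_lit 44, nat_lit 110, nat_lit 66, nat_lit 154, nat_lit 66, nat_lit 154, nat_lit 66])
noncomputable def r271 : WT := (.leaf (nat_lit 10265) [nat_lit 66, nat_lit 154, nat_lit 66, nat_lit 154, nat_lit 66, nat_lit 154, nat_lit 66, nat_lit 88, nat_lit 44, nat_lit 132, nat_lit 44, nat_lit 132, nat_lit 44, nat_lit 132, nat_lit 44, nat_lit 132, nat_lit 44, nat_lit 110, nat_lit 66])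
noncomputable def r272 : WT := (.leaf (nat_lit 12312) [nat_lit 44, nat_lit 132, nat_lit 66, nat_lit 154, nat_lit 110, nat_lit 44, nat_lit 154, nat_lit 66, nat_lit 88, nat_lit 132, nat_lit 44, nat_lit 154, nat_lit 66, nat_lit 132, nat_lit 110, nat_lit 44, nat_lit 88, nat_lit 66, nat_lit 88])
noncomputable def r273 : WT := (.leaf (nat_lit 11291) [nat_lit 44, nat_lit 132, nat_lit 66, nat_lit 154, nat_lit 110, nat_lit 44, nat_lit 110, nat_lit 66, nat_lit 88, nat_lit 132, nat_lit 44, nat_lit 154, nat_lit 66, nat_lit 132, nat_lit 110, nat_lit 44, nat_lit 154, nat_lit 66, nat_lit 88])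
noncomputable def r274 : WT := (.leaf (nat_lit 9221) [nat_lit 66, nat_lit 154, nat_lit 44, nat_lit 132, nat_lit 66, nat_lit 132, nat_lit 44, nat_lit 110, nat_lit 66, nat_lit 154, nat_lit 44, nat_lit 154, nat_lit 66, nat_lit 132, nat_lit 44, nat_lit 132, nat_lit 66, nat_lit 110, nat_lit 44])
noncomputable def r275 : WT := (.node (nat_lit 45) (.node (nat_lit 43) r268 (.node (nat_lit 44) r269 r270)) (.node (nat_lit 47) (.node (nat_lit 46) r271 r272) (.node (nat_lit 48) r273 r274)))
noncomputable def r276 : WT := (.node (nat_lit 22) (.node (nat_lit 17) (.node (nat_lit 15) (.node (nat_lit 14) r232 r233) (.node (nat_lit 16) r234 r235)) (.node (nat_lit 19) (.node (nat_lit 18) r236 r237) (.node (nat_lit 20) r238 r241))) (.node (nat_lit 30) (.node (nat_lit 25) (.node (nat_lit 23) r242 r245) (.node (nat_lit 27) r248 r252)) (.node (nat_lit 37) (.node (nat_lit 33) r256 r261) (.node (nat_lit 42) r267 r275))))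
noncomputable def w5 : WT := (.node (nat_lit 1) (.leaf (nat_lit 2050) [nat_lit 132]) (.node (nat_lit 3) (.node (nat_lit 2) (.leaf (nat_lit 7174) [nat_lit 88, nat_lit 132, nat_lit 110]) (.leaf (nat_lit 7173) [nat_lit 110, nat_lit 132, nat_lit 88])) (.node (nat_lit 5) (.node (nat_lit 4) (.leaf (nat_lit 5121) [nat_lit 154, nat_lit 154]) r222) (.node (nat_lit 13) r231 r276))))
noncomputable def r277 : WT := (.leaf (nat_lit 13335) [nat_lit 132, nat_lit 44, nat_lit 110, nat_lit 110, nat_lit 66, nat_lit 154, nat_lit 110, nat_lit 66, nat_lit 154, nat_lit 110, nat_lit 66, nat_lit 154, nat_lit 110, nat_lit 66, nat_lit 154, nat_lit 110, nat_lit 66, nat_lit 44, nat_lit 110, nat_lit 132, nat_lit 44, nat_lit 110, nat_lit 132, nat_lit 44, nat_lit 110, nat_lit 132, nat_lit 44, nat_lit 110])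
noncomputable def r278 : WT := (.leaf (nat_lit 11294) [nat_lit 66, nat_lit 154, nat_lit 110, nat_lit 44, nat_lit 88, nat_lit 66, nat_lit 88, nat_lit 132, nat_lit 44, nat_lit 154, nat_lit 66, nat_lit 132, nat_lit 110, nat_lit 44, nat_lit 132, nat_lit 66, nat_lit 88, nat_lit 154, nat_lit 44, nat_lit 132])
noncomputable def r279 : WT := (.leaf (nat_lit 12326) [nat_lit 154, nat_lit 66, nat_lit 88, nat_lit 132, nat_lit 44, nat_lit 154, nat_lit 66, nat_lit 132, nat_lit 110, nat_lit 44, nat_lit 88, nat_lit 66, nat_lit 88, nat_lit 154, nat_lit 44, nat_lit 132, nat_lit 66, nat_lit 154, nat_lit 110, nat_lit 44])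
noncomputable def r280 : WT := (.node (nat_lit 2) r278 r279)
noncomputable def r281 : WT := (.leaf (nat_lit 13350) [nat_lit 154, nat_lit 88, nat_lit 66, nat_lit 154, nat_lit 88, nat_lit 66, nat_lit 154, nat_lit 88, nat_lit 66, nat_lit 44, nat_lit 88, nat_lit 132, nat_lit 44, nat_lit 88, nat_lit 132, nat_lit 44, nat_lit 88, nat_lit 132, nat_lit 44, nat_lit 88, nat_lit 132, nat_lit 44, nat_lit 88, nat_lit 88, nat_lit 66, nat_lit 154, nat_lit 88, nat_lit 66])
noncomputable def r282 : WT := (.leaf (nat_lit 10275) [nat_lit 66, nat_lit 154, nat_lit 66, nat_lit 88, nat_lit 44, nat_lit 132, nat_lit 44, nat_lit 132, nat_lit 44, nat_lit 132, nat_lit 44, nat_lit 132, nat_lit 44, nat_lit 110, nat_lit 66, nat_lit 154, nat_lit 66, nat_lit 154, nat_lit 66, nat_lit 154])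
noncomputable def r283 : WT := (.leaf (nat_lit 12299) [nat_lit 154, nat_lit 66, nat_lit 132, nat_lit 110, nat_lit 44, nat_lit 110, nat_lit 66, nat_lit 88, nat_lit 154, nat_lit 44, nat_lit 132, nat_lit 66, nat_lit 154, nat_lit 110, nat_lit 44, nat_lit 132, nat_lit 66, nat_lit 88, nat_lit 132, nat_lit 44])
noncomputable def r284 : WT := (.node (nat_lit 5) r282 r283)
noncomputable def r285 : WT := (.leaf (nat_lit 10274) [nat_lit 154, nat_lit 66, nat_lit 110, nat_lit 44, nat_lit 132, nat_lit 44, nat_lit 132, nat_lit 44, nat_lit 132, nat_lit 44, nat_lit 132, nat_lit 44, nat_lit 88, nat_lit 66, nat_lit 154, nat_lit 66, nat_lit 154, nat_lit 66, nat_lit 154, nat_lit 66])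
noncomputable def r286 : WT := (.leaf (nat_lit 10264) [nat_lit 66, nat_lit 154, nat_lit 66, nat_lit 154, nat_lit 66, nat_lit 154, nat_lit 66, nat_lit 110, nat_lit 44, nat_lit 132, nat_lit 44, nat_lit 132, nat_lit 44, nat_lit 132, nat_lit 44, nat_lit 132, nat_lit 44, nat_lit 88, nat_lit 66, nat_lit 154])
noncomputable def r287 : WT := (.node (nat_lit 7) r285 r286)
noncomputable def r288 : WT := (.leaf (nat_lit 12315) [nat_lit 154, nat_lit 44, nat_lit 132, nat_lit 66, nat_lit 154, nat_lit 110, nat_lit 44, nat_lit 132, nat_lit 66, nat_lit 88, nat_lit 132, nat_lit 44, nat_lit 154, nat_lit 66, nat_lit 132, nat_lit 110, nat_lit 44, nat_lit 110, nat_lit 66, nat_lit 88])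
noncomputable def r289 : WT := (.leaf (nat_lit 12288) [nat_lit 66, nat_lit 88, nat_lit 132, nat_lit 44, nat_lit 154, nat_lit 66, nat_lit 132, nat_lit 110, nat_lit 44, nat_lit 88, nat_lit 66, nat_lit 88, nat_lit 154, nat_lit 44, nat_lit 132, nat_lit 66, nat_lit 154, nat_lit 110, nat_lit 44, nat_lit 154])
noncomputable def r290 : WT := (.leaf (nat_lit 12302) [nat_lit 110, nat_lit 44, nat_lit 88, nat_lit 66, nat_lit 88, nat_lit 154, nat_lit 44, nat_lit 132, nat_lit 66, nat_lit 154, nat_lit 110, nat_lit 44, nat_lit 154, nat_lit 66, nat_lit 88, nat_lit 132, nat_lit 44, nat_lit 154, nat_lit 66, nat_lit 132])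
noncomputable def r291 : WT := (.node (nat_lit 9) r288 (.node (nat_lit 10) r289 r290))
noncomputable def r292 : WT := (.leaf (nat_lit 12316) [nat_lit 132, nat_lit 66, nat_lit 154, nat_lit 110, nat_lit 44, nat_lit 154, nat_lit 66, nat_lit 88, nat_lit 132, nat_lit 44, nat_lit 154, nat_lit 66, nat_lit 132, nat_lit 110, nat_lit 44, nat_lit 88, nat_lit 66, nat_lit 88, nat_lit 154, nat_lit 44])
noncomputable def r293 : WT := (.leaf (nat_lit 12320) [nat_lit 154, nat_lit 110, nat_lit 44, nat_lit 154, nat_lit 66, nat_lit 88, nat_lit 132, nat_lit 44, nat_lit 154, nat_lit 66, nat_lit 132, nat_lit 110, nat_lit 44, nat_lit 88, nat_lit 66, nat_lit 88, nat_lit 154, nat_lit 44, nat_lit 132, nat_lit 66])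
noncomputable def r294 : WT := (.leaf (nat_lit 12297) [nat_lit 44, nat_lit 154, nat_lit 66, nat_lit 132, nat_lit 110, nat_lit 44, nat_lit 110, nat_lit 66, nat_lit 88, nat_lit 154, nat_lit 44, nat_lit 132, nat_lit 66, nat_lit 154, nat_lit 110, nat_lit 44, nat_lit 132, nat_lit 66, nat_lit 88, nat_lit 132])
noncomputable def r295 : WT := (.node (nat_lit 12) r292 (.node (nat_lit 13) r293 r294))
noncomputable def r296 : WT := (.leaf (nat_lit 12301) [nat_lit 66, nat_lit 132, nat_lit 110, nat_lit 44, nat_lit 110, nat_lit 66, nat_lit 88, nat_lit 154, nat_lit 44, nat_lit 132, nat_lit 66, nat_lit 154, nat_lit 110, nat_lit 44, nat_lit 132, nat_lit 66, nat_lit 88, nat_lit 132, nat_lit 44, nat_lit 154])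
noncomputable def r297 : WT := (.leaf (nat_lit 11298) [nat_lit 110, nat_lit 44, nat_lit 88, nat_lit 66, nat_lit 88, nat_lit 132, nat_lit 44, nat_lit 154, nat_lit 66, nat_lit 132, nat_lit 110, nat_lit 44, nat_lit 132, nat_lit 66, nat_lit 88, nat_lit 154, nat_lit 44, nat_lit 132, nat_lit 66, nat_lit 154])
noncomputable def r298 : WT := (.leaf (nat_lit 12327) [nat_lit 44, nat_lit 132, nat_lit 66, nat_lit 88, nat_lit 132, nat_lit 44, nat_lit 154, nat_lit 66, nat_lit 132, nat_lit 110, nat_lit 44, nat_lit 110, nat_lit 66, nat_lit 88, nat_lit 154, nat_lit 44, nat_lit 132, nat_lit 66, nat_lit 154, nat_lit 110])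
noncomputable def r299 : WT := (.leaf (nat_lit 13336) [nat_lit 44, nat_lit 88, nat_lit 88, nat_lit 66, nat_lit 154, nat_lit 88, nat_lit 66, nat_lit 154, nat_lit 88, nat_lit 66, nat_lit 154, nat_lit 88, nat_lit 66, nat_lit 154, nat_lit 88, nat_lit 66, nat_lit 44, nat_lit 88, nat_lit 132, nat_lit 44, nat_lit 88, nat_lit 132, nat_lit 44, nat_lit 88, nat_lit 132, nat_lit 44, nat_lit 88, nat_lit 132])
noncomputable def r300 : WT := (.node (nat_lit 16) (.node (nat_lit 15) r296 r297) (.node (nat_lit 17) r298 r299))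
noncomputable def r301 : WT := (.leaf (nat_lit 13344) [nat_lit 154, nat_lit 88, nat_lit 66, nat_lit 154, nat_lit 88, nat_lit 66, nat_lit 154, nat_lit 88, nat_lit 66, nat_lit 154, nat_lit 88, nat_lit 66, nat_lit 44, nat_lit 88, nat_lit 132, nat_lit 44, nat_lit 88, nat_lit 132, nat_lit 44, nat_lit 88, nat_lit 132, nat_lit 44, nat_lit 88, nat_lit 132, nat_lit 44, nat_lit 88, nat_lit 88, nat_lit 66])
noncomputable def r302 : WT := (.leaf (nat_lit 13356) [nat_lit 154, nat_lit 88, nat_lit 66, nat_lit 154, nat_lit 88, nat_lit 66, nat_lit 44, nat_lit 88, nat_lit 132, nat_lit 44, nat_lit 88, nat_lit 132, nat_lit 44, nat_lit 88, nat_lit 132, nat_lit 44, nat_lit 88, nat_lit 132, nat_lit 44, nat_lit 88, nat_lit 88, nat_lit 66, nat_lit 154, nat_lit 88, nat_lit 66, nat_lit 154, nat_lit 88, nat_lit 66])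
noncomputable def r303 : WT := (.leaf (nat_lit 13323) [nat_lit 132, nat_lit 44, nat_lit 110, nat_lit 132, nat_lit 44, nat_lit 110, nat_lit 132, nat_lit 44, nat_lit 110, nat_lit 110, nat_lit 66, nat_lit 154, nat_lit 110, nat_lit 66, nat_lit 154, nat_lit 110, nat_lit 66, nat_lit 154, nat_lit 110, nat_lit 66, nat_lit 154, nat_lit 110, nat_lit 66, nat_lit 44, nat_lit 110, nat_lit 132, nat_lit 44, nat_lit 110])
noncomputable def r304 : WT := (.node (nat_lit 19) r301 (.node (nat_lit 20) r302 r303))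
noncomputable def r305 : WT := (.leaf (nat_lit 13325) [nat_lit 44, nat_lit 110, nat_lit 132, nat_lit 44, nat_lit 110, nat_lit 132, nat_lit 44, nat_lit 110, nat_lit 110, nat_lit 66, nat_lit 154, nat_lit 110, nat_lit 66, nat_lit 154, nat_lit 110, nat_lit 66, nat_lit 154, nat_lit 110, nat_lit 66, nat_lit 154, nat_lit 110, nat_lit 66, nat_lit 44, nat_lit 110, nat_lit 132, nat_lit 44, nat_lit 110, nat_lit 132])
noncomputable def r306 : WT := (.leaf (nat_lit 13327) [nat_lit 110, nat_lit 132, nat_lit 44, nat_lit 110, nat_lit 132, nat_lit 44, nat_lit 110, nat_lit 110, nat_lit 66, nat_lit 154, nat_lit 110, nat_lit 66, nat_lit 154, nat_lit 110, nat_lit 66, nat_lit 154, nat_lit 110, nat_lit 66, nat_lit 154, nat_lit 110, nat_lit 66, nat_lit 44, nat_lit 110, nat_lit 132, nat_lit 44, nat_lit 110, nat_lit 132, nat_lit 44])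
noncomputable def r307 : WT := (.leaf (nat_lit 13341) [nat_lit 110, nat_lit 66, nat_lit 154, nat_lit 110, nat_lit 66, nat_lit 154, nat_lit 110, nat_lit 66, nat_lit 154, nat_lit 110, nat_lit 66, nat_lit 154, nat_lit 110, nat_lit 66, nat_lit 44, nat_lit 110, nat_lit 132, nat_lit 44, nat_lit 110, nat_lit 132, nat_lit 44, nat_lit 110, nat_lit 132, nat_lit 44, nat_lit 110, nat_lit 132, nat_lit 44, nat_lit 110])
noncomputable def r308 : WT := (.node (nat_lit 22) r305 (.node (nat_lit 23) r306 r307))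
noncomputable def r309 : WT := (.leaf (nat_lit 13351) [nat_lit 154, nat_lit 110, nat_lit 66, nat_lit 154, nat_lit 110, nat_lit 66, nat_lit 154, nat_lit 110, nat_lit 66, nat_lit 44, nat_lit 110, nat_lit 132, nat_lit 44, nat_lit 110, nat_lit 132, nat_lit 44, nat_lit 110, nat_lit 132, nat_lit 44, nat_lit 110, nat_lit 132, nat_lit 44, nat_lit 110, nat_lit 110, nat_lit 66, nat_lit 154, nat_lit 110, nat_lit 66])
noncomputable def r310 : WT := (.leaf (nat_lit 9233) [nat_lit 132, nat_lit 44, nat_lit 110, nat_lit 66, nat_lit 154, nat_lit 44, nat_lit 154, nat_lit 66, nat_lit 132, nat_lit 44, nat_lit 132, nat_lit 66, nat_lit 110, nat_lit 44, nat_lit 154, nat_lit 66, nat_lit 154, nat_lit 44, nat_lit 132, nat_lit 66])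
noncomputable def r311 : WT := (.node (nat_lit 25) r309 (.node (nat_lit 26) r310 (.leaf (nat_lit 7172) [nat_lit 110, nat_lit 154, nat_lit 88, nat_lit 132])))
noncomputable def r312 : WT := (.leaf (nat_lit 8201) [nat_lit 154, nat_lit 44, nat_lit 154, nat_lit 44, nat_lit 154, nat_lit 44, nat_lit 110, nat_lit 66, nat_lit 132, nat_lit 66, nat_lit 132, nat_lit 66, nat_lit 132, nat_lit 66, nat_lit 132, nat_lit 66, nat_lit 88, nat_lit 44, nat_lit 154, nat_lit 44])
noncomputable def r313 : WT := (.leaf (nat_lit 8217) [nat_lit 132, nat_lit 66, nat_lit 132, nat_lit 66, nat_lit 132, nat_lit 66, nat_lit 132, nat_lit 66, nat_lit 88, nat_lit 44, nat_lit 154, nat_lit 44, nat_lit 154, nat_lit 44, nat_lit 154, nat_lit 44, nat_lit 154, nat_lit 44, nat_lit 110, nat_lit 66])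
noncomputable def r314 : WT := (.leaf (nat_lit 9236) [nat_lit 66, nat_lit 154, nat_lit 44, nat_lit 154, nat_lit 66, nat_lit 132, nat_lit 44, nat_lit 132, nat_lit 66, nat_lit 88, nat_lit 44, nat_lit 154, nat_lit 66, nat_lit 154, nat_lit 44, nat_lit 132, nat_lit 66, nat_lit 132, nat_lit 44, nat_lit 88])
noncomputable def r315 : WT := (.node (nat_lit 29) (.node (nat_lit 28) (.leaf (nat_lit 6147) [nat_lit 44, nat_lit 88, nat_lit 66, nat_lit 110, nat_lit 44]) r312) (.node (nat_lit 30) r313 r314))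
noncomputable def r316 : WT := (.leaf (nat_lit 9240) [nat_lit 44, nat_lit 154, nat_lit 66, nat_lit 132, nat_lit 44, nat_lit 132, nat_lit 66, nat_lit 88, nat_lit 44, nat_lit 154, nat_lit 66, nat_lit 154, nat_lit 44, nat_lit 132, nat_lit 66, nat_lit 132, nat_lit 44, nat_lit 88, nat_lit 66, nat_lit 154])
noncomputable def r317 : WT := (.leaf (nat_lit 9252) [nat_lit 66, nat_lit 88, nat_lit 44, nat_lit 154, nat_lit 66, nat_lit 154, nat_lit 44, nat_lit 132, nat_lit 66, nat_lit 132, nat_lit 44, nat_lit 88, nat_lit 66, nat_lit 154, nat_lit 44, nat_lit 154, nat_lit 66, nat_lit 132, nat_lit 44, nat_lit 132])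
noncomputable def r318 : WT := (.leaf (nat_lit 9221) [nat_lit 154, nat_lit 66, nat_lit 154, nat_lit 44, nat_lit 132, nat_lit 66, nat_lit 132, nat_lit 44, nat_lit 110, nat_lit 66, nat_lit 154, nat_lit 44, nat_lit 154, nat_lit 66, nat_lit 132, nat_lit 44, nat_lit 132, nat_lit 66, nat_lit 110, nat_lit 44])
noncomputable def r319 : WT := (.node (nat_lit 32) r316 (.node (nat_lit 33) r317 r318))
noncomputable def r320 : WT := (.leaf (nat_lit 9231) [nat_lit 66, nat_lit 132, nat_lit 44, nat_lit 110, nat_lit 66, nat_lit 154, nat_lit 44, nat_lit 154, nat_lit 66, nat_lit 132, nat_lit 44, nat_lit 132, nat_lit 66, nat_lit 110, nat_lit 44, nat_lit 154, nat_lit 66, nat_lit 154, nat_lit 44, nat_lit 132])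
noncomputable def r321 : WT := (.leaf (nat_lit 11295) [nat_lit 132, nat_lit 66, nat_lit 154, nat_lit 110, nat_lit 44, nat_lit 110, nat_lit 66, nat_lit 88, nat_lit 132, nat_lit 44, nat_lit 154, nat_lit 66, nat_lit 132, nat_lit 110, nat_lit 44, nat_lit 154, nat_lit 66, nat_lit 88, nat_lit 154, nat_lit 44])
noncomputable def r322 : WT := (.leaf (nat_lit 9241) [nat_lit 154, nat_lit 44, nat_lit 154, nat_lit 66, nat_lit 132, nat_lit 44, nat_lit 132, nat_lit 66, nat_lit 110, nat_lit 44, nat_lit 154, nat_lit 66, nat_lit 154, nat_lit 44, nat_lit 132, nat_lit 66, nat_lit 132, nat_lit 44, nat_lit 110, nat_lit 66])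
noncomputable def r323 : WT := (.leaf (nat_lit 9249) [nat_lit 132, nat_lit 44, nat_lit 132, nat_lit 66, nat_lit 110, nat_lit 44, nat_lit 154, nat_lit 66, nat_lit 154, nat_lit 44, nat_lit 132, nat_lit 66, nat_lit 132, nat_lit 44, nat_lit 110, nat_lit 66, nat_lit 154, nat_lit 44, nat_lit 154, nat_lit 66])
noncomputable def r324 : WT := (.node (nat_lit 36) (.node (nat_lit 35) r320 r321) (.node (nat_lit 37) r322 r323))
noncomputable def r325 : WT := (.leaf (nat_lit 10272) [nat_lit 66, nat_lit 154, nat_lit 66, nat_lit 110, nat_lit 44, nat_lit 132, nat_lit 44, nat_lit 132, nat_lit 44, nat_lit 132, nat_lit 44, nat_lit 132, nat_lit 44, nat_lit 88, nat_lit 66, nat_lit 154, nat_lit 66, nat_lit 154, nat_lit 66, nat_lit 154])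
noncomputable def r326 : WT := (.leaf (nat_lit 10245) [nat_lit 132, nat_lit 44, nat_lit 132, nat_lit 44, nat_lit 132, nat_lit 44, nat_lit 132, nat_lit 44, nat_lit 110, nat_lit 66, nat_lit 154, nat_lit 66, nat_lit 154, nat_lit 66, nat_lit 154, nat_lit 66, nat_lit 154, nat_lit 66, nat_lit 88, nat_lit 44])
noncomputable def r327 : WT := (.leaf (nat_lit 10257) [nat_lit 132, nat_lit 44, nat_lit 110, nat_lit 66, nat_lit 154, nat_lit 66, nat_lit 154, nat_lit 66, nat_lit 154, nat_lit 66, nat_lit 154, nat_lit 66, nat_lit 88, nat_lit 44, nat_lit 132, nat_lit 44, nat_lit 132, nat_lit 44, nat_lit 132, nat_lit 44])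
noncomputable def r328 : WT := (.node (nat_lit 39) r325 (.node (nat_lit 40) r326 r327))
noncomputable def r329 : WT := (.leaf (nat_lit 11284) [nat_lit 66, nat_lit 88, nat_lit 154, nat_lit 44, nat_lit 132, nat_lit 66, nat_lit 154, nat_lit 110, nat_lit 44, nat_lit 88, nat_lit 66, nat_lit 88, nat_lit 132, nat_lit 44, nat_lit 154, nat_lit 66, nat_lit 132, nat_lit 110, nat_lit 44, nat_lit 132])
noncomputable def r330 : WT := (.leaf (nat_lit 11290) [nat_lit 44, nat_lit 132, nat_lit 66, nat_lit 154, nat_lit 110, nat_lit 44, nat_lit 88, nat_lit 66, nat_lit 88, nat_lit 132, nat_lit 44, nat_lit 154, nat_lit 66, nat_lit 132, nat_lit 110, nat_lit 44, nat_lit 132, nat_lit 66, nat_lit 88, nat_lit 154])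
noncomputable def r331 : WT := (.leaf (nat_lit 11283) [nat_lit 44, nat_lit 154, nat_lit 66, nat_lit 88, nat_lit 154, nat_lit 44, nat_lit 132, nat_lit 66, nat_lit 154, nat_lit 110, nat_lit 44, nat_lit 110, nat_lit 66, nat_lit 88, nat_lit 132, nat_lit 44, nat_lit 154, nat_lit 66, nat_lit 132, nat_lit 110])
noncomputable def r332 : WT := (.node (nat_lit 43) (.node (nat_lit 42) r329 r330) (.node (nat_lit 44) (.leaf (nat_lit 4097) [nat_lit 110, nat_lit 110, nat_lit 110]) r331))
noncomputable def wP : WT := (.node (nat_lit 18) (.node (nat_lit 6) (.node (nat_lit 3) (.node (nat_lit 1) r277 r280) (.node (nat_lit 4) r281 r284)) (.node (nat_lit 11) (.node (nat_lit 8) r287 r291) (.node (nat_lit 14) r295 r300))) (.node (nat_lit 31) (.node (nat_lit 24) (.node (nat_lit 21) r304 r308) (.node (nat_lit 27) r311 r315)) (.node (nat_lit 38) (.node (nat_lit 34) r319 r324) (.node (nat_lit 41) r328 r332))))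
noncomputable def P : Par := ⟨tb, nat_lit 176, nat_lit 0xffffffffffffffffffffffffffffffffffffffffffff, nat_lit 4252, nat_lit 4194303, nat_lit 8191, nat_lit 22, nat_lit 13, nat_lit 3840,
  [nat_lit 44, nat_lit 66, nat_lit 88, nat_lit 110, nat_lit 132, nat_lit 154], [nat_lit 44, nat_lit 88], wP,
  (.cons (nat_lit 44) w0 (.cons (nat_lit 66) w1 (.cons (nat_lit 88) w2 (.cons (nat_lit 110) w3 (.cons (nat_lit 132) w4 (.cons (nat_lit 154) w5 .nil)))))),
  .nil⟩

end Cfsg.Agent.Lib.TCOP2
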