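import Cfsg.Agent.Lib.TCOP3D0

set_option autoImplicit false
set_option maxRecDepth 100000

namespace Cfsg.Agent.Lib.TCOP3
open Cfsg.Agent.Lib.TCCore

noncomputable def n0 : T := (.node (nat_lit 104) l0 l1)
noncomputable def n1 : T := (.node (nat_lit 312) l2 (.node (nat_lit 416) l3 l4))
noncomputable def n2 : T := (.node (nat_lit 624) l5 l6)
noncomputable def n3 : T := (.node (nat_lit 832) l7 (.node (nat_lit 936) l8 l9))
noncomputable def n4 : T := (.node (nat_lit 1144) l10 l11)
noncomputable def n5 : T := (.node (nat_lit 1352) l12 (.node (nat_lit 1456) l13 l14))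
noncomputable def n6 : T := (.node (nat_lit 1664) l15 (.node (nat_lit 1768) l16 l17))
noncomputable def n7 : T := (.node (nat_lit 1976) l18 (.node (nat_lit 2080) l19 l20))
noncomputable def n8 : T := (.node (nat_lit 2288) l21 l22)
noncomputable def n9 : T := (.node (nat_lit 2496) l23 (.node (nat_lit 2600) l24 l25))
noncomputable def n10 : T := (.node (nat_lit 2808) l26 l27)
noncomputable def n11 : T := (.node (nat_lit 3016) l28 (.node (nat_lit 3120) l29 l30))
noncomputable def n12 : T := (.node (nat_lit 3328) l31 l32)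
noncomputable def n13 : T := (.node (nat_lit 3536) l33 (.node (nat_lit 3640) l34 l35))
noncomputable def n14 : T := (.node (nat_lit 3848) l36 (.node (nat_lit 3952) l37 l38))
noncomputable def n15 : T := (.node (nat_lit 4160) l39 (.node (nat_lit 4264) l40 l41))
noncomputable def n16 : T := (.node (nat_lit 4472) l42 l43)
noncomputable def n17 : T := (.node (nat_lit 4680) l44 (.node (nat_lit 4784) l45 l46))
noncomputable def n18 : T := (.node (nat_lit 4992) l47 l48)
noncomputable def n19 : T := (.node (nat_lit 5200) l49 (.node (nat_lit 5304) l50 l51))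
noncomputable def n20 : T := (.node (nat_lit 5512) l52 l53)
noncomputable def n21 : T := (.node (nat_lit 5720) l54 (.node (nat_lit 5824) l55 l56))
noncomputable def n22 : T := (.node (nat_lit 6032) l57 (.node (nat_lit 6136) l58 l59))
noncomputable def n23 : T := (.node (nat_lit 6344) l60 (.node (nat_lit 6448) l61 l62))
noncomputable def n24 : T := (.node (nat_lit 6656) l63 l64)
noncomputable def n25 : T := (.node (nat_lit 6864) l65 (.node (nat_lit 6968) l66 l67))
noncomputable def n26 : T := (.node (nat_lit 7176) l68 (.node (nat_lit 7280) l69 l70))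
noncomputable def n27 : T := (.node (nat_lit 7488) l71 (.node (nat_lit 7592) l72 l73))
noncomputable def n28 : T := (.node (nat_lit 7800) l74 l75)
noncomputable def n29 : T := (.node (nat_lit 8008) l76 (.node (nat_lit 8112) l77 l78))
noncomputable def n30 : T := (.node (nat_lit 8320) l79 (.node (nat_lit 8424) l80 l81))
noncomputable def n31 : T := (.node (nat_lit 8632) l82 (.node (nat_lit 8736) l83 l84))
noncomputable def tb : T := (.node (nat_lit 4368) (.node (nat_lit 2184) (.node (nat_lit 1040) (.node (nat_lit 520) (.node (nat_lit 208) n0 n1) (.node (nat_lit 728) n2 n3)) (.node (nat_lit 1560) (.node (nat_lit 1248) n4 n5) (.node (nat_lit 1872) n6 n7))) (.node (nat_lit 3224) (.node (nat_lit 2704) (.node (nat_lit 2392) n8 n9) (.node (nat_lit 2912) n10 n11)) (.node (nat_lit 3744) (.node (nat_lit 3432) n12 n13) (.node (nat_lit 4056) n14 n15)))) (.node (nat_lit 6552) (.node (nat_lit 5408) (.node (nat_lit 4888) (.node (nat_lit 4576) n16 n17) (.node (nat_lit 5096)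 n18 n19)) (.node (nat_lit 5928) (.node (nat_lit 5616) n20 n21) (.node (nat_lit 6240) n22 n23))) (.node (nat_lit 7696) (.node (nat_lit 7072) (.node (nat_lit 6760) n24 n25) (.node (nat_lit 7384) n26 n27)) (.node (nat_lit 8216) (.node (nat_lit 7904) n28 n29) (.node (nat_lit 8528) n30 n31)))))
noncomputable def r0 : WT := (.leaf (nat_lit 9232) [nat_lit 92, nat_lit 69, nat_lit 161, nat_lit 46, nat_lit 161, nat_lit 69, nat_lit 138, nat_lit 46, nat_lit 138, nat_lit 69, nat_lit 92, nat_lit 46, nat_lit 161, nat_lit 69, nat_lit 161, nat_lit 46, nat_lit 138, nat_lit 69, nat_lit 138])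
noncomputable def r1 : WT := (.node (nat_lit 4) (.leaf (nat_lit 6145) [nat_lit 46, nat_lit 92, nat_lit 69, nat_lit 115]) (.node (nat_lit 5) r0 (.leaf (nat_lit 3072) [nat_lit 46, nat_lit 46, nat_lit 46, nat_lit 46, nat_lit 46, nat_lit 46])))
noncomputable def r2 : WT := (.leaf (nat_lit 9248) [nat_lit 138, nat_lit 69, nat_lit 92, nat_lit 46, nat_lit 161, nat_lit 69, nat_lit 161, nat_lit 46, nat_lit 138, nat_lit 69, nat_lit 138, nat_lit 46, nat_lit 92, nat_lit 69, nat_lit 161, nat_lit 46, nat_lit 161, nat_lit 69, nat_lit 138])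
noncomputable def r3 : WT := (.leaf (nat_lit 8196) [nat_lit 161, nat_lit 46, nat_lit 161, nat_lit 46, nat_lit 161, nat_lit 46, nat_lit 92, nat_lit 69, nat_lit 138, nat_lit 69, nat_lit 138, nat_lit 69, nat_lit 138, nat_lit 69, nat_lit 138, nat_lit 69, nat_lit 115, nat_lit 46, nat_lit 161])
noncomputable def r4 : WT := (.leaf (nat_lit 11270) [nat_lit 161, nat_lit 69, nat_lit 138, nat_lit 115, nat_lit 46, nat_lit 138, nat_lit 69, nat_lit 92, nat_lit 161, nat_lit 46, nat_lit 138, nat_lit 69, nat_lit 161, nat_lit 115, nat_lit 46, nat_lit 92, nat_lit 69, nat_lit 92, nat_lit 138])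
noncomputable def r5 : WT := (.leaf (nat_lit 11280) [nat_lit 138, nat_lit 69, nat_lit 92, nat_lit 161, nat_lit 46, nat_lit 138, nat_lit 69, nat_lit 161, nat_lit 115, nat_lit 46, nat_lit 92, nat_lit 69, nat_lit 92, nat_lit 138, nat_lit 46, nat_lit 161, nat_lit 69, nat_lit 138, nat_lit 115])
noncomputable def r6 : WT := (.leaf (nat_lit 11293) [nat_lit 138, nat_lit 69, nat_lit 161, nat_lit 115, nat_lit 46, nat_lit 115, nat_lit 69, nat_lit 92, nat_lit 138, nat_lit 46, nat_lit 161, nat_lit 69, nat_lit 138, nat_lit 115, nat_lit 46, nat_lit 161, nat_lit 69, nat_lit 92, nat_lit 161])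
noncomputable def r7 : WT := (.leaf (nat_lit 11290) [nat_lit 138, nat_lit 69, nat_lit 161, nat_lit 115, nat_lit 46, nat_lit 92, nat_lit 69, nat_lit 92, nat_lit 138, nat_lit 46, nat_lit 161, nat_lit 69, nat_lit 138, nat_lit 115, nat_lit 46, nat_lit 138, nat_lit 69, nat_lit 92, nat_lit 161])
noncomputable def r8 : WT := (.node (nat_lit 11) r6 r7)
noncomputable def r9 : WT := (.leaf (nat_lit 8199) [nat_lit 161, nat_lit 46, nat_lit 161, nat_lit 46, nat_lit 161, nat_lit 46, nat_lit 115, nat_lit 69, nat_lit 138, nat_lit 69, nat_lit 138, nat_lit 69, nat_lit 138, nat_lit 69, nat_lit 138, nat_lit 69, nat_lit 92, nat_lit 46, nat_lit 161])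
noncomputable def r10 : WT := (.leaf (nat_lit 12317) [nat_lit 138, nat_lit 69, nat_lit 161, nat_lit 115, nat_lit 46, nat_lit 138, nat_lit 69, nat_lit 92, nat_lit 138, nat_lit 46, nat_lit 161, nat_lit 69, nat_lit 138, nat_lit 115, nat_lit 46, nat_lit 115, nat_lit 69, nat_lit 92, nat_lit 161])
noncomputable def r11 : WT := (.node (nat_lit 13) r9 r10)
noncomputable def r12 : WT := (.leaf (nat_lit 11273) [nat_lit 161, nat_lit 69, nat_lit 138, nat_lit 115, nat_lit 46, nat_lit 161, nat_lit 69, nat_lit 92, nat_lit 161, nat_lit 46, nat_lit 138, nat_lit 69, nat_lit 161, nat_lit 115, nat_lit 46, nat_lit 115, nat_lit 69, nat_lit 92, nat_lit 138])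
noncomputable def r13 : WT := (.leaf (nat_lit 9224) [nat_lit 138, nat_lit 69, nat_lit 138, nat_lit 46, nat_lit 92, nat_lit 69, nat_lit 161, nat_lit 46, nat_lit 161, nat_lit 69, nat_lit 138, nat_lit 46, nat_lit 138, nat_lit 69, nat_lit 92, nat_lit 46, nat_lit 161, nat_lit 69, nat_lit 161])
noncomputable def r14 : WT := (.node (nat_lit 15) r12 r13)
noncomputable def r15 : WT := (.leaf (nat_lit 10244) [nat_lit 138, nat_lit 46, nat_lit 138, nat_lit 46, nat_lit 138, nat_lit 46, nat_lit 92, nat_lit 69, nat_lit 161, nat_lit 69, nat_lit 161, nat_lit 69, nat_lit 161, nat_lit 69, nat_lit 161, nat_lit 69, nat_lit 115, nat_lit 46, nat_lit 138])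
noncomputable def r16 : WT := (.leaf (nat_lit 10247) [nat_lit 138, nat_lit 46, nat_lit 138, nat_lit 46, nat_lit 138, nat_lit 46, nat_lit 115, nat_lit 69, nat_lit 161, nat_lit 69, nat_lit 161, nat_lit 69, nat_lit 161, nat_lit 69, nat_lit 161, nat_lit 69, nat_lit 92, nat_lit 46, nat_lit 138])
noncomputable def r17 : WT := (.node (nat_lit 17) r15 r16)
noncomputable def r18 : WT := (.leaf (nat_lit 9240) [nat_lit 161, nat_lit 69, nat_lit 138, nat_lit 46, nat_lit 138, nat_lit 69, nat_lit 92, nat_lit 46, nat_lit 161, nat_lit 69, nat_lit 161, nat_lit 46, nat_lit 138, nat_lit 69, nat_lit 138, nat_lit 46, nat_lit 92, nat_lit 69, nat_lit 161])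
noncomputable def r19 : WT := (.leaf (nat_lit 12297) [nat_lit 161, nat_lit 69, nat_lit 138, nat_lit 115, nat_lit 46, nat_lit 115, nat_lit 69, nat_lit 92, nat_lit 161, nat_lit 46, nat_lit 138, nat_lit 69, nat_lit 161, nat_lit 115, nat_lit 46, nat_lit 138, nat_lit 69, nat_lit 92, nat_lit 138])
noncomputable def r20 : WT := (.leaf (nat_lit 8200) [nat_lit 161, nat_lit 46, nat_lit 161, nat_lit 46, nat_lit 92, nat_lit 69, nat_lit 138, nat_lit 69, nat_lit 138, nat_lit 69, nat_lit 138, nat_lit 69, nat_lit 138, nat_lit 69, nat_lit 115, nat_lit 46, nat_lit 161, nat_lit 46, nat_lit 161])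
noncomputable def r21 : WT := (.node (nat_lit 19) r18 (.node (nat_lit 20) r19 r20))
noncomputable def r22 : WT := (.leaf (nat_lit 12294) [nat_lit 161, nat_lit 69, nat_lit 138, nat_lit 115, nat_lit 46, nat_lit 92, nat_lit 69, nat_lit 92, nat_lit 161, nat_lit 46, nat_lit 138, nat_lit 69, nat_lit 161, nat_lit 115, nat_lit 46, nat_lit 161, nat_lit 69, nat_lit 92, nat_lit 138])
noncomputable def r23 : WT := (.leaf (nat_lit 12324) [nat_lit 161, nat_lit 69, nat_lit 92, nat_lit 138, nat_lit 46, nat_lit 161, nat_lit 69, nat_lit 138, nat_lit 115, nat_lit 46, nat_lit 92, nat_lit 69, nat_lit 92, nat_lit 161, nat_lit 46, nat_lit 138, nat_lit 69, nat_lit 161, nat_lit 115])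
noncomputable def r24 : WT := (.leaf (nat_lit 13336) [nat_lit 92, nat_lit 138, nat_lit 46, nat_lit 115, nat_lit 138, nat_lit 46, nat_lit 115, nat_lit 138, nat_lit 46, nat_lit 115, nat_lit 138, nat_lit 46, nat_lit 115, nat_lit 138, nat_lit 46, nat_lit 115, nat_lit 138, nat_lit 46, nat_lit 92, nat_lit 138, nat_lit 46, nat_lit 92, nat_lit 138, nat_lit 46, nat_lit 92, nat_lit 138, nat_lit 46, nat_lit 92, nat_lit 138])
noncomputable def r25 : WT := (.node (nat_lit 22) r22 (.node (nat_lit 23) r23 r24))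
noncomputable def r26 : WT := (.leaf (nat_lit 13348) [nat_lit 115, nat_lit 138, nat_lit 46, nat_lit 115, nat_lit 138, nat_lit 46, nat_lit 115, nat_lit 138, nat_lit 46, nat_lit 115, nat_lit 138, nat_lit 46, nat_lit 92, nat_lit 138, nat_lit 46, nat_lit 92, nat_lit 138, nat_lit 46, nat_lit 92, nat_lit 138, nat_lit 46, nat_lit 92, nat_lit 138, nat_lit 46, nat_lit 92, nat_lit 138, nat_lit 46, nat_lit 115, nat_lit 138])
noncomputable def r27 : WT := (.leaf (nat_lit 13366) [nat_lit 115, nat_lit 138, nat_lit 46, nat_lit 92, nat_lit 138, nat_lit 46, nat_lit 92, nat_lit 138, nat_lit 46, nat_lit 92, nat_lit 138, nat_lit 46, nat_lit 92, nat_lit 138, nat_lit 46, nat_lit 92, nat_lit 138, nat_lit 46, nat_lit 115, nat_lit 138, nat_lit 46, nat_lit 115, nat_lit 138, nat_lit 46, nat_lit 115, nat_lit 138, nat_lit 46, nat_lit 115, nat_lit 138])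
noncomputable def r28 : WT := (.leaf (nat_lit 9227) [nat_lit 138, nat_lit 69, nat_lit 138, nat_lit 46, nat_lit 115, nat_lit 69, nat_lit 161, nat_lit 46, nat_lit 161, nat_lit 69, nat_lit 138, nat_lit 46, nat_lit 138, nat_lit 69, nat_lit 115, nat_lit 46, nat_lit 161, nat_lit 69, nat_lit 161])
noncomputable def r29 : WT := (.node (nat_lit 25) r26 (.node (nat_lit 26) r27 r28))
noncomputable def r30 : WT := (.leaf (nat_lit 8207) [nat_lit 161, nat_lit 46, nat_lit 115, nat_lit 69, nat_lit 138, nat_lit 69, nat_lit 138, nat_lit 69, nat_lit 138, nat_lit 69, nat_lit 138, nat_lit 69, nat_lit 92, nat_lit 46, nat_lit 161, nat_lit 46, nat_lit 161, nat_lit 46, nat_lit 161])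
noncomputable def r31 : WT := (.leaf (nat_lit 10248) [nat_lit 138, nat_lit 46, nat_lit 138, nat_lit 46, nat_lit 92, nat_lit 69, nat_lit 161, nat_lit 69, nat_lit 161, nat_lit 69, nat_lit 161, nat_lit 69, nat_lit 161, nat_lit 69, nat_lit 115, nat_lit 46, nat_lit 138, nat_lit 46, nat_lit 138])
noncomputable def r32 : WT := (.leaf (nat_lit 13354) [nat_lit 115, nat_lit 138, nat_lit 46, nat_lit 115, nat_lit 138, nat_lit 46, nat_lit 115, nat_lit 138, nat_lit 46, nat_lit 92, nat_lit 138, nat_lit 46, nat_lit 92, nat_lit 138, nat_lit 46, nat_lit 92, nat_lit 138, nat_lit 46, nat_lit 92, nat_lit 138, nat_lit 46, nat_lit 92, nat_lit 138, nat_lit 46, nat_lit 115, nat_lit 138, nat_lit 46, nat_lit 115, nat_lit 138])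
noncomputable def r33 : WT := (.leaf (nat_lit 8204) [nat_lit 161, nat_lit 46, nat_lit 92, nat_lit 69, nat_lit 138, nat_lit 69, nat_lit 138, nat_lit 69, nat_lit 138, nat_lit 69, nat_lit 138, nat_lit 69, nat_lit 115, nat_lit 46, nat_lit 161, nat_lit 46, nat_lit 161, nat_lit 46, nat_lit 161])
noncomputable def r34 : WT := (.leaf (nat_lit 9251) [nat_lit 138, nat_lit 69, nat_lit 115, nat_lit 46, nat_lit 161, nat_lit 69, nat_lit 161, nat_lit 46, nat_lit 138, nat_lit 69, nat_lit 138, nat_lit 46, nat_lit 115, nat_lit 69, nat_lit 161, nat_lit 46, nat_lit 161, nat_lit 69, nat_lit 138])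
noncomputable def r35 : WT := (.node (nat_lit 29) (.node (nat_lit 28) r30 r31) (.node (nat_lit 30) r32 (.node (nat_lit 31) r33 r34)))
noncomputable def r36 : WT := (.leaf (nat_lit 8208) [nat_lit 92, nat_lit 69, nat_lit 138, nat_lit 69, nat_lit 138, nat_lit 69, nat_lit 138, nat_lit 69, nat_lit 138, nat_lit 69, nat_lit 115, nat_lit 46, nat_lit 161, nat_lit 46, nat_lit 161, nat_lit 46, nat_lit 161, nat_lit 46, nat_lit 161])
noncomputable def r37 : WT := (.leaf (nat_lit 13330) [nat_lit 92, nat_lit 138, nat_lit 46, nat_lit 92, nat_lit 138, nat_lit 46, nat_lit 115, nat_lit 138, nat_lit 46, nat_lit 115, nat_lit 138, nat_lit 46, nat_lit 115, nat_lit 138, nat_lit 46, nat_lit 115, nat_lit 138, nat_lit 46, nat_lit 115, nat_lit 138, nat_lit 46, nat_lit 92, nat_lit 138, nat_lit 46, nat_lit 92, nat_lit 138, nat_lit 46, nat_lit 92, nat_lit 138])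
noncomputable def r38 : WT := (.leaf (nat_lit 11283) [nat_lit 161, nat_lit 69, nat_lit 92, nat_lit 161, nat_lit 46, nat_lit 138, nat_lit 69, nat_lit 161, nat_lit 115, nat_lit 46, nat_lit 115, nat_lit 69, nat_lit 92, nat_lit 138, nat_lit 46, nat_lit 161, nat_lit 69, nat_lit 138, nat_lit 115])
noncomputable def r39 : WT := (.leaf (nat_lit 9219) [nat_lit 161, nat_lit 69, nat_lit 161, nat_lit 46, nat_lit 138, nat_lit 69, nat_lit 138, nat_lit 46, nat_lit 115, nat_lit 69, nat_lit 161, nat_lit 46, nat_lit 161, nat_lit 69, nat_lit 138, nat_lit 46, nat_lit 138, nat_lit 69, nat_lit 115])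
noncomputable def r40 : WT := (.leaf (nat_lit 10252) [nat_lit 138, nat_lit 46, nat_lit 92, nat_lit 69, nat_lit 161, nat_lit 69, nat_lit 161, nat_lit 69, nat_lit 161, nat_lit 69, nat_lit 161, nat_lit 69, nat_lit 115, nat_lit 46, nat_lit 138, nat_lit 46, nat_lit 138, nat_lit 46, nat_lit 138])
noncomputable def r41 : WT := (.node (nat_lit 34) (.node (nat_lit 33) r36 r37) (.node (nat_lit 35) r38 (.node (nat_lit 36) r39 r40)))
noncomputable def r42 : WT := (.leaf (nat_lit 12304) [nat_lit 92, nat_lit 69, nat_lit 92, nat_lit 161, nat_lit 46, nat_lit 138, nat_lit 69, nat_lit 161, nat_lit 115, nat_lit 46, nat_lit 161, nat_lit 69, nat_lit 92, nat_lit 138, nat_lit 46, nat_lit 161, nat_lit 69, nat_lit 138, nat_lit 115])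
noncomputable def r43 : WT := (.leaf (nat_lit 12314) [nat_lit 138, nat_lit 69, nat_lit 161, nat_lit 115, nat_lit 46, nat_lit 161, nat_lit 69, nat_lit 92, nat_lit 138, nat_lit 46, nat_lit 161, nat_lit 69, nat_lit 138, nat_lit 115, nat_lit 46, nat_lit 92, nat_lit 69, nat_lit 92, nat_lit 161])
noncomputable def r44 : WT := (.leaf (nat_lit 12327) [nat_lit 138, nat_lit 69, nat_lit 92, nat_lit 138, nat_lit 46, nat_lit 161, nat_lit 69, nat_lit 138, nat_lit 115, nat_lit 46, nat_lit 115, nat_lit 69, nat_lit 92, nat_lit 161, nat_lit 46, nat_lit 138, nat_lit 69, nat_lit 161, nat_lit 115])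
noncomputable def r45 : WT := (.leaf (nat_lit 13360) [nat_lit 115, nat_lit 138, nat_lit 46, nat_lit 115, nat_lit 138, nat_lit 46, nat_lit 92, nat_lit 138, nat_lit 46, nat_lit 92, nat_lit 138, nat_lit 46, nat_lit 92, nat_lit 138, nat_lit 46, nat_lit 92, nat_lit 138, nat_lit 46, nat_lit 92, nat_lit 138, nat_lit 46, nat_lit 115, nat_lit 138, nat_lit 46, nat_lit 115, nat_lit 138, nat_lit 46, nat_lit 115, nat_lit 138])
noncomputable def r46 : WT := (.leaf (nat_lit 9216) [nat_lit 161, nat_lit 69, nat_lit 161, nat_lit 46, nat_lit 138, nat_lit 69, nat_lit 138, nat_lit 46, nat_lit 92, nat_lit 69, nat_lit 161, nat_lit 46, nat_lit 161, nat_lit 69, nat_lit 138, nat_lit 46, nat_lit 138, nat_lit 69, nat_lit 92])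
noncomputable def r47 : WT := (.leaf (nat_lit 13324) [nat_lit 92, nat_lit 138, nat_lit 46, nat_lit 92, nat_lit 138, nat_lit 46, nat_lit 92, nat_lit 138, nat_lit 46, nat_lit 115, nat_lit 138, nat_lit 46, nat_lit 115, nat_lit 138, nat_lit 46, nat_lit 115, nat_lit 138, nat_lit 46, nat_lit 115, nat_lit 138, nat_lit 46, nat_lit 115, nat_lit 138, nat_lit 46, nat_lit 92, nat_lit 138, nat_lit 46, nat_lit 92, nat_lit 138])
noncomputable def r48 : WT := (.leaf (nat_lit 8192) [nat_lit 161, nat_lit 46, nat_lit 161, nat_lit 46, nat_lit 161, nat_lit 46, nat_lit 161, nat_lit 46, nat_lit 92, nat_lit 69, nat_lit 138, nat_lit 69, nat_lit 138, nat_lit 69, nat_lit 138, nat_lit 69, nat_lit 138, nat_lit 69, nat_lit 115])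
noncomputable def r49 : WT := (.node (nat_lit 40) (.node (nat_lit 38) r42 (.node (nat_lit 39) r43 r44)) (.node (nat_lit 42) (.node (nat_lit 41) r45 r46) (.node (nat_lit 43) r47 r48)))
noncomputable def r50 : WT := (.leaf (nat_lit 8203) [nat_lit 161, nat_lit 46, nat_lit 161, nat_lit 46, nat_lit 115, nat_lit 69, nat_lit 138, nat_lit 69, nat_lit 138, nat_lit 69, nat_lit 138, nat_lit 69, nat_lit 138, nat_lit 69, nat_lit 92, nat_lit 46, nat_lit 161, nat_lit 46, nat_lit 161])
noncomputable def r51 : WT := (.leaf (nat_lit 8211) [nat_lit 115, nat_lit 69, nat_lit 138, nat_lit 69, nat_lit 138, nat_lit 69, nat_lit 138, nat_lit 69, nat_lit 138, nat_lit 69, nat_lit 92, nat_lit 46, nat_lit 161, nat_lit 46, nat_lit 161, nat_lit 46, nat_lit 161, nat_lit 46, nat_lit 161])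
noncomputable def r52 : WT := (.leaf (nat_lit 11303) [nat_lit 115, nat_lit 69, nat_lit 92, nat_lit 138, nat_lit 46, nat_lit 161, nat_lit 69, nat_lit 138, nat_lit 115, nat_lit 46, nat_lit 161, nat_lit 69, nat_lit 92, nat_lit 161, nat_lit 46, nat_lit 138, nat_lit 69, nat_lit 161, nat_lit 115])
noncomputable def r53 : WT := (.leaf (nat_lit 11300) [nat_lit 92, nat_lit 69, nat_lit 92, nat_lit 138, nat_lit 46, nat_lit 161, nat_lit 69, nat_lit 138, nat_lit 115, nat_lit 46, nat_lit 138, nat_lit 69, nat_lit 92, nat_lit 161, nat_lit 46, nat_lit 138, nat_lit 69, nat_lit 161, nat_lit 115])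
noncomputable def r54 : WT := (.leaf (nat_lit 9243) [nat_lit 161, nat_lit 69, nat_lit 138, nat_lit 46, nat_lit 138, nat_lit 69, nat_lit 115, nat_lit 46, nat_lit 161, nat_lit 69, nat_lit 161, nat_lit 46, nat_lit 138, nat_lit 69, nat_lit 138, nat_lit 46, nat_lit 115, nat_lit 69, nat_lit 161])
noncomputable def r55 : WT := (.leaf (nat_lit 10240) [nat_lit 138, nat_lit 46, nat_lit 138, nat_lit 46, nat_lit 138, nat_lit 46, nat_lit 138, nat_lit 46, nat_lit 92, nat_lit 69, nat_lit 161, nat_lit 69, nat_lit 161, nat_lit 69, nat_lit 161, nat_lit 69, nat_lit 161, nat_lit 69, nat_lit 115])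
noncomputable def r56 : WT := (.leaf (nat_lit 10259) [nat_lit 115, nat_lit 69, nat_lit 161, nat_lit 69, nat_lit 161, nat_lit 69, nat_lit 161, nat_lit 69, nat_lit 161, nat_lit 69, nat_lit 92, nat_lit 46, nat_lit 138, nat_lit 46, nat_lit 138, nat_lit 46, nat_lit 138, nat_lit 46, nat_lit 138])
noncomputable def r57 : WT := (.leaf (nat_lit 10255) [nat_lit 138, nat_lit 46, nat_lit 115, nat_lit 69, nat_lit 161, nat_lit 69, nat_lit 161, nat_lit 69, nat_lit 161, nat_lit 69, nat_lit 161, nat_lit 69, nat_lit 92, nat_lit 46, nat_lit 138, nat_lit 46, nat_lit 138, nat_lit 46, nat_lit 138])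
noncomputable def r58 : WT := (.leaf (nat_lit 10256) [nat_lit 92, nat_lit 69, nat_lit 161, nat_lit 69, nat_lit 161, nat_lit 69, nat_lit 161, nat_lit 69, nat_lit 161, nat_lit 69, nat_lit 115, nat_lit 46, nat_lit 138, nat_lit 46, nat_lit 138, nat_lit 46, nat_lit 138, nat_lit 46, nat_lit 138])
noncomputable def r59 : WT := (.node (nat_lit 48) (.node (nat_lit 46) (.node (nat_lit 45) r50 r51) (.node (nat_lit 47) r52 r53)) (.node (nat_lit 50) (.node (nat_lit 49) r54 r55) (.node (nat_lit 51) r56 (.node (nat_lit 52) r57 r58))))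
noncomputable def r60 : WT := (.node (nat_lit 16) (.node (nat_lit 9) (.node (nat_lit 7) r2 (.node (nat_lit 8) r3 r4)) (.node (nat_lit 12) (.node (nat_lit 10) r5 r8) (.node (nat_lit 14) r11 r14))) (.node (nat_lit 27) (.node (nat_lit 21) (.node (nat_lit 18) r17 r21) (.node (nat_lit 24) r25 r29)) (.node (nat_lit 37) (.node (nat_lit 32) r35 r41) (.node (nat_lit 44) r49 r59))))
noncomputable def w0 : WT := (.node (nat_lit 1) (.leaf (nat_lit 0) [nat_lit 69]) (.node (nat_lit 2) (.leaf (nat_lit 6147) [nat_lit 92, nat_lit 69, nat_lit 115, nat_lit 46]) (.node (nat_lit 3) (.leaf (nat_lit 6146) [nat_lit 115, nat_lit 69, nat_lit 69, nat_lit 92]) (.node (nat_lit 6) r1 r60))))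
noncomputable def r61 : WT := (.leaf (nat_lit 8216) [nat_lit 138, nat_lit 69, nat_lit 138, nat_lit 69, nat_lit 138, nat_lit 69, nat_lit 115, nat_lit 46, nat_lit 161, nat_lit 46, nat_lit 161, nat_lit 46, nat_lit 161, nat_lit 46, nat_lit 161, nat_lit 46, nat_lit 92, nat_lit 69, nat_lit 138])
noncomputable def r62 : WT := (.leaf (nat_lit 11297) [nat_lit 161, nat_lit 115, nat_lit 46, nat_lit 115, nat_lit 69, nat_lit 92, nat_lit 138, nat_lit 46, nat_lit 161, nat_lit 69, nat_lit 138, nat_lit 115, nat_lit 46, nat_lit 161, nat_lit 69, nat_lit 92, nat_lit 161, nat_lit 46, nat_lit 138])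
noncomputable def r63 : WT := (.leaf (nat_lit 9220) [nat_lit 161, nat_lit 46, nat_lit 138, nat_lit 69, nat_lit 138, nat_lit 46, nat_lit 92, nat_lit 69, nat_lit 161, nat_lit 46, nat_lit 161, nat_lit 69, nat_lit 138, nat_lit 46, nat_lit 138, nat_lit 69, nat_lit 92, nat_lit 46, nat_lit 161])
noncomputable def r64 : WT := (.leaf (nat_lit 11284) [nat_lit 92, nat_lit 161, nat_lit 46, nat_lit 138, nat_lit 69, nat_lit 161, nat_lit 115, nat_lit 46, nat_lit 92, nat_lit 69, nat_lit 92, nat_lit 138, nat_lit 46, nat_lit 161, nat_lit 69, nat_lit 138, nat_lit 115, nat_lit 46, nat_lit 138])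
noncomputable def r65 : WT := (.node (nat_lit 8) r63 r64)
noncomputable def r66 : WT := (.leaf (nat_lit 12298) [nat_lit 138, nat_lit 115, nat_lit 46, nat_lit 92, nat_lit 69, nat_lit 92, nat_lit 161, nat_lit 46, nat_lit 138, nat_lit 69, nat_lit 161, nat_lit 115, nat_lit 46, nat_lit 161, nat_lit 69, nat_lit 92, nat_lit 138, nat_lit 46, nat_lit 161])
noncomputable def r67 : WT := (.leaf (nat_lit 10267) [nat_lit 161, nat_lit 69, nat_lit 161, nat_lit 69, nat_lit 161, nat_lit 69, nat_lit 92, nat_lit 46, nat_lit 138, nat_lit 46, nat_lit 138, nat_lit 46, nat_lit 138, nat_lit 46, nat_lit 138, nat_lit 46, nat_lit 115, nat_lit 69, nat_lit 161])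
noncomputable def r68 : WT := (.node (nat_lit 10) r66 r67)
noncomputable def r69 : WT := (.leaf (nat_lit 9228) [nat_lit 138, nat_lit 46, nat_lit 92, nat_lit 69, nat_lit 161, nat_lit 46, nat_lit 161, nat_lit 69, nat_lit 138, nat_lit 46, nat_lit 138, nat_lit 69, nat_lit 92, nat_lit 46, nat_lit 161, nat_lit 69, nat_lit 161, nat_lit 46, nat_lit 138])
noncomputable def r70 : WT := (.leaf (nat_lit 9231) [nat_lit 138, nat_lit 46, nat_lit 115, nat_lit 69, nat_lit 161, nat_lit 46, nat_lit 161, nat_lit 69, nat_lit 138, nat_lit 46, nat_lit 138, nat_lit 69, nat_lit 115, nat_lit 46, nat_lit 161, nat_lit 69, nat_lit 161, nat_lit 46, nat_lit 138])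
noncomputable def r71 : WT := (.node (nat_lit 12) r69 r70)
noncomputable def r72 : WT := (.leaf (nat_lit 8220) [nat_lit 138, nat_lit 69, nat_lit 138, nat_lit 69, nat_lit 115, nat_lit 46, nat_lit 161, nat_lit 46, nat_lit 161, nat_lit 46, nat_lit 161, nat_lit 46, nat_lit 161, nat_lit 46, nat_lit 92, nat_lit 69, nat_lit 138, nat_lit 69, nat_lit 138])
noncomputable def r73 : WT := (.leaf (nat_lit 10268) [nat_lit 161, nat_lit 69, nat_lit 161, nat_lit 69, nat_lit 115, nat_lit 46, nat_lit 138, nat_lit 46, nat_lit 138, nat_lit 46, nat_lit 138, nat_lit 46, nat_lit 138, nat_lit 46, nat_lit 92, nat_lit 69, nat_lit 161, nat_lit 69, nat_lit 161])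
noncomputable def r74 : WT := (.node (nat_lit 14) r72 r73)
noncomputable def r75 : WT := (.leaf (nat_lit 8219) [nat_lit 138, nat_lit 69, nat_lit 138, nat_lit 69, nat_lit 138, nat_lit 69, nat_lit 92, nat_lit 46, nat_lit 161, nat_lit 46, nat_lit 161, nat_lit 46, nat_lit 161, nat_lit 46, nat_lit 161, nat_lit 46, nat_lit 115, nat_lit 69, nat_lit 138])
noncomputable def r76 : WT := (.leaf (nat_lit 8224) [nat_lit 138, nat_lit 69, nat_lit 115, nat_lit 46, nat_lit 161, nat_lit 46, nat_lit 161, nat_lit 46, nat_lit 161, nat_lit 46, nat_lit 161, nat_lit 46, nat_lit 92, nat_lit 69, nat_lit 138, nat_lit 69, nat_lit 138, nat_lit 69, nat_lit 138])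
noncomputable def r77 : WT := (.leaf (nat_lit 10275) [nat_lit 161, nat_lit 69, nat_lit 92, nat_lit 46, nat_lit 138, nat_lit 46, nat_lit 138, nat_lit 46, nat_lit 138, nat_lit 46, nat_lit 138, nat_lit 46, nat_lit 115, nat_lit 69, nat_lit 161, nat_lit 69, nat_lit 161, nat_lit 69, nat_lit 161])
noncomputable def r78 : WT := (.node (nat_lit 16) r75 (.node (nat_lit 17) r76 r77))
noncomputable def r79 : WT := (.leaf (nat_lit 10272) [nat_lit 161, nat_lit 69, nat_lit 115, nat_lit 46, nat_lit 138, nat_lit 46, nat_lit 138, nat_lit 46, nat_lit 138, nat_lit 46, nat_lit 138, nat_lit 46, nat_lit 92, nat_lit 69, nat_lit 161, nat_lit 69, nat_lit 161, nat_lit 69, nat_lit 161])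
noncomputable def r80 : WT := (.leaf (nat_lit 12318) [nat_lit 161, nat_lit 115, nat_lit 46, nat_lit 161, nat_lit 69, nat_lit 92, nat_lit 138, nat_lit 46, nat_lit 161, nat_lit 69, nat_lit 138, nat_lit 115, nat_lit 46, nat_lit 92, nat_lit 69, nat_lit 92, nat_lit 161, nat_lit 46, nat_lit 138])
noncomputable def r81 : WT := (.leaf (nat_lit 12291) [nat_lit 92, nat_lit 138, nat_lit 46, nat_lit 161, nat_lit 69, nat_lit 138, nat_lit 115, nat_lit 46, nat_lit 115, nat_lit 69, nat_lit 92, nat_lit 161, nat_lit 46, nat_lit 138, nat_lit 69, nat_lit 161, nat_lit 115, nat_lit 46, nat_lit 138])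
noncomputable def r82 : WT := (.node (nat_lit 19) r79 (.node (nat_lit 20) r80 r81))
noncomputable def r83 : WT := (.leaf (nat_lit 11287) [nat_lit 92, nat_lit 161, nat_lit 46, nat_lit 138, nat_lit 69, nat_lit 161, nat_lit 115, nat_lit 46, nat_lit 115, nat_lit 69, nat_lit 92, nat_lit 138, nat_lit 46, nat_lit 161, nat_lit 69, nat_lit 138, nat_lit 115, nat_lit 46, nat_lit 161])
noncomputable def r84 : WT := (.leaf (nat_lit 11277) [nat_lit 138, nat_lit 115, nat_lit 46, nat_lit 161, nat_lit 69, nat_lit 92, nat_lit 161, nat_lit 46, nat_lit 138, nat_lit 69, nat_lit 161, nat_lit 115, nat_lit 46, nat_lit 115, nat_lit 69, nat_lit 92, nat_lit 138, nat_lit 46, nat_lit 161])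
noncomputable def r85 : WT := (.leaf (nat_lit 13347) [nat_lit 161, nat_lit 115, nat_lit 69, nat_lit 161, nat_lit 115, nat_lit 69, nat_lit 161, nat_lit 115, nat_lit 69, nat_lit 161, nat_lit 115, nat_lit 69, nat_lit 161, nat_lit 92, nat_lit 69, nat_lit 161, nat_lit 92, nat_lit 69, nat_lit 161, nat_lit 92, nat_lit 69, nat_lit 161, nat_lit 92, nat_lit 69, nat_lit 161, nat_lit 92, nat_lit 69, nat_lit 161, nat_lit 115])
noncomputable def r86 : WT := (.node (nat_lit 22) r83 (.node (nat_lit 23) r84 r85))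
noncomputable def r87 : WT := (.leaf (nat_lit 13365) [nat_lit 161, nat_lit 115, nat_lit 69, nat_lit 161, nat_lit 92, nat_lit 69, nat_lit 161, nat_lit 92, nat_lit 69, nat_lit 161, nat_lit 92, nat_lit 69, nat_lit 161, nat_lit 92, nat_lit 69, nat_lit 161, nat_lit 92, nat_lit 69, nat_lit 161, nat_lit 115, nat_lit 69, nat_lit 161, nat_lit 115, nat_lit 69, nat_lit 161, nat_lit 115, nat_lit 69, nat_lit 161, nat_lit 115])
noncomputable def r88 : WT := (.leaf (nat_lit 13353) [nat_lit 161, nat_lit 115, nat_lit 69, nat_lit 161, nat_lit 115, nat_lit 69, nat_lit 161, nat_lit 115, nat_lit 69, nat_lit 161, nat_lit 92, nat_lit 69, nat_lit 161, nat_lit 92, nat_lit 69, nat_lit 161, nat_lit 92, nat_lit 69, nat_lit 161, nat_lit 92, nat_lit 69, nat_lit 161, nat_lit 92, nat_lit 69, nat_lit 161, nat_lit 115, nat_lit 69, nat_lit 161, nat_lit 115])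
noncomputable def r89 : WT := (.leaf (nat_lit 11264) [nat_lit 92, nat_lit 138, nat_lit 46, nat_lit 161, nat_lit 69, nat_lit 138, nat_lit 115, nat_lit 46, nat_lit 138, nat_lit 69, nat_lit 92, nat_lit 161, nat_lit 46, nat_lit 138, nat_lit 69, nat_lit 161, nat_lit 115, nat_lit 46, nat_lit 92])
noncomputable def r90 : WT := (.leaf (nat_lit 9244) [nat_lit 138, nat_lit 46, nat_lit 138, nat_lit 69, nat_lit 92, nat_lit 46, nat_lit 161, nat_lit 69, nat_lit 161, nat_lit 46, nat_lit 138, nat_lit 69, nat_lit 138, nat_lit 46, nat_lit 92, nat_lit 69, nat_lit 161, nat_lit 46, nat_lit 161])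
noncomputable def r91 : WT := (.node (nat_lit 26) (.node (nat_lit 25) r87 r88) (.node (nat_lit 27) r89 r90))
noncomputable def r92 : WT := (.leaf (nat_lit 12288) [nat_lit 92, nat_lit 138, nat_lit 46, nat_lit 161, nat_lit 69, nat_lit 138, nat_lit 115, nat_lit 46, nat_lit 92, nat_lit 69, nat_lit 92, nat_lit 161, nat_lit 46, nat_lit 138, nat_lit 69, nat_lit 161, nat_lit 115, nat_lit 46, nat_lit 161])
noncomputable def r93 : WT := (.leaf (nat_lit 10264) [nat_lit 161, nat_lit 69, nat_lit 161, nat_lit 69, nat_lit 161, nat_lit 69, nat_lit 115, nat_lit 46, nat_lit 138, nat_lit 46, nat_lit 138, nat_lit 46, nat_lit 138, nat_lit 46, nat_lit 138, nat_lit 46, nat_lit 92, nat_lit 69, nat_lit 161])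
noncomputable def r94 : WT := (.leaf (nat_lit 8227) [nat_lit 138, nat_lit 69, nat_lit 92, nat_lit 46, nat_lit 161, nat_lit 46, nat_lit 161, nat_lit 46, nat_lit 161, nat_lit 46, nat_lit 161, nat_lit 46, nat_lit 115, nat_lit 69, nat_lit 138, nat_lit 69, nat_lit 138, nat_lit 69, nat_lit 138])
noncomputable def r95 : WT := (.leaf (nat_lit 13371) [nat_lit 161, nat_lit 92, nat_lit 69, nat_lit 161, nat_lit 92, nat_lit 69, nat_lit 161, nat_lit 92, nat_lit 69, nat_lit 161, nat_lit 92, nat_lit 69, nat_lit 161, nat_lit 92, nat_lit 69, nat_lit 161, nat_lit 115, nat_lit 69, nat_lit 161, nat_lit 115, nat_lit 69, nat_lit 161, nat_lit 115, nat_lit 69, nat_lit 161, nat_lit 115, nat_lit 69, nat_lit 161, nat_lit 115])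
noncomputable def r96 : WT := (.leaf (nat_lit 13359) [nat_lit 161, nat_lit 115, nat_lit 69, nat_lit 161, nat_lit 115, nat_lit 69, nat_lit 161, nat_lit 92, nat_lit 69, nat_lit 161, nat_lit 92, nat_lit 69, nat_lit 161, nat_lit 92, nat_lit 69, nat_lit 161, nat_lit 92, nat_lit 69, nat_lit 161, nat_lit 92, nat_lit 69, nat_lit 161, nat_lit 115, nat_lit 69, nat_lit 161, nat_lit 115, nat_lit 69, nat_lit 161, nat_lit 115])
noncomputable def r97 : WT := (.node (nat_lit 30) (.node (nat_lit 29) r92 r93) (.node (nat_lit 31) r94 (.node (nat_lit 32) r95 r96)))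
noncomputable def r98 : WT := (.leaf (nat_lit 13341) [nat_lit 161, nat_lit 115, nat_lit 69, nat_lit 161, nat_lit 115, nat_lit 69, nat_lit 161, nat_lit 115, nat_lit 69, nat_lit 161, nat_lit 115, nat_lit 69, nat_lit 161, nat_lit 115, nat_lit 69, nat_lit 161, nat_lit 92, nat_lit 69, nat_lit 161, nat_lit 92, nat_lit 69, nat_lit 161, nat_lit 92, nat_lit 69, nat_lit 161, nat_lit 92, nat_lit 69, nat_lit 161, nat_lit 92])
noncomputable def r99 : WT := (.leaf (nat_lit 13323) [nat_lit 161, nat_lit 92, nat_lit 69, nat_lit 161, nat_lit 92, nat_lit 69, nat_lit 161, nat_lit 92, nat_lit 69, nat_lit 161, nat_lit 115, nat_lit 69, nat_lit 161, nat_lit 115, nat_lit 69, nat_lit 161, nat_lit 115, nat_lit 69, nat_lit 161, nat_lit 115, nat_lit 69, nat_lit 161, nat_lit 115, nat_lit 69, nat_lit 161, nat_lit 92, nat_lit 69, nat_lit 161, nat_lit 92])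
noncomputable def r100 : WT := (.leaf (nat_lit 13317) [nat_lit 161, nat_lit 92, nat_lit 69, nat_lit 161, nat_lit 92, nat_lit 69, nat_lit 161, nat_lit 92, nat_lit 69, nat_lit 161, nat_lit 92, nat_lit 69, nat_lit 161, nat_lit 115, nat_lit 69, nat_lit 161, nat_lit 115, nat_lit 69, nat_lit 161, nat_lit 115, nat_lit 69, nat_lit 161, nat_lit 115, nat_lit 69, nat_lit 161, nat_lit 115, nat_lit 69, nat_lit 161, nat_lit 92])
noncomputable def r101 : WT := (.leaf (nat_lit 12301) [nat_lit 138, nat_lit 115, nat_lit 46, nat_lit 115, nat_lit 69, nat_lit 92, nat_lit 161, nat_lit 46, nat_lit 138, nat_lit 69, nat_lit 161, nat_lit 115, nat_lit 46, nat_lit 138, nat_lit 69, nat_lit 92, nat_lit 138, nat_lit 46, nat_lit 161])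
noncomputable def r102 : WT := (.leaf (nat_lit 8228) [nat_lit 115, nat_lit 46, nat_lit 161, nat_lit 46, nat_lit 161, nat_lit 46, nat_lit 161, nat_lit 46, nat_lit 161, nat_lit 46, nat_lit 92, nat_lit 69, nat_lit 138, nat_lit 69, nat_lit 138, nat_lit 69, nat_lit 138, nat_lit 69, nat_lit 138])
noncomputable def r103 : WT := (.leaf (nat_lit 8215) [nat_lit 138, nat_lit 69, nat_lit 138, nat_lit 69, nat_lit 138, nat_lit 69, nat_lit 138, nat_lit 69, nat_lit 92, nat_lit 46, nat_lit 161, nat_lit 46, nat_lit 161, nat_lit 46, nat_lit 161, nat_lit 46, nat_lit 161, nat_lit 46, nat_lit 115])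
noncomputable def r104 : WT := (.node (nat_lit 36) (.node (nat_lit 34) r98 (.node (nat_lit 35) r99 r100)) (.node (nat_lit 37) r101 (.node (nat_lit 38) r102 r103)))
noncomputable def r105 : WT := (.leaf (nat_lit 11294) [nat_lit 161, nat_lit 115, nat_lit 46, nat_lit 92, nat_lit 69, nat_lit 92, nat_lit 138, nat_lit 46, nat_lit 161, nat_lit 69, nat_lit 138, nat_lit 115, nat_lit 46, nat_lit 138, nat_lit 69, nat_lit 92, nat_lit 161, nat_lit 46, nat_lit 138])
noncomputable def r106 : WT := (.leaf (nat_lit 9236) [nat_lit 161, nat_lit 46, nat_lit 161, nat_lit 69, nat_lit 138, nat_lit 46, nat_lit 138, nat_lit 69, nat_lit 92, nat_lit 46, nat_lit 161, nat_lit 69, nat_lit 161, nat_lit 46, nat_lit 138, nat_lit 69, nat_lit 138, nat_lit 46, nat_lit 92])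
noncomputable def r107 : WT := (.leaf (nat_lit 9252) [nat_lit 92, nat_lit 46, nat_lit 161, nat_lit 69, nat_lit 161, nat_lit 46, nat_lit 138, nat_lit 69, nat_lit 138, nat_lit 46, nat_lit 92, nat_lit 69, nat_lit 161, nat_lit 46, nat_lit 161, nat_lit 69, nat_lit 138, nat_lit 46, nat_lit 138])
noncomputable def r108 : WT := (.leaf (nat_lit 9223) [nat_lit 161, nat_lit 46, nat_lit 138, nat_lit 69, nat_lit 138, nat_lit 46, nat_lit 115, nat_lit 69, nat_lit 161, nat_lit 46, nat_lit 161, nat_lit 69, nat_lit 138, nat_lit 46, nat_lit 138, nat_lit 69, nat_lit 115, nat_lit 46, nat_lit 161])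
noncomputable def r109 : WT := (.leaf (nat_lit 13329) [nat_lit 161, nat_lit 92, nat_lit 69, nat_lit 161, nat_lit 92, nat_lit 69, nat_lit 161, nat_lit 115, nat_lit 69, nat_lit 161, nat_lit 115, nat_lit 69, nat_lit 161, nat_lit 115, nat_lit 69, nat_lit 161, nat_lit 115, nat_lit 69, nat_lit 161, nat_lit 115, nat_lit 69, nat_lit 161, nat_lit 92, nat_lit 69, nat_lit 161, nat_lit 92, nat_lit 69, nat_lit 161, nat_lit 92])
noncomputable def r110 : WT := (.leaf (nat_lit 13335) [nat_lit 161, nat_lit 92, nat_lit 69, nat_lit 161, nat_lit 115, nat_lit 69, nat_lit 161, nat_lit 115, nat_lit 69, nat_lit 161, nat_lit 115, nat_lit 69, nat_lit 161, nat_lit 115, nat_lit 69, nat_lit 161, nat_lit 115, nat_lit 69, nat_lit 161, nat_lit 92, nat_lit 69, nat_lit 161, nat_lit 92, nat_lit 69, nat_lit 161, nat_lit 92, nat_lit 69, nat_lit 161, nat_lit 92])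
noncomputable def r111 : WT := (.leaf (nat_lit 11274) [nat_lit 138, nat_lit 115, nat_lit 46, nat_lit 138, nat_lit 69, nat_lit 92, nat_lit 161, nat_lit 46, nat_lit 138, nat_lit 69, nat_lit 161, nat_lit 115, nat_lit 46, nat_lit 92, nat_lit 69, nat_lit 92, nat_lit 138, nat_lit 46, nat_lit 161])
noncomputable def r112 : WT := (.leaf (nat_lit 8212) [nat_lit 138, nat_lit 69, nat_lit 138, nat_lit 69, nat_lit 138, nat_lit 69, nat_lit 138, nat_lit 69, nat_lit 115, nat_lit 46, nat_lit 161, nat_lit 46, nat_lit 161, nat_lit 46, nat_lit 161, nat_lit 46, nat_lit 161, nat_lit 46, nat_lit 92])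
noncomputable def r113 : WT := (.leaf (nat_lit 9247) [nat_lit 138, nat_lit 46, nat_lit 138, nat_lit 69, nat_lit 115, nat_lit 46, nat_lit 161, nat_lit 69, nat_lit 161, nat_lit 46, nat_lit 138, nat_lit 69, nat_lit 138, nat_lit 46, nat_lit 115, nat_lit 69, nat_lit 161, nat_lit 46, nat_lit 161])
noncomputable def r114 : WT := (.leaf (nat_lit 9255) [nat_lit 115, nat_lit 46, nat_lit 161, nat_lit 69, nat_lit 161, nat_lit 46, nat_lit 138, nat_lit 69, nat_lit 138, nat_lit 46, nat_lit 115, nat_lit 69, nat_lit 161, nat_lit 46, nat_lit 161, nat_lit 69, nat_lit 138, nat_lit 46, nat_lit 138])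
noncomputable def r115 : WT := (.leaf (nat_lit 10276) [nat_lit 115, nat_lit 46, nat_lit 138, nat_lit 46, nat_lit 138, nat_lit 46, nat_lit 138, nat_lit 46, nat_lit 138, nat_lit 46, nat_lit 92, nat_lit 69, nat_lit 161, nat_lit 69, nat_lit 161, nat_lit 69, nat_lit 161, nat_lit 69, nat_lit 161])
noncomputable def r116 : WT := (.leaf (nat_lit 10260) [nat_lit 161, nat_lit 69, nat_lit 161, nat_lit 69, nat_lit 161, nat_lit 69, nat_lit 161, nat_lit 69, nat_lit 115, nat_lit 46, nat_lit 138, nat_lit 46, nat_lit 138, nat_lit 46, nat_lit 138, nat_lit 46, nat_lit 138, nat_lit 46, nat_lit 92])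
noncomputable def r117 : WT := (.node (nat_lit 45) (.node (nat_lit 42) (.node (nat_lit 40) r105 (.node (nat_lit 41) r106 r107)) (.node (nat_lit 43) r108 (.node (nat_lit 44) r109 r110))) (.node (nat_lit 48) (.node (nat_lit 46) r111 (.node (nat_lit 47) r112 r113)) (.node (nat_lit 49) r114 (.node (nat_lit 50) r115 r116))))
noncomputable def r118 : WT := (.node (nat_lit 13) (.node (nat_lit 6) (.node (nat_lit 5) r61 (.leaf (nat_lit 3073) [nat_lit 69, nat_lit 69, nat_lit 69, nat_lit 69, nat_lit 69, nat_lit 69])) (.node (nat_lit 9) (.node (nat_lit 7) r62 r65) (.node (nat_lit 11) r68 r71))) (.node (nat_lit 24) (.node (nat_lit 18) (.node (nat_lit 15) r74 r78) (.node (nat_lit 21) r82 r86)) (.node (nat_lit 33) (.node (nat_lit 28) r91 r97) (.node (nat_lit 39) r104 r117))))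
noncomputable def w1 : WT := (.node (nat_lit 1) (.leaf (nat_lit 2) [nat_lit 46]) (.node (nat_lit 2) (.leaf (nat_lit 6150) [nat_lit 69, nat_lit 92, nat_lit 46, nat_lit 115]) (.node (nat_lit 3) (.leaf (nat_lit 6152) [nat_lit 92, nat_lit 46, nat_lit 115, nat_lit 69]) (.node (nat_lit 4) (.leaf (nat_lit 6151) [nat_lit 115, nat_lit 46, nat_lit 46, nat_lit 92]) r118))))
noncomputable def r119 : WT := (.leaf (nat_lit 8210) [nat_lit 69, nat_lit 138, nat_lit 69, nat_lit 138, nat_lit 69, nat_lit 138, nat_lit 69, nat_lit 138, nat_lit 69, nat_lit 115, nat_lit 46, nat_lit 161, nat_lit 46, nat_lit 161, nat_lit 46, nat_lit 161, nat_lit 46, nat_lit 161, nat_lit 46])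
noncomputable def r120 : WT := (.leaf (nat_lit 10258) [nat_lit 69, nat_lit 161, nat_lit 69, nat_lit 161, nat_lit 69, nat_lit 161, nat_lit 69, nat_lit 161, nat_lit 69, nat_lit 115, nat_lit 46, nat_lit 138, nat_lit 46, nat_lit 138, nat_lit 46, nat_lit 138, nat_lit 46, nat_lit 138, nat_lit 46])
noncomputable def r121 : WT := (.leaf (nat_lit 9234) [nat_lit 69, nat_lit 161, nat_lit 46, nat_lit 161, nat_lit 69, nat_lit 138, nat_lit 46, nat_lit 138, nat_lit 69, nat_lit 92, nat_lit 46, nat_lit 161, nat_lit 69, nat_lit 161, nat_lit 46, nat_lit 138, nat_lit 69, nat_lit 138, nat_lit 46])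
noncomputable def r122 : WT := (.leaf (nat_lit 10241) [nat_lit 46, nat_lit 138, nat_lit 46, nat_lit 138, nat_lit 46, nat_lit 138, nat_lit 46, nat_lit 138, nat_lit 46, nat_lit 115, nat_lit 69, nat_lit 161, nat_lit 69, nat_lit 161, nat_lit 69, nat_lit 161, nat_lit 69, nat_lit 161, nat_lit 69])
noncomputable def r123 : WT := (.leaf (nat_lit 11286) [nat_lit 161, nat_lit 46, nat_lit 138, nat_lit 69, nat_lit 161, nat_lit 115, nat_lit 46, nat_lit 92, nat_lit 69, nat_lit 92, nat_lit 138, nat_lit 46, nat_lit 161, nat_lit 69, nat_lit 138, nat_lit 115, nat_lit 46, nat_lit 138, nat_lit 69])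
noncomputable def r124 : WT := (.leaf (nat_lit 13314) [nat_lit 138, nat_lit 46, nat_lit 92, nat_lit 138, nat_lit 46, nat_lit 92, nat_lit 138, nat_lit 46, nat_lit 92, nat_lit 138, nat_lit 46, nat_lit 92, nat_lit 138, nat_lit 46, nat_lit 115, nat_lit 138, nat_lit 46, nat_lit 115, nat_lit 138, nat_lit 46, nat_lit 115, nat_lit 138, nat_lit 46, nat_lit 115, nat_lit 138, nat_lit 46, nat_lit 115, nat_lit 138, nat_lit 46])
noncomputable def r125 : WT := (.leaf (nat_lit 13333) [nat_lit 69, nat_lit 161, nat_lit 92, nat_lit 69, nat_lit 161, nat_lit 115, nat_lit 69, nat_lit 161, nat_lit 115, nat_lit 69, nat_lit 161, nat_lit 115, nat_lit 69, nat_lit 161, nat_lit 115, nat_lit 69, nat_lit 161, nat_lit 115, nat_lit 69, nat_lit 161, nat_lit 92, nat_lit 69, nat_lit 161, nat_lit 92, nat_lit 69, nat_lit 161, nat_lit 92, nat_lit 69, nat_lit 161])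
noncomputable def r126 : WT := (.leaf (nat_lit 13339) [nat_lit 69, nat_lit 161, nat_lit 115, nat_lit 69, nat_lit 161, nat_lit 115, nat_lit 69, nat_lit 161, nat_lit 115, nat_lit 69, nat_lit 161, nat_lit 115, nat_lit 69, nat_lit 161, nat_lit 115, nat_lit 69, nat_lit 161, nat_lit 92, nat_lit 69, nat_lit 161, nat_lit 92, nat_lit 69, nat_lit 161, nat_lit 92, nat_lit 69, nat_lit 161, nat_lit 92, nat_lit 69, nat_lit 161])
noncomputable def r127 : WT := (.node (nat_lit 13) r125 r126)
noncomputable def r128 : WT := (.node (nat_lit 6) (.leaf (nat_lit 7168) [nat_lit 138, nat_lit 115, nat_lit 161]) (.node (nat_lit 9) (.node (nat_lit 7) r119 (.node (nat_lit 8) r120 r121)) (.node (nat_lit 11) (.node (nat_lit 10) r122 r123) (.node (nat_lit 12) r124 r127))))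
noncomputable def w2 : WT := (.node (nat_lit 1) (.leaf (nat_lit 1024) [nat_lit 115]) (.node (nat_lit 3) (.node (nat_lit 2) (.leaf (nat_lit 4096) [nat_lit 92, nat_lit 92]) (.leaf (nat_lit 6144) [nat_lit 46, nat_lit 115, nat_lit 69, nat_lit 69])) (.node (nat_lit 4) (.leaf (nat_lit 6149) [nat_lit 69, nat_lit 115, nat_lit 46, nat_lit 46]) (.node (nat_lit 5) (.leaf (nat_lit 7171) [nat_lit 161, nat_lit 115, nat_lit 138]) r128))))
noncomputable def r129 : WT := (.leaf (nat_lit 13344) [nat_lit 138, nat_lit 46, nat_lit 115, nat_lit 138, nat_lit 46, nat_lit 115, nat_lit 138, nat_lit 46, nat_lit 115, nat_lit 138, nat_lit 46, nat_lit 115, nat_lit 138, nat_lit 46, nat_lit 92, nat_lit 138, nat_lit 46, nat_lit 92, nat_lit 138, nat_lit 46, nat_lit 92, nat_lit 138, nat_lit 46, nat_lit 92, nat_lit 138, nat_lit 46, nat_lit 92, nat_lit 138, nat_lit 46])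
noncomputable def r130 : WT := (.leaf (nat_lit 9237) [nat_lit 69, nat_lit 161, nat_lit 46, nat_lit 161, nat_lit 69, nat_lit 138, nat_lit 46, nat_lit 138, nat_lit 69, nat_lit 115, nat_lit 46, nat_lit 161, nat_lit 69, nat_lit 161, nat_lit 46, nat_lit 138, nat_lit 69, nat_lit 138, nat_lit 46])
noncomputable def r131 : WT := (.leaf (nat_lit 12322) [nat_lit 46, nat_lit 161, nat_lit 69, nat_lit 92, nat_lit 138, nat_lit 46, nat_lit 161, nat_lit 69, nat_lit 138, nat_lit 115, nat_lit 46, nat_lit 92, nat_lit 69, nat_lit 92, nat_lit 161, nat_lit 46, nat_lit 138, nat_lit 69, nat_lit 161])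
noncomputable def r132 : WT := (.leaf (nat_lit 13368) [nat_lit 138, nat_lit 46, nat_lit 92, nat_lit 138, nat_lit 46, nat_lit 92, nat_lit 138, nat_lit 46, nat_lit 92, nat_lit 138, nat_lit 46, nat_lit 92, nat_lit 138, nat_lit 46, nat_lit 92, nat_lit 138, nat_lit 46, nat_lit 115, nat_lit 138, nat_lit 46, nat_lit 115, nat_lit 138, nat_lit 46, nat_lit 115, nat_lit 138, nat_lit 46, nat_lit 115, nat_lit 138, nat_lit 46])
noncomputable def r133 : WT := (.leaf (nat_lit 13345) [nat_lit 69, nat_lit 161, nat_lit 115, nat_lit 69, nat_lit 161, nat_lit 115, nat_lit 69, nat_lit 161, nat_lit 115, nat_lit 69, nat_lit 161, nat_lit 115, nat_lit 69, nat_lit 161, nat_lit 92, nat_lit 69, nat_lit 161, nat_lit 92, nat_lit 69, nat_lit 161, nat_lit 92, nat_lit 69, nat_lit 161, nat_lit 92, nat_lit 69, nat_lit 161, nat_lit 92, nat_lit 69, nat_lit 161])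
noncomputable def r134 : WT := (.node (nat_lit 10) r132 r133)
noncomputable def r135 : WT := (.node (nat_lit 5) (.leaf (nat_lit 7175) [nat_lit 138, nat_lit 92, nat_lit 161]) (.node (nat_lit 6) (.leaf (nat_lit 7172) [nat_lit 161, nat_lit 92, nat_lit 138]) (.node (nat_lit 8) (.node (nat_lit 7) r129 r130) (.node (nat_lit 9) r131 r134))))
noncomputable def w3 : WT := (.node (nat_lit 1) (.leaf (nat_lit 1026) [nat_lit 92]) (.node (nat_lit 2) (.leaf (nat_lit 4097) [nat_lit 115, nat_lit 115]) (.node (nat_lit 3) (.leaf (nat_lit 6148) [nat_lit 69, nat_lit 69, nat_lit 92, nat_lit 46]) (.node (nat_lit 4) (.leaf (nat_lit 6153) [nat_lit 46, nat_lit 46, nat_lit 92, nat_lit 69]) r135))))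
noncomputable def r136 : WT := (.leaf (nat_lit 8214) [nat_lit 69, nat_lit 138, nat_lit 69, nat_lit 138, nat_lit 69, nat_lit 138, nat_lit 69, nat_lit 115, nat_lit 46, nat_lit 161, nat_lit 46, nat_lit 161, nat_lit 46, nat_lit 161, nat_lit 46, nat_lit 161, nat_lit 46, nat_lit 92, nat_lit 69])
noncomputable def r137 : WT := (.leaf (nat_lit 8218) [nat_lit 69, nat_lit 138, nat_lit 69, nat_lit 138, nat_lit 69, nat_lit 115, nat_lit 46, nat_lit 161, nat_lit 46, nat_lit 161, nat_lit 46, nat_lit 161, nat_lit 46, nat_lit 161, nat_lit 46, nat_lit 92, nat_lit 69, nat_lit 138, nat_lit 69])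
noncomputable def r138 : WT := (.leaf (nat_lit 9226) [nat_lit 69, nat_lit 138, nat_lit 46, nat_lit 92, nat_lit 69, nat_lit 161, nat_lit 46, nat_lit 161, nat_lit 69, nat_lit 138, nat_lit 46, nat_lit 138, nat_lit 69, nat_lit 92, nat_lit 46, nat_lit 161, nat_lit 69, nat_lit 161, nat_lit 46])
noncomputable def r139 : WT := (.node (nat_lit 4) (.leaf (nat_lit 7170) [nat_lit 115, nat_lit 161, nat_lit 92]) (.node (nat_lit 5) r136 (.node (nat_lit 6) r137 r138)))
noncomputable def r140 : WT := (.leaf (nat_lit 11276) [nat_lit 115, nat_lit 46, nat_lit 138, nat_lit 69, nat_lit 92, nat_lit 161, nat_lit 46, nat_lit 138, nat_lit 69, nat_lit 161, nat_lit 115, nat_lit 46, nat_lit 92, nat_lit 69, nat_lit 92, nat_lit 138, nat_lit 46, nat_lit 161, nat_lit 69])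
noncomputable def r141 : WT := (.leaf (nat_lit 12316) [nat_lit 69, nat_lit 161, nat_lit 115, nat_lit 46, nat_lit 161, nat_lit 69, nat_lit 92, nat_lit 138, nat_lit 46, nat_lit 161, nat_lit 69, nat_lit 138, nat_lit 115, nat_lit 46, nat_lit 92, nat_lit 69, nat_lit 92, nat_lit 161, nat_lit 46])
noncomputable def r142 : WT := (.leaf (nat_lit 11279) [nat_lit 115, nat_lit 46, nat_lit 161, nat_lit 69, nat_lit 92, nat_lit 161, nat_lit 46, nat_lit 138, nat_lit 69, nat_lit 161, nat_lit 115, nat_lit 46, nat_lit 115, nat_lit 69, nat_lit 92, nat_lit 138, nat_lit 46, nat_lit 161, nat_lit 69])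
noncomputable def r143 : WT := (.leaf (nat_lit 11292) [nat_lit 69, nat_lit 161, nat_lit 115, nat_lit 46, nat_lit 92, nat_lit 69, nat_lit 92, nat_lit 138, nat_lit 46, nat_lit 161, nat_lit 69, nat_lit 138, nat_lit 115, nat_lit 46, nat_lit 138, nat_lit 69, nat_lit 92, nat_lit 161, nat_lit 46])
noncomputable def r144 : WT := (.leaf (nat_lit 11295) [nat_lit 69, nat_lit 161, nat_lit 115, nat_lit 46, nat_lit 115, nat_lit 69, nat_lit 92, nat_lit 138, nat_lit 46, nat_lit 161, nat_lit 69, nat_lit 138, nat_lit 115, nat_lit 46, nat_lit 161, nat_lit 69, nat_lit 92, nat_lit 161, nat_lit 46])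
noncomputable def r145 : WT := (.node (nat_lit 11) r143 r144)
noncomputable def r146 : WT := (.leaf (nat_lit 10253) [nat_lit 46, nat_lit 138, nat_lit 46, nat_lit 115, nat_lit 69, nat_lit 161, nat_lit 69, nat_lit 161, nat_lit 69, nat_lit 161, nat_lit 69, nat_lit 161, nat_lit 69, nat_lit 92, nat_lit 46, nat_lit 138, nat_lit 46, nat_lit 138, nat_lit 46])
noncomputable def r147 : WT := (.leaf (nat_lit 9229) [nat_lit 69, nat_lit 138, nat_lit 46, nat_lit 115, nat_lit 69, nat_lit 161, nat_lit 46, nat_lit 161, nat_lit 69, nat_lit 138, nat_lit 46, nat_lit 138, nat_lit 69, nat_lit 115, nat_lit 46, nat_lit 161, nat_lit 69, nat_lit 161, nat_lit 46])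
noncomputable def r148 : WT := (.node (nat_lit 13) r146 r147)
noncomputable def r149 : WT := (.leaf (nat_lit 13346) [nat_lit 46, nat_lit 115, nat_lit 138, nat_lit 46, nat_lit 115, nat_lit 138, nat_lit 46, nat_lit 115, nat_lit 138, nat_lit 46, nat_lit 115, nat_lit 138, nat_lit 46, nat_lit 92, nat_lit 138, nat_lit 46, nat_lit 92, nat_lit 138, nat_lit 46, nat_lit 92, nat_lit 138, nat_lit 46, nat_lit 92, nat_lit 138, nat_lit 46, nat_lit 92, nat_lit 138, nat_lit 46, nat_lit 115])
noncomputable def r150 : WT := (.leaf (nat_lit 11282) [nat_lit 69, nat_lit 92, nat_lit 161, nat_lit 46, nat_lit 138, nat_lit 69, nat_lit 161, nat_lit 115, nat_lit 46, nat_lit 92, nat_lit 69, nat_lit 92, nat_lit 138, nat_lit 46, nat_lit 161, nat_lit 69, nat_lit 138, nat_lit 115, nat_lit 46])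
noncomputable def r151 : WT := (.node (nat_lit 15) r149 r150)
noncomputable def r152 : WT := (.leaf (nat_lit 11268) [nat_lit 46, nat_lit 161, nat_lit 69, nat_lit 138, nat_lit 115, nat_lit 46, nat_lit 138, nat_lit 69, nat_lit 92, nat_lit 161, nat_lit 46, nat_lit 138, nat_lit 69, nat_lit 161, nat_lit 115, nat_lit 46, nat_lit 92, nat_lit 69, nat_lit 92])
noncomputable def r153 : WT := (.leaf (nat_lit 10250) [nat_lit 46, nat_lit 138, nat_lit 46, nat_lit 92, nat_lit 69, nat_lit 161, nat_lit 69, nat_lit 161, nat_lit 69, nat_lit 161, nat_lit 69, nat_lit 161, nat_lit 69, nat_lit 115, nat_lit 46, nat_lit 138, nat_lit 46, nat_lit 138, nat_lit 46])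
noncomputable def r154 : WT := (.node (nat_lit 17) r152 r153)
noncomputable def r155 : WT := (.leaf (nat_lit 13370) [nat_lit 46, nat_lit 92, nat_lit 138, nat_lit 46, nat_lit 92, nat_lit 138, nat_lit 46, nat_lit 92, nat_lit 138, nat_lit 46, nat_lit 92, nat_lit 138, nat_lit 46, nat_lit 92, nat_lit 138, nat_lit 46, nat_lit 115, nat_lit 138, nat_lit 46, nat_lit 115, nat_lit 138, nat_lit 46, nat_lit 115, nat_lit 138, nat_lit 46, nat_lit 115, nat_lit 138, nat_lit 46, nat_lit 115])
noncomputable def r156 : WT := (.leaf (nat_lit 12289) [nat_lit 69, nat_lit 92, nat_lit 138, nat_lit 46, nat_lit 161, nat_lit 69, nat_lit 138, nat_lit 115, nat_lit 46, nat_lit 115, nat_lit 69, nat_lit 92, nat_lit 161, nat_lit 46, nat_lit 138, nat_lit 69, nat_lit 161, nat_lit 115, nat_lit 46])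
noncomputable def r157 : WT := (.node (nat_lit 19) r155 r156)
noncomputable def r158 : WT := (.leaf (nat_lit 10245) [nat_lit 46, nat_lit 138, nat_lit 46, nat_lit 138, nat_lit 46, nat_lit 138, nat_lit 46, nat_lit 115, nat_lit 69, nat_lit 161, nat_lit 69, nat_lit 161, nat_lit 69, nat_lit 161, nat_lit 69, nat_lit 161, nat_lit 69, nat_lit 92, nat_lit 46])
noncomputable def r159 : WT := (.leaf (nat_lit 8226) [nat_lit 69, nat_lit 115, nat_lit 46, nat_lit 161, nat_lit 46, nat_lit 161, nat_lit 46, nat_lit 161, nat_lit 46, nat_lit 161, nat_lit 46, nat_lit 92, nat_lit 69, nat_lit 138, nat_lit 69, nat_lit 138, nat_lit 69, nat_lit 138, nat_lit 69])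
noncomputable def r160 : WT := (.node (nat_lit 21) r158 r159)
noncomputable def r161 : WT := (.leaf (nat_lit 8225) [nat_lit 69, nat_lit 138, nat_lit 69, nat_lit 92, nat_lit 46, nat_lit 161, nat_lit 46, nat_lit 161, nat_lit 46, nat_lit 161, nat_lit 46, nat_lit 161, nat_lit 46, nat_lit 115, nat_lit 69, nat_lit 138, nat_lit 69, nat_lit 138, nat_lit 69])
noncomputable def r162 : WT := (.leaf (nat_lit 9230) [nat_lit 46, nat_lit 92, nat_lit 69, nat_lit 161, nat_lit 46, nat_lit 161, nat_lit 69, nat_lit 138, nat_lit 46, nat_lit 138, nat_lit 69, nat_lit 92, nat_lit 46, nat_lit 161, nat_lit 69, nat_lit 161, nat_lit 46, nat_lit 138, nat_lit 69])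
noncomputable def r163 : WT := (.leaf (nat_lit 8222) [nat_lit 69, nat_lit 138, nat_lit 69, nat_lit 115, nat_lit 46, nat_lit 161, nat_lit 46, nat_lit 161, nat_lit 46, nat_lit 161, nat_lit 46, nat_lit 161, nat_lit 46, nat_lit 92, nat_lit 69, nat_lit 138, nat_lit 69, nat_lit 138, nat_lit 69])
noncomputable def r164 : WT := (.node (nat_lit 23) r161 (.node (nat_lit 24) r162 r163))
noncomputable def r165 : WT := (.leaf (nat_lit 13334) [nat_lit 46, nat_lit 92, nat_lit 138, nat_lit 46, nat_lit 115, nat_lit 138, nat_lit 46, nat_lit 115, nat_lit 138, nat_lit 46, nat_lit 115, nat_lit 138, nat_lit 46, nat_lit 115, nat_lit 138, nat_lit 46, nat_lit 115, nat_lit 138, nat_lit 46, nat_lit 92, nat_lit 138, nat_lit 46, nat_lit 92, nat_lit 138, nat_lit 46, nat_lit 92, nat_lit 138, nat_lit 46, nat_lit 92])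
noncomputable def r166 : WT := (.leaf (nat_lit 12319) [nat_lit 69, nat_lit 161, nat_lit 115, nat_lit 46, nat_lit 138, nat_lit 69, nat_lit 92, nat_lit 138, nat_lit 46, nat_lit 161, nat_lit 69, nat_lit 138, nat_lit 115, nat_lit 46, nat_lit 115, nat_lit 69, nat_lit 92, nat_lit 161, nat_lit 46])
noncomputable def r167 : WT := (.node (nat_lit 26) r165 r166)
noncomputable def r168 : WT := (.leaf (nat_lit 8229) [nat_lit 69, nat_lit 92, nat_lit 46, nat_lit 161, nat_lit 46, nat_lit 161, nat_lit 46, nat_lit 161, nat_lit 46, nat_lit 161, nat_lit 46, nat_lit 115, nat_lit 69, nat_lit 138, nat_lit 69, nat_lit 138, nat_lit 69, nat_lit 138, nat_lit 69])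
noncomputable def r169 : WT := (.leaf (nat_lit 9250) [nat_lit 69, nat_lit 92, nat_lit 46, nat_lit 161, nat_lit 69, nat_lit 161, nat_lit 46, nat_lit 138, nat_lit 69, nat_lit 138, nat_lit 46, nat_lit 92, nat_lit 69, nat_lit 161, nat_lit 46, nat_lit 161, nat_lit 69, nat_lit 138, nat_lit 46])
noncomputable def r170 : WT := (.leaf (nat_lit 10257) [nat_lit 46, nat_lit 115, nat_lit 69, nat_lit 161, nat_lit 69, nat_lit 161, nat_lit 69, nat_lit 161, nat_lit 69, nat_lit 161, nat_lit 69, nat_lit 92, nat_lit 46, nat_lit 138, nat_lit 46, nat_lit 138, nat_lit 46, nat_lit 138, nat_lit 46])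
noncomputable def r171 : WT := (.node (nat_lit 28) r168 (.node (nat_lit 29) r169 r170))
noncomputable def r172 : WT := (.leaf (nat_lit 10246) [nat_lit 46, nat_lit 138, nat_lit 46, nat_lit 138, nat_lit 46, nat_lit 92, nat_lit 69, nat_lit 161, nat_lit 69, nat_lit 161, nat_lit 69, nat_lit 161, nat_lit 69, nat_lit 161, nat_lit 69, nat_lit 115, nat_lit 46, nat_lit 138, nat_lit 46])
noncomputable def r173 : WT := (.leaf (nat_lit 9233) [nat_lit 46, nat_lit 115, nat_lit 69, nat_lit 161, nat_lit 46, nat_lit 161, nat_lit 69, nat_lit 138, nat_lit 46, nat_lit 138, nat_lit 69, nat_lit 115, nat_lit 46, nat_lit 161, nat_lit 69, nat_lit 161, nat_lit 46, nat_lit 138, nat_lit 69])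
noncomputable def r174 : WT := (.leaf (nat_lit 11271) [nat_lit 46, nat_lit 161, nat_lit 69, nat_lit 138, nat_lit 115, nat_lit 46, nat_lit 161, nat_lit 69, nat_lit 92, nat_lit 161, nat_lit 46, nat_lit 138, nat_lit 69, nat_lit 161, nat_lit 115, nat_lit 46, nat_lit 115, nat_lit 69, nat_lit 92])
noncomputable def r175 : WT := (.node (nat_lit 31) r172 (.node (nat_lit 32) r173 r174))
noncomputable def r176 : WT := (.leaf (nat_lit 9249) [nat_lit 46, nat_lit 138, nat_lit 69, nat_lit 115, nat_lit 46, nat_lit 161, nat_lit 69, nat_lit 161, nat_lit 46, nat_lit 138, nat_lit 69, nat_lit 138, nat_lit 46, nat_lit 115, nat_lit 69, nat_lit 161, nat_lit 46, nat_lit 161, nat_lit 69])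
noncomputable def r177 : WT := (.leaf (nat_lit 9253) [nat_lit 69, nat_lit 115, nat_lit 46, nat_lit 161, nat_lit 69, nat_lit 161, nat_lit 46, nat_lit 138, nat_lit 69, nat_lit 138, nat_lit 46, nat_lit 115, nat_lit 69, nat_lit 161, nat_lit 46, nat_lit 161, nat_lit 69, nat_lit 138, nat_lit 46])
noncomputable def r178 : WT := (.leaf (nat_lit 10249) [nat_lit 46, nat_lit 138, nat_lit 46, nat_lit 138, nat_lit 46, nat_lit 115, nat_lit 69, nat_lit 161, nat_lit 69, nat_lit 161, nat_lit 69, nat_lit 161, nat_lit 69, nat_lit 161, nat_lit 69, nat_lit 92, nat_lit 46, nat_lit 138, nat_lit 46])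
noncomputable def r179 : WT := (.leaf (nat_lit 12303) [nat_lit 115, nat_lit 46, nat_lit 115, nat_lit 69, nat_lit 92, nat_lit 161, nat_lit 46, nat_lit 138, nat_lit 69, nat_lit 161, nat_lit 115, nat_lit 46, nat_lit 138, nat_lit 69, nat_lit 92, nat_lit 138, nat_lit 46, nat_lit 161, nat_lit 69])
noncomputable def r180 : WT := (.node (nat_lit 35) (.node (nat_lit 34) r176 r177) (.node (nat_lit 36) r178 r179))
noncomputable def r181 : WT := (.leaf (nat_lit 13328) [nat_lit 46, nat_lit 92, nat_lit 138, nat_lit 46, nat_lit 92, nat_lit 138, nat_lit 46, nat_lit 115, nat_lit 138, nat_lit 46, nat_lit 115, nat_lit 138, nat_lit 46, nat_lit 115, nat_lit 138, nat_lit 46, nat_lit 115, nat_lit 138, nat_lit 46, nat_lit 115, nat_lit 138, nat_lit 46, nat_lit 92, nat_lit 138, nat_lit 46, nat_lit 92, nat_lit 138, nat_lit 46, nat_lit 92])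
noncomputable def r182 : WT := (.leaf (nat_lit 10242) [nat_lit 46, nat_lit 138, nat_lit 46, nat_lit 138, nat_lit 46, nat_lit 138, nat_lit 46, nat_lit 92, nat_lit 69, nat_lit 161, nat_lit 69, nat_lit 161, nat_lit 69, nat_lit 161, nat_lit 69, nat_lit 161, nat_lit 69, nat_lit 115, nat_lit 46])
noncomputable def r183 : WT := (.leaf (nat_lit 13364) [nat_lit 46, nat_lit 115, nat_lit 138, nat_lit 46, nat_lit 92, nat_lit 138, nat_lit 46, nat_lit 92, nat_lit 138, nat_lit 46, nat_lit 92, nat_lit 138, nat_lit 46, nat_lit 92, nat_lit 138, nat_lit 46, nat_lit 92, nat_lit 138, nat_lit 46, nat_lit 115, nat_lit 138, nat_lit 46, nat_lit 115, nat_lit 138, nat_lit 46, nat_lit 115, nat_lit 138, nat_lit 46, nat_lit 115])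
noncomputable def r184 : WT := (.leaf (nat_lit 13352) [nat_lit 46, nat_lit 115, nat_lit 138, nat_lit 46, nat_lit 115, nat_lit 138, nat_lit 46, nat_lit 115, nat_lit 138, nat_lit 46, nat_lit 92, nat_lit 138, nat_lit 46, nat_lit 92, nat_lit 138, nat_lit 46, nat_lit 92, nat_lit 138, nat_lit 46, nat_lit 92, nat_lit 138, nat_lit 46, nat_lit 92, nat_lit 138, nat_lit 46, nat_lit 115, nat_lit 138, nat_lit 46, nat_lit 115])
noncomputable def r185 : WT := (.leaf (nat_lit 13322) [nat_lit 46, nat_lit 92, nat_lit 138, nat_lit 46, nat_lit 92, nat_lit 138, nat_lit 46, nat_lit 92, nat_lit 138, nat_lit 46, nat_lit 115, nat_lit 138, nat_lit 46, nat_lit 115, nat_lit 138, nat_lit 46, nat_lit 115, nat_lit 138, nat_lit 46, nat_lit 115, nat_lit 138, nat_lit 46, nat_lit 115, nat_lit 138, nat_lit 46, nat_lit 92, nat_lit 138, nat_lit 46, nat_lit 92])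
noncomputable def r186 : WT := (.node (nat_lit 39) (.node (nat_lit 38) r181 r182) (.node (nat_lit 40) r183 (.node (nat_lit 41) r184 r185)))
noncomputable def r187 : WT := (.leaf (nat_lit 12295) [nat_lit 46, nat_lit 161, nat_lit 69, nat_lit 138, nat_lit 115, nat_lit 46, nat_lit 115, nat_lit 69, nat_lit 92, nat_lit 161, nat_lit 46, nat_lit 138, nat_lit 69, nat_lit 161, nat_lit 115, nat_lit 46, nat_lit 138, nat_lit 69, nat_lit 92])
noncomputable def r188 : WT := (.leaf (nat_lit 8217) [nat_lit 69, nat_lit 138, nat_lit 69, nat_lit 138, nat_lit 69, nat_lit 138, nat_lit 69, nat_lit 92, nat_lit 46, nat_lit 161, nat_lit 46, nat_lit 161, nat_lit 46, nat_lit 161, nat_lit 46, nat_lit 161, nat_lit 46, nat_lit 115, nat_lit 69])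
noncomputable def r189 : WT := (.leaf (nat_lit 12300) [nat_lit 115, nat_lit 46, nat_lit 92, nat_lit 69, nat_lit 92, nat_lit 161, nat_lit 46, nat_lit 138, nat_lit 69, nat_lit 161, nat_lit 115, nat_lit 46, nat_lit 161, nat_lit 69, nat_lit 92, nat_lit 138, nat_lit 46, nat_lit 161, nat_lit 69])
noncomputable def r190 : WT := (.leaf (nat_lit 13316) [nat_lit 46, nat_lit 92, nat_lit 138, nat_lit 46, nat_lit 92, nat_lit 138, nat_lit 46, nat_lit 92, nat_lit 138, nat_lit 46, nat_lit 92, nat_lit 138, nat_lit 46, nat_lit 115, nat_lit 138, nat_lit 46, nat_lit 115, nat_lit 138, nat_lit 46, nat_lit 115, nat_lit 138, nat_lit 46, nat_lit 115, nat_lit 138, nat_lit 46, nat_lit 115, nat_lit 138, nat_lit 46, nat_lit 92])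
noncomputable def r191 : WT := (.leaf (nat_lit 13340) [nat_lit 46, nat_lit 115, nat_lit 138, nat_lit 46, nat_lit 115, nat_lit 138, nat_lit 46, nat_lit 115, nat_lit 138, nat_lit 46, nat_lit 115, nat_lit 138, nat_lit 46, nat_lit 115, nat_lit 138, nat_lit 46, nat_lit 92, nat_lit 138, nat_lit 46, nat_lit 92, nat_lit 138, nat_lit 46, nat_lit 92, nat_lit 138, nat_lit 46, nat_lit 92, nat_lit 138, nat_lit 46, nat_lit 92])
noncomputable def r192 : WT := (.leaf (nat_lit 13358) [nat_lit 46, nat_lit 115, nat_lit 138, nat_lit 46, nat_lit 115, nat_lit 138, nat_lit 46, nat_lit 92, nat_lit 138, nat_lit 46, nat_lit 92, nat_lit 138, nat_lit 46, nat_lit 92, nat_lit 138, nat_lit 46, nat_lit 92, nat_lit 138, nat_lit 46, nat_lit 92, nat_lit 138, nat_lit 46, nat_lit 115, nat_lit 138, nat_lit 46, nat_lit 115, nat_lit 138, nat_lit 46, nat_lit 115])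
noncomputable def r193 : WT := (.leaf (nat_lit 12292) [nat_lit 46, nat_lit 161, nat_lit 69, nat_lit 138, nat_lit 115, nat_lit 46, nat_lit 92, nat_lit 69, nat_lit 92, nat_lit 161, nat_lit 46, nat_lit 138, nat_lit 69, nat_lit 161, nat_lit 115, nat_lit 46, nat_lit 161, nat_lit 69, nat_lit 92])
noncomputable def r194 : WT := (.leaf (nat_lit 10254) [nat_lit 46, nat_lit 92, nat_lit 69, nat_lit 161, nat_lit 69, nat_lit 161, nat_lit 69, nat_lit 161, nat_lit 69, nat_lit 161, nat_lit 69, nat_lit 115, nat_lit 46, nat_lit 138, nat_lit 46, nat_lit 138, nat_lit 46, nat_lit 138, nat_lit 46])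
noncomputable def r195 : WT := (.node (nat_lit 45) (.node (nat_lit 43) r187 (.node (nat_lit 44) r188 r189)) (.node (nat_lit 47) (.node (nat_lit 46) r190 r191) (.node (nat_lit 48) r192 (.node (nat_lit 49) r193 r194))))
noncomputable def r196 : WT := (.node (nat_lit 20) (.node (nat_lit 12) (.node (nat_lit 9) (.node (nat_lit 8) r140 r141) (.node (nat_lit 10) r142 r145)) (.node (nat_lit 16) (.node (nat_lit 14) r148 r151) (.node (nat_lit 18) r154 r157))) (.node (nat_lit 30) (.node (nat_lit 25) (.node (nat_lit 22) r160 r164) (.node (nat_lit 27) r167 r171)) (.node (nat_lit 37) (.node (nat_lit 33) r175 r180) (.node (nat_lit 42) r186 r195))))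
noncomputable def w4 : WT := (.node (nat_lit 1) (.leaf (nat_lit 2048) [nat_lit 161]) (.node (nat_lit 2) (.leaf (nat_lit 7169) [nat_lit 92, nat_lit 161, nat_lit 115]) (.node (nat_lit 3) (.leaf (nat_lit 5120) [nat_lit 138, nat_lit 138]) (.node (nat_lit 7) r139 r196))))
noncomputable def r197 : WT := (.leaf (nat_lit 9222) [nat_lit 46, nat_lit 138, nat_lit 69, nat_lit 138, nat_lit 46, nat_lit 92, nat_lit 69, nat_lit 161, nat_lit 46, nat_lit 161, nat_lit 69, nat_lit 138, nat_lit 46, nat_lit 138, nat_lit 69, nat_lit 92, nat_lit 46, nat_lit 161, nat_lit 69])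
noncomputable def r198 : WT := (.leaf (nat_lit 8194) [nat_lit 46, nat_lit 161, nat_lit 46, nat_lit 161, nat_lit 46, nat_lit 161, nat_lit 46, nat_lit 92, nat_lit 69, nat_lit 138, nat_lit 69, nat_lit 138, nat_lit 69, nat_lit 138, nat_lit 69, nat_lit 138, nat_lit 69, nat_lit 115, nat_lit 46])
noncomputable def r199 : WT := (.leaf (nat_lit 8198) [nat_lit 46, nat_lit 161, nat_lit 46, nat_lit 161, nat_lit 46, nat_lit 92, nat_lit 69, nat_lit 138, nat_lit 69, nat_lit 138, nat_lit 69, nat_lit 138, nat_lit 69, nat_lit 138, nat_lit 69, nat_lit 115, nat_lit 46, nat_lit 161, nat_lit 46])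
noncomputable def r200 : WT := (.leaf (nat_lit 8202) [nat_lit 46, nat_lit 161, nat_lit 46, nat_lit 92, nat_lit 69, nat_lit 138, nat_lit 69, nat_lit 138, nat_lit 69, nat_lit 138, nat_lit 69, nat_lit 138, nat_lit 69, nat_lit 115, nat_lit 46, nat_lit 161, nat_lit 46, nat_lit 161, nat_lit 46])
noncomputable def r201 : WT := (.leaf (nat_lit 11272) [nat_lit 69, nat_lit 138, nat_lit 115, nat_lit 46, nat_lit 138, nat_lit 69, nat_lit 92, nat_lit 161, nat_lit 46, nat_lit 138, nat_lit 69, nat_lit 161, nat_lit 115, nat_lit 46, nat_lit 92, nat_lit 69, nat_lit 92, nat_lit 138, nat_lit 46])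
noncomputable def r202 : WT := (.leaf (nat_lit 10266) [nat_lit 69, nat_lit 161, nat_lit 69, nat_lit 161, nat_lit 69, nat_lit 115, nat_lit 46, nat_lit 138, nat_lit 46, nat_lit 138, nat_lit 46, nat_lit 138, nat_lit 46, nat_lit 138, nat_lit 46, nat_lit 92, nat_lit 69, nat_lit 161, nat_lit 69])
noncomputable def r203 : WT := (.leaf (nat_lit 13337) [nat_lit 92, nat_lit 69, nat_lit 161, nat_lit 115, nat_lit 69, nat_lit 161, nat_lit 115, nat_lit 69, nat_lit 161, nat_lit 115, nat_lit 69, nat_lit 161, nat_lit 115, nat_lit 69, nat_lit 161, nat_lit 115, nat_lit 69, nat_lit 161, nat_lit 92, nat_lit 69, nat_lit 161, nat_lit 92, nat_lit 69, nat_lit 161, nat_lit 92, nat_lit 69, nat_lit 161, nat_lit 92, nat_lit 69])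
noncomputable def r204 : WT := (.leaf (nat_lit 12326) [nat_lit 69, nat_lit 92, nat_lit 138, nat_lit 46, nat_lit 161, nat_lit 69, nat_lit 138, nat_lit 115, nat_lit 46, nat_lit 92, nat_lit 69, nat_lit 92, nat_lit 161, nat_lit 46, nat_lit 138, nat_lit 69, nat_lit 161, nat_lit 115, nat_lit 46])
noncomputable def r205 : WT := (.leaf (nat_lit 10274) [nat_lit 69, nat_lit 115, nat_lit 46, nat_lit 138, nat_lit 46, nat_lit 138, nat_lit 46, nat_lit 138, nat_lit 46, nat_lit 138, nat_lit 46, nat_lit 92, nat_lit 69, nat_lit 161, nat_lit 69, nat_lit 161, nat_lit 69, nat_lit 161, nat_lit 69])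
noncomputable def r206 : WT := (.leaf (nat_lit 12312) [nat_lit 46, nat_lit 138, nat_lit 69, nat_lit 161, nat_lit 115, nat_lit 46, nat_lit 161, nat_lit 69, nat_lit 92, nat_lit 138, nat_lit 46, nat_lit 161, nat_lit 69, nat_lit 138, nat_lit 115, nat_lit 46, nat_lit 92, nat_lit 69, nat_lit 92])
noncomputable def r207 : WT := (.leaf (nat_lit 10262) [nat_lit 69, nat_lit 161, nat_lit 69, nat_lit 161, nat_lit 69, nat_lit 161, nat_lit 69, nat_lit 115, nat_lit 46, nat_lit 138, nat_lit 46, nat_lit 138, nat_lit 46, nat_lit 138, nat_lit 46, nat_lit 138, nat_lit 46, nat_lit 92, nat_lit 69])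
noncomputable def r208 : WT := (.node (nat_lit 14) r206 r207)
noncomputable def r209 : WT := (.node (nat_lit 7) (.node (nat_lit 5) r197 (.node (nat_lit 6) r198 r199)) (.node (nat_lit 10) (.node (nat_lit 8) r200 (.node (nat_lit 9) r201 r202)) (.node (nat_lit 12) (.node (nat_lit 11) r203 r204) (.node (nat_lit 13) r205 r208))))
noncomputable def r210 : WT := (.leaf (nat_lit 9218) [nat_lit 69, nat_lit 161, nat_lit 46, nat_lit 138, nat_lit 69, nat_lit 138, nat_lit 46, nat_lit 92, nat_lit 69, nat_lit 161, nat_lit 46, nat_lit 161, nat_lit 69, nat_lit 138, nat_lit 46, nat_lit 138, nat_lit 69, nat_lit 92, nat_lit 46])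
noncomputable def r211 : WT := (.leaf (nat_lit 12320) [nat_lit 115, nat_lit 46, nat_lit 161, nat_lit 69, nat_lit 92, nat_lit 138, nat_lit 46, nat_lit 161, nat_lit 69, nat_lit 138, nat_lit 115, nat_lit 46, nat_lit 92, nat_lit 69, nat_lit 92, nat_lit 161, nat_lit 46, nat_lit 138, nat_lit 69])
noncomputable def r212 : WT := (.leaf (nat_lit 11299) [nat_lit 115, nat_lit 46, nat_lit 115, nat_lit 69, nat_lit 92, nat_lit 138, nat_lit 46, nat_lit 161, nat_lit 69, nat_lit 138, nat_lit 115, nat_lit 46, nat_lit 161, nat_lit 69, nat_lit 92, nat_lit 161, nat_lit 46, nat_lit 138, nat_lit 69])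
noncomputable def r213 : WT := (.node (nat_lit 17) r211 r212)
noncomputable def r214 : WT := (.leaf (nat_lit 9245) [nat_lit 69, nat_lit 138, nat_lit 46, nat_lit 138, nat_lit 69, nat_lit 115, nat_lit 46, nat_lit 161, nat_lit 69, nat_lit 161, nat_lit 46, nat_lit 138, nat_lit 69, nat_lit 138, nat_lit 46, nat_lit 115, nat_lit 69, nat_lit 161, nat_lit 46])
noncomputable def r215 : WT := (.leaf (nat_lit 9241) [nat_lit 46, nat_lit 161, nat_lit 69, nat_lit 138, nat_lit 46, nat_lit 138, nat_lit 69, nat_lit 115, nat_lit 46, nat_lit 161, nat_lit 69, nat_lit 161, nat_lit 46, nat_lit 138, nat_lit 69, nat_lit 138, nat_lit 46, nat_lit 115, nat_lit 69])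
noncomputable def r216 : WT := (.leaf (nat_lit 9242) [nat_lit 69, nat_lit 138, nat_lit 46, nat_lit 138, nat_lit 69, nat_lit 92, nat_lit 46, nat_lit 161, nat_lit 69, nat_lit 161, nat_lit 46, nat_lit 138, nat_lit 69, nat_lit 138, nat_lit 46, nat_lit 92, nat_lit 69, nat_lit 161, nat_lit 46])
noncomputable def r217 : WT := (.node (nat_lit 20) r215 r216)
noncomputable def r218 : WT := (.leaf (nat_lit 9238) [nat_lit 46, nat_lit 161, nat_lit 69, nat_lit 138, nat_lit 46, nat_lit 138, nat_lit 69, nat_lit 92, nat_lit 46, nat_lit 161, nat_lit 69, nat_lit 161, nat_lit 46, nat_lit 138, nat_lit 69, nat_lit 138, nat_lit 46, nat_lit 92, nat_lit 69])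
noncomputable def r219 : WT := (.leaf (nat_lit 9221) [nat_lit 69, nat_lit 161, nat_lit 46, nat_lit 138, nat_lit 69, nat_lit 138, nat_lit 46, nat_lit 115, nat_lit 69, nat_lit 161, nat_lit 46, nat_lit 161, nat_lit 69, nat_lit 138, nat_lit 46, nat_lit 138, nat_lit 69, nat_lit 115, nat_lit 46])
noncomputable def r220 : WT := (.leaf (nat_lit 10265) [nat_lit 69, nat_lit 161, nat_lit 69, nat_lit 161, nat_lit 69, nat_lit 161, nat_lit 69, nat_lit 92, nat_lit 46, nat_lit 138, nat_lit 46, nat_lit 138, nat_lit 46, nat_lit 138, nat_lit 46, nat_lit 138, nat_lit 46, nat_lit 115, nat_lit 69])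
noncomputable def r221 : WT := (.node (nat_lit 23) r219 r220)
noncomputable def r222 : WT := (.leaf (nat_lit 10273) [nat_lit 69, nat_lit 161, nat_lit 69, nat_lit 92, nat_lit 46, nat_lit 138, nat_lit 46, nat_lit 138, nat_lit 46, nat_lit 138, nat_lit 46, nat_lit 138, nat_lit 46, nat_lit 115, nat_lit 69, nat_lit 161, nat_lit 69, nat_lit 161, nat_lit 69])
noncomputable def r223 : WT := (.leaf (nat_lit 8206) [nat_lit 46, nat_lit 92, nat_lit 69, nat_lit 138, nat_lit 69, nat_lit 138, nat_lit 69, nat_lit 138, nat_lit 69, nat_lit 138, nat_lit 69, nat_lit 115, nat_lit 46, nat_lit 161, nat_lit 46, nat_lit 161, nat_lit 46, nat_lit 161, nat_lit 46])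
noncomputable def r224 : WT := (.node (nat_lit 25) r222 r223)
noncomputable def r225 : WT := (.leaf (nat_lit 11288) [nat_lit 46, nat_lit 138, nat_lit 69, nat_lit 161, nat_lit 115, nat_lit 46, nat_lit 92, nat_lit 69, nat_lit 92, nat_lit 138, nat_lit 46, nat_lit 161, nat_lit 69, nat_lit 138, nat_lit 115, nat_lit 46, nat_lit 138, nat_lit 69, nat_lit 92])
noncomputable def r226 : WT := (.leaf (nat_lit 12296) [nat_lit 69, nat_lit 138, nat_lit 115, nat_lit 46, nat_lit 92, nat_lit 69, nat_lit 92, nat_lit 161, nat_lit 46, nat_lit 138, nat_lit 69, nat_lit 161, nat_lit 115, nat_lit 46, nat_lit 161, nat_lit 69, nat_lit 92, nat_lit 138, nat_lit 46])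
noncomputable def r227 : WT := (.node (nat_lit 27) r225 r226)
noncomputable def r228 : WT := (.leaf (nat_lit 12299) [nat_lit 69, nat_lit 138, nat_lit 115, nat_lit 46, nat_lit 115, nat_lit 69, nat_lit 92, nat_lit 161, nat_lit 46, nat_lit 138, nat_lit 69, nat_lit 161, nat_lit 115, nat_lit 46, nat_lit 138, nat_lit 69, nat_lit 92, nat_lit 138, nat_lit 46])
noncomputable def r229 : WT := (.leaf (nat_lit 13319) [nat_lit 92, nat_lit 69, nat_lit 161, nat_lit 92, nat_lit 69, nat_lit 161, nat_lit 92, nat_lit 69, nat_lit 161, nat_lit 92, nat_lit 69, nat_lit 161, nat_lit 115, nat_lit 69, nat_lit 161, nat_lit 115, nat_lit 69, nat_lit 161, nat_lit 115, nat_lit 69, nat_lit 161, nat_lit 115, nat_lit 69, nat_lit 161, nat_lit 115, nat_lit 69, nat_lit 161, nat_lit 92, nat_lit 69])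
noncomputable def r230 : WT := (.node (nat_lit 29) r228 r229)
noncomputable def r231 : WT := (.leaf (nat_lit 13325) [nat_lit 92, nat_lit 69, nat_lit 161, nat_lit 92, nat_lit 69, nat_lit 161, nat_lit 92, nat_lit 69, nat_lit 161, nat_lit 115, nat_lit 69, nat_lit 161, nat_lit 115, nat_lit 69, nat_lit 161, nat_lit 115, nat_lit 69, nat_lit 161, nat_lit 115, nat_lit 69, nat_lit 161, nat_lit 115, nat_lit 69, nat_lit 161, nat_lit 92, nat_lit 69, nat_lit 161, nat_lit 92, nat_lit 69])
noncomputable def r232 : WT := (.leaf (nat_lit 10269) [nat_lit 69, nat_lit 161, nat_lit 69, nat_lit 161, nat_lit 69, nat_lit 92, nat_lit 46, nat_lit 138, nat_lit 46, nat_lit 138, nat_lit 46, nat_lit 138, nat_lit 46, nat_lit 138, nat_lit 46, nat_lit 115, nat_lit 69, nat_lit 161, nat_lit 69])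
noncomputable def r233 : WT := (.node (nat_lit 31) r231 r232)
noncomputable def r234 : WT := (.leaf (nat_lit 11285) [nat_lit 69, nat_lit 92, nat_lit 161, nat_lit 46, nat_lit 138, nat_lit 69, nat_lit 161, nat_lit 115, nat_lit 46, nat_lit 115, nat_lit 69, nat_lit 92, nat_lit 138, nat_lit 46, nat_lit 161, nat_lit 69, nat_lit 138, nat_lit 115, nat_lit 46])
noncomputable def r235 : WT := (.leaf (nat_lit 11275) [nat_lit 69, nat_lit 138, nat_lit 115, nat_lit 46, nat_lit 161, nat_lit 69, nat_lit 92, nat_lit 161, nat_lit 46, nat_lit 138, nat_lit 69, nat_lit 161, nat_lit 115, nat_lit 46, nat_lit 115, nat_lit 69, nat_lit 92, nat_lit 138, nat_lit 46])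
noncomputable def r236 : WT := (.node (nat_lit 33) r234 r235)
noncomputable def r237 : WT := (.leaf (nat_lit 11296) [nat_lit 115, nat_lit 46, nat_lit 92, nat_lit 69, nat_lit 92, nat_lit 138, nat_lit 46, nat_lit 161, nat_lit 69, nat_lit 138, nat_lit 115, nat_lit 46, nat_lit 138, nat_lit 69, nat_lit 92, nat_lit 161, nat_lit 46, nat_lit 138, nat_lit 69])
noncomputable def r238 : WT := (.leaf (nat_lit 10270) [nat_lit 69, nat_lit 161, nat_lit 69, nat_lit 115, nat_lit 46, nat_lit 138, nat_lit 46, nat_lit 138, nat_lit 46, nat_lit 138, nat_lit 46, nat_lit 138, nat_lit 46, nat_lit 92, nat_lit 69, nat_lit 161, nat_lit 69, nat_lit 161, nat_lit 69])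
noncomputable def r239 : WT := (.leaf (nat_lit 8209) [nat_lit 46, nat_lit 115, nat_lit 69, nat_lit 138, nat_lit 69, nat_lit 138, nat_lit 69, nat_lit 138, nat_lit 69, nat_lit 138, nat_lit 69, nat_lit 92, nat_lit 46, nat_lit 161, nat_lit 46, nat_lit 161, nat_lit 46, nat_lit 161, nat_lit 46])
noncomputable def r240 : WT := (.node (nat_lit 35) r237 (.node (nat_lit 36) r238 r239))
noncomputable def r241 : WT := (.leaf (nat_lit 8205) [nat_lit 46, nat_lit 161, nat_lit 46, nat_lit 115, nat_lit 69, nat_lit 138, nat_lit 69, nat_lit 138, nat_lit 69, nat_lit 138, nat_lit 69, nat_lit 138, nat_lit 69, nat_lit 92, nat_lit 46, nat_lit 161, nat_lit 46, nat_lit 161, nat_lit 46])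
noncomputable def r242 : WT := (.leaf (nat_lit 11291) [nat_lit 46, nat_lit 138, nat_lit 69, nat_lit 161, nat_lit 115, nat_lit 46, nat_lit 115, nat_lit 69, nat_lit 92, nat_lit 138, nat_lit 46, nat_lit 161, nat_lit 69, nat_lit 138, nat_lit 115, nat_lit 46, nat_lit 161, nat_lit 69, nat_lit 92])
noncomputable def r243 : WT := (.node (nat_lit 38) r241 r242)
noncomputable def r244 : WT := (.leaf (nat_lit 13367) [nat_lit 115, nat_lit 69, nat_lit 161, nat_lit 92, nat_lit 69, nat_lit 161, nat_lit 92, nat_lit 69, nat_lit 161, nat_lit 92, nat_lit 69, nat_lit 161, nat_lit 92, nat_lit 69, nat_lit 161, nat_lit 92, nat_lit 69, nat_lit 161, nat_lit 115, nat_lit 69, nat_lit 161, nat_lit 115, nat_lit 69, nat_lit 161, nat_lit 115, nat_lit 69, nat_lit 161, nat_lit 115, nat_lit 69])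
noncomputable def r245 : WT := (.leaf (nat_lit 13349) [nat_lit 115, nat_lit 69, nat_lit 161, nat_lit 115, nat_lit 69, nat_lit 161, nat_lit 115, nat_lit 69, nat_lit 161, nat_lit 115, nat_lit 69, nat_lit 161, nat_lit 92, nat_lit 69, nat_lit 161, nat_lit 92, nat_lit 69, nat_lit 161, nat_lit 92, nat_lit 69, nat_lit 161, nat_lit 92, nat_lit 69, nat_lit 161, nat_lit 92, nat_lit 69, nat_lit 161, nat_lit 115, nat_lit 69])
noncomputable def r246 : WT := (.leaf (nat_lit 8201) [nat_lit 46, nat_lit 161, nat_lit 46, nat_lit 161, nat_lit 46, nat_lit 115, nat_lit 69, nat_lit 138, nat_lit 69, nat_lit 138, nat_lit 69, nat_lit 138, nat_lit 69, nat_lit 138, nat_lit 69, nat_lit 92, nat_lit 46, nat_lit 161, nat_lit 46])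
noncomputable def r247 : WT := (.node (nat_lit 40) r244 (.node (nat_lit 41) r245 r246))
noncomputable def r248 : WT := (.leaf (nat_lit 12315) [nat_lit 46, nat_lit 138, nat_lit 69, nat_lit 161, nat_lit 115, nat_lit 46, nat_lit 138, nat_lit 69, nat_lit 92, nat_lit 138, nat_lit 46, nat_lit 161, nat_lit 69, nat_lit 138, nat_lit 115, nat_lit 46, nat_lit 115, nat_lit 69, nat_lit 92])
noncomputable def r249 : WT := (.leaf (nat_lit 10277) [nat_lit 69, nat_lit 92, nat_lit 46, nat_lit 138, nat_lit 46, nat_lit 138, nat_lit 46, nat_lit 138, nat_lit 46, nat_lit 138, nat_lit 46, nat_lit 115, nat_lit 69, nat_lit 161, nat_lit 69, nat_lit 161, nat_lit 69, nat_lit 161, nat_lit 69])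
noncomputable def r250 : WT := (.leaf (nat_lit 13313) [nat_lit 92, nat_lit 69, nat_lit 161, nat_lit 92, nat_lit 69, nat_lit 161, nat_lit 92, nat_lit 69, nat_lit 161, nat_lit 92, nat_lit 69, nat_lit 161, nat_lit 92, nat_lit 69, nat_lit 161, nat_lit 115, nat_lit 69, nat_lit 161, nat_lit 115, nat_lit 69, nat_lit 161, nat_lit 115, nat_lit 69, nat_lit 161, nat_lit 115, nat_lit 69, nat_lit 161, nat_lit 115, nat_lit 69])
noncomputable def r251 : WT := (.node (nat_lit 43) r248 (.node (nat_lit 44) r249 r250))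
noncomputable def r252 : WT := (.leaf (nat_lit 12323) [nat_lit 115, nat_lit 46, nat_lit 138, nat_lit 69, nat_lit 92, nat_lit 138, nat_lit 46, nat_lit 161, nat_lit 69, nat_lit 138, nat_lit 115, nat_lit 46, nat_lit 115, nat_lit 69, nat_lit 92, nat_lit 161, nat_lit 46, nat_lit 138, nat_lit 69])
noncomputable def r253 : WT := (.leaf (nat_lit 13331) [nat_lit 92, nat_lit 69, nat_lit 161, nat_lit 92, nat_lit 69, nat_lit 161, nat_lit 115, nat_lit 69, nat_lit 161, nat_lit 115, nat_lit 69, nat_lit 161, nat_lit 115, nat_lit 69, nat_lit 161, nat_lit 115, nat_lit 69, nat_lit 161, nat_lit 115, nat_lit 69, nat_lit 161, nat_lit 92, nat_lit 69, nat_lit 161, nat_lit 92, nat_lit 69, nat_lit 161, nat_lit 92, nat_lit 69])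
noncomputable def r254 : WT := (.leaf (nat_lit 13343) [nat_lit 115, nat_lit 69, nat_lit 161, nat_lit 115, nat_lit 69, nat_lit 161, nat_lit 115, nat_lit 69, nat_lit 161, nat_lit 115, nat_lit 69, nat_lit 161, nat_lit 115, nat_lit 69, nat_lit 161, nat_lit 92, nat_lit 69, nat_lit 161, nat_lit 92, nat_lit 69, nat_lit 161, nat_lit 92, nat_lit 69, nat_lit 161, nat_lit 92, nat_lit 69, nat_lit 161, nat_lit 92, nat_lit 69])
noncomputable def r255 : WT := (.leaf (nat_lit 9225) [nat_lit 46, nat_lit 138, nat_lit 69, nat_lit 138, nat_lit 46, nat_lit 115, nat_lit 69, nat_lit 161, nat_lit 46, nat_lit 161, nat_lit 69, nat_lit 138, nat_lit 46, nat_lit 138, nat_lit 69, nat_lit 115, nat_lit 46, nat_lit 161, nat_lit 69])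
noncomputable def r256 : WT := (.leaf (nat_lit 8197) [nat_lit 46, nat_lit 161, nat_lit 46, nat_lit 161, nat_lit 46, nat_lit 161, nat_lit 46, nat_lit 115, nat_lit 69, nat_lit 138, nat_lit 69, nat_lit 138, nat_lit 69, nat_lit 138, nat_lit 69, nat_lit 138, nat_lit 69, nat_lit 92, nat_lit 46])
noncomputable def r257 : WT := (.node (nat_lit 47) (.node (nat_lit 46) r252 r253) (.node (nat_lit 48) r254 (.node (nat_lit 49) r255 r256)))
noncomputable def r258 : WT := (.node (nat_lit 28) (.node (nat_lit 21) (.node (nat_lit 18) (.node (nat_lit 16) r210 r213) (.node (nat_lit 19) r214 r217)) (.node (nat_lit 24) (.node (nat_lit 22) r218 r221) (.node (nat_lit 26) r224 r227))) (.node (nat_lit 37) (.node (nat_lit 32) (.node (nat_lit 30) r230 r233) (.node (nat_lit 34) r236 r240)) (.node (nat_lit 42) (.node (nat_lit 39) r243 r247) (.node (nat_lit 45) r251 r257))))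
noncomputable def w5 : WT := (.node (nat_lit 1) (.leaf (nat_lit 2050) [nat_lit 138]) (.node (nat_lit 2) (.leaf (nat_lit 7174) [nat_lit 92, nat_lit 138, nat_lit 115]) (.node (nat_lit 4) (.node (nat_lit 3) (.leaf (nat_lit 7173) [nat_lit 115, nat_lit 138, nat_lit 92]) (.leaf (nat_lit 5121) [nat_lit 161, nat_lit 161])) (.node (nat_lit 15) r209 r258))))
noncomputable def r259 : WT := (.leaf (nat_lit 10264) [nat_lit 69, nat_lit 161, nat_lit 69, nat_lit 161, nat_lit 69, nat_lit 161, nat_lit 69, nat_lit 115, nat_lit 46, nat_lit 138, nat_lit 46, nat_lit 138, nat_lit 46, nat_lit 138, nat_lit 46, nat_lit 138, nat_lit 46, nat_lit 92, nat_lit 69, nat_lit 161])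
noncomputable def r260 : WT := (.leaf (nat_lit 8224) [nat_lit 69, nat_lit 138, nat_lit 69, nat_lit 115, nat_lit 46, nat_lit 161, nat_lit 46, nat_lit 161, nat_lit 46, nat_lit 161, nat_lit 46, nat_lit 161, nat_lit 46, nat_lit 92, nat_lit 69, nat_lit 138, nat_lit 69, nat_lit 138, nat_lit 69, nat_lit 138])
noncomputable def r261 : WT := (.leaf (nat_lit 11290) [nat_lit 46, nat_lit 138, nat_lit 69, nat_lit 161, nat_lit 115, nat_lit 46, nat_lit 92, nat_lit 69, nat_lit 92, nat_lit 138, nat_lit 46, nat_lit 161, nat_lit 69, nat_lit 138, nat_lit 115, nat_lit 46, nat_lit 138, nat_lit 69, nat_lit 92, nat_lit 161])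
noncomputable def r262 : WT := (.node (nat_lit 1) r259 (.node (nat_lit 2) r260 r261))
noncomputable def r263 : WT := (.leaf (nat_lit 9230) [nat_lit 138, nat_lit 46, nat_lit 92, nat_lit 69, nat_lit 161, nat_lit 46, nat_lit 161, nat_lit 69, nat_lit 138, nat_lit 46, nat_lit 138, nat_lit 69, nat_lit 92, nat_lit 46, nat_lit 161, nat_lit 69, nat_lit 161, nat_lit 46, nat_lit 138, nat_lit 69])
noncomputable def r264 : WT := (.leaf (nat_lit 9228) [nat_lit 69, nat_lit 138, nat_lit 46, nat_lit 92, nat_lit 69, nat_lit 161, nat_lit 46, nat_lit 161, nat_lit 69, nat_lit 138, nat_lit 46, nat_lit 138, nat_lit 69, nat_lit 92, nat_lit 46, nat_lit 161, nat_lit 69, nat_lit 161, nat_lit 46, nat_lit 138])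
noncomputable def r265 : WT := (.leaf (nat_lit 8228) [nat_lit 69, nat_lit 115, nat_lit 46, nat_lit 161, nat_lit 46, nat_lit 161, nat_lit 46, nat_lit 161, nat_lit 46, nat_lit 161, nat_lit 46, nat_lit 92, nat_lit 69, nat_lit 138, nat_lit 69, nat_lit 138, nat_lit 69, nat_lit 138, nat_lit 69, nat_lit 138])
noncomputable def r266 : WT := (.leaf (nat_lit 10252) [nat_lit 46, nat_lit 138, nat_lit 46, nat_lit 92, nat_lit 69, nat_lit 161, nat_lit 69, nat_lit 161, nat_lit 69, nat_lit 161, nat_lit 69, nat_lit 161, nat_lit 69, nat_lit 115, nat_lit 46, nat_lit 138, nat_lit 46, nat_lit 138, nat_lit 46, nat_lit 138])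
noncomputable def r267 : WT := (.node (nat_lit 5) (.node (nat_lit 4) r263 r264) (.node (nat_lit 6) r265 r266))
noncomputable def r268 : WT := (.leaf (nat_lit 12319) [nat_lit 138, nat_lit 69, nat_lit 161, nat_lit 115, nat_lit 46, nat_lit 138, nat_lit 69, nat_lit 92, nat_lit 138, nat_lit 46, nat_lit 161, nat_lit 69, nat_lit 138, nat_lit 115, nat_lit 46, nat_lit 115, nat_lit 69, nat_lit 92, nat_lit 161, nat_lit 46])
noncomputable def r269 : WT := (.leaf (nat_lit 9243) [nat_lit 46, nat_lit 161, nat_lit 69, nat_lit 138, nat_lit 46, nat_lit 138, nat_lit 69, nat_lit 115, nat_lit 46, nat_lit 161, nat_lit 69, nat_lit 161, nat_lit 46, nat_lit 138, nat_lit 69, nat_lit 138, nat_lit 46, nat_lit 115, nat_lit 69, nat_lit 161])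
noncomputable def r270 : WT := (.leaf (nat_lit 8217) [nat_lit 138, nat_lit 69, nat_lit 138, nat_lit 69, nat_lit 138, nat_lit 69, nat_lit 138, nat_lit 69, nat_lit 92, nat_lit 46, nat_lit 161, nat_lit 46, nat_lit 161, nat_lit 46, nat_lit 161, nat_lit 46, nat_lit 161, nat_lit 46, nat_lit 115, nat_lit 69])
noncomputable def r271 : WT := (.leaf (nat_lit 9231) [nat_lit 69, nat_lit 138, nat_lit 46, nat_lit 115, nat_lit 69, nat_lit 161, nat_lit 46, nat_lit 161, nat_lit 69, nat_lit 138, nat_lit 46, nat_lit 138, nat_lit 69, nat_lit 115, nat_lit 46, nat_lit 161, nat_lit 69, nat_lit 161, nat_lit 46, nat_lit 138])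
noncomputable def r272 : WT := (.leaf (nat_lit 10262) [nat_lit 161, nat_lit 69, nat_lit 161, nat_lit 69, nat_lit 161, nat_lit 69, nat_lit 161, nat_lit 69, nat_lit 115, nat_lit 46, nat_lit 138, nat_lit 46, nat_lit 138, nat_lit 46, nat_lit 138, nat_lit 46, nat_lit 138, nat_lit 46, nat_lit 92, nat_lit 69])
noncomputable def r273 : WT := (.leaf (nat_lit 8227) [nat_lit 69, nat_lit 138, nat_lit 69, nat_lit 92, nat_lit 46, nat_lit 161, nat_lit 46, nat_lit 161, nat_lit 46, nat_lit 161, nat_lit 46, nat_lit 161, nat_lit 46, nat_lit 115, nat_lit 69, nat_lit 138, nat_lit 69, nat_lit 138, nat_lit 69, nat_lit 138])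
noncomputable def r274 : WT := (.node (nat_lit 10) (.node (nat_lit 8) r268 (.node (nat_lit 9) r269 r270)) (.node (nat_lit 11) r271 (.node (nat_lit 12) r272 r273)))
noncomputable def r275 : WT := (.leaf (nat_lit 10277) [nat_lit 161, nat_lit 69, nat_lit 92, nat_lit 46, nat_lit 138, nat_lit 46, nat_lit 138, nat_lit 46, nat_lit 138, nat_lit 46, nat_lit 138, nat_lit 46, nat_lit 115, nat_lit 69, nat_lit 161, nat_lit 69, nat_lit 161, nat_lit 69, nat_lit 161, nat_lit 69])
noncomputable def r276 : WT := (.leaf (nat_lit 10275) [nat_lit 69, nat_lit 161, nat_lit 69, nat_lit 92, nat_lit 46, nat_lit 138, nat_lit 46, nat_lit 138, nat_lit 46, nat_lit 138, nat_lit 46, nat_lit 138, nat_lit 46, nat_lit 115, nat_lit 69, nat_lit 161, nat_lit 69, nat_lit 161, nat_lit 69, nat_lit 161])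
noncomputable def r277 : WT := (.leaf (nat_lit 10265) [nat_lit 161, nat_lit 69, nat_lit 161, nat_lit 69, nat_lit 161, nat_lit 69, nat_lit 161, nat_lit 69, nat_lit 92, nat_lit 46, nat_lit 138, nat_lit 46, nat_lit 138, nat_lit 46, nat_lit 138, nat_lit 46, nat_lit 138, nat_lit 46, nat_lit 115, nat_lit 69])
noncomputable def r278 : WT := (.leaf (nat_lit 10259) [nat_lit 46, nat_lit 115, nat_lit 69, nat_lit 161, nat_lit 69, nat_lit 161, nat_lit 69, nat_lit 161, nat_lit 69, nat_lit 161, nat_lit 69, nat_lit 92, nat_lit 46, nat_lit 138, nat_lit 46, nat_lit 138, nat_lit 46, nat_lit 138, nat_lit 46, nat_lit 138])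
noncomputable def r279 : WT := (.leaf (nat_lit 11297) [nat_lit 69, nat_lit 161, nat_lit 115, nat_lit 46, nat_lit 115, nat_lit 69, nat_lit 92, nat_lit 138, nat_lit 46, nat_lit 161, nat_lit 69, nat_lit 138, nat_lit 115, nat_lit 46, nat_lit 161, nat_lit 69, nat_lit 92, nat_lit 161, nat_lit 46, nat_lit 138])
noncomputable def r280 : WT := (.node (nat_lit 16) (.node (nat_lit 14) r275 (.node (nat_lit 15) r276 r277)) (.node (nat_lit 17) r278 r279))
noncomputable def r281 : WT := (.leaf (nat_lit 10254) [nat_lit 138, nat_lit 46, nat_lit 92, nat_lit 69, nat_lit 161, nat_lit 69, nat_lit 161, nat_lit 69, nat_lit 161, nat_lit 69, nat_lit 161, nat_lit 69, nat_lit 115, nat_lit 46, nat_lit 138, nat_lit 46, nat_lit 138, nat_lit 46, nat_lit 138, nat_lit 46])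
noncomputable def r282 : WT := (.leaf (nat_lit 12298) [nat_lit 69, nat_lit 138, nat_lit 115, nat_lit 46, nat_lit 92, nat_lit 69, nat_lit 92, nat_lit 161, nat_lit 46, nat_lit 138, nat_lit 69, nat_lit 161, nat_lit 115, nat_lit 46, nat_lit 161, nat_lit 69, nat_lit 92, nat_lit 138, nat_lit 46, nat_lit 161])
noncomputable def r283 : WT := (.leaf (nat_lit 8199) [nat_lit 46, nat_lit 161, nat_lit 46, nat_lit 161, nat_lit 46, nat_lit 161, nat_lit 46, nat_lit 115, nat_lit 69, nat_lit 138, nat_lit 69, nat_lit 138, nat_lit 69, nat_lit 138, nat_lit 69, nat_lit 138, nat_lit 69, nat_lit 92, nat_lit 46, nat_lit 161])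
noncomputable def r284 : WT := (.leaf (nat_lit 11271) [nat_lit 138, nat_lit 46, nat_lit 161, nat_lit 69, nat_lit 138, nat_lit 115, nat_lit 46, nat_lit 161, nat_lit 69, nat_lit 92, nat_lit 161, nat_lit 46, nat_lit 138, nat_lit 69, nat_lit 161, nat_lit 115, nat_lit 46, nat_lit 115, nat_lit 69, nat_lit 92])
noncomputable def r285 : WT := (.leaf (nat_lit 12294) [nat_lit 46, nat_lit 161, nat_lit 69, nat_lit 138, nat_lit 115, nat_lit 46, nat_lit 92, nat_lit 69, nat_lit 92, nat_lit 161, nat_lit 46, nat_lit 138, nat_lit 69, nat_lit 161, nat_lit 115, nat_lit 46, nat_lit 161, nat_lit 69, nat_lit 92, nat_lit 138])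
noncomputable def r286 : WT := (.leaf (nat_lit 9255) [nat_lit 69, nat_lit 115, nat_lit 46, nat_lit 161, nat_lit 69, nat_lit 161, nat_lit 46, nat_lit 138, nat_lit 69, nat_lit 138, nat_lit 46, nat_lit 115, nat_lit 69, nat_lit 161, nat_lit 46, nat_lit 161, nat_lit 69, nat_lit 138, nat_lit 46, nat_lit 138])
noncomputable def r287 : WT := (.node (nat_lit 21) (.node (nat_lit 19) r281 (.node (nat_lit 20) r282 r283)) (.node (nat_lit 22) r284 (.node (nat_lit 23) r285 r286)))
noncomputable def r288 : WT := (.leaf (nat_lit 12288) [nat_lit 69, nat_lit 92, nat_lit 138, nat_lit 46, nat_lit 161, nat_lit 69, nat_lit 138, nat_lit 115, nat_lit 46, nat_lit 92, nat_lit 69, nat_lit 92, nat_lit 161, nat_lit 46, nat_lit 138, nat_lit 69, nat_lit 161, nat_lit 115, nat_lit 46, nat_lit 161])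
noncomputable def r289 : WT := (.leaf (nat_lit 10244) [nat_lit 46, nat_lit 138, nat_lit 46, nat_lit 138, nat_lit 46, nat_lit 138, nat_lit 46, nat_lit 92, nat_lit 69, nat_lit 161, nat_lit 69, nat_lit 161, nat_lit 69, nat_lit 161, nat_lit 69, nat_lit 161, nat_lit 69, nat_lit 115, nat_lit 46, nat_lit 138])
noncomputable def r290 : WT := (.leaf (nat_lit 11283) [nat_lit 46, nat_lit 161, nat_lit 69, nat_lit 92, nat_lit 161, nat_lit 46, nat_lit 138, nat_lit 69, nat_lit 161, nat_lit 115, nat_lit 46, nat_lit 115, nat_lit 69, nat_lit 92, nat_lit 138, nat_lit 46, nat_lit 161, nat_lit 69, nat_lit 138, nat_lit 115])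
noncomputable def r291 : WT := (.leaf (nat_lit 12317) [nat_lit 46, nat_lit 138, nat_lit 69, nat_lit 161, nat_lit 115, nat_lit 46, nat_lit 138, nat_lit 69, nat_lit 92, nat_lit 138, nat_lit 46, nat_lit 161, nat_lit 69, nat_lit 138, nat_lit 115, nat_lit 46, nat_lit 115, nat_lit 69, nat_lit 92, nat_lit 161])
noncomputable def r292 : WT := (.leaf (nat_lit 10246) [nat_lit 138, nat_lit 46, nat_lit 138, nat_lit 46, nat_lit 138, nat_lit 46, nat_lit 92, nat_lit 69, nat_lit 161, nat_lit 69, nat_lit 161, nat_lit 69, nat_lit 161, nat_lit 69, nat_lit 161, nat_lit 69, nat_lit 115, nat_lit 46, nat_lit 138, nat_lit 46])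
noncomputable def r293 : WT := (.node (nat_lit 27) (.node (nat_lit 25) r288 (.node (nat_lit 26) (.leaf (nat_lit 6147) [nat_lit 46, nat_lit 92, nat_lit 69, nat_lit 115, nat_lit 46]) r289)) (.node (nat_lit 28) r290 (.node (nat_lit 29) r291 r292)))
noncomputable def r294 : WT := (.leaf (nat_lit 12301) [nat_lit 69, nat_lit 138, nat_lit 115, nat_lit 46, nat_lit 115, nat_lit 69, nat_lit 92, nat_lit 161, nat_lit 46, nat_lit 138, nat_lit 69, nat_lit 161, nat_lit 115, nat_lit 46, nat_lit 138, nat_lit 69, nat_lit 92, nat_lit 138, nat_lit 46, nat_lit 161])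
noncomputable def r295 : WT := (.leaf (nat_lit 10245) [nat_lit 138, nat_lit 46, nat_lit 138, nat_lit 46, nat_lit 138, nat_lit 46, nat_lit 138, nat_lit 46, nat_lit 115, nat_lit 69, nat_lit 161, nat_lit 69, nat_lit 161, nat_lit 69, nat_lit 161, nat_lit 69, nat_lit 161, nat_lit 69, nat_lit 92, nat_lit 46])
noncomputable def r296 : WT := (.leaf (nat_lit 10274) [nat_lit 161, nat_lit 69, nat_lit 115, nat_lit 46, nat_lit 138, nat_lit 46, nat_lit 138, nat_lit 46, nat_lit 138, nat_lit 46, nat_lit 138, nat_lit 46, nat_lit 92, nat_lit 69, nat_lit 161, nat_lit 69, nat_lit 161, nat_lit 69, nat_lit 161, nat_lit 69])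
noncomputable def r297 : WT := (.leaf (nat_lit 12321) [nat_lit 69, nat_lit 161, nat_lit 115, nat_lit 46, nat_lit 138, nat_lit 69, nat_lit 92, nat_lit 138, nat_lit 46, nat_lit 161, nat_lit 69, nat_lit 138, nat_lit 115, nat_lit 46, nat_lit 115, nat_lit 69, nat_lit 92, nat_lit 161, nat_lit 46, nat_lit 138])
noncomputable def r298 : WT := (.leaf (nat_lit 10270) [nat_lit 161, nat_lit 69, nat_lit 161, nat_lit 69, nat_lit 115, nat_lit 46, nat_lit 138, nat_lit 46, nat_lit 138, nat_lit 46, nat_lit 138, nat_lit 46, nat_lit 138, nat_lit 46, nat_lit 92, nat_lit 69, nat_lit 161, nat_lit 69, nat_lit 161, nat_lit 69])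
noncomputable def r299 : WT := (.leaf (nat_lit 10248) [nat_lit 46, nat_lit 138, nat_lit 46, nat_lit 138, nat_lit 46, nat_lit 92, nat_lit 69, nat_lit 161, nat_lit 69, nat_lit 161, nat_lit 69, nat_lit 161, nat_lit 69, nat_lit 161, nat_lit 69, nat_lit 115, nat_lit 46, nat_lit 138, nat_lit 46, nat_lit 138])
noncomputable def r300 : WT := (.leaf (nat_lit 10279) [nat_lit 69, nat_lit 92, nat_lit 46, nat_lit 138, nat_lit 46, nat_lit 138, nat_lit 46, nat_lit 138, nat_lit 46, nat_lit 138, nat_lit 46, nat_lit 115, nat_lit 69, nat_lit 161, nat_lit 69, nat_lit 161, nat_lit 69, nat_lit 161, nat_lit 69, nat_lit 161])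
noncomputable def r301 : WT := (.leaf (nat_lit 11268) [nat_lit 138, nat_lit 46, nat_lit 161, nat_lit 69, nat_lit 138, nat_lit 115, nat_lit 46, nat_lit 138, nat_lit 69, nat_lit 92, nat_lit 161, nat_lit 46, nat_lit 138, nat_lit 69, nat_lit 161, nat_lit 115, nat_lit 46, nat_lit 92, nat_lit 69, nat_lit 92])
noncomputable def r302 : WT := (.node (nat_lit 34) (.node (nat_lit 32) (.node (nat_lit 31) r294 r295) (.node (nat_lit 33) r296 r297)) (.node (nat_lit 36) (.node (nat_lit 35) r298 r299) (.node (nat_lit 37) r300 r301)))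
noncomputable def r303 : WT := (.leaf (nat_lit 11276) [nat_lit 138, nat_lit 115, nat_lit 46, nat_lit 138, nat_lit 69, nat_lit 92, nat_lit 161, nat_lit 46, nat_lit 138, nat_lit 69, nat_lit 161, nat_lit 115, nat_lit 46, nat_lit 92, nat_lit 69, nat_lit 92, nat_lit 138, nat_lit 46, nat_lit 161, nat_lit 69])
noncomputable def r304 : WT := (.leaf (nat_lit 11278) [nat_lit 115, nat_lit 46, nat_lit 138, nat_lit 69, nat_lit 92, nat_lit 161, nat_lit 46, nat_lit 138, nat_lit 69, nat_lit 161, nat_lit 115, nat_lit 46, nat_lit 92, nat_lit 69, nat_lit 92, nat_lit 138, nat_lit 46, nat_lit 161, nat_lit 69, nat_lit 138])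
noncomputable def r305 : WT := (.leaf (nat_lit 12304) [nat_lit 46, nat_lit 92, nat_lit 69, nat_lit 92, nat_lit 161, nat_lit 46, nat_lit 138, nat_lit 69, nat_lit 161, nat_lit 115, nat_lit 46, nat_lit 161, nat_lit 69, nat_lit 92, nat_lit 138, nat_lit 46, nat_lit 161, nat_lit 69, nat_lit 138, nat_lit 115])
noncomputable def r306 : WT := (.leaf (nat_lit 11284) [nat_lit 69, nat_lit 92, nat_lit 161, nat_lit 46, nat_lit 138, nat_lit 69, nat_lit 161, nat_lit 115, nat_lit 46, nat_lit 92, nat_lit 69, nat_lit 92, nat_lit 138, nat_lit 46, nat_lit 161, nat_lit 69, nat_lit 138, nat_lit 115, nat_lit 46, nat_lit 138])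
noncomputable def r307 : WT := (.leaf (nat_lit 11286) [nat_lit 92, nat_lit 161, nat_lit 46, nat_lit 138, nat_lit 69, nat_lit 161, nat_lit 115, nat_lit 46, nat_lit 92, nat_lit 69, nat_lit 92, nat_lit 138, nat_lit 46, nat_lit 161, nat_lit 69, nat_lit 138, nat_lit 115, nat_lit 46, nat_lit 138, nat_lit 69])
noncomputable def r308 : WT := (.leaf (nat_lit 12302) [nat_lit 115, nat_lit 46, nat_lit 92, nat_lit 69, nat_lit 92, nat_lit 161, nat_lit 46, nat_lit 138, nat_lit 69, nat_lit 161, nat_lit 115, nat_lit 46, nat_lit 161, nat_lit 69, nat_lit 92, nat_lit 138, nat_lit 46, nat_lit 161, nat_lit 69, nat_lit 138])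
noncomputable def r309 : WT := (.leaf (nat_lit 11292) [nat_lit 138, nat_lit 69, nat_lit 161, nat_lit 115, nat_lit 46, nat_lit 92, nat_lit 69, nat_lit 92, nat_lit 138, nat_lit 46, nat_lit 161, nat_lit 69, nat_lit 138, nat_lit 115, nat_lit 46, nat_lit 138, nat_lit 69, nat_lit 92, nat_lit 161, nat_lit 46])
noncomputable def r310 : WT := (.leaf (nat_lit 11294) [nat_lit 69, nat_lit 161, nat_lit 115, nat_lit 46, nat_lit 92, nat_lit 69, nat_lit 92, nat_lit 138, nat_lit 46, nat_lit 161, nat_lit 69, nat_lit 138, nat_lit 115, nat_lit 46, nat_lit 138, nat_lit 69, nat_lit 92, nat_lit 161, nat_lit 46, nat_lit 138])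
noncomputable def r311 : WT := (.node (nat_lit 42) (.node (nat_lit 40) (.node (nat_lit 39) r303 r304) (.node (nat_lit 41) r305 r306)) (.node (nat_lit 44) (.node (nat_lit 43) r307 r308) (.node (nat_lit 45) r309 r310)))
noncomputable def r312 : WT := (.leaf (nat_lit 11296) [nat_lit 161, nat_lit 115, nat_lit 46, nat_lit 92, nat_lit 69, nat_lit 92, nat_lit 138, nat_lit 46, nat_lit 161, nat_lit 69, nat_lit 138, nat_lit 115, nat_lit 46, nat_lit 138, nat_lit 69, nat_lit 92, nat_lit 161, nat_lit 46, nat_lit 138, nat_lit 69])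
noncomputable def r313 : WT := (.leaf (nat_lit 11300) [nat_lit 46, nat_lit 92, nat_lit 69, nat_lit 92, nat_lit 138, nat_lit 46, nat_lit 161, nat_lit 69, nat_lit 138, nat_lit 115, nat_lit 46, nat_lit 138, nat_lit 69, nat_lit 92, nat_lit 161, nat_lit 46, nat_lit 138, nat_lit 69, nat_lit 161, nat_lit 115])
noncomputable def r314 : WT := (.leaf (nat_lit 11273) [nat_lit 46, nat_lit 161, nat_lit 69, nat_lit 138, nat_lit 115, nat_lit 46, nat_lit 161, nat_lit 69, nat_lit 92, nat_lit 161, nat_lit 46, nat_lit 138, nat_lit 69, nat_lit 161, nat_lit 115, nat_lit 46, nat_lit 115, nat_lit 69, nat_lit 92, nat_lit 138])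
noncomputable def r315 : WT := (.leaf (nat_lit 11279) [nat_lit 138, nat_lit 115, nat_lit 46, nat_lit 161, nat_lit 69, nat_lit 92, nat_lit 161, nat_lit 46, nat_lit 138, nat_lit 69, nat_lit 161, nat_lit 115, nat_lit 46, nat_lit 115, nat_lit 69, nat_lit 92, nat_lit 138, nat_lit 46, nat_lit 161, nat_lit 69])
noncomputable def r316 : WT := (.leaf (nat_lit 11285) [nat_lit 161, nat_lit 69, nat_lit 92, nat_lit 161, nat_lit 46, nat_lit 138, nat_lit 69, nat_lit 161, nat_lit 115, nat_lit 46, nat_lit 115, nat_lit 69, nat_lit 92, nat_lit 138, nat_lit 46, nat_lit 161, nat_lit 69, nat_lit 138, nat_lit 115, nat_lit 46])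
noncomputable def r317 : WT := (.leaf (nat_lit 11287) [nat_lit 69, nat_lit 92, nat_lit 161, nat_lit 46, nat_lit 138, nat_lit 69, nat_lit 161, nat_lit 115, nat_lit 46, nat_lit 115, nat_lit 69, nat_lit 92, nat_lit 138, nat_lit 46, nat_lit 161, nat_lit 69, nat_lit 138, nat_lit 115, nat_lit 46, nat_lit 161])
noncomputable def r318 : WT := (.leaf (nat_lit 9244) [nat_lit 69, nat_lit 138, nat_lit 46, nat_lit 138, nat_lit 69, nat_lit 92, nat_lit 46, nat_lit 161, nat_lit 69, nat_lit 161, nat_lit 46, nat_lit 138, nat_lit 69, nat_lit 138, nat_lit 46, nat_lit 92, nat_lit 69, nat_lit 161, nat_lit 46, nat_lit 161])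
noncomputable def r319 : WT := (.leaf (nat_lit 8223) [nat_lit 69, nat_lit 138, nat_lit 69, nat_lit 138, nat_lit 69, nat_lit 92, nat_lit 46, nat_lit 161, nat_lit 46, nat_lit 161, nat_lit 46, nat_lit 161, nat_lit 46, nat_lit 161, nat_lit 46, nat_lit 115, nat_lit 69, nat_lit 138, nat_lit 69, nat_lit 138])
noncomputable def r320 : WT := (.node (nat_lit 50) (.node (nat_lit 48) (.node (nat_lit 47) r312 r313) (.node (nat_lit 49) r314 r315)) (.node (nat_lit 52) (.node (nat_lit 51) r316 r317) (.node (nat_lit 53) r318 r319)))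
noncomputable def r321 : WT := (.leaf (nat_lit 13315) [nat_lit 92, nat_lit 69, nat_lit 161, nat_lit 92, nat_lit 69, nat_lit 161, nat_lit 92, nat_lit 69, nat_lit 161, nat_lit 92, nat_lit 69, nat_lit 161, nat_lit 92, nat_lit 69, nat_lit 161, nat_lit 115, nat_lit 69, nat_lit 161, nat_lit 115, nat_lit 69, nat_lit 161, nat_lit 115, nat_lit 69, nat_lit 161, nat_lit 115, nat_lit 69, nat_lit 161, nat_lit 115, nat_lit 69, nat_lit 161])
noncomputable def r322 : WT := (.leaf (nat_lit 13370) [nat_lit 138, nat_lit 46, nat_lit 92, nat_lit 138, nat_lit 46, nat_lit 92, nat_lit 138, nat_lit 46, nat_lit 92, nat_lit 138, nat_lit 46, nat_lit 92, nat_lit 138, nat_lit 46, nat_lit 92, nat_lit 138, nat_lit 46, nat_lit 115, nat_lit 138, nat_lit 46, nat_lit 115, nat_lit 138, nat_lit 46, nat_lit 115, nat_lit 138, nat_lit 46, nat_lit 115, nat_lit 138, nat_lit 46, nat_lit 115])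
noncomputable def r323 : WT := (.leaf (nat_lit 8221) [nat_lit 138, nat_lit 69, nat_lit 138, nat_lit 69, nat_lit 138, nat_lit 69, nat_lit 92, nat_lit 46, nat_lit 161, nat_lit 46, nat_lit 161, nat_lit 46, nat_lit 161, nat_lit 46, nat_lit 161, nat_lit 46, nat_lit 115, nat_lit 69, nat_lit 138, nat_lit 69])
noncomputable def r324 : WT := (.leaf (nat_lit 8231) [nat_lit 69, nat_lit 92, nat_lit 46, nat_lit 161, nat_lit 46, nat_lit 161, nat_lit 46, nat_lit 161, nat_lit 46, nat_lit 161, nat_lit 46, nat_lit 115, nat_lit 69, nat_lit 138, nat_lit 69, nat_lit 138, nat_lit 69, nat_lit 138, nat_lit 69, nat_lit 138])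
noncomputable def r325 : WT := (.leaf (nat_lit 8215) [nat_lit 69, nat_lit 138, nat_lit 69, nat_lit 138, nat_lit 69, nat_lit 138, nat_lit 69, nat_lit 138, nat_lit 69, nat_lit 92, nat_lit 46, nat_lit 161, nat_lit 46, nat_lit 161, nat_lit 46, nat_lit 161, nat_lit 46, nat_lit 161, nat_lit 46, nat_lit 115])
noncomputable def r326 : WT := (.leaf (nat_lit 9224) [nat_lit 46, nat_lit 138, nat_lit 69, nat_lit 138, nat_lit 46, nat_lit 92, nat_lit 69, nat_lit 161, nat_lit 46, nat_lit 161, nat_lit 69, nat_lit 138, nat_lit 46, nat_lit 138, nat_lit 69, nat_lit 92, nat_lit 46, nat_lit 161, nat_lit 69, nat_lit 161])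
noncomputable def r327 : WT := (.leaf (nat_lit 9226) [nat_lit 138, nat_lit 69, nat_lit 138, nat_lit 46, nat_lit 92, nat_lit 69, nat_lit 161, nat_lit 46, nat_lit 161, nat_lit 69, nat_lit 138, nat_lit 46, nat_lit 138, nat_lit 69, nat_lit 92, nat_lit 46, nat_lit 161, nat_lit 69, nat_lit 161, nat_lit 46])
noncomputable def r328 : WT := (.leaf (nat_lit 9232) [nat_lit 46, nat_lit 92, nat_lit 69, nat_lit 161, nat_lit 46, nat_lit 161, nat_lit 69, nat_lit 138, nat_lit 46, nat_lit 138, nat_lit 69, nat_lit 92, nat_lit 46, nat_lit 161, nat_lit 69, nat_lit 161, nat_lit 46, nat_lit 138, nat_lit 69, nat_lit 138])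
noncomputable def r329 : WT := (.node (nat_lit 58) (.node (nat_lit 56) (.node (nat_lit 55) r321 r322) (.node (nat_lit 57) r323 r324)) (.node (nat_lit 60) (.node (nat_lit 59) r325 r326) (.node (nat_lit 61) r327 r328)))
noncomputable def r330 : WT := (.leaf (nat_lit 9240) [nat_lit 46, nat_lit 161, nat_lit 69, nat_lit 138, nat_lit 46, nat_lit 138, nat_lit 69, nat_lit 92, nat_lit 46, nat_lit 161, nat_lit 69, nat_lit 161, nat_lit 46, nat_lit 138, nat_lit 69, nat_lit 138, nat_lit 46, nat_lit 92, nat_lit 69, nat_lit 161])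
noncomputable def r331 : WT := (.leaf (nat_lit 9250) [nat_lit 138, nat_lit 69, nat_lit 92, nat_lit 46, nat_lit 161, nat_lit 69, nat_lit 161, nat_lit 46, nat_lit 138, nat_lit 69, nat_lit 138, nat_lit 46, nat_lit 92, nat_lit 69, nat_lit 161, nat_lit 46, nat_lit 161, nat_lit 69, nat_lit 138, nat_lit 46])
noncomputable def r332 : WT := (.leaf (nat_lit 13343) [nat_lit 161, nat_lit 115, nat_lit 69, nat_lit 161, nat_lit 115, nat_lit 69, nat_lit 161, nat_lit 115, nat_lit 69, nat_lit 161, nat_lit 115, nat_lit 69, nat_lit 161, nat_lit 115, nat_lit 69, nat_lit 161, nat_lit 92, nat_lit 69, nat_lit 161, nat_lit 92, nat_lit 69, nat_lit 161, nat_lit 92, nat_lit 69, nat_lit 161, nat_lit 92, nat_lit 69, nat_lit 161, nat_lit 92, nat_lit 69])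
noncomputable def r333 : WT := (.leaf (nat_lit 9251) [nat_lit 46, nat_lit 138, nat_lit 69, nat_lit 115, nat_lit 46, nat_lit 161, nat_lit 69, nat_lit 161, nat_lit 46, nat_lit 138, nat_lit 69, nat_lit 138, nat_lit 46, nat_lit 115, nat_lit 69, nat_lit 161, nat_lit 46, nat_lit 161, nat_lit 69, nat_lit 138])
noncomputable def r334 : WT := (.leaf (nat_lit 13328) [nat_lit 138, nat_lit 46, nat_lit 92, nat_lit 138, nat_lit 46, nat_lit 92, nat_lit 138, nat_lit 46, nat_lit 115, nat_lit 138, nat_lit 46, nat_lit 115, nat_lit 138, nat_lit 46, nat_lit 115, nat_lit 138, nat_lit 46, nat_lit 115, nat_lit 138, nat_lit 46, nat_lit 115, nat_lit 138, nat_lit 46, nat_lit 92, nat_lit 138, nat_lit 46, nat_lit 92, nat_lit 138, nat_lit 46, nat_lit 92])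
noncomputable def r335 : WT := (.leaf (nat_lit 9235) [nat_lit 46, nat_lit 115, nat_lit 69, nat_lit 161, nat_lit 46, nat_lit 161, nat_lit 69, nat_lit 138, nat_lit 46, nat_lit 138, nat_lit 69, nat_lit 115, nat_lit 46, nat_lit 161, nat_lit 69, nat_lit 161, nat_lit 46, nat_lit 138, nat_lit 69, nat_lit 138])
noncomputable def r336 : WT := (.leaf (nat_lit 9225) [nat_lit 161, nat_lit 46, nat_lit 138, nat_lit 69, nat_lit 138, nat_lit 46, nat_lit 115, nat_lit 69, nat_lit 161, nat_lit 46, nat_lit 161, nat_lit 69, nat_lit 138, nat_lit 46, nat_lit 138, nat_lit 69, nat_lit 115, nat_lit 46, nat_lit 161, nat_lit 69])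
noncomputable def r337 : WT := (.leaf (nat_lit 13359) [nat_lit 69, nat_lit 161, nat_lit 115, nat_lit 69, nat_lit 161, nat_lit 115, nat_lit 69, nat_lit 161, nat_lit 92, nat_lit 69, nat_lit 161, nat_lit 92, nat_lit 69, nat_lit 161, nat_lit 92, nat_lit 69, nat_lit 161, nat_lit 92, nat_lit 69, nat_lit 161, nat_lit 92, nat_lit 69, nat_lit 161, nat_lit 115, nat_lit 69, nat_lit 161, nat_lit 115, nat_lit 69, nat_lit 161, nat_lit 115])
noncomputable def r338 : WT := (.node (nat_lit 66) (.node (nat_lit 64) (.node (nat_lit 63) r330 r331) (.node (nat_lit 65) r332 r333)) (.node (nat_lit 68) (.node (nat_lit 67) r334 r335) (.node (nat_lit 69) r336 r337)))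
noncomputable def r339 : WT := (.leaf (nat_lit 12292) [nat_lit 138, nat_lit 46, nat_lit 161, nat_lit 69, nat_lit 138, nat_lit 115, nat_lit 46, nat_lit 92, nat_lit 69, nat_lit 92, nat_lit 161, nat_lit 46, nat_lit 138, nat_lit 69, nat_lit 161, nat_lit 115, nat_lit 46, nat_lit 161, nat_lit 69, nat_lit 92])
noncomputable def r340 : WT := (.leaf (nat_lit 11303) [nat_lit 46, nat_lit 115, nat_lit 69, nat_lit 92, nat_lit 138, nat_lit 46, nat_lit 161, nat_lit 69, nat_lit 138, nat_lit 115, nat_lit 46, nat_lit 161, nat_lit 69, nat_lit 92, nat_lit 161, nat_lit 46, nat_lit 138, nat_lit 69, nat_lit 161, nat_lit 115])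
noncomputable def r341 : WT := (.leaf (nat_lit 13361) [nat_lit 161, nat_lit 115, nat_lit 69, nat_lit 161, nat_lit 115, nat_lit 69, nat_lit 161, nat_lit 92, nat_lit 69, nat_lit 161, nat_lit 92, nat_lit 69, nat_lit 161, nat_lit 92, nat_lit 69, nat_lit 161, nat_lit 92, nat_lit 69, nat_lit 161, nat_lit 92, nat_lit 69, nat_lit 161, nat_lit 115, nat_lit 69, nat_lit 161, nat_lit 115, nat_lit 69, nat_lit 161, nat_lit 115, nat_lit 69])
noncomputable def r342 : WT := (.leaf (nat_lit 13321) [nat_lit 92, nat_lit 69, nat_lit 161, nat_lit 92, nat_lit 69, nat_lit 161, nat_lit 92, nat_lit 69, nat_lit 161, nat_lit 92, nat_lit 69, nat_lit 161, nat_lit 115, nat_lit 69, nat_lit 161, nat_lit 115, nat_lit 69, nat_lit 161, nat_lit 115, nat_lit 69, nat_lit 161, nat_lit 115, nat_lit 69, nat_lit 161, nat_lit 115, nat_lit 69, nat_lit 161, nat_lit 92, nat_lit 69, nat_lit 161])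
noncomputable def r343 : WT := (.leaf (nat_lit 13325) [nat_lit 161, nat_lit 92, nat_lit 69, nat_lit 161, nat_lit 92, nat_lit 69, nat_lit 161, nat_lit 92, nat_lit 69, nat_lit 161, nat_lit 115, nat_lit 69, nat_lit 161, nat_lit 115, nat_lit 69, nat_lit 161, nat_lit 115, nat_lit 69, nat_lit 161, nat_lit 115, nat_lit 69, nat_lit 161, nat_lit 115, nat_lit 69, nat_lit 161, nat_lit 92, nat_lit 69, nat_lit 161, nat_lit 92, nat_lit 69])
noncomputable def r344 : WT := (.leaf (nat_lit 13329) [nat_lit 69, nat_lit 161, nat_lit 92, nat_lit 69, nat_lit 161, nat_lit 92, nat_lit 69, nat_lit 161, nat_lit 115, nat_lit 69, nat_lit 161, nat_lit 115, nat_lit 69, nat_lit 161, nat_lit 115, nat_lit 69, nat_lit 161, nat_lit 115, nat_lit 69, nat_lit 161, nat_lit 115, nat_lit 69, nat_lit 161, nat_lit 92, nat_lit 69, nat_lit 161, nat_lit 92, nat_lit 69, nat_lit 161, nat_lit 92])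
noncomputable def r345 : WT := (.leaf (nat_lit 13355) [nat_lit 161, nat_lit 115, nat_lit 69, nat_lit 161, nat_lit 115, nat_lit 69, nat_lit 161, nat_lit 115, nat_lit 69, nat_lit 161, nat_lit 92, nat_lit 69, nat_lit 161, nat_lit 92, nat_lit 69, nat_lit 161, nat_lit 92, nat_lit 69, nat_lit 161, nat_lit 92, nat_lit 69, nat_lit 161, nat_lit 92, nat_lit 69, nat_lit 161, nat_lit 115, nat_lit 69, nat_lit 161, nat_lit 115, nat_lit 69])
noncomputable def r346 : WT := (.leaf (nat_lit 13331) [nat_lit 161, nat_lit 92, nat_lit 69, nat_lit 161, nat_lit 92, nat_lit 69, nat_lit 161, nat_lit 115, nat_lit 69, nat_lit 161, nat_lit 115, nat_lit 69, nat_lit 161, nat_lit 115, nat_lit 69, nat_lit 161, nat_lit 115, nat_lit 69, nat_lit 161, nat_lit 115, nat_lit 69, nat_lit 161, nat_lit 92, nat_lit 69, nat_lit 161, nat_lit 92, nat_lit 69, nat_lit 161, nat_lit 92, nat_lit 69])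
noncomputable def r347 : WT := (.leaf (nat_lit 13333) [nat_lit 92, nat_lit 69, nat_lit 161, nat_lit 92, nat_lit 69, nat_lit 161, nat_lit 115, nat_lit 69, nat_lit 161, nat_lit 115, nat_lit 69, nat_lit 161, nat_lit 115, nat_lit 69, nat_lit 161, nat_lit 115, nat_lit 69, nat_lit 161, nat_lit 115, nat_lit 69, nat_lit 161, nat_lit 92, nat_lit 69, nat_lit 161, nat_lit 92, nat_lit 69, nat_lit 161, nat_lit 92, nat_lit 69, nat_lit 161])
noncomputable def r348 : WT := (.leaf (nat_lit 13335) [nat_lit 69, nat_lit 161, nat_lit 92, nat_lit 69, nat_lit 161, nat_lit 115, nat_lit 69, nat_lit 161, nat_lit 115, nat_lit 69, nat_lit 161, nat_lit 115, nat_lit 69, nat_lit 161, nat_lit 115, nat_lit 69, nat_lit 161, nat_lit 115, nat_lit 69, nat_lit 161, nat_lit 92, nat_lit 69, nat_lit 161, nat_lit 92, nat_lit 69, nat_lit 161, nat_lit 92, nat_lit 69, nat_lit 161, nat_lit 92])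
noncomputable def r349 : WT := (.leaf (nat_lit 13353) [nat_lit 69, nat_lit 161, nat_lit 115, nat_lit 69, nat_lit 161, nat_lit 115, nat_lit 69, nat_lit 161, nat_lit 115, nat_lit 69, nat_lit 161, nat_lit 92, nat_lit 69, nat_lit 161, nat_lit 92, nat_lit 69, nat_lit 161, nat_lit 92, nat_lit 69, nat_lit 161, nat_lit 92, nat_lit 69, nat_lit 161, nat_lit 92, nat_lit 69, nat_lit 161, nat_lit 115, nat_lit 69, nat_lit 161, nat_lit 115])
noncomputable def r350 : WT := (.leaf (nat_lit 12324) [nat_lit 46, nat_lit 161, nat_lit 69, nat_lit 92, nat_lit 138, nat_lit 46, nat_lit 161, nat_lit 69, nat_lit 138, nat_lit 115, nat_lit 46, nat_lit 92, nat_lit 69, nat_lit 92, nat_lit 161, nat_lit 46, nat_lit 138, nat_lit 69, nat_lit 161, nat_lit 115])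
noncomputable def r351 : WT := (.leaf (nat_lit 13347) [nat_lit 69, nat_lit 161, nat_lit 115, nat_lit 69, nat_lit 161, nat_lit 115, nat_lit 69, nat_lit 161, nat_lit 115, nat_lit 69, nat_lit 161, nat_lit 115, nat_lit 69, nat_lit 161, nat_lit 92, nat_lit 69, nat_lit 161, nat_lit 92, nat_lit 69, nat_lit 161, nat_lit 92, nat_lit 69, nat_lit 161, nat_lit 92, nat_lit 69, nat_lit 161, nat_lit 92, nat_lit 69, nat_lit 161, nat_lit 115])
noncomputable def r352 : WT := (.leaf (nat_lit 13341) [nat_lit 69, nat_lit 161, nat_lit 115, nat_lit 69, nat_lit 161, nat_lit 115, nat_lit 69, nat_lit 161, nat_lit 115, nat_lit 69, nat_lit 161, nat_lit 115, nat_lit 69, nat_lit 161, nat_lit 115, nat_lit 69, nat_lit 161, nat_lit 92, nat_lit 69, nat_lit 161, nat_lit 92, nat_lit 69, nat_lit 161, nat_lit 92, nat_lit 69, nat_lit 161, nat_lit 92, nat_lit 69, nat_lit 161, nat_lit 92])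
noncomputable def r353 : WT := (.leaf (nat_lit 13354) [nat_lit 46, nat_lit 115, nat_lit 138, nat_lit 46, nat_lit 115, nat_lit 138, nat_lit 46, nat_lit 115, nat_lit 138, nat_lit 46, nat_lit 92, nat_lit 138, nat_lit 46, nat_lit 92, nat_lit 138, nat_lit 46, nat_lit 92, nat_lit 138, nat_lit 46, nat_lit 92, nat_lit 138, nat_lit 46, nat_lit 92, nat_lit 138, nat_lit 46, nat_lit 115, nat_lit 138, nat_lit 46, nat_lit 115, nat_lit 138])
noncomputable def r354 : WT := (.node (nat_lit 78) (.node (nat_lit 74) (.node (nat_lit 72) (.node (nat_lit 71) (.leaf (nat_lit 4096) [nat_lit 92, nat_lit 92, nat_lit 92]) r339) (.node (nat_lit 73) r340 r341)) (.node (nat_lit 76) (.node (nat_lit 75) r342 r343) (.node (nat_lit 77) r344 r345))) (.node (nat_lit 82) (.node (nat_lit 80) (.node (nat_lit 79) r346 r347) (.node (nat_lit 81) r348 r349)) (.node (nat_lit 84) (.node (nat_lit 83) r350 r351) (.node (nat_lit 85) r352 r353))))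
noncomputable def r355 : WT := (.leaf (nat_lit 12327) [nat_lit 46, nat_lit 138, nat_lit 69, nat_lit 92, nat_lit 138, nat_lit 46, nat_lit 161, nat_lit 69, nat_lit 138, nat_lit 115, nat_lit 46, nat_lit 115, nat_lit 69, nat_lit 92, nat_lit 161, nat_lit 46, nat_lit 138, nat_lit 69, nat_lit 161, nat_lit 115])
noncomputable def r356 : WT := (.leaf (nat_lit 12323) [nat_lit 161, nat_lit 115, nat_lit 46, nat_lit 138, nat_lit 69, nat_lit 92, nat_lit 138, nat_lit 46, nat_lit 161, nat_lit 69, nat_lit 138, nat_lit 115, nat_lit 46, nat_lit 115, nat_lit 69, nat_lit 92, nat_lit 161, nat_lit 46, nat_lit 138, nat_lit 69])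
noncomputable def r357 : WT := (.leaf (nat_lit 13332) [nat_lit 92, nat_lit 138, nat_lit 46, nat_lit 92, nat_lit 138, nat_lit 46, nat_lit 115, nat_lit 138, nat_lit 46, nat_lit 115, nat_lit 138, nat_lit 46, nat_lit 115, nat_lit 138, nat_lit 46, nat_lit 115, nat_lit 138, nat_lit 46, nat_lit 115, nat_lit 138, nat_lit 46, nat_lit 92, nat_lit 138, nat_lit 46, nat_lit 92, nat_lit 138, nat_lit 46, nat_lit 92, nat_lit 138, nat_lit 46])
noncomputable def r358 : WT := (.leaf (nat_lit 13334) [nat_lit 138, nat_lit 46, nat_lit 92, nat_lit 138, nat_lit 46, nat_lit 115, nat_lit 138, nat_lit 46, nat_lit 115, nat_lit 138, nat_lit 46, nat_lit 115, nat_lit 138, nat_lit 46, nat_lit 115, nat_lit 138, nat_lit 46, nat_lit 115, nat_lit 138, nat_lit 46, nat_lit 92, nat_lit 138, nat_lit 46, nat_lit 92, nat_lit 138, nat_lit 46, nat_lit 92, nat_lit 138, nat_lit 46, nat_lit 92])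
noncomputable def r359 : WT := (.leaf (nat_lit 13336) [nat_lit 46, nat_lit 92, nat_lit 138, nat_lit 46, nat_lit 115, nat_lit 138, nat_lit 46, nat_lit 115, nat_lit 138, nat_lit 46, nat_lit 115, nat_lit 138, nat_lit 46, nat_lit 115, nat_lit 138, nat_lit 46, nat_lit 115, nat_lit 138, nat_lit 46, nat_lit 92, nat_lit 138, nat_lit 46, nat_lit 92, nat_lit 138, nat_lit 46, nat_lit 92, nat_lit 138, nat_lit 46, nat_lit 92, nat_lit 138])
noncomputable def r360 : WT := (.leaf (nat_lit 13340) [nat_lit 138, nat_lit 46, nat_lit 115, nat_lit 138, nat_lit 46, nat_lit 115, nat_lit 138, nat_lit 46, nat_lit 115, nat_lit 138, nat_lit 46, nat_lit 115, nat_lit 138, nat_lit 46, nat_lit 115, nat_lit 138, nat_lit 46, nat_lit 92, nat_lit 138, nat_lit 46, nat_lit 92, nat_lit 138, nat_lit 46, nat_lit 92, nat_lit 138, nat_lit 46, nat_lit 92, nat_lit 138, nat_lit 46, nat_lit 92])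
noncomputable def r361 : WT := (.leaf (nat_lit 13342) [nat_lit 46, nat_lit 115, nat_lit 138, nat_lit 46, nat_lit 115, nat_lit 138, nat_lit 46, nat_lit 115, nat_lit 138, nat_lit 46, nat_lit 115, nat_lit 138, nat_lit 46, nat_lit 115, nat_lit 138, nat_lit 46, nat_lit 92, nat_lit 138, nat_lit 46, nat_lit 92, nat_lit 138, nat_lit 46, nat_lit 92, nat_lit 138, nat_lit 46, nat_lit 92, nat_lit 138, nat_lit 46, nat_lit 92, nat_lit 138])
noncomputable def r362 : WT := (.leaf (nat_lit 12313) [nat_lit 92, nat_lit 161, nat_lit 46, nat_lit 138, nat_lit 69, nat_lit 161, nat_lit 115, nat_lit 46, nat_lit 138, nat_lit 69, nat_lit 92, nat_lit 138, nat_lit 46, nat_lit 161, nat_lit 69, nat_lit 138, nat_lit 115, nat_lit 46, nat_lit 115, nat_lit 69])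
noncomputable def r363 : WT := (.leaf (nat_lit 12312) [nat_lit 161, nat_lit 46, nat_lit 138, nat_lit 69, nat_lit 161, nat_lit 115, nat_lit 46, nat_lit 161, nat_lit 69, nat_lit 92, nat_lit 138, nat_lit 46, nat_lit 161, nat_lit 69, nat_lit 138, nat_lit 115, nat_lit 46, nat_lit 92, nat_lit 69, nat_lit 92])
noncomputable def r364 : WT := (.leaf (nat_lit 12311) [nat_lit 69, nat_lit 92, nat_lit 161, nat_lit 46, nat_lit 138, nat_lit 69, nat_lit 161, nat_lit 115, nat_lit 46, nat_lit 138, nat_lit 69, nat_lit 92, nat_lit 138, nat_lit 46, nat_lit 161, nat_lit 69, nat_lit 138, nat_lit 115, nat_lit 46, nat_lit 115])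
noncomputable def r365 : WT := (.leaf (nat_lit 12297) [nat_lit 46, nat_lit 161, nat_lit 69, nat_lit 138, nat_lit 115, nat_lit 46, nat_lit 115, nat_lit 69, nat_lit 92, nat_lit 161, nat_lit 46, nat_lit 138, nat_lit 69, nat_lit 161, nat_lit 115, nat_lit 46, nat_lit 138, nat_lit 69, nat_lit 92, nat_lit 138])
noncomputable def r366 : WT := (.leaf (nat_lit 12293) [nat_lit 92, nat_lit 138, nat_lit 46, nat_lit 161, nat_lit 69, nat_lit 138, nat_lit 115, nat_lit 46, nat_lit 115, nat_lit 69, nat_lit 92, nat_lit 161, nat_lit 46, nat_lit 138, nat_lit 69, nat_lit 161, nat_lit 115, nat_lit 46, nat_lit 138, nat_lit 69])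
noncomputable def r367 : WT := (.leaf (nat_lit 13356) [nat_lit 115, nat_lit 138, nat_lit 46, nat_lit 115, nat_lit 138, nat_lit 46, nat_lit 115, nat_lit 138, nat_lit 46, nat_lit 92, nat_lit 138, nat_lit 46, nat_lit 92, nat_lit 138, nat_lit 46, nat_lit 92, nat_lit 138, nat_lit 46, nat_lit 92, nat_lit 138, nat_lit 46, nat_lit 92, nat_lit 138, nat_lit 46, nat_lit 115, nat_lit 138, nat_lit 46, nat_lit 115, nat_lit 138, nat_lit 46])
noncomputable def r368 : WT := (.leaf (nat_lit 12289) [nat_lit 138, nat_lit 69, nat_lit 92, nat_lit 138, nat_lit 46, nat_lit 161, nat_lit 69, nat_lit 138, nat_lit 115, nat_lit 46, nat_lit 115, nat_lit 69, nat_lit 92, nat_lit 161, nat_lit 46, nat_lit 138, nat_lit 69, nat_lit 161, nat_lit 115, nat_lit 46])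
noncomputable def r369 : WT := (.leaf (nat_lit 13367) [nat_lit 161, nat_lit 115, nat_lit 69, nat_lit 161, nat_lit 92, nat_lit 69, nat_lit 161, nat_lit 92, nat_lit 69, nat_lit 161, nat_lit 92, nat_lit 69, nat_lit 161, nat_lit 92, nat_lit 69, nat_lit 161, nat_lit 92, nat_lit 69, nat_lit 161, nat_lit 115, nat_lit 69, nat_lit 161, nat_lit 115, nat_lit 69, nat_lit 161, nat_lit 115, nat_lit 69, nat_lit 161, nat_lit 115, nat_lit 69])
noncomputable def r370 : WT := (.leaf (nat_lit 12316) [nat_lit 138, nat_lit 69, nat_lit 161, nat_lit 115, nat_lit 46, nat_lit 161, nat_lit 69, nat_lit 92, nat_lit 138, nat_lit 46, nat_lit 161, nat_lit 69, nat_lit 138, nat_lit 115, nat_lit 46, nat_lit 92, nat_lit 69, nat_lit 92, nat_lit 161, nat_lit 46])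
noncomputable def r371 : WT := (.node (nat_lit 94) (.node (nat_lit 90) (.node (nat_lit 88) (.node (nat_lit 87) r355 r356) (.node (nat_lit 89) r357 r358)) (.node (nat_lit 92) (.node (nat_lit 91) r359 r360) (.node (nat_lit 93) r361 r362))) (.node (nat_lit 98) (.node (nat_lit 96) (.node (nat_lit 95) r363 r364) (.node (nat_lit 97) r365 r366)) (.node (nat_lit 100) (.node (nat_lit 99) r367 r368) (.node (nat_lit 101) r369 r370))))
noncomputable def r372 : WT := (.leaf (nat_lit 13366) [nat_lit 46, nat_lit 115, nat_lit 138, nat_lit 46, nat_lit 92, nat_lit 138, nat_lit 46, nat_lit 92, nat_lit 138, nat_lit 46, nat_lit 92, nat_lit 138, nat_lit 46, nat_lit 92, nat_lit 138, nat_lit 46, nat_lit 92, nat_lit 138, nat_lit 46, nat_lit 115, nat_lit 138, nat_lit 46, nat_lit 115, nat_lit 138, nat_lit 46, nat_lit 115, nat_lit 138, nat_lit 46, nat_lit 115, nat_lit 138])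
noncomputable def r373 : WT := (.leaf (nat_lit 8209) [nat_lit 161, nat_lit 46, nat_lit 115, nat_lit 69, nat_lit 138, nat_lit 69, nat_lit 138, nat_lit 69, nat_lit 138, nat_lit 69, nat_lit 138, nat_lit 69, nat_lit 92, nat_lit 46, nat_lit 161, nat_lit 46, nat_lit 161, nat_lit 46, nat_lit 161, nat_lit 46])
noncomputable def r374 : WT := (.leaf (nat_lit 9229) [nat_lit 138, nat_lit 69, nat_lit 138, nat_lit 46, nat_lit 115, nat_lit 69, nat_lit 161, nat_lit 46, nat_lit 161, nat_lit 69, nat_lit 138, nat_lit 46, nat_lit 138, nat_lit 69, nat_lit 115, nat_lit 46, nat_lit 161, nat_lit 69, nat_lit 161, nat_lit 46])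
noncomputable def r375 : WT := (.leaf (nat_lit 9227) [nat_lit 46, nat_lit 138, nat_lit 69, nat_lit 138, nat_lit 46, nat_lit 115, nat_lit 69, nat_lit 161, nat_lit 46, nat_lit 161, nat_lit 69, nat_lit 138, nat_lit 46, nat_lit 138, nat_lit 69, nat_lit 115, nat_lit 46, nat_lit 161, nat_lit 69, nat_lit 161])
noncomputable def r376 : WT := (.leaf (nat_lit 9223) [nat_lit 69, nat_lit 161, nat_lit 46, nat_lit 138, nat_lit 69, nat_lit 138, nat_lit 46, nat_lit 115, nat_lit 69, nat_lit 161, nat_lit 46, nat_lit 161, nat_lit 69, nat_lit 138, nat_lit 46, nat_lit 138, nat_lit 69, nat_lit 115, nat_lit 46, nat_lit 161])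
noncomputable def r377 : WT := (.leaf (nat_lit 9221) [nat_lit 161, nat_lit 69, nat_lit 161, nat_lit 46, nat_lit 138, nat_lit 69, nat_lit 138, nat_lit 46, nat_lit 115, nat_lit 69, nat_lit 161, nat_lit 46, nat_lit 161, nat_lit 69, nat_lit 138, nat_lit 46, nat_lit 138, nat_lit 69, nat_lit 115, nat_lit 46])
noncomputable def r378 : WT := (.leaf (nat_lit 9252) [nat_lit 69, nat_lit 92, nat_lit 46, nat_lit 161, nat_lit 69, nat_lit 161, nat_lit 46, nat_lit 138, nat_lit 69, nat_lit 138, nat_lit 46, nat_lit 92, nat_lit 69, nat_lit 161, nat_lit 46, nat_lit 161, nat_lit 69, nat_lit 138, nat_lit 46, nat_lit 138])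
noncomputable def r379 : WT := (.leaf (nat_lit 9238) [nat_lit 161, nat_lit 46, nat_lit 161, nat_lit 69, nat_lit 138, nat_lit 46, nat_lit 138, nat_lit 69, nat_lit 92, nat_lit 46, nat_lit 161, nat_lit 69, nat_lit 161, nat_lit 46, nat_lit 138, nat_lit 69, nat_lit 138, nat_lit 46, nat_lit 92, nat_lit 69])
noncomputable def r380 : WT := (.leaf (nat_lit 9222) [nat_lit 161, nat_lit 46, nat_lit 138, nat_lit 69, nat_lit 138, nat_lit 46, nat_lit 92, nat_lit 69, nat_lit 161, nat_lit 46, nat_lit 161, nat_lit 69, nat_lit 138, nat_lit 46, nat_lit 138, nat_lit 69, nat_lit 92, nat_lit 46, nat_lit 161, nat_lit 69])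
noncomputable def r381 : WT := (.leaf (nat_lit 8229) [nat_lit 138, nat_lit 69, nat_lit 92, nat_lit 46, nat_lit 161, nat_lit 46, nat_lit 161, nat_lit 46, nat_lit 161, nat_lit 46, nat_lit 161, nat_lit 46, nat_lit 115, nat_lit 69, nat_lit 138, nat_lit 69, nat_lit 138, nat_lit 69, nat_lit 138, nat_lit 69])
noncomputable def r382 : WT := (.leaf (nat_lit 8225) [nat_lit 138, nat_lit 69, nat_lit 138, nat_lit 69, nat_lit 92, nat_lit 46, nat_lit 161, nat_lit 46, nat_lit 161, nat_lit 46, nat_lit 161, nat_lit 46, nat_lit 161, nat_lit 46, nat_lit 115, nat_lit 69, nat_lit 138, nat_lit 69, nat_lit 138, nat_lit 69])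
noncomputable def r383 : WT := (.leaf (nat_lit 8213) [nat_lit 115, nat_lit 69, nat_lit 138, nat_lit 69, nat_lit 138, nat_lit 69, nat_lit 138, nat_lit 69, nat_lit 138, nat_lit 69, nat_lit 92, nat_lit 46, nat_lit 161, nat_lit 46, nat_lit 161, nat_lit 46, nat_lit 161, nat_lit 46, nat_lit 161, nat_lit 46])
noncomputable def r384 : WT := (.leaf (nat_lit 8211) [nat_lit 46, nat_lit 115, nat_lit 69, nat_lit 138, nat_lit 69, nat_lit 138, nat_lit 69, nat_lit 138, nat_lit 69, nat_lit 138, nat_lit 69, nat_lit 92, nat_lit 46, nat_lit 161, nat_lit 46, nat_lit 161, nat_lit 46, nat_lit 161, nat_lit 46, nat_lit 161])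
noncomputable def r385 : WT := (.leaf (nat_lit 9245) [nat_lit 161, nat_lit 69, nat_lit 138, nat_lit 46, nat_lit 138, nat_lit 69, nat_lit 115, nat_lit 46, nat_lit 161, nat_lit 69, nat_lit 161, nat_lit 46, nat_lit 138, nat_lit 69, nat_lit 138, nat_lit 46, nat_lit 115, nat_lit 69, nat_lit 161, nat_lit 46])
noncomputable def r386 : WT := (.leaf (nat_lit 8207) [nat_lit 46, nat_lit 161, nat_lit 46, nat_lit 115, nat_lit 69, nat_lit 138, nat_lit 69, nat_lit 138, nat_lit 69, nat_lit 138, nat_lit 69, nat_lit 138, nat_lit 69, nat_lit 92, nat_lit 46, nat_lit 161, nat_lit 46, nat_lit 161, nat_lit 46, nat_lit 161])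
noncomputable def r387 : WT := (.leaf (nat_lit 8203) [nat_lit 46, nat_lit 161, nat_lit 46, nat_lit 161, nat_lit 46, nat_lit 115, nat_lit 69, nat_lit 138, nat_lit 69, nat_lit 138, nat_lit 69, nat_lit 138, nat_lit 69, nat_lit 138, nat_lit 69, nat_lit 92, nat_lit 46, nat_lit 161, nat_lit 46, nat_lit 161])
noncomputable def r388 : WT := (.node (nat_lit 110) (.node (nat_lit 106) (.node (nat_lit 104) (.node (nat_lit 103) r372 r373) (.node (nat_lit 105) r374 r375)) (.node (nat_lit 108) (.node (nat_lit 107) r376 r377) (.node (nat_lit 109) r378 r379))) (.node (nat_lit 114) (.node (nat_lit 112) (.node (nat_lit 111) r380 r381) (.node (nat_lit 113) r382 r383)) (.node (nat_lit 116) (.node (nat_lit 115) r384 r385) (.node (nat_lit 117) r386 r387))))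
noncomputable def r389 : WT := (.leaf (nat_lit 8193) [nat_lit 92, nat_lit 46, nat_lit 161, nat_lit 46, nat_lit 161, nat_lit 46, nat_lit 161, nat_lit 46, nat_lit 161, nat_lit 46, nat_lit 115, nat_lit 69, nat_lit 138, nat_lit 69, nat_lit 138, nat_lit 69, nat_lit 138, nat_lit 69, nat_lit 138, nat_lit 69])
noncomputable def r390 : WT := (.leaf (nat_lit 8226) [nat_lit 138, nat_lit 69, nat_lit 115, nat_lit 46, nat_lit 161, nat_lit 46, nat_lit 161, nat_lit 46, nat_lit 161, nat_lit 46, nat_lit 161, nat_lit 46, nat_lit 92, nat_lit 69, nat_lit 138, nat_lit 69, nat_lit 138, nat_lit 69, nat_lit 138, nat_lit 69])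
noncomputable def r391 : WT := (.leaf (nat_lit 8222) [nat_lit 138, nat_lit 69, nat_lit 138, nat_lit 69, nat_lit 115, nat_lit 46, nat_lit 161, nat_lit 46, nat_lit 161, nat_lit 46, nat_lit 161, nat_lit 46, nat_lit 161, nat_lit 46, nat_lit 92, nat_lit 69, nat_lit 138, nat_lit 69, nat_lit 138, nat_lit 69])
noncomputable def r392 : WT := (.leaf (nat_lit 8220) [nat_lit 69, nat_lit 138, nat_lit 69, nat_lit 138, nat_lit 69, nat_lit 115, nat_lit 46, nat_lit 161, nat_lit 46, nat_lit 161, nat_lit 46, nat_lit 161, nat_lit 46, nat_lit 161, nat_lit 46, nat_lit 92, nat_lit 69, nat_lit 138, nat_lit 69, nat_lit 138])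
noncomputable def r393 : WT := (.leaf (nat_lit 8216) [nat_lit 69, nat_lit 138, nat_lit 69, nat_lit 138, nat_lit 69, nat_lit 138, nat_lit 69, nat_lit 115, nat_lit 46, nat_lit 161, nat_lit 46, nat_lit 161, nat_lit 46, nat_lit 161, nat_lit 46, nat_lit 161, nat_lit 46, nat_lit 92, nat_lit 69, nat_lit 138])
noncomputable def r394 : WT := (.leaf (nat_lit 8200) [nat_lit 46, nat_lit 161, nat_lit 46, nat_lit 161, nat_lit 46, nat_lit 92, nat_lit 69, nat_lit 138, nat_lit 69, nat_lit 138, nat_lit 69, nat_lit 138, nat_lit 69, nat_lit 138, nat_lit 69, nat_lit 115, nat_lit 46, nat_lit 161, nat_lit 46, nat_lit 161])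
noncomputable def r395 : WT := (.leaf (nat_lit 8198) [nat_lit 161, nat_lit 46, nat_lit 161, nat_lit 46, nat_lit 161, nat_lit 46, nat_lit 92, nat_lit 69, nat_lit 138, nat_lit 69, nat_lit 138, nat_lit 69, nat_lit 138, nat_lit 69, nat_lit 138, nat_lit 69, nat_lit 115, nat_lit 46, nat_lit 161, nat_lit 46])
noncomputable def r396 : WT := (.leaf (nat_lit 10271) [nat_lit 69, nat_lit 161, nat_lit 69, nat_lit 161, nat_lit 69, nat_lit 92, nat_lit 46, nat_lit 138, nat_lit 46, nat_lit 138, nat_lit 46, nat_lit 138, nat_lit 46, nat_lit 138, nat_lit 46, nat_lit 115, nat_lit 69, nat_lit 161, nat_lit 69, nat_lit 161])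
noncomputable def r397 : WT := (.leaf (nat_lit 11293) [nat_lit 46, nat_lit 138, nat_lit 69, nat_lit 161, nat_lit 115, nat_lit 46, nat_lit 115, nat_lit 69, nat_lit 92, nat_lit 138, nat_lit 46, nat_lit 161, nat_lit 69, nat_lit 138, nat_lit 115, nat_lit 46, nat_lit 161, nat_lit 69, nat_lit 92, nat_lit 161])
noncomputable def r398 : WT := (.leaf (nat_lit 11289) [nat_lit 92, nat_lit 161, nat_lit 46, nat_lit 138, nat_lit 69, nat_lit 161, nat_lit 115, nat_lit 46, nat_lit 115, nat_lit 69, nat_lit 92, nat_lit 138, nat_lit 46, nat_lit 161, nat_lit 69, nat_lit 138, nat_lit 115, nat_lit 46, nat_lit 161, nat_lit 69])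
noncomputable def r399 : WT := (.leaf (nat_lit 11277) [nat_lit 69, nat_lit 138, nat_lit 115, nat_lit 46, nat_lit 161, nat_lit 69, nat_lit 92, nat_lit 161, nat_lit 46, nat_lit 138, nat_lit 69, nat_lit 161, nat_lit 115, nat_lit 46, nat_lit 115, nat_lit 69, nat_lit 92, nat_lit 138, nat_lit 46, nat_lit 161])
noncomputable def r400 : WT := (.leaf (nat_lit 11275) [nat_lit 161, nat_lit 69, nat_lit 138, nat_lit 115, nat_lit 46, nat_lit 161, nat_lit 69, nat_lit 92, nat_lit 161, nat_lit 46, nat_lit 138, nat_lit 69, nat_lit 161, nat_lit 115, nat_lit 46, nat_lit 115, nat_lit 69, nat_lit 92, nat_lit 138, nat_lit 46])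
noncomputable def r401 : WT := (.leaf (nat_lit 11269) [nat_lit 92, nat_lit 138, nat_lit 46, nat_lit 161, nat_lit 69, nat_lit 138, nat_lit 115, nat_lit 46, nat_lit 161, nat_lit 69, nat_lit 92, nat_lit 161, nat_lit 46, nat_lit 138, nat_lit 69, nat_lit 161, nat_lit 115, nat_lit 46, nat_lit 115, nat_lit 69])
noncomputable def r402 : WT := (.leaf (nat_lit 11288) [nat_lit 161, nat_lit 46, nat_lit 138, nat_lit 69, nat_lit 161, nat_lit 115, nat_lit 46, nat_lit 92, nat_lit 69, nat_lit 92, nat_lit 138, nat_lit 46, nat_lit 161, nat_lit 69, nat_lit 138, nat_lit 115, nat_lit 46, nat_lit 138, nat_lit 69, nat_lit 92])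
noncomputable def r403 : WT := (.node (nat_lit 126) (.node (nat_lit 122) (.node (nat_lit 120) (.node (nat_lit 119) r389 r390) (.node (nat_lit 121) r391 r392)) (.node (nat_lit 124) (.node (nat_lit 123) r393 r394) (.node (nat_lit 125) r395 (.leaf (nat_lit 7173) [nat_lit 161, nat_lit 115, nat_lit 138, nat_lit 92])))) (.node (nat_lit 130) (.node (nat_lit 128) (.node (nat_lit 127) (.leaf (nat_lit 4097) [nat_lit 115, nat_lit 115, nat_lit 115]) r396) (.node (nat_lit 129) r397 r398)) (.node (nat_lit 132) (.node (nat_lit 131) r399 r400) (.node (nat_lit 133) r401 r402))))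
noncomputable def r404 : WT := (.leaf (nat_lit 11282) [nat_lit 138, nat_lit 69, nat_lit 92, nat_lit 161, nat_lit 46, nat_lit 138, nat_lit 69, nat_lit 161, nat_lit 115, nat_lit 46, nat_lit 92, nat_lit 69, nat_lit 92, nat_lit 138, nat_lit 46, nat_lit 161, nat_lit 69, nat_lit 138, nat_lit 115, nat_lit 46])
noncomputable def r405 : WT := (.leaf (nat_lit 11280) [nat_lit 46, nat_lit 138, nat_lit 69, nat_lit 92, nat_lit 161, nat_lit 46, nat_lit 138, nat_lit 69, nat_lit 161, nat_lit 115, nat_lit 46, nat_lit 92, nat_lit 69, nat_lit 92, nat_lit 138, nat_lit 46, nat_lit 161, nat_lit 69, nat_lit 138, nat_lit 115])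
noncomputable def r406 : WT := (.leaf (nat_lit 11274) [nat_lit 69, nat_lit 138, nat_lit 115, nat_lit 46, nat_lit 138, nat_lit 69, nat_lit 92, nat_lit 161, nat_lit 46, nat_lit 138, nat_lit 69, nat_lit 161, nat_lit 115, nat_lit 46, nat_lit 92, nat_lit 69, nat_lit 92, nat_lit 138, nat_lit 46, nat_lit 161])
noncomputable def r407 : WT := (.leaf (nat_lit 11272) [nat_lit 161, nat_lit 69, nat_lit 138, nat_lit 115, nat_lit 46, nat_lit 138, nat_lit 69, nat_lit 92, nat_lit 161, nat_lit 46, nat_lit 138, nat_lit 69, nat_lit 161, nat_lit 115, nat_lit 46, nat_lit 92, nat_lit 69, nat_lit 92, nat_lit 138, nat_lit 46])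
noncomputable def r408 : WT := (.leaf (nat_lit 11270) [nat_lit 46, nat_lit 161, nat_lit 69, nat_lit 138, nat_lit 115, nat_lit 46, nat_lit 138, nat_lit 69, nat_lit 92, nat_lit 161, nat_lit 46, nat_lit 138, nat_lit 69, nat_lit 161, nat_lit 115, nat_lit 46, nat_lit 92, nat_lit 69, nat_lit 92, nat_lit 138])
noncomputable def r409 : WT := (.leaf (nat_lit 11299) [nat_lit 161, nat_lit 115, nat_lit 46, nat_lit 115, nat_lit 69, nat_lit 92, nat_lit 138, nat_lit 46, nat_lit 161, nat_lit 69, nat_lit 138, nat_lit 115, nat_lit 46, nat_lit 161, nat_lit 69, nat_lit 92, nat_lit 161, nat_lit 46, nat_lit 138, nat_lit 69])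
noncomputable def r410 : WT := (.leaf (nat_lit 10267) [nat_lit 69, nat_lit 161, nat_lit 69, nat_lit 161, nat_lit 69, nat_lit 161, nat_lit 69, nat_lit 92, nat_lit 46, nat_lit 138, nat_lit 46, nat_lit 138, nat_lit 46, nat_lit 138, nat_lit 46, nat_lit 138, nat_lit 46, nat_lit 115, nat_lit 69, nat_lit 161])
noncomputable def r411 : WT := (.leaf (nat_lit 10249) [nat_lit 138, nat_lit 46, nat_lit 138, nat_lit 46, nat_lit 138, nat_lit 46, nat_lit 115, nat_lit 69, nat_lit 161, nat_lit 69, nat_lit 161, nat_lit 69, nat_lit 161, nat_lit 69, nat_lit 161, nat_lit 69, nat_lit 92, nat_lit 46, nat_lit 138, nat_lit 46])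
noncomputable def r412 : WT := (.leaf (nat_lit 10247) [nat_lit 46, nat_lit 138, nat_lit 46, nat_lit 138, nat_lit 46, nat_lit 138, nat_lit 46, nat_lit 115, nat_lit 69, nat_lit 161, nat_lit 69, nat_lit 161, nat_lit 69, nat_lit 161, nat_lit 69, nat_lit 161, nat_lit 69, nat_lit 92, nat_lit 46, nat_lit 138])
noncomputable def r413 : WT := (.leaf (nat_lit 10276) [nat_lit 69, nat_lit 115, nat_lit 46, nat_lit 138, nat_lit 46, nat_lit 138, nat_lit 46, nat_lit 138, nat_lit 46, nat_lit 138, nat_lit 46, nat_lit 92, nat_lit 69, nat_lit 161, nat_lit 69, nat_lit 161, nat_lit 69, nat_lit 161, nat_lit 69, nat_lit 161])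
noncomputable def r414 : WT := (.leaf (nat_lit 10272) [nat_lit 69, nat_lit 161, nat_lit 69, nat_lit 115, nat_lit 46, nat_lit 138, nat_lit 46, nat_lit 138, nat_lit 46, nat_lit 138, nat_lit 46, nat_lit 138, nat_lit 46, nat_lit 92, nat_lit 69, nat_lit 161, nat_lit 69, nat_lit 161, nat_lit 69, nat_lit 161])
noncomputable def r415 : WT := (.leaf (nat_lit 10266) [nat_lit 161, nat_lit 69, nat_lit 161, nat_lit 69, nat_lit 161, nat_lit 69, nat_lit 115, nat_lit 46, nat_lit 138, nat_lit 46, nat_lit 138, nat_lit 46, nat_lit 138, nat_lit 46, nat_lit 138, nat_lit 46, nat_lit 92, nat_lit 69, nat_lit 161, nat_lit 69])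
noncomputable def r416 : WT := (.leaf (nat_lit 10258) [nat_lit 92, nat_lit 69, nat_lit 161, nat_lit 69, nat_lit 161, nat_lit 69, nat_lit 161, nat_lit 69, nat_lit 161, nat_lit 69, nat_lit 115, nat_lit 46, nat_lit 138, nat_lit 46, nat_lit 138, nat_lit 46, nat_lit 138, nat_lit 46, nat_lit 138, nat_lit 46])
noncomputable def r417 : WT := (.leaf (nat_lit 10256) [nat_lit 46, nat_lit 92, nat_lit 69, nat_lit 161, nat_lit 69, nat_lit 161, nat_lit 69, nat_lit 161, nat_lit 69, nat_lit 161, nat_lit 69, nat_lit 115, nat_lit 46, nat_lit 138, nat_lit 46, nat_lit 138, nat_lit 46, nat_lit 138, nat_lit 46, nat_lit 138])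
noncomputable def r418 : WT := (.leaf (nat_lit 10250) [nat_lit 138, nat_lit 46, nat_lit 138, nat_lit 46, nat_lit 92, nat_lit 69, nat_lit 161, nat_lit 69, nat_lit 161, nat_lit 69, nat_lit 161, nat_lit 69, nat_lit 161, nat_lit 69, nat_lit 115, nat_lit 46, nat_lit 138, nat_lit 46, nat_lit 138, nat_lit 46])
noncomputable def r419 : WT := (.leaf (nat_lit 9247) [nat_lit 69, nat_lit 138, nat_lit 46, nat_lit 138, nat_lit 69, nat_lit 115, nat_lit 46, nat_lit 161, nat_lit 69, nat_lit 161, nat_lit 46, nat_lit 138, nat_lit 69, nat_lit 138, nat_lit 46, nat_lit 115, nat_lit 69, nat_lit 161, nat_lit 46, nat_lit 161])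
noncomputable def r420 : WT := (.node (nat_lit 142) (.node (nat_lit 138) (.node (nat_lit 136) (.node (nat_lit 135) r404 r405) (.node (nat_lit 137) r406 r407)) (.node (nat_lit 140) (.node (nat_lit 139) r408 r409) (.node (nat_lit 141) r410 r411))) (.node (nat_lit 146) (.node (nat_lit 144) (.node (nat_lit 143) r412 r413) (.node (nat_lit 145) r414 r415)) (.node (nat_lit 148) (.node (nat_lit 147) r416 r417) (.node (nat_lit 149) r418 r419))))
noncomputable def wP : WT := (.node (nat_lit 46) (.node (nat_lit 18) (.node (nat_lit 7) (.node (nat_lit 3) r262 r267) (.node (nat_lit 13) r274 r280)) (.node (nat_lit 30) (.node (nat_lit 24) r287 r293) (.node (nat_lit 38) r302 r311))) (.node (nat_lit 86) (.node (nat_lit 62) (.node (nat_lit 54) r320 r329) (.node (nat_lit 70) r338 r354)) (.node (nat_lit 118) (.node (nat_lit 102) r371 r388) (.node (nat_lit 134) r403 r420))))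
noncomputable def P : Par := ⟨tb, nat_lit 184, nat_lit 0xffffffffffffffffffffffffffffffffffffffffffffff, nat_lit 8766, nat_lit 8388607, nat_lit 16383, nat_lit 23, nat_lit 14, nat_lit 3840,
  [nat_lit 46, nat_lit 69, nat_lit 92, nat_lit 115, nat_lit 138, nat_lit 161], [nat_lit 46, nat_lit 92], wP,
  (.cons (nat_lit 46) w0 (.cons (nat_lit 69) w1 (.cons (nat_lit 92) w2 (.cons (nat_lit 115) w3 (.cons (nat_lit 138) w4 (.cons (nat_lit 161) w5 .nil)))))),
  .nil⟩

end Cfsg.Agent.Lib.TCOP3
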