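import Cfsg.Agent.Lib.TCOP4D0

set_option autoImplicit false
set_option maxRecDepth 100000

namespace Cfsg.Agent.Lib.TCOP4
open Cfsg.Agent.Lib.TCCore

noncomputable def tb : T := (.node (nat_lit 630) (.node (nat_lit 252) (.node (nat_lit 126) l0 l1) (.node (nat_lit 378) l2 (.node (nat_lit 504) l3 l4))) (.node (nat_lit 1008) (.node (nat_lit 756) l5 (.node (nat_lit 882) l6 l7)) (.node (nat_lit 1134) l8 (.node (nat_lit 1260) l9 l10))))
noncomputable def r0 : WT := (.leaf (nat_lit 8196) [nat_lit 133, nat_lit 38, nat_lit 133, nat_lit 38, nat_lit 133, nat_lit 38, nat_lit 76, nat_lit 57, nat_lit 114, nat_lit 57, nat_lit 114, nat_lit 57, nat_lit 114, nat_lit 57, nat_lit 114, nat_lit 57, nat_lit 95, nat_lit 38, nat_lit 133])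
noncomputable def r1 : WT := (.leaf (nat_lit 14336) [nat_lit 76, nat_lit 114, nat_lit 38, nat_lit 76, nat_lit 114, nat_lit 38, nat_lit 76, nat_lit 114, nat_lit 38, nat_lit 76, nat_lit 114, nat_lit 38, nat_lit 76, nat_lit 114])
noncomputable def r2 : WT := (.node (nat_lit 6) r0 (.node (nat_lit 7) r1 (.leaf (nat_lit 3072) [nat_lit 38, nat_lit 38, nat_lit 38, nat_lit 38, nat_lit 38, nat_lit 38])))
noncomputable def r3 : WT := (.leaf (nat_lit 8200) [nat_lit 133, nat_lit 38, nat_lit 133, nat_lit 38, nat_lit 76, nat_lit 57, nat_lit 114, nat_lit 57, nat_lit 114, nat_lit 57, nat_lit 114, nat_lit 57, nat_lit 114, nat_lit 57, nat_lit 95, nat_lit 38, nat_lit 133, nat_lit 38, nat_lit 133])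
noncomputable def r4 : WT := (.leaf (nat_lit 11280) [nat_lit 114, nat_lit 57, nat_lit 76, nat_lit 133, nat_lit 38, nat_lit 114, nat_lit 57, nat_lit 133, nat_lit 95, nat_lit 38, nat_lit 76, nat_lit 57, nat_lit 76, nat_lit 114, nat_lit 38, nat_lit 133, nat_lit 57, nat_lit 114, nat_lit 95])
noncomputable def r5 : WT := (.leaf (nat_lit 8208) [nat_lit 76, nat_lit 57, nat_lit 114, nat_lit 57, nat_lit 114, nat_lit 57, nat_lit 114, nat_lit 57, nat_lit 114, nat_lit 57, nat_lit 95, nat_lit 38, nat_lit 133, nat_lit 38, nat_lit 133, nat_lit 38, nat_lit 133, nat_lit 38, nat_lit 133])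
noncomputable def r6 : WT := (.leaf (nat_lit 11270) [nat_lit 133, nat_lit 57, nat_lit 114, nat_lit 95, nat_lit 38, nat_lit 114, nat_lit 57, nat_lit 76, nat_lit 133, nat_lit 38, nat_lit 114, nat_lit 57, nat_lit 133, nat_lit 95, nat_lit 38, nat_lit 76, nat_lit 57, nat_lit 76, nat_lit 114])
noncomputable def r7 : WT := (.leaf (nat_lit 10251) [nat_lit 114, nat_lit 38, nat_lit 114, nat_lit 38, nat_lit 95, nat_lit 57, nat_lit 133, nat_lit 57, nat_lit 133, nat_lit 57, nat_lit 133, nat_lit 57, nat_lit 133, nat_lit 57, nat_lit 76, nat_lit 38, nat_lit 114, nat_lit 38, nat_lit 114])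
noncomputable def r8 : WT := (.leaf (nat_lit 11300) [nat_lit 76, nat_lit 57, nat_lit 76, nat_lit 114, nat_lit 38, nat_lit 133, nat_lit 57, nat_lit 114, nat_lit 95, nat_lit 38, nat_lit 114, nat_lit 57, nat_lit 76, nat_lit 133, nat_lit 38, nat_lit 114, nat_lit 57, nat_lit 133, nat_lit 95])
noncomputable def r9 : WT := (.leaf (nat_lit 12294) [nat_lit 133, nat_lit 57, nat_lit 114, nat_lit 95, nat_lit 38, nat_lit 76, nat_lit 57, nat_lit 76, nat_lit 133, nat_lit 38, nat_lit 114, nat_lit 57, nat_lit 133, nat_lit 95, nat_lit 38, nat_lit 133, nat_lit 57, nat_lit 76, nat_lit 114])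
noncomputable def r10 : WT := (.leaf (nat_lit 9240) [nat_lit 133, nat_lit 57, nat_lit 114, nat_lit 38, nat_lit 114, nat_lit 57, nat_lit 76, nat_lit 38, nat_lit 133, nat_lit 57, nat_lit 133, nat_lit 38, nat_lit 114, nat_lit 57, nat_lit 114, nat_lit 38, nat_lit 76, nat_lit 57, nat_lit 133])
noncomputable def r11 : WT := (.leaf (nat_lit 12324) [nat_lit 133, nat_lit 57, nat_lit 76, nat_lit 114, nat_lit 38, nat_lit 133, nat_lit 57, nat_lit 114, nat_lit 95, nat_lit 38, nat_lit 76, nat_lit 57, nat_lit 76, nat_lit 133, nat_lit 38, nat_lit 114, nat_lit 57, nat_lit 133, nat_lit 95])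
noncomputable def r12 : WT := (.node (nat_lit 16) r10 r11)
noncomputable def r13 : WT := (.leaf (nat_lit 8203) [nat_lit 133, nat_lit 38, nat_lit 133, nat_lit 38, nat_lit 95, nat_lit 57, nat_lit 114, nat_lit 57, nat_lit 114, nat_lit 57, nat_lit 114, nat_lit 57, nat_lit 114, nat_lit 57, nat_lit 76, nat_lit 38, nat_lit 133, nat_lit 38, nat_lit 133])
noncomputable def r14 : WT := (.leaf (nat_lit 11293) [nat_lit 114, nat_lit 57, nat_lit 133, nat_lit 95, nat_lit 38, nat_lit 95, nat_lit 57, nat_lit 76, nat_lit 114, nat_lit 38, nat_lit 133, nat_lit 57, nat_lit 114, nat_lit 95, nat_lit 38, nat_lit 133, nat_lit 57, nat_lit 76, nat_lit 133])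
noncomputable def r15 : WT := (.leaf (nat_lit 11283) [nat_lit 133, nat_lit 57, nat_lit 76, nat_lit 133, nat_lit 38, nat_lit 114, nat_lit 57, nat_lit 133, nat_lit 95, nat_lit 38, nat_lit 95, nat_lit 57, nat_lit 76, nat_lit 114, nat_lit 38, nat_lit 133, nat_lit 57, nat_lit 114, nat_lit 95])
noncomputable def r16 : WT := (.node (nat_lit 19) r14 r15)
noncomputable def r17 : WT := (.leaf (nat_lit 12314) [nat_lit 114, nat_lit 57, nat_lit 133, nat_lit 95, nat_lit 38, nat_lit 133, nat_lit 57, nat_lit 76, nat_lit 114, nat_lit 38, nat_lit 133, nat_lit 57, nat_lit 114, nat_lit 95, nat_lit 38, nat_lit 76, nat_lit 57, nat_lit 76, nat_lit 133])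
noncomputable def r18 : WT := (.leaf (nat_lit 11273) [nat_lit 133, nat_lit 57, nat_lit 114, nat_lit 95, nat_lit 38, nat_lit 133, nat_lit 57, nat_lit 76, nat_lit 133, nat_lit 38, nat_lit 114, nat_lit 57, nat_lit 133, nat_lit 95, nat_lit 38, nat_lit 95, nat_lit 57, nat_lit 76, nat_lit 114])
noncomputable def r19 : WT := (.node (nat_lit 21) r17 r18)
noncomputable def r20 : WT := (.leaf (nat_lit 12317) [nat_lit 114, nat_lit 57, nat_lit 133, nat_lit 95, nat_lit 38, nat_lit 114, nat_lit 57, nat_lit 76, nat_lit 114, nat_lit 38, nat_lit 133, nat_lit 57, nat_lit 114, nat_lit 95, nat_lit 38, nat_lit 95, nat_lit 57, nat_lit 76, nat_lit 133])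
noncomputable def r21 : WT := (.leaf (nat_lit 11290) [nat_lit 114, nat_lit 57, nat_lit 133, nat_lit 95, nat_lit 38, nat_lit 76, nat_lit 57, nat_lit 76, nat_lit 114, nat_lit 38, nat_lit 133, nat_lit 57, nat_lit 114, nat_lit 95, nat_lit 38, nat_lit 114, nat_lit 57, nat_lit 76, nat_lit 133])
noncomputable def r22 : WT := (.leaf (nat_lit 9243) [nat_lit 133, nat_lit 57, nat_lit 114, nat_lit 38, nat_lit 114, nat_lit 57, nat_lit 95, nat_lit 38, nat_lit 133, nat_lit 57, nat_lit 133, nat_lit 38, nat_lit 114, nat_lit 57, nat_lit 114, nat_lit 38, nat_lit 95, nat_lit 57, nat_lit 133])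
noncomputable def r23 : WT := (.node (nat_lit 23) r20 (.node (nat_lit 24) r21 r22))
noncomputable def r24 : WT := (.leaf (nat_lit 9227) [nat_lit 114, nat_lit 57, nat_lit 114, nat_lit 38, nat_lit 95, nat_lit 57, nat_lit 133, nat_lit 38, nat_lit 133, nat_lit 57, nat_lit 114, nat_lit 38, nat_lit 114, nat_lit 57, nat_lit 95, nat_lit 38, nat_lit 133, nat_lit 57, nat_lit 133])
noncomputable def r25 : WT := (.leaf (nat_lit 9248) [nat_lit 114, nat_lit 57, nat_lit 76, nat_lit 38, nat_lit 133, nat_lit 57, nat_lit 133, nat_lit 38, nat_lit 114, nat_lit 57, nat_lit 114, nat_lit 38, nat_lit 76, nat_lit 57, nat_lit 133, nat_lit 38, nat_lit 133, nat_lit 57, nat_lit 114])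
noncomputable def r26 : WT := (.node (nat_lit 26) r24 r25)
noncomputable def r27 : WT := (.leaf (nat_lit 9232) [nat_lit 76, nat_lit 57, nat_lit 133, nat_lit 38, nat_lit 133, nat_lit 57, nat_lit 114, nat_lit 38, nat_lit 114, nat_lit 57, nat_lit 76, nat_lit 38, nat_lit 133, nat_lit 57, nat_lit 133, nat_lit 38, nat_lit 114, nat_lit 57, nat_lit 114])
noncomputable def r28 : WT := (.leaf (nat_lit 9224) [nat_lit 114, nat_lit 57, nat_lit 114, nat_lit 38, nat_lit 76, nat_lit 57, nat_lit 133, nat_lit 38, nat_lit 133, nat_lit 57, nat_lit 114, nat_lit 38, nat_lit 114, nat_lit 57, nat_lit 76, nat_lit 38, nat_lit 133, nat_lit 57, nat_lit 133])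
noncomputable def r29 : WT := (.leaf (nat_lit 8204) [nat_lit 133, nat_lit 38, nat_lit 76, nat_lit 57, nat_lit 114, nat_lit 57, nat_lit 114, nat_lit 57, nat_lit 114, nat_lit 57, nat_lit 114, nat_lit 57, nat_lit 95, nat_lit 38, nat_lit 133, nat_lit 38, nat_lit 133, nat_lit 38, nat_lit 133])
noncomputable def r30 : WT := (.node (nat_lit 28) r27 (.node (nat_lit 29) r28 r29))
noncomputable def r31 : WT := (.node (nat_lit 14) (.node (nat_lit 11) (.node (nat_lit 9) r3 (.node (nat_lit 10) r4 r5)) (.node (nat_lit 12) r6 (.node (nat_lit 13) r7 r8))) (.node (nat_lit 20) (.node (nat_lit 17) (.node (nat_lit 15) r9 r12) (.node (nat_lit 18) r13 r16)) (.node (nat_lit 25) (.node (nat_lit 22) r19 r23) (.node (nat_lit 27) r26 r30))))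
noncomputable def w0 : WT := (.node (nat_lit 1) (.leaf (nat_lit 0) [nat_lit 57]) (.node (nat_lit 3) (.node (nat_lit 2) (.leaf (nat_lit 6147) [nat_lit 76, nat_lit 57, nat_lit 95, nat_lit 38]) (.leaf (nat_lit 6146) [nat_lit 95, nat_lit 57, nat_lit 57, nat_lit 76])) (.node (nat_lit 5) (.node (nat_lit 4) (.leaf (nat_lit 6145) [nat_lit 38, nat_lit 76, nat_lit 57, nat_lit 95]) (.leaf (nat_lit 13312) [nat_lit 114, nat_lit 38, nat_lit 114, nat_lit 38, nat_lit 114, nat_lit 38, nat_lit 114, nat_lit 38, nat_lit 114])) (.node (nat_lit 8) r2 r31))))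
noncomputable def r32 : WT := (.leaf (nat_lit 8216) [nat_lit 114, nat_lit 57, nat_lit 114, nat_lit 57, nat_lit 114, nat_lit 57, nat_lit 95, nat_lit 38, nat_lit 133, nat_lit 38, nat_lit 133, nat_lit 38, nat_lit 133, nat_lit 38, nat_lit 133, nat_lit 38, nat_lit 76, nat_lit 57, nat_lit 114])
noncomputable def r33 : WT := (.leaf (nat_lit 8220) [nat_lit 114, nat_lit 57, nat_lit 114, nat_lit 57, nat_lit 95, nat_lit 38, nat_lit 133, nat_lit 38, nat_lit 133, nat_lit 38, nat_lit 133, nat_lit 38, nat_lit 133, nat_lit 38, nat_lit 76, nat_lit 57, nat_lit 114, nat_lit 57, nat_lit 114])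
noncomputable def r34 : WT := (.leaf (nat_lit 11274) [nat_lit 114, nat_lit 95, nat_lit 38, nat_lit 114, nat_lit 57, nat_lit 76, nat_lit 133, nat_lit 38, nat_lit 114, nat_lit 57, nat_lit 133, nat_lit 95, nat_lit 38, nat_lit 76, nat_lit 57, nat_lit 76, nat_lit 114, nat_lit 38, nat_lit 133])
noncomputable def r35 : WT := (.leaf (nat_lit 14341) [nat_lit 133, nat_lit 95, nat_lit 57, nat_lit 133, nat_lit 95, nat_lit 57, nat_lit 133, nat_lit 95, nat_lit 57, nat_lit 133, nat_lit 95, nat_lit 57, nat_lit 133, nat_lit 95])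
noncomputable def r36 : WT := (.leaf (nat_lit 9228) [nat_lit 114, nat_lit 38, nat_lit 76, nat_lit 57, nat_lit 133, nat_lit 38, nat_lit 133, nat_lit 57, nat_lit 114, nat_lit 38, nat_lit 114, nat_lit 57, nat_lit 76, nat_lit 38, nat_lit 133, nat_lit 57, nat_lit 133, nat_lit 38, nat_lit 114])
noncomputable def r37 : WT := (.leaf (nat_lit 9252) [nat_lit 76, nat_lit 38, nat_lit 133, nat_lit 57, nat_lit 133, nat_lit 38, nat_lit 114, nat_lit 57, nat_lit 114, nat_lit 38, nat_lit 76, nat_lit 57, nat_lit 133, nat_lit 38, nat_lit 133, nat_lit 57, nat_lit 114, nat_lit 38, nat_lit 114])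
noncomputable def r38 : WT := (.node (nat_lit 7) (.node (nat_lit 6) r32 r33) (.node (nat_lit 9) (.node (nat_lit 8) r34 r35) (.node (nat_lit 10) r36 r37)))
noncomputable def r39 : WT := (.leaf (nat_lit 9220) [nat_lit 133, nat_lit 38, nat_lit 114, nat_lit 57, nat_lit 114, nat_lit 38, nat_lit 76, nat_lit 57, nat_lit 133, nat_lit 38, nat_lit 133, nat_lit 57, nat_lit 114, nat_lit 38, nat_lit 114, nat_lit 57, nat_lit 76, nat_lit 38, nat_lit 133])
noncomputable def r40 : WT := (.leaf (nat_lit 12291) [nat_lit 76, nat_lit 114, nat_lit 38, nat_lit 133, nat_lit 57, nat_lit 114, nat_lit 95, nat_lit 38, nat_lit 95, nat_lit 57, nat_lit 76, nat_lit 133, nat_lit 38, nat_lit 114, nat_lit 57, nat_lit 133, nat_lit 95, nat_lit 38, nat_lit 114])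
noncomputable def r41 : WT := (.leaf (nat_lit 12298) [nat_lit 114, nat_lit 95, nat_lit 38, nat_lit 76, nat_lit 57, nat_lit 76, nat_lit 133, nat_lit 38, nat_lit 114, nat_lit 57, nat_lit 133, nat_lit 95, nat_lit 38, nat_lit 133, nat_lit 57, nat_lit 76, nat_lit 114, nat_lit 38, nat_lit 133])
noncomputable def r42 : WT := (.leaf (nat_lit 12288) [nat_lit 76, nat_lit 114, nat_lit 38, nat_lit 133, nat_lit 57, nat_lit 114, nat_lit 95, nat_lit 38, nat_lit 76, nat_lit 57, nat_lit 76, nat_lit 133, nat_lit 38, nat_lit 114, nat_lit 57, nat_lit 133, nat_lit 95, nat_lit 38, nat_lit 133])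
noncomputable def r43 : WT := (.leaf (nat_lit 11297) [nat_lit 133, nat_lit 95, nat_lit 38, nat_lit 95, nat_lit 57, nat_lit 76, nat_lit 114, nat_lit 38, nat_lit 133, nat_lit 57, nat_lit 114, nat_lit 95, nat_lit 38, nat_lit 133, nat_lit 57, nat_lit 76, nat_lit 133, nat_lit 38, nat_lit 114])
noncomputable def r44 : WT := (.leaf (nat_lit 11277) [nat_lit 114, nat_lit 95, nat_lit 38, nat_lit 133, nat_lit 57, nat_lit 76, nat_lit 133, nat_lit 38, nat_lit 114, nat_lit 57, nat_lit 133, nat_lit 95, nat_lit 38, nat_lit 95, nat_lit 57, nat_lit 76, nat_lit 114, nat_lit 38, nat_lit 133])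
noncomputable def r45 : WT := (.leaf (nat_lit 11294) [nat_lit 133, nat_lit 95, nat_lit 38, nat_lit 76, nat_lit 57, nat_lit 76, nat_lit 114, nat_lit 38, nat_lit 133, nat_lit 57, nat_lit 114, nat_lit 95, nat_lit 38, nat_lit 114, nat_lit 57, nat_lit 76, nat_lit 133, nat_lit 38, nat_lit 114])
noncomputable def r46 : WT := (.leaf (nat_lit 9223) [nat_lit 133, nat_lit 38, nat_lit 114, nat_lit 57, nat_lit 114, nat_lit 38, nat_lit 95, nat_lit 57, nat_lit 133, nat_lit 38, nat_lit 133, nat_lit 57, nat_lit 114, nat_lit 38, nat_lit 114, nat_lit 57, nat_lit 95, nat_lit 38, nat_lit 133])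
noncomputable def r47 : WT := (.leaf (nat_lit 8212) [nat_lit 114, nat_lit 57, nat_lit 114, nat_lit 57, nat_lit 114, nat_lit 57, nat_lit 114, nat_lit 57, nat_lit 95, nat_lit 38, nat_lit 133, nat_lit 38, nat_lit 133, nat_lit 38, nat_lit 133, nat_lit 38, nat_lit 133, nat_lit 38, nat_lit 76])
noncomputable def r48 : WT := (.leaf (nat_lit 8219) [nat_lit 114, nat_lit 57, nat_lit 114, nat_lit 57, nat_lit 114, nat_lit 57, nat_lit 76, nat_lit 38, nat_lit 133, nat_lit 38, nat_lit 133, nat_lit 38, nat_lit 133, nat_lit 38, nat_lit 133, nat_lit 38, nat_lit 95, nat_lit 57, nat_lit 114])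
noncomputable def r49 : WT := (.leaf (nat_lit 10272) [nat_lit 133, nat_lit 57, nat_lit 95, nat_lit 38, nat_lit 114, nat_lit 38, nat_lit 114, nat_lit 38, nat_lit 114, nat_lit 38, nat_lit 114, nat_lit 38, nat_lit 76, nat_lit 57, nat_lit 133, nat_lit 57, nat_lit 133, nat_lit 57, nat_lit 133])
noncomputable def r50 : WT := (.leaf (nat_lit 10267) [nat_lit 133, nat_lit 57, nat_lit 133, nat_lit 57, nat_lit 133, nat_lit 57, nat_lit 76, nat_lit 38, nat_lit 114, nat_lit 38, nat_lit 114, nat_lit 38, nat_lit 114, nat_lit 38, nat_lit 114, nat_lit 38, nat_lit 95, nat_lit 57, nat_lit 133])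
noncomputable def r51 : WT := (.node (nat_lit 23) r49 r50)
noncomputable def r52 : WT := (.leaf (nat_lit 9247) [nat_lit 114, nat_lit 38, nat_lit 114, nat_lit 57, nat_lit 95, nat_lit 38, nat_lit 133, nat_lit 57, nat_lit 133, nat_lit 38, nat_lit 114, nat_lit 57, nat_lit 114, nat_lit 38, nat_lit 95, nat_lit 57, nat_lit 133, nat_lit 38, nat_lit 133])
noncomputable def r53 : WT := (.leaf (nat_lit 9231) [nat_lit 114, nat_lit 38, nat_lit 95, nat_lit 57, nat_lit 133, nat_lit 38, nat_lit 133, nat_lit 57, nat_lit 114, nat_lit 38, nat_lit 114, nat_lit 57, nat_lit 95, nat_lit 38, nat_lit 133, nat_lit 57, nat_lit 133, nat_lit 38, nat_lit 114])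
noncomputable def r54 : WT := (.leaf (nat_lit 9244) [nat_lit 114, nat_lit 38, nat_lit 114, nat_lit 57, nat_lit 76, nat_lit 38, nat_lit 133, nat_lit 57, nat_lit 133, nat_lit 38, nat_lit 114, nat_lit 57, nat_lit 114, nat_lit 38, nat_lit 76, nat_lit 57, nat_lit 133, nat_lit 38, nat_lit 133])
noncomputable def r55 : WT := (.node (nat_lit 26) r53 r54)
noncomputable def r56 : WT := (.leaf (nat_lit 8224) [nat_lit 114, nat_lit 57, nat_lit 95, nat_lit 38, nat_lit 133, nat_lit 38, nat_lit 133, nat_lit 38, nat_lit 133, nat_lit 38, nat_lit 133, nat_lit 38, nat_lit 76, nat_lit 57, nat_lit 114, nat_lit 57, nat_lit 114, nat_lit 57, nat_lit 114])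
noncomputable def r57 : WT := (.leaf (nat_lit 12318) [nat_lit 133, nat_lit 95, nat_lit 38, nat_lit 133, nat_lit 57, nat_lit 76, nat_lit 114, nat_lit 38, nat_lit 133, nat_lit 57, nat_lit 114, nat_lit 95, nat_lit 38, nat_lit 76, nat_lit 57, nat_lit 76, nat_lit 133, nat_lit 38, nat_lit 114])
noncomputable def r58 : WT := (.node (nat_lit 28) r56 r57)
noncomputable def r59 : WT := (.leaf (nat_lit 12311) [nat_lit 76, nat_lit 133, nat_lit 38, nat_lit 114, nat_lit 57, nat_lit 133, nat_lit 95, nat_lit 38, nat_lit 114, nat_lit 57, nat_lit 76, nat_lit 114, nat_lit 38, nat_lit 133, nat_lit 57, nat_lit 114, nat_lit 95, nat_lit 38, nat_lit 95])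
noncomputable def r60 : WT := (.leaf (nat_lit 12321) [nat_lit 133, nat_lit 95, nat_lit 38, nat_lit 114, nat_lit 57, nat_lit 76, nat_lit 114, nat_lit 38, nat_lit 133, nat_lit 57, nat_lit 114, nat_lit 95, nat_lit 38, nat_lit 95, nat_lit 57, nat_lit 76, nat_lit 133, nat_lit 38, nat_lit 114])
noncomputable def r61 : WT := (.node (nat_lit 30) r59 r60)
noncomputable def r62 : WT := (.node (nat_lit 19) (.node (nat_lit 15) (.node (nat_lit 13) (.node (nat_lit 12) r39 r40) (.node (nat_lit 14) r41 r42)) (.node (nat_lit 17) (.node (nat_lit 16) r43 r44) (.node (nat_lit 18) r45 (.leaf (nat_lit 3073) [nat_lit 57, nat_lit 57, nat_lit 57, nat_lit 57, nat_lit 57, nat_lit 57])))) (.node (nat_lit 24) (.node (nat_lit 21) (.node (nat_lit 20) r46 r47) (.node (nat_lit 22) r48 r51)) (.node (nat_lit 27) (.node (nat_lit 25) r52 r55) (.node (nat_lit 29) r58 r61))))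
noncomputable def w1 : WT := (.node (nat_lit 1) (.leaf (nat_lit 2) [nat_lit 38]) (.node (nat_lit 3) (.node (nat_lit 2) (.leaf (nat_lit 6152) [nat_lit 76, nat_lit 38, nat_lit 95, nat_lit 57]) (.leaf (nat_lit 6150) [nat_lit 57, nat_lit 76, nat_lit 38, nat_lit 95])) (.node (nat_lit 5) (.node (nat_lit 4) (.leaf (nat_lit 6151) [nat_lit 95, nat_lit 38, nat_lit 38, nat_lit 76]) (.leaf (nat_lit 13315) [nat_lit 133, nat_lit 57, nat_lit 133, nat_lit 57, nat_lit 133, nat_lit 57, nat_lit 133, nat_lit 57, nat_lit 133])) (.node (nat_lit 11) r38 r62))))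
noncomputable def r63 : WT := (.leaf (nat_lit 14338) [nat_lit 114, nat_lit 38, nat_lit 76, nat_lit 114, nat_lit 38, nat_lit 76, nat_lit 114, nat_lit 38, nat_lit 76, nat_lit 114, nat_lit 38, nat_lit 76, nat_lit 114, nat_lit 38])
noncomputable def r64 : WT := (.leaf (nat_lit 11266) [nat_lit 114, nat_lit 38, nat_lit 133, nat_lit 57, nat_lit 114, nat_lit 95, nat_lit 38, nat_lit 114, nat_lit 57, nat_lit 76, nat_lit 133, nat_lit 38, nat_lit 114, nat_lit 57, nat_lit 133, nat_lit 95, nat_lit 38, nat_lit 76, nat_lit 57])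
noncomputable def r65 : WT := (.leaf (nat_lit 8210) [nat_lit 57, nat_lit 114, nat_lit 57, nat_lit 114, nat_lit 57, nat_lit 114, nat_lit 57, nat_lit 114, nat_lit 57, nat_lit 95, nat_lit 38, nat_lit 133, nat_lit 38, nat_lit 133, nat_lit 38, nat_lit 133, nat_lit 38, nat_lit 133, nat_lit 38])
noncomputable def r66 : WT := (.leaf (nat_lit 8193) [nat_lit 38, nat_lit 133, nat_lit 38, nat_lit 133, nat_lit 38, nat_lit 133, nat_lit 38, nat_lit 133, nat_lit 38, nat_lit 95, nat_lit 57, nat_lit 114, nat_lit 57, nat_lit 114, nat_lit 57, nat_lit 114, nat_lit 57, nat_lit 114, nat_lit 57])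
noncomputable def r67 : WT := (.leaf (nat_lit 9234) [nat_lit 57, nat_lit 133, nat_lit 38, nat_lit 133, nat_lit 57, nat_lit 114, nat_lit 38, nat_lit 114, nat_lit 57, nat_lit 76, nat_lit 38, nat_lit 133, nat_lit 57, nat_lit 133, nat_lit 38, nat_lit 114, nat_lit 57, nat_lit 114, nat_lit 38])
noncomputable def r68 : WT := (.leaf (nat_lit 9254) [nat_lit 38, nat_lit 133, nat_lit 57, nat_lit 133, nat_lit 38, nat_lit 114, nat_lit 57, nat_lit 114, nat_lit 38, nat_lit 76, nat_lit 57, nat_lit 133, nat_lit 38, nat_lit 133, nat_lit 57, nat_lit 114, nat_lit 38, nat_lit 114, nat_lit 57])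
noncomputable def r69 : WT := (.leaf (nat_lit 11286) [nat_lit 133, nat_lit 38, nat_lit 114, nat_lit 57, nat_lit 133, nat_lit 95, nat_lit 38, nat_lit 76, nat_lit 57, nat_lit 76, nat_lit 114, nat_lit 38, nat_lit 133, nat_lit 57, nat_lit 114, nat_lit 95, nat_lit 38, nat_lit 114, nat_lit 57])
noncomputable def r70 : WT := (.leaf (nat_lit 12310) [nat_lit 133, nat_lit 38, nat_lit 114, nat_lit 57, nat_lit 133, nat_lit 95, nat_lit 38, nat_lit 133, nat_lit 57, nat_lit 76, nat_lit 114, nat_lit 38, nat_lit 133, nat_lit 57, nat_lit 114, nat_lit 95, nat_lit 38, nat_lit 76, nat_lit 57])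
noncomputable def r71 : WT := (.node (nat_lit 13) r69 r70)
noncomputable def r72 : WT := (.node (nat_lit 6) (.leaf (nat_lit 7168) [nat_lit 114, nat_lit 95, nat_lit 133]) (.node (nat_lit 9) (.node (nat_lit 7) r63 (.node (nat_lit 8) r64 r65)) (.node (nat_lit 11) (.node (nat_lit 10) r66 r67) (.node (nat_lit 12) r68 r71))))
noncomputable def w2 : WT := (.node (nat_lit 1) (.leaf (nat_lit 1024) [nat_lit 95]) (.node (nat_lit 3) (.node (nat_lit 2) (.leaf (nat_lit 4096) [nat_lit 76, nat_lit 76]) (.leaf (nat_lit 6149) [nat_lit 57, nat_lit 95, nat_lit 38, nat_lit 38])) (.node (nat_lit 4) (.leaf (nat_lit 7171) [nat_lit 133, nat_lit 95, nat_lit 114]) (.node (nat_lit 5) (.leaf (nat_lit 6144) [nat_lit 38, nat_lit 95, nat_lit 57, nat_lit 57]) r72))))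
noncomputable def r73 : WT := (.leaf (nat_lit 14339) [nat_lit 57, nat_lit 133, nat_lit 95, nat_lit 57, nat_lit 133, nat_lit 95, nat_lit 57, nat_lit 133, nat_lit 95, nat_lit 57, nat_lit 133, nat_lit 95, nat_lit 57, nat_lit 133])
noncomputable def r74 : WT := (.leaf (nat_lit 11278) [nat_lit 38, nat_lit 114, nat_lit 57, nat_lit 76, nat_lit 133, nat_lit 38, nat_lit 114, nat_lit 57, nat_lit 133, nat_lit 95, nat_lit 38, nat_lit 76, nat_lit 57, nat_lit 76, nat_lit 114, nat_lit 38, nat_lit 133, nat_lit 57, nat_lit 114])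
noncomputable def r75 : WT := (.leaf (nat_lit 11265) [nat_lit 57, nat_lit 76, nat_lit 114, nat_lit 38, nat_lit 133, nat_lit 57, nat_lit 114, nat_lit 95, nat_lit 38, nat_lit 133, nat_lit 57, nat_lit 76, nat_lit 133, nat_lit 38, nat_lit 114, nat_lit 57, nat_lit 133, nat_lit 95, nat_lit 38])
noncomputable def r76 : WT := (.node (nat_lit 6) (.leaf (nat_lit 7172) [nat_lit 133, nat_lit 76, nat_lit 114]) (.node (nat_lit 7) r73 (.node (nat_lit 8) r74 r75)))
noncomputable def w3 : WT := (.node (nat_lit 1) (.leaf (nat_lit 1026) [nat_lit 76]) (.node (nat_lit 2) (.leaf (nat_lit 4097) [nat_lit 95, nat_lit 95]) (.node (nat_lit 4) (.node (nat_lit 3) (.leaf (nat_lit 6148) [nat_lit 57, nat_lit 57, nat_lit 76, nat_lit 38]) (.leaf (nat_lit 7175) [nat_lit 114, nat_lit 76, nat_lit 133])) (.node (nat_lit 5) (.leaf (nat_lit 6153) [nat_lit 38, nat_lit 38, nat_lit 76, nat_lit 57]) r76))))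
noncomputable def r77 : WT := (.node (nat_lit 4) (.leaf (nat_lit 7170) [nat_lit 95, nat_lit 133, nat_lit 76]) (.leaf (nat_lit 13314) [nat_lit 38, nat_lit 114, nat_lit 38, nat_lit 114, nat_lit 38, nat_lit 114, nat_lit 38, nat_lit 114, nat_lit 38]))
noncomputable def r78 : WT := (.leaf (nat_lit 8218) [nat_lit 57, nat_lit 114, nat_lit 57, nat_lit 114, nat_lit 57, nat_lit 95, nat_lit 38, nat_lit 133, nat_lit 38, nat_lit 133, nat_lit 38, nat_lit 133, nat_lit 38, nat_lit 133, nat_lit 38, nat_lit 76, nat_lit 57, nat_lit 114, nat_lit 57])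
noncomputable def r79 : WT := (.leaf (nat_lit 8214) [nat_lit 57, nat_lit 114, nat_lit 57, nat_lit 114, nat_lit 57, nat_lit 114, nat_lit 57, nat_lit 95, nat_lit 38, nat_lit 133, nat_lit 38, nat_lit 133, nat_lit 38, nat_lit 133, nat_lit 38, nat_lit 133, nat_lit 38, nat_lit 76, nat_lit 57])
noncomputable def r80 : WT := (.leaf (nat_lit 9230) [nat_lit 38, nat_lit 76, nat_lit 57, nat_lit 133, nat_lit 38, nat_lit 133, nat_lit 57, nat_lit 114, nat_lit 38, nat_lit 114, nat_lit 57, nat_lit 76, nat_lit 38, nat_lit 133, nat_lit 57, nat_lit 133, nat_lit 38, nat_lit 114, nat_lit 57])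
noncomputable def r81 : WT := (.leaf (nat_lit 9250) [nat_lit 57, nat_lit 76, nat_lit 38, nat_lit 133, nat_lit 57, nat_lit 133, nat_lit 38, nat_lit 114, nat_lit 57, nat_lit 114, nat_lit 38, nat_lit 76, nat_lit 57, nat_lit 133, nat_lit 38, nat_lit 133, nat_lit 57, nat_lit 114, nat_lit 38])
noncomputable def r82 : WT := (.leaf (nat_lit 8222) [nat_lit 57, nat_lit 114, nat_lit 57, nat_lit 95, nat_lit 38, nat_lit 133, nat_lit 38, nat_lit 133, nat_lit 38, nat_lit 133, nat_lit 38, nat_lit 133, nat_lit 38, nat_lit 76, nat_lit 57, nat_lit 114, nat_lit 57, nat_lit 114, nat_lit 57])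
noncomputable def r83 : WT := (.node (nat_lit 9) r81 r82)
noncomputable def r84 : WT := (.leaf (nat_lit 9226) [nat_lit 57, nat_lit 114, nat_lit 38, nat_lit 76, nat_lit 57, nat_lit 133, nat_lit 38, nat_lit 133, nat_lit 57, nat_lit 114, nat_lit 38, nat_lit 114, nat_lit 57, nat_lit 76, nat_lit 38, nat_lit 133, nat_lit 57, nat_lit 133, nat_lit 38])
noncomputable def r85 : WT := (.leaf (nat_lit 9246) [nat_lit 38, nat_lit 114, nat_lit 57, nat_lit 76, nat_lit 38, nat_lit 133, nat_lit 57, nat_lit 133, nat_lit 38, nat_lit 114, nat_lit 57, nat_lit 114, nat_lit 38, nat_lit 76, nat_lit 57, nat_lit 133, nat_lit 38, nat_lit 133, nat_lit 57])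
noncomputable def r86 : WT := (.node (nat_lit 11) r84 r85)
noncomputable def r87 : WT := (.leaf (nat_lit 14340) [nat_lit 38, nat_lit 76, nat_lit 114, nat_lit 38, nat_lit 76, nat_lit 114, nat_lit 38, nat_lit 76, nat_lit 114, nat_lit 38, nat_lit 76, nat_lit 114, nat_lit 38, nat_lit 76])
noncomputable def r88 : WT := (.leaf (nat_lit 9229) [nat_lit 57, nat_lit 114, nat_lit 38, nat_lit 95, nat_lit 57, nat_lit 133, nat_lit 38, nat_lit 133, nat_lit 57, nat_lit 114, nat_lit 38, nat_lit 114, nat_lit 57, nat_lit 95, nat_lit 38, nat_lit 133, nat_lit 57, nat_lit 133, nat_lit 38])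
noncomputable def r89 : WT := (.node (nat_lit 13) r87 r88)
noncomputable def r90 : WT := (.leaf (nat_lit 12316) [nat_lit 57, nat_lit 133, nat_lit 95, nat_lit 38, nat_lit 133, nat_lit 57, nat_lit 76, nat_lit 114, nat_lit 38, nat_lit 133, nat_lit 57, nat_lit 114, nat_lit 95, nat_lit 38, nat_lit 76, nat_lit 57, nat_lit 76, nat_lit 133, nat_lit 38])
noncomputable def r91 : WT := (.leaf (nat_lit 10242) [nat_lit 38, nat_lit 114, nat_lit 38, nat_lit 114, nat_lit 38, nat_lit 114, nat_lit 38, nat_lit 76, nat_lit 57, nat_lit 133, nat_lit 57, nat_lit 133, nat_lit 57, nat_lit 133, nat_lit 57, nat_lit 133, nat_lit 57, nat_lit 95, nat_lit 38])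
noncomputable def r92 : WT := (.node (nat_lit 15) r90 r91)
noncomputable def r93 : WT := (.leaf (nat_lit 11295) [nat_lit 57, nat_lit 133, nat_lit 95, nat_lit 38, nat_lit 95, nat_lit 57, nat_lit 76, nat_lit 114, nat_lit 38, nat_lit 133, nat_lit 57, nat_lit 114, nat_lit 95, nat_lit 38, nat_lit 133, nat_lit 57, nat_lit 76, nat_lit 133, nat_lit 38])
noncomputable def r94 : WT := (.leaf (nat_lit 11268) [nat_lit 38, nat_lit 133, nat_lit 57, nat_lit 114, nat_lit 95, nat_lit 38, nat_lit 114, nat_lit 57, nat_lit 76, nat_lit 133, nat_lit 38, nat_lit 114, nat_lit 57, nat_lit 133, nat_lit 95, nat_lit 38, nat_lit 76, nat_lit 57, nat_lit 76])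
noncomputable def r95 : WT := (.node (nat_lit 17) r93 r94)
noncomputable def r96 : WT := (.leaf (nat_lit 11282) [nat_lit 57, nat_lit 76, nat_lit 133, nat_lit 38, nat_lit 114, nat_lit 57, nat_lit 133, nat_lit 95, nat_lit 38, nat_lit 76, nat_lit 57, nat_lit 76, nat_lit 114, nat_lit 38, nat_lit 133, nat_lit 57, nat_lit 114, nat_lit 95, nat_lit 38])
noncomputable def r97 : WT := (.leaf (nat_lit 11292) [nat_lit 57, nat_lit 133, nat_lit 95, nat_lit 38, nat_lit 76, nat_lit 57, nat_lit 76, nat_lit 114, nat_lit 38, nat_lit 133, nat_lit 57, nat_lit 114, nat_lit 95, nat_lit 38, nat_lit 114, nat_lit 57, nat_lit 76, nat_lit 133, nat_lit 38])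
noncomputable def r98 : WT := (.node (nat_lit 19) r96 r97)
noncomputable def r99 : WT := (.leaf (nat_lit 10257) [nat_lit 38, nat_lit 95, nat_lit 57, nat_lit 133, nat_lit 57, nat_lit 133, nat_lit 57, nat_lit 133, nat_lit 57, nat_lit 133, nat_lit 57, nat_lit 76, nat_lit 38, nat_lit 114, nat_lit 38, nat_lit 114, nat_lit 38, nat_lit 114, nat_lit 38])
noncomputable def r100 : WT := (.leaf (nat_lit 12303) [nat_lit 95, nat_lit 38, nat_lit 95, nat_lit 57, nat_lit 76, nat_lit 133, nat_lit 38, nat_lit 114, nat_lit 57, nat_lit 133, nat_lit 95, nat_lit 38, nat_lit 114, nat_lit 57, nat_lit 76, nat_lit 114, nat_lit 38, nat_lit 133, nat_lit 57])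
noncomputable def r101 : WT := (.leaf (nat_lit 12289) [nat_lit 57, nat_lit 76, nat_lit 114, nat_lit 38, nat_lit 133, nat_lit 57, nat_lit 114, nat_lit 95, nat_lit 38, nat_lit 95, nat_lit 57, nat_lit 76, nat_lit 133, nat_lit 38, nat_lit 114, nat_lit 57, nat_lit 133, nat_lit 95, nat_lit 38])
noncomputable def r102 : WT := (.leaf (nat_lit 12300) [nat_lit 95, nat_lit 38, nat_lit 76, nat_lit 57, nat_lit 76, nat_lit 133, nat_lit 38, nat_lit 114, nat_lit 57, nat_lit 133, nat_lit 95, nat_lit 38, nat_lit 133, nat_lit 57, nat_lit 76, nat_lit 114, nat_lit 38, nat_lit 133, nat_lit 57])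
noncomputable def r103 : WT := (.node (nat_lit 22) (.node (nat_lit 21) r99 r100) (.node (nat_lit 23) r101 r102))
noncomputable def r104 : WT := (.leaf (nat_lit 11279) [nat_lit 95, nat_lit 38, nat_lit 133, nat_lit 57, nat_lit 76, nat_lit 133, nat_lit 38, nat_lit 114, nat_lit 57, nat_lit 133, nat_lit 95, nat_lit 38, nat_lit 95, nat_lit 57, nat_lit 76, nat_lit 114, nat_lit 38, nat_lit 133, nat_lit 57])
noncomputable def r105 : WT := (.leaf (nat_lit 11276) [nat_lit 95, nat_lit 38, nat_lit 114, nat_lit 57, nat_lit 76, nat_lit 133, nat_lit 38, nat_lit 114, nat_lit 57, nat_lit 133, nat_lit 95, nat_lit 38, nat_lit 76, nat_lit 57, nat_lit 76, nat_lit 114, nat_lit 38, nat_lit 133, nat_lit 57])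
noncomputable def r106 : WT := (.leaf (nat_lit 8226) [nat_lit 57, nat_lit 95, nat_lit 38, nat_lit 133, nat_lit 38, nat_lit 133, nat_lit 38, nat_lit 133, nat_lit 38, nat_lit 133, nat_lit 38, nat_lit 76, nat_lit 57, nat_lit 114, nat_lit 57, nat_lit 114, nat_lit 57, nat_lit 114, nat_lit 57])
noncomputable def r107 : WT := (.node (nat_lit 25) r104 (.node (nat_lit 26) r105 r106))
noncomputable def r108 : WT := (.leaf (nat_lit 10245) [nat_lit 38, nat_lit 114, nat_lit 38, nat_lit 114, nat_lit 38, nat_lit 114, nat_lit 38, nat_lit 95, nat_lit 57, nat_lit 133, nat_lit 57, nat_lit 133, nat_lit 57, nat_lit 133, nat_lit 57, nat_lit 133, nat_lit 57, nat_lit 76, nat_lit 38])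
noncomputable def r109 : WT := (.leaf (nat_lit 9253) [nat_lit 57, nat_lit 95, nat_lit 38, nat_lit 133, nat_lit 57, nat_lit 133, nat_lit 38, nat_lit 114, nat_lit 57, nat_lit 114, nat_lit 38, nat_lit 95, nat_lit 57, nat_lit 133, nat_lit 38, nat_lit 133, nat_lit 57, nat_lit 114, nat_lit 38])
noncomputable def r110 : WT := (.leaf (nat_lit 8229) [nat_lit 57, nat_lit 76, nat_lit 38, nat_lit 133, nat_lit 38, nat_lit 133, nat_lit 38, nat_lit 133, nat_lit 38, nat_lit 133, nat_lit 38, nat_lit 95, nat_lit 57, nat_lit 114, nat_lit 57, nat_lit 114, nat_lit 57, nat_lit 114, nat_lit 57])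
noncomputable def r111 : WT := (.leaf (nat_lit 8221) [nat_lit 57, nat_lit 114, nat_lit 57, nat_lit 114, nat_lit 57, nat_lit 76, nat_lit 38, nat_lit 133, nat_lit 38, nat_lit 133, nat_lit 38, nat_lit 133, nat_lit 38, nat_lit 133, nat_lit 38, nat_lit 95, nat_lit 57, nat_lit 114, nat_lit 57])
noncomputable def r112 : WT := (.node (nat_lit 29) (.node (nat_lit 28) r108 r109) (.node (nat_lit 30) r110 r111))
noncomputable def r113 : WT := (.node (nat_lit 10) (.node (nat_lit 6) r78 (.node (nat_lit 7) r79 (.node (nat_lit 8) r80 r83))) (.node (nat_lit 18) (.node (nat_lit 14) (.node (nat_lit 12) r86 r89) (.node (nat_lit 16) r92 r95)) (.node (nat_lit 24) (.node (nat_lit 20) r98 r103) (.node (nat_lit 27) r107 r112))))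
noncomputable def w4 : WT := (.node (nat_lit 1) (.leaf (nat_lit 2048) [nat_lit 133]) (.node (nat_lit 2) (.leaf (nat_lit 7169) [nat_lit 76, nat_lit 133, nat_lit 95]) (.node (nat_lit 3) (.leaf (nat_lit 5120) [nat_lit 114, nat_lit 114]) (.node (nat_lit 5) r77 r113))))
noncomputable def r114 : WT := (.leaf (nat_lit 8202) [nat_lit 38, nat_lit 133, nat_lit 38, nat_lit 76, nat_lit 57, nat_lit 114, nat_lit 57, nat_lit 114, nat_lit 57, nat_lit 114, nat_lit 57, nat_lit 114, nat_lit 57, nat_lit 95, nat_lit 38, nat_lit 133, nat_lit 38, nat_lit 133, nat_lit 38])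
noncomputable def r115 : WT := (.leaf (nat_lit 14337) [nat_lit 95, nat_lit 57, nat_lit 133, nat_lit 95, nat_lit 57, nat_lit 133, nat_lit 95, nat_lit 57, nat_lit 133, nat_lit 95, nat_lit 57, nat_lit 133, nat_lit 95, nat_lit 57])
noncomputable def r116 : WT := (.node (nat_lit 5) (.leaf (nat_lit 13313) [nat_lit 57, nat_lit 133, nat_lit 57, nat_lit 133, nat_lit 57, nat_lit 133, nat_lit 57, nat_lit 133, nat_lit 57]) (.node (nat_lit 6) r114 r115))
noncomputable def r117 : WT := (.leaf (nat_lit 8194) [nat_lit 38, nat_lit 133, nat_lit 38, nat_lit 133, nat_lit 38, nat_lit 133, nat_lit 38, nat_lit 76, nat_lit 57, nat_lit 114, nat_lit 57, nat_lit 114, nat_lit 57, nat_lit 114, nat_lit 57, nat_lit 114, nat_lit 57, nat_lit 95, nat_lit 38])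
noncomputable def r118 : WT := (.leaf (nat_lit 8198) [nat_lit 38, nat_lit 133, nat_lit 38, nat_lit 133, nat_lit 38, nat_lit 76, nat_lit 57, nat_lit 114, nat_lit 57, nat_lit 114, nat_lit 57, nat_lit 114, nat_lit 57, nat_lit 114, nat_lit 57, nat_lit 95, nat_lit 38, nat_lit 133, nat_lit 38])
noncomputable def r119 : WT := (.leaf (nat_lit 11272) [nat_lit 57, nat_lit 114, nat_lit 95, nat_lit 38, nat_lit 114, nat_lit 57, nat_lit 76, nat_lit 133, nat_lit 38, nat_lit 114, nat_lit 57, nat_lit 133, nat_lit 95, nat_lit 38, nat_lit 76, nat_lit 57, nat_lit 76, nat_lit 114, nat_lit 38])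
noncomputable def r120 : WT := (.leaf (nat_lit 9222) [nat_lit 38, nat_lit 114, nat_lit 57, nat_lit 114, nat_lit 38, nat_lit 76, nat_lit 57, nat_lit 133, nat_lit 38, nat_lit 133, nat_lit 57, nat_lit 114, nat_lit 38, nat_lit 114, nat_lit 57, nat_lit 76, nat_lit 38, nat_lit 133, nat_lit 57])
noncomputable def r121 : WT := (.leaf (nat_lit 9218) [nat_lit 57, nat_lit 133, nat_lit 38, nat_lit 114, nat_lit 57, nat_lit 114, nat_lit 38, nat_lit 76, nat_lit 57, nat_lit 133, nat_lit 38, nat_lit 133, nat_lit 57, nat_lit 114, nat_lit 38, nat_lit 114, nat_lit 57, nat_lit 76, nat_lit 38])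
noncomputable def r122 : WT := (.leaf (nat_lit 9242) [nat_lit 57, nat_lit 114, nat_lit 38, nat_lit 114, nat_lit 57, nat_lit 76, nat_lit 38, nat_lit 133, nat_lit 57, nat_lit 133, nat_lit 38, nat_lit 114, nat_lit 57, nat_lit 114, nat_lit 38, nat_lit 76, nat_lit 57, nat_lit 133, nat_lit 38])
noncomputable def r123 : WT := (.leaf (nat_lit 9245) [nat_lit 57, nat_lit 114, nat_lit 38, nat_lit 114, nat_lit 57, nat_lit 95, nat_lit 38, nat_lit 133, nat_lit 57, nat_lit 133, nat_lit 38, nat_lit 114, nat_lit 57, nat_lit 114, nat_lit 38, nat_lit 95, nat_lit 57, nat_lit 133, nat_lit 38])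
noncomputable def r124 : WT := (.leaf (nat_lit 10266) [nat_lit 57, nat_lit 133, nat_lit 57, nat_lit 133, nat_lit 57, nat_lit 95, nat_lit 38, nat_lit 114, nat_lit 38, nat_lit 114, nat_lit 38, nat_lit 114, nat_lit 38, nat_lit 114, nat_lit 38, nat_lit 76, nat_lit 57, nat_lit 133, nat_lit 57])
noncomputable def r125 : WT := (.node (nat_lit 14) r123 r124)
noncomputable def r126 : WT := (.leaf (nat_lit 11285) [nat_lit 57, nat_lit 76, nat_lit 133, nat_lit 38, nat_lit 114, nat_lit 57, nat_lit 133, nat_lit 95, nat_lit 38, nat_lit 95, nat_lit 57, nat_lit 76, nat_lit 114, nat_lit 38, nat_lit 133, nat_lit 57, nat_lit 114, nat_lit 95, nat_lit 38])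
noncomputable def r127 : WT := (.leaf (nat_lit 12323) [nat_lit 95, nat_lit 38, nat_lit 114, nat_lit 57, nat_lit 76, nat_lit 114, nat_lit 38, nat_lit 133, nat_lit 57, nat_lit 114, nat_lit 95, nat_lit 38, nat_lit 95, nat_lit 57, nat_lit 76, nat_lit 133, nat_lit 38, nat_lit 114, nat_lit 57])
noncomputable def r128 : WT := (.node (nat_lit 16) r126 r127)
noncomputable def r129 : WT := (.leaf (nat_lit 12320) [nat_lit 95, nat_lit 38, nat_lit 133, nat_lit 57, nat_lit 76, nat_lit 114, nat_lit 38, nat_lit 133, nat_lit 57, nat_lit 114, nat_lit 95, nat_lit 38, nat_lit 76, nat_lit 57, nat_lit 76, nat_lit 133, nat_lit 38, nat_lit 114, nat_lit 57])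
noncomputable def r130 : WT := (.leaf (nat_lit 12296) [nat_lit 57, nat_lit 114, nat_lit 95, nat_lit 38, nat_lit 76, nat_lit 57, nat_lit 76, nat_lit 133, nat_lit 38, nat_lit 114, nat_lit 57, nat_lit 133, nat_lit 95, nat_lit 38, nat_lit 133, nat_lit 57, nat_lit 76, nat_lit 114, nat_lit 38])
noncomputable def r131 : WT := (.node (nat_lit 18) r129 r130)
noncomputable def r132 : WT := (.leaf (nat_lit 11299) [nat_lit 95, nat_lit 38, nat_lit 95, nat_lit 57, nat_lit 76, nat_lit 114, nat_lit 38, nat_lit 133, nat_lit 57, nat_lit 114, nat_lit 95, nat_lit 38, nat_lit 133, nat_lit 57, nat_lit 76, nat_lit 133, nat_lit 38, nat_lit 114, nat_lit 57])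
noncomputable def r133 : WT := (.leaf (nat_lit 11291) [nat_lit 38, nat_lit 114, nat_lit 57, nat_lit 133, nat_lit 95, nat_lit 38, nat_lit 95, nat_lit 57, nat_lit 76, nat_lit 114, nat_lit 38, nat_lit 133, nat_lit 57, nat_lit 114, nat_lit 95, nat_lit 38, nat_lit 133, nat_lit 57, nat_lit 76])
noncomputable def r134 : WT := (.node (nat_lit 20) r132 r133)
noncomputable def r135 : WT := (.leaf (nat_lit 11275) [nat_lit 57, nat_lit 114, nat_lit 95, nat_lit 38, nat_lit 133, nat_lit 57, nat_lit 76, nat_lit 133, nat_lit 38, nat_lit 114, nat_lit 57, nat_lit 133, nat_lit 95, nat_lit 38, nat_lit 95, nat_lit 57, nat_lit 76, nat_lit 114, nat_lit 38])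
noncomputable def r136 : WT := (.leaf (nat_lit 11296) [nat_lit 95, nat_lit 38, nat_lit 76, nat_lit 57, nat_lit 76, nat_lit 114, nat_lit 38, nat_lit 133, nat_lit 57, nat_lit 114, nat_lit 95, nat_lit 38, nat_lit 114, nat_lit 57, nat_lit 76, nat_lit 133, nat_lit 38, nat_lit 114, nat_lit 57])
noncomputable def r137 : WT := (.leaf (nat_lit 11288) [nat_lit 38, nat_lit 114, nat_lit 57, nat_lit 133, nat_lit 95, nat_lit 38, nat_lit 76, nat_lit 57, nat_lit 76, nat_lit 114, nat_lit 38, nat_lit 133, nat_lit 57, nat_lit 114, nat_lit 95, nat_lit 38, nat_lit 114, nat_lit 57, nat_lit 76])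
noncomputable def r138 : WT := (.node (nat_lit 22) r135 (.node (nat_lit 23) r136 r137))
noncomputable def r139 : WT := (.leaf (nat_lit 10277) [nat_lit 57, nat_lit 76, nat_lit 38, nat_lit 114, nat_lit 38, nat_lit 114, nat_lit 38, nat_lit 114, nat_lit 38, nat_lit 114, nat_lit 38, nat_lit 95, nat_lit 57, nat_lit 133, nat_lit 57, nat_lit 133, nat_lit 57, nat_lit 133, nat_lit 57])
noncomputable def r140 : WT := (.leaf (nat_lit 9225) [nat_lit 38, nat_lit 114, nat_lit 57, nat_lit 114, nat_lit 38, nat_lit 95, nat_lit 57, nat_lit 133, nat_lit 38, nat_lit 133, nat_lit 57, nat_lit 114, nat_lit 38, nat_lit 114, nat_lit 57, nat_lit 95, nat_lit 38, nat_lit 133, nat_lit 57])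
noncomputable def r141 : WT := (.node (nat_lit 25) r139 r140)
noncomputable def r142 : WT := (.leaf (nat_lit 9221) [nat_lit 57, nat_lit 133, nat_lit 38, nat_lit 114, nat_lit 57, nat_lit 114, nat_lit 38, nat_lit 95, nat_lit 57, nat_lit 133, nat_lit 38, nat_lit 133, nat_lit 57, nat_lit 114, nat_lit 38, nat_lit 114, nat_lit 57, nat_lit 95, nat_lit 38])
noncomputable def r143 : WT := (.leaf (nat_lit 9238) [nat_lit 38, nat_lit 133, nat_lit 57, nat_lit 114, nat_lit 38, nat_lit 114, nat_lit 57, nat_lit 76, nat_lit 38, nat_lit 133, nat_lit 57, nat_lit 133, nat_lit 38, nat_lit 114, nat_lit 57, nat_lit 114, nat_lit 38, nat_lit 76, nat_lit 57])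
noncomputable def r144 : WT := (.leaf (nat_lit 8197) [nat_lit 38, nat_lit 133, nat_lit 38, nat_lit 133, nat_lit 38, nat_lit 133, nat_lit 38, nat_lit 95, nat_lit 57, nat_lit 114, nat_lit 57, nat_lit 114, nat_lit 57, nat_lit 114, nat_lit 57, nat_lit 114, nat_lit 57, nat_lit 76, nat_lit 38])
noncomputable def r145 : WT := (.node (nat_lit 27) r142 (.node (nat_lit 28) r143 r144))
noncomputable def r146 : WT := (.node (nat_lit 12) (.node (nat_lit 9) (.node (nat_lit 8) r117 r118) (.node (nat_lit 10) r119 (.node (nat_lit 11) r120 r121))) (.node (nat_lit 19) (.node (nat_lit 15) (.node (nat_lit 13) r122 r125) (.node (nat_lit 17) r128 r131)) (.node (nat_lit 24) (.node (nat_lit 21) r134 r138) (.node (nat_lit 26) r141 r145))))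
noncomputable def w5 : WT := (.node (nat_lit 1) (.leaf (nat_lit 2050) [nat_lit 114]) (.node (nat_lit 2) (.leaf (nat_lit 7174) [nat_lit 76, nat_lit 114, nat_lit 95]) (.node (nat_lit 4) (.node (nat_lit 3) (.leaf (nat_lit 5121) [nat_lit 133, nat_lit 133]) (.leaf (nat_lit 7173) [nat_lit 95, nat_lit 114, nat_lit 76])) (.node (nat_lit 7) r116 r146))))
noncomputable def r147 : WT := (.leaf (nat_lit 14336) [nat_lit 38, nat_lit 76, nat_lit 114, nat_lit 38, nat_lit 76, nat_lit 114, nat_lit 38, nat_lit 76, nat_lit 114, nat_lit 38, nat_lit 76, nat_lit 114, nat_lit 38, nat_lit 76, nat_lit 114])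
noncomputable def r148 : WT := (.leaf (nat_lit 11297) [nat_lit 57, nat_lit 133, nat_lit 95, nat_lit 38, nat_lit 95, nat_lit 57, nat_lit 76, nat_lit 114, nat_lit 38, nat_lit 133, nat_lit 57, nat_lit 114, nat_lit 95, nat_lit 38, nat_lit 133, nat_lit 57, nat_lit 76, nat_lit 133, nat_lit 38, nat_lit 114])
noncomputable def r149 : WT := (.leaf (nat_lit 8219) [nat_lit 57, nat_lit 114, nat_lit 57, nat_lit 114, nat_lit 57, nat_lit 114, nat_lit 57, nat_lit 76, nat_lit 38, nat_lit 133, nat_lit 38, nat_lit 133, nat_lit 38, nat_lit 133, nat_lit 38, nat_lit 133, nat_lit 38, nat_lit 95, nat_lit 57, nat_lit 114])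
noncomputable def r150 : WT := (.leaf (nat_lit 9232) [nat_lit 38, nat_lit 76, nat_lit 57, nat_lit 133, nat_lit 38, nat_lit 133, nat_lit 57, nat_lit 114, nat_lit 38, nat_lit 114, nat_lit 57, nat_lit 76, nat_lit 38, nat_lit 133, nat_lit 57, nat_lit 133, nat_lit 38, nat_lit 114, nat_lit 57, nat_lit 114])
noncomputable def r151 : WT := (.leaf (nat_lit 9221) [nat_lit 133, nat_lit 57, nat_lit 133, nat_lit 38, nat_lit 114, nat_lit 57, nat_lit 114, nat_lit 38, nat_lit 95, nat_lit 57, nat_lit 133, nat_lit 38, nat_lit 133, nat_lit 57, nat_lit 114, nat_lit 38, nat_lit 114, nat_lit 57, nat_lit 95, nat_lit 38])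
noncomputable def r152 : WT := (.leaf (nat_lit 12307) [nat_lit 38, nat_lit 95, nat_lit 57, nat_lit 76, nat_lit 133, nat_lit 38, nat_lit 114, nat_lit 57, nat_lit 133, nat_lit 95, nat_lit 38, nat_lit 114, nat_lit 57, nat_lit 76, nat_lit 114, nat_lit 38, nat_lit 133, nat_lit 57, nat_lit 114, nat_lit 95])
noncomputable def r153 : WT := (.node (nat_lit 6) r151 r152)
noncomputable def r154 : WT := (.leaf (nat_lit 12296) [nat_lit 133, nat_lit 57, nat_lit 114, nat_lit 95, nat_lit 38, nat_lit 76, nat_lit 57, nat_lit 76, nat_lit 133, nat_lit 38, nat_lit 114, nat_lit 57, nat_lit 133, nat_lit 95, nat_lit 38, nat_lit 133, nat_lit 57, nat_lit 76, nat_lit 114, nat_lit 38])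
noncomputable def r155 : WT := (.leaf (nat_lit 11287) [nat_lit 57, nat_lit 76, nat_lit 133, nat_lit 38, nat_lit 114, nat_lit 57, nat_lit 133, nat_lit 95, nat_lit 38, nat_lit 95, nat_lit 57, nat_lit 76, nat_lit 114, nat_lit 38, nat_lit 133, nat_lit 57, nat_lit 114, nat_lit 95, nat_lit 38, nat_lit 133])
noncomputable def r156 : WT := (.node (nat_lit 8) r154 r155)
noncomputable def r157 : WT := (.leaf (nat_lit 11283) [nat_lit 38, nat_lit 133, nat_lit 57, nat_lit 76, nat_lit 133, nat_lit 38, nat_lit 114, nat_lit 57, nat_lit 133, nat_lit 95, nat_lit 38, nat_lit 95, nat_lit 57, nat_lit 76, nat_lit 114, nat_lit 38, nat_lit 133, nat_lit 57, nat_lit 114, nat_lit 95])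
noncomputable def r158 : WT := (.leaf (nat_lit 11269) [nat_lit 76, nat_lit 114, nat_lit 38, nat_lit 133, nat_lit 57, nat_lit 114, nat_lit 95, nat_lit 38, nat_lit 133, nat_lit 57, nat_lit 76, nat_lit 133, nat_lit 38, nat_lit 114, nat_lit 57, nat_lit 133, nat_lit 95, nat_lit 38, nat_lit 95, nat_lit 57])
noncomputable def r159 : WT := (.leaf (nat_lit 11290) [nat_lit 38, nat_lit 114, nat_lit 57, nat_lit 133, nat_lit 95, nat_lit 38, nat_lit 76, nat_lit 57, nat_lit 76, nat_lit 114, nat_lit 38, nat_lit 133, nat_lit 57, nat_lit 114, nat_lit 95, nat_lit 38, nat_lit 114, nat_lit 57, nat_lit 76, nat_lit 133])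
noncomputable def r160 : WT := (.leaf (nat_lit 11276) [nat_lit 114, nat_lit 95, nat_lit 38, nat_lit 114, nat_lit 57, nat_lit 76, nat_lit 133, nat_lit 38, nat_lit 114, nat_lit 57, nat_lit 133, nat_lit 95, nat_lit 38, nat_lit 76, nat_lit 57, nat_lit 76, nat_lit 114, nat_lit 38, nat_lit 133, nat_lit 57])
noncomputable def r161 : WT := (.node (nat_lit 12) r159 r160)
noncomputable def r162 : WT := (.leaf (nat_lit 10273) [nat_lit 133, nat_lit 57, nat_lit 133, nat_lit 57, nat_lit 76, nat_lit 38, nat_lit 114, nat_lit 38, nat_lit 114, nat_lit 38, nat_lit 114, nat_lit 38, nat_lit 114, nat_lit 38, nat_lit 95, nat_lit 57, nat_lit 133, nat_lit 57, nat_lit 133, nat_lit 57])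
noncomputable def r163 : WT := (.leaf (nat_lit 10263) [nat_lit 57, nat_lit 133, nat_lit 57, nat_lit 133, nat_lit 57, nat_lit 133, nat_lit 57, nat_lit 133, nat_lit 57, nat_lit 76, nat_lit 38, nat_lit 114, nat_lit 38, nat_lit 114, nat_lit 38, nat_lit 114, nat_lit 38, nat_lit 114, nat_lit 38, nat_lit 95])
noncomputable def r164 : WT := (.node (nat_lit 14) r162 r163)
noncomputable def r165 : WT := (.leaf (nat_lit 10264) [nat_lit 57, nat_lit 133, nat_lit 57, nat_lit 133, nat_lit 57, nat_lit 133, nat_lit 57, nat_lit 95, nat_lit 38, nat_lit 114, nat_lit 38, nat_lit 114, nat_lit 38, nat_lit 114, nat_lit 38, nat_lit 114, nat_lit 38, nat_lit 76, nat_lit 57, nat_lit 133])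
noncomputable def r166 : WT := (.leaf (nat_lit 10240) [nat_lit 38, nat_lit 114, nat_lit 38, nat_lit 114, nat_lit 38, nat_lit 114, nat_lit 38, nat_lit 114, nat_lit 38, nat_lit 76, nat_lit 57, nat_lit 133, nat_lit 57, nat_lit 133, nat_lit 57, nat_lit 133, nat_lit 57, nat_lit 133, nat_lit 57, nat_lit 95])
noncomputable def r167 : WT := (.node (nat_lit 16) r165 r166)
noncomputable def r168 : WT := (.leaf (nat_lit 9248) [nat_lit 38, nat_lit 114, nat_lit 57, nat_lit 76, nat_lit 38, nat_lit 133, nat_lit 57, nat_lit 133, nat_lit 38, nat_lit 114, nat_lit 57, nat_lit 114, nat_lit 38, nat_lit 76, nat_lit 57, nat_lit 133, nat_lit 38, nat_lit 133, nat_lit 57, nat_lit 114])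
noncomputable def r169 : WT := (.node (nat_lit 18) (.leaf (nat_lit 7175) [nat_lit 95, nat_lit 114, nat_lit 76, nat_lit 133]) r168)
noncomputable def r170 : WT := (.leaf (nat_lit 9238) [nat_lit 133, nat_lit 38, nat_lit 133, nat_lit 57, nat_lit 114, nat_lit 38, nat_lit 114, nat_lit 57, nat_lit 76, nat_lit 38, nat_lit 133, nat_lit 57, nat_lit 133, nat_lit 38, nat_lit 114, nat_lit 57, nat_lit 114, nat_lit 38, nat_lit 76, nat_lit 57])
noncomputable def r171 : WT := (.leaf (nat_lit 8211) [nat_lit 38, nat_lit 95, nat_lit 57, nat_lit 114, nat_lit 57, nat_lit 114, nat_lit 57, nat_lit 114, nat_lit 57, nat_lit 114, nat_lit 57, nat_lit 76, nat_lit 38, nat_lit 133, nat_lit 38, nat_lit 133, nat_lit 38, nat_lit 133, nat_lit 38, nat_lit 133])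
noncomputable def r172 : WT := (.node (nat_lit 20) r170 r171)
noncomputable def r173 : WT := (.leaf (nat_lit 8204) [nat_lit 38, nat_lit 133, nat_lit 38, nat_lit 76, nat_lit 57, nat_lit 114, nat_lit 57, nat_lit 114, nat_lit 57, nat_lit 114, nat_lit 57, nat_lit 114, nat_lit 57, nat_lit 95, nat_lit 38, nat_lit 133, nat_lit 38, nat_lit 133, nat_lit 38, nat_lit 133])
noncomputable def r174 : WT := (.leaf (nat_lit 14337) [nat_lit 133, nat_lit 95, nat_lit 57, nat_lit 133, nat_lit 95, nat_lit 57, nat_lit 133, nat_lit 95, nat_lit 57, nat_lit 133, nat_lit 95, nat_lit 57, nat_lit 133, nat_lit 95, nat_lit 57])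
noncomputable def r175 : WT := (.node (nat_lit 22) r173 r174)
noncomputable def r176 : WT := (.node (nat_lit 24) (.leaf (nat_lit 13312) [nat_lit 38, nat_lit 114, nat_lit 38, nat_lit 114, nat_lit 38, nat_lit 114, nat_lit 38, nat_lit 114, nat_lit 38, nat_lit 114]) (.leaf (nat_lit 6145) [nat_lit 38, nat_lit 38, nat_lit 76, nat_lit 57, nat_lit 95]))
noncomputable def wP : WT := (.node (nat_lit 10) (.node (nat_lit 4) (.node (nat_lit 2) (.node (nat_lit 1) r147 (.leaf (nat_lit 13314) [nat_lit 114, nat_lit 38, nat_lit 114, nat_lit 38, nat_lit 114, nat_lit 38, nat_lit 114, nat_lit 38, nat_lit 114, nat_lit 38])) (.node (nat_lit 3) r148 r149)) (.node (nat_lit 7) (.node (nat_lit 5) r150 r153) (.node (nat_lit 9) r156 r157))) (.node (nat_lit 17) (.node (nat_lit 13) (.node (nat_lit 11) r158 r161) (.node (nat_lit 15) r164 r167)) (.node (nat_lit 21) (.node (nat_lit 19) r169 r172) (.node (nat_lit 23) r175 r176))))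
noncomputable def P : Par := ⟨tb, nat_lit 152, nat_lit 0xffffffffffffffffffffffffffffffffffffff, nat_lit 1298, nat_lit 524287, nat_lit 2047, nat_lit 19, nat_lit 11, nat_lit 960,
  [nat_lit 38, nat_lit 57, nat_lit 76, nat_lit 95, nat_lit 114, nat_lit 133], [nat_lit 38, nat_lit 76], wP,
  (.cons (nat_lit 38) w0 (.cons (nat_lit 57) w1 (.cons (nat_lit 76) w2 (.cons (nat_lit 95) w3 (.cons (nat_lit 114) w4 (.cons (nat_lit 133) w5 .nil)))))),
  .nil⟩

end Cfsg.Agent.Lib.TCOP4
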