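import Cfsg.Agent.Lib.TCOP9D0

set_option autoImplicit false
set_option maxRecDepth 100000

namespace Cfsg.Agent.Lib.TCOP9
open Cfsg.Agent.Lib.TCCore

noncomputable def n0 : T := (.node (nat_lit 219) (.node (nat_lit 73) l0 (.node (nat_lit 146) l1 l2)) (.node (nat_lit 292) l3 (.node (nat_lit 365) l4 l5)))
noncomputable def n1 : T := (.node (nat_lit 657) (.node (nat_lit 511) l6 (.node (nat_lit 584) l7 l8)) (.node (nat_lit 803) (.node (nat_lit 730) l9 l10) (.node (nat_lit 876) l11 l12)))
noncomputable def n2 : T := (.node (nat_lit 1168) (.node (nat_lit 1022) l13 (.node (nat_lit 1095) l14 l15)) (.node (nat_lit 1241) l16 (.node (nat_lit 1314) l17 l18)))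
noncomputable def n3 : T := (.node (nat_lit 1606) (.node (nat_lit 1460) l19 (.node (nat_lit 1533) l20 l21)) (.node (nat_lit 1752) (.node (nat_lit 1679) l22 l23) (.node (nat_lit 1825) l24 l25)))
noncomputable def n4 : T := (.node (nat_lit 2117) (.node (nat_lit 1971) l26 (.node (nat_lit 2044) l27 l28)) (.node (nat_lit 2190) l29 (.node (nat_lit 2263) l30 l31)))
noncomputable def n5 : T := (.node (nat_lit 2555) (.node (nat_lit 2409) l32 (.node (nat_lit 2482) l33 l34)) (.node (nat_lit 2701) (.node (nat_lit 2628) l35 l36) (.node (nat_lit 2774) l37 l38)))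
noncomputable def n6 : T := (.node (nat_lit 3066) (.node (nat_lit 2920) l39 (.node (nat_lit 2993) l40 l41)) (.node (nat_lit 3212) (.node (nat_lit 3139) l42 l43) (.node (nat_lit 3285) l44 l45)))
noncomputable def n7 : T := (.node (nat_lit 3577) (.node (nat_lit 3431) l46 (.node (nat_lit 3504) l47 l48)) (.node (nat_lit 3723) (.node (nat_lit 3650) l49 l50) (.node (nat_lit 3796) l51 l52)))
noncomputable def n8 : T := (.node (nat_lit 4088) (.node (nat_lit 3942) l53 (.node (nat_lit 4015) l54 l55)) (.node (nat_lit 4161) l56 (.node (nat_lit 4234) l57 l58)))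
noncomputable def n9 : T := (.node (nat_lit 4526) (.node (nat_lit 4380) l59 (.node (nat_lit 4453) l60 l61)) (.node (nat_lit 4672) (.node (nat_lit 4599) l62 l63) (.node (nat_lit 4745) l64 l65)))
noncomputable def n10 : T := (.node (nat_lit 5037) (.node (nat_lit 4891) l66 (.node (nat_lit 4964) l67 l68)) (.node (nat_lit 5110) l69 (.node (nat_lit 5183) l70 l71)))
noncomputable def n11 : T := (.node (nat_lit 5475) (.node (nat_lit 5329) l72 (.node (nat_lit 5402) l73 l74)) (.node (nat_lit 5621) (.node (nat_lit 5548) l75 l76) (.node (nat_lit 5694) l77 l78)))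
noncomputable def n12 : T := (.node (nat_lit 5986) (.node (nat_lit 5840) l79 (.node (nat_lit 5913) l80 l81)) (.node (nat_lit 6059) l82 (.node (nat_lit 6132) l83 l84)))
noncomputable def n13 : T := (.node (nat_lit 6424) (.node (nat_lit 6278) l85 (.node (nat_lit 6351) l86 l87)) (.node (nat_lit 6570) (.node (nat_lit 6497) l88 l89) (.node (nat_lit 6643) l90 l91)))
noncomputable def n14 : T := (.node (nat_lit 6935) (.node (nat_lit 6789) l92 (.node (nat_lit 6862) l93 l94)) (.node (nat_lit 7081) (.node (nat_lit 7008) l95 l96) (.node (nat_lit 7154) l97 l98)))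
noncomputable def n15 : T := (.node (nat_lit 7446) (.node (nat_lit 7300) l99 (.node (nat_lit 7373) l100 l101)) (.node (nat_lit 7592) (.node (nat_lit 7519) l102 l103) (.node (nat_lit 7665) l104 l105)))
noncomputable def n16 : T := (.node (nat_lit 7957) (.node (nat_lit 7811) l106 (.node (nat_lit 7884) l107 l108)) (.node (nat_lit 8030) l109 (.node (nat_lit 8103) l110 l111)))
noncomputable def n17 : T := (.node (nat_lit 8395) (.node (nat_lit 8249) l112 (.node (nat_lit 8322) l113 l114)) (.node (nat_lit 8541) (.node (nat_lit 8468) l115 l116) (.node (nat_lit 8614) l117 l118)))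
noncomputable def n18 : T := (.node (nat_lit 8906) (.node (nat_lit 8760) l119 (.node (nat_lit 8833) l120 l121)) (.node (nat_lit 8979) l122 (.node (nat_lit 9052) l123 l124)))
noncomputable def n19 : T := (.node (nat_lit 9344) (.node (nat_lit 9198) l125 (.node (nat_lit 9271) l126 l127)) (.node (nat_lit 9490) (.node (nat_lit 9417) l128 l129) (.node (nat_lit 9563) l130 l131)))
noncomputable def n20 : T := (.node (nat_lit 9855) (.node (nat_lit 9709) l132 (.node (nat_lit 9782) l133 l134)) (.node (nat_lit 9928) l135 (.node (nat_lit 10001) l136 l137)))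
noncomputable def n21 : T := (.node (nat_lit 10293) (.node (nat_lit 10147) l138 (.node (nat_lit 10220) l139 l140)) (.node (nat_lit 10439) (.node (nat_lit 10366) l141 l142) (.node (nat_lit 10512) l143 l144)))
noncomputable def n22 : T := (.node (nat_lit 10804) (.node (nat_lit 10658) l145 (.node (nat_lit 10731) l146 l147)) (.node (nat_lit 10950) (.node (nat_lit 10877) l148 l149) (.node (nat_lit 11023) l150 l151)))
noncomputable def n23 : T := (.node (nat_lit 11315) (.node (nat_lit 11169) l152 (.node (nat_lit 11242) l153 l154)) (.node (nat_lit 11461) (.node (nat_lit 11388) l155 l156) (.node (nat_lit 11534) l157 l158)))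
noncomputable def n24 : T := (.node (nat_lit 11826) (.node (nat_lit 11680) l159 (.node (nat_lit 11753) l160 l161)) (.node (nat_lit 11899) l162 (.node (nat_lit 11972) l163 l164)))
noncomputable def n25 : T := (.node (nat_lit 12264) (.node (nat_lit 12118) l165 (.node (nat_lit 12191) l166 l167)) (.node (nat_lit 12410) (.node (nat_lit 12337) l168 l169) (.node (nat_lit 12483) l170 l171)))
noncomputable def n26 : T := (.node (nat_lit 12775) (.node (nat_lit 12629) l172 (.node (nat_lit 12702) l173 l174)) (.node (nat_lit 12921) (.node (nat_lit 12848) l175 l176) (.node (nat_lit 12994) l177 l178)))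
noncomputable def n27 : T := (.node (nat_lit 13286) (.node (nat_lit 13140) l179 (.node (nat_lit 13213) l180 l181)) (.node (nat_lit 13432) (.node (nat_lit 13359) l182 l183) (.node (nat_lit 13505) l184 l185)))
noncomputable def n28 : T := (.node (nat_lit 13797) (.node (nat_lit 13651) l186 (.node (nat_lit 13724) l187 l188)) (.node (nat_lit 13870) l189 (.node (nat_lit 13943) l190 l191)))
noncomputable def n29 : T := (.node (nat_lit 14235) (.node (nat_lit 14089) l192 (.node (nat_lit 14162) l193 l194)) (.node (nat_lit 14381) (.node (nat_lit 14308) l195 l196) (.node (nat_lit 14454) l197 l198)))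
noncomputable def n30 : T := (.node (nat_lit 14746) (.node (nat_lit 14600) l199 (.node (nat_lit 14673) l200 l201)) (.node (nat_lit 14892) (.node (nat_lit 14819) l202 l203) (.node (nat_lit 14965) l204 l205)))
noncomputable def n31 : T := (.node (nat_lit 15257) (.node (nat_lit 15111) l206 (.node (nat_lit 15184) l207 l208)) (.node (nat_lit 15403) (.node (nat_lit 15330) l209 l210) (.node (nat_lit 15476) l211 l212)))
noncomputable def tb : T := (.node (nat_lit 7738) (.node (nat_lit 3869) (.node (nat_lit 1898) (.node (nat_lit 949) (.node (nat_lit 438) n0 n1) (.node (nat_lit 1387) n2 n3)) (.node (nat_lit 2847) (.node (nat_lit 2336) n4 n5) (.node (nat_lit 3358) n6 n7))) (.node (nat_lit 5767) (.node (nat_lit 4818) (.node (nat_lit 4307) n8 n9) (.node (nat_lit 5256) n10 n11)) (.node (nat_lit 6716) (.node (nat_lit 6205) n12 n13) (.node (nat_lit 7227) n14 n15)))) (.node (nat_lit 11607) (.node (nat_lit 9636) (.node (nat_lit 8687) (.node (nat_lit 8176) n16 n17) (.node (nat_lit 9125)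 n18 n19)) (.node (nat_lit 10585) (.node (nat_lit 10074) n20 n21) (.node (nat_lit 11096) n22 n23))) (.node (nat_lit 13578) (.node (nat_lit 12556) (.node (nat_lit 12045) n24 n25) (.node (nat_lit 13067) n26 n27)) (.node (nat_lit 14527) (.node (nat_lit 14016) n28 n29) (.node (nat_lit 15038) n30 n31)))))
noncomputable def r0 : WT := (.node (nat_lit 6) (.leaf (nat_lit 9216) [nat_lit 130, nat_lit 52, nat_lit 130]) (.leaf (nat_lit 10240) [nat_lit 156, nat_lit 52, nat_lit 156]))
noncomputable def r1 : WT := (.node (nat_lit 8) (.leaf (nat_lit 7168) [nat_lit 78, nat_lit 52, nat_lit 78, nat_lit 52, nat_lit 78]) (.node (nat_lit 9) (.leaf (nat_lit 28678) [nat_lit 208, nat_lit 52, nat_lit 234]) (.node (nat_lit 10) (.leaf (nat_lit 22535) [nat_lit 208, nat_lit 208, nat_lit 182]) (.leaf (nat_lit 23571) [nat_lit 104, nat_lit 130, nat_lit 104, nat_lit 130, nat_lit 104, nat_lit 130, nat_lit 104, nat_lit 130, nat_lit 182]))))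
noncomputable def w0 : WT := (.node (nat_lit 1) (.leaf (nat_lit 0) [nat_lit 52]) (.node (nat_lit 3) (.node (nat_lit 2) (.leaf (nat_lit 28674) [nat_lit 234, nat_lit 52, nat_lit 208]) (.leaf (nat_lit 11264) [nat_lit 182, nat_lit 52, nat_lit 182])) (.node (nat_lit 5) (.node (nat_lit 4) (.leaf (nat_lit 22528) [nat_lit 182, nat_lit 234, nat_lit 234]) (.leaf (nat_lit 8192) [nat_lit 104, nat_lit 52, nat_lit 104])) (.node (nat_lit 7) r0 r1))))
noncomputable def r2 : WT := (.node (nat_lit 7) (.leaf (nat_lit 27659) [nat_lit 104, nat_lit 234, nat_lit 104, nat_lit 78, nat_lit 234, nat_lit 104, nat_lit 234, nat_lit 104, nat_lit 78, nat_lit 234]) (.leaf (nat_lit 27650) [nat_lit 104, nat_lit 208, nat_lit 104, nat_lit 78, nat_lit 208, nat_lit 78, nat_lit 104, nat_lit 208, nat_lit 104, nat_lit 208]))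
noncomputable def r3 : WT := (.leaf (nat_lit 26624) [nat_lit 104, nat_lit 130, nat_lit 208, nat_lit 78, nat_lit 104, nat_lit 130, nat_lit 208, nat_lit 78, nat_lit 104, nat_lit 130, nat_lit 208, nat_lit 78, nat_lit 104, nat_lit 130, nat_lit 208, nat_lit 78, nat_lit 104, nat_lit 130, nat_lit 208])
noncomputable def r4 : WT := (.leaf (nat_lit 30720) [nat_lit 104, nat_lit 130, nat_lit 234, nat_lit 78, nat_lit 104, nat_lit 130, nat_lit 234, nat_lit 78, nat_lit 104, nat_lit 130, nat_lit 234, nat_lit 78, nat_lit 104, nat_lit 130, nat_lit 234, nat_lit 78, nat_lit 104, nat_lit 130, nat_lit 234, nat_lit 78, nat_lit 104, nat_lit 130, nat_lit 234, nat_lit 78, nat_lit 104, nat_lit 130, nat_lit 234])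
noncomputable def r5 : WT := (.leaf (nat_lit 26631) [nat_lit 234, nat_lit 130, nat_lit 104, nat_lit 78, nat_lit 234, nat_lit 130, nat_lit 104, nat_lit 78, nat_lit 234, nat_lit 130, nat_lit 104, nat_lit 78, nat_lit 234, nat_lit 130, nat_lit 104, nat_lit 78, nat_lit 234, nat_lit 130, nat_lit 104])
noncomputable def r6 : WT := (.node (nat_lit 13) r3 (.node (nat_lit 14) r4 r5))
noncomputable def r7 : WT := (.node (nat_lit 9) (.leaf (nat_lit 27658) [nat_lit 208, nat_lit 78, nat_lit 104, nat_lit 208, nat_lit 104, nat_lit 208, nat_lit 78, nat_lit 104, nat_lit 208, nat_lit 104]) (.node (nat_lit 10) (.leaf (nat_lit 27662) [nat_lit 104, nat_lit 208, nat_lit 104, nat_lit 208, nat_lit 78, nat_lit 104, nat_lit 208, nat_lit 104, nat_lit 78, nat_lit 208]) (.node (nat_lit 11) (.leaf (nat_lit 27655) [nat_lit 234, nat_lit 78, nat_lit 104, nat_lit 234, nat_lit 104, nat_lit 78, nat_lit 234, nat_lit 104, nat_lit 234, nat_lit 104]) (.node (nat_lit 12) (.leaf (nat_lit 27667) [nat_lit 234, nat_lit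 104, nat_lit 234, nat_lit 104, nat_lit 78, nat_lit 234, nat_lit 78, nat_lit 104, nat_lit 234, nat_lit 104]) r6))))
noncomputable def w1 : WT := (.node (nat_lit 1) (.leaf (nat_lit 1024) [nat_lit 78]) (.node (nat_lit 4) (.node (nat_lit 2) (.leaf (nat_lit 15360) [nat_lit 182, nat_lit 78, nat_lit 182]) (.node (nat_lit 3) (.leaf (nat_lit 12288) [nat_lit 104, nat_lit 78, nat_lit 104, nat_lit 78, nat_lit 104]) (.leaf (nat_lit 13312) [nat_lit 130, nat_lit 78, nat_lit 130]))) (.node (nat_lit 6) (.node (nat_lit 5) (.leaf (nat_lit 14336) [nat_lit 156, nat_lit 78, nat_lit 156]) (.leaf (nat_lit 7170) [nat_lit 52, nat_lit 78, nat_lit 52, nat_lit 78, nat_lit 52])) (.node (nat_lit 8) r2 r7))))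
noncomputable def r8 : WT := (.node (nat_lit 6) (.leaf (nat_lit 27653) [nat_lit 78, nat_lit 234, nat_lit 78, nat_lit 104, nat_lit 234, nat_lit 104, nat_lit 78, nat_lit 234, nat_lit 104, nat_lit 234]) (.leaf (nat_lit 25608) [nat_lit 130, nat_lit 104, nat_lit 208, nat_lit 104, nat_lit 208, nat_lit 130, nat_lit 234, nat_lit 104, nat_lit 234]))
noncomputable def r9 : WT := (.node (nat_lit 8) (.leaf (nat_lit 27656) [nat_lit 78, nat_lit 208, nat_lit 78, nat_lit 104, nat_lit 208, nat_lit 104, nat_lit 208, nat_lit 78, nat_lit 104, nat_lit 208]) (.node (nat_lit 9) (.leaf (nat_lit 25616) [nat_lit 208, nat_lit 130, nat_lit 234, nat_lit 104, nat_lit 234, nat_lit 104, nat_lit 130, nat_lit 104, nat_lit 208]) (.leaf (nat_lit 27665) [nat_lit 78, nat_lit 234, nat_lit 104, nat_lit 234, nat_lit 104, nat_lit 78, nat_lit 234, nat_lit 78, nat_lit 104, nat_lit 234])))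
noncomputable def r10 : WT := (.leaf (nat_lit 32771) [nat_lit 130, nat_lit 156, nat_lit 208, nat_lit 104, nat_lit 130, nat_lit 156, nat_lit 208, nat_lit 104, nat_lit 130, nat_lit 156, nat_lit 208, nat_lit 104, nat_lit 130, nat_lit 156, nat_lit 208, nat_lit 104, nat_lit 130, nat_lit 156, nat_lit 208])
noncomputable def r11 : WT := (.node (nat_lit 19) (.leaf (nat_lit 27664) [nat_lit 208, nat_lit 104, nat_lit 208, nat_lit 78, nat_lit 104, nat_lit 208, nat_lit 104, nat_lit 78, nat_lit 208, nat_lit 78]) (.node (nat_lit 20) (.leaf (nat_lit 23562) [nat_lit 130, nat_lit 104, nat_lit 130, nat_lit 104, nat_lit 52, nat_lit 182, nat_lit 130, nat_lit 104, nat_lit 130]) r10))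
noncomputable def r12 : WT := (.leaf (nat_lit 26629) [nat_lit 78, nat_lit 234, nat_lit 130, nat_lit 104, nat_lit 78, nat_lit 234, nat_lit 130, nat_lit 104, nat_lit 78, nat_lit 234, nat_lit 130, nat_lit 104, nat_lit 78, nat_lit 234, nat_lit 130, nat_lit 104, nat_lit 78, nat_lit 234, nat_lit 130])
noncomputable def r13 : WT := (.leaf (nat_lit 32772) [nat_lit 234, nat_lit 156, nat_lit 130, nat_lit 104, nat_lit 234, nat_lit 156, nat_lit 130, nat_lit 104, nat_lit 234, nat_lit 156, nat_lit 130, nat_lit 104, nat_lit 234, nat_lit 156, nat_lit 130, nat_lit 104, nat_lit 234, nat_lit 156, nat_lit 130])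
noncomputable def r14 : WT := (.leaf (nat_lit 26626) [nat_lit 130, nat_lit 208, nat_lit 78, nat_lit 104, nat_lit 130, nat_lit 208, nat_lit 78, nat_lit 104, nat_lit 130, nat_lit 208, nat_lit 78, nat_lit 104, nat_lit 130, nat_lit 208, nat_lit 78, nat_lit 104, nat_lit 130, nat_lit 208, nat_lit 78])
noncomputable def r15 : WT := (.leaf (nat_lit 33795) [nat_lit 130, nat_lit 156, nat_lit 234, nat_lit 104, nat_lit 130, nat_lit 156, nat_lit 234, nat_lit 104, nat_lit 130, nat_lit 156, nat_lit 234, nat_lit 104, nat_lit 130, nat_lit 156, nat_lit 234, nat_lit 104, nat_lit 130, nat_lit 156, nat_lit 234, nat_lit 104, nat_lit 130, nat_lit 156, nat_lit 234, nat_lit 104, nat_lit 130, nat_lit 156, nat_lit 234])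
noncomputable def r16 : WT := (.leaf (nat_lit 33796) [nat_lit 208, nat_lit 156, nat_lit 130, nat_lit 104, nat_lit 208, nat_lit 156, nat_lit 130, nat_lit 104, nat_lit 208, nat_lit 156, nat_lit 130, nat_lit 104, nat_lit 208, nat_lit 156, nat_lit 130, nat_lit 104, nat_lit 208, nat_lit 156, nat_lit 130, nat_lit 104, nat_lit 208, nat_lit 156, nat_lit 130, nat_lit 104, nat_lit 208, nat_lit 156, nat_lit 130])
noncomputable def r17 : WT := (.node (nat_lit 24) (.node (nat_lit 22) (.leaf (nat_lit 23570) [nat_lit 52, nat_lit 182, nat_lit 130, nat_lit 104, nat_lit 130, nat_lit 104, nat_lit 130, nat_lit 104, nat_lit 130]) (.node (nat_lit 23) (.leaf (nat_lit 25612) [nat_lit 208, nat_lit 104, nat_lit 208, nat_lit 130, nat_lit 234, nat_lit 104, nat_lit 234, nat_lit 104, nat_lit 130]) r12)) (.node (nat_lit 26) (.node (nat_lit 25) r13 (.leaf (nat_lit 23566) [nat_lit 130, nat_lit 104, nat_lit 52, nat_lit 182, nat_lit 130, nat_lit 104, nat_lit 130, nat_lit 104, nat_lit 130])) (.node (nat_lit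 28) (.node (nat_lit 27) r14 r15) (.node (nat_lit 29) (.leaf (nat_lit 23553) [nat_lit 130, nat_lit 104, nat_lit 130, nat_lit 104, nat_lit 130, nat_lit 104, nat_lit 130, nat_lit 182, nat_lit 52]) r16))))
noncomputable def r18 : WT := (.node (nat_lit 13) (.node (nat_lit 11) (.leaf (nat_lit 24576) [nat_lit 234, nat_lit 130, nat_lit 234, nat_lit 130, nat_lit 104, nat_lit 130, nat_lit 208, nat_lit 130, nat_lit 208]) (.node (nat_lit 12) (.leaf (nat_lit 23558) [nat_lit 130, nat_lit 104, nat_lit 130, nat_lit 104, nat_lit 130, nat_lit 104, nat_lit 52, nat_lit 182, nat_lit 130]) (.leaf (nat_lit 27652) [nat_lit 208, nat_lit 104, nat_lit 78, nat_lit 208, nat_lit 78, nat_lit 104, nat_lit 208, nat_lit 104, nat_lit 208, nat_lit 78]))) (.node (nat_lit 16) (.node (nat_lit 14) (.leaf (nat_lit 27649) [nat_lit 234, nat_lit 104, nat_lit 78, nat_lit 234, nat_lit 78, nat_lit 104, nat_lit 234, nat_lit 104, nat_lit 78, nat_lit 234]) (.node (nat_lit 15) (.leaf (nat_lit 27668) [nat_lit 208, nat_lit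 78, nat_lit 104, nat_lit 208, nat_lit 104, nat_lit 78, nat_lit 208, nat_lit 78, nat_lit 104, nat_lit 208]) (.leaf (nat_lit 25604) [nat_lit 234, nat_lit 104, nat_lit 130, nat_lit 104, nat_lit 208, nat_lit 104, nat_lit 208, nat_lit 130, nat_lit 234]))) (.node (nat_lit 18) (.node (nat_lit 17) (.leaf (nat_lit 24586) [nat_lit 130, nat_lit 208, nat_lit 130, nat_lit 208, nat_lit 104, nat_lit 234, nat_lit 130, nat_lit 234, nat_lit 130]) (.leaf (nat_lit 27661) [nat_lit 234, nat_lit 104, nat_lit 78, nat_lit 234, nat_lit 104, nat_lit 234, nat_lit 104, nat_lit 78, nat_lit 234, nat_lit 78])) (.node (nat_lit 21) r11 r17))))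
noncomputable def w2 : WT := (.node (nat_lit 1) (.leaf (nat_lit 2048) [nat_lit 104]) (.node (nat_lit 4) (.node (nat_lit 2) (.leaf (nat_lit 18432) [nat_lit 182, nat_lit 104, nat_lit 182]) (.node (nat_lit 3) (.leaf (nat_lit 8194) [nat_lit 52, nat_lit 104, nat_lit 52]) (.leaf (nat_lit 12290) [nat_lit 78, nat_lit 104, nat_lit 78, nat_lit 104, nat_lit 78]))) (.node (nat_lit 7) (.node (nat_lit 5) (.leaf (nat_lit 17408) [nat_lit 156, nat_lit 104, nat_lit 156]) r8) (.node (nat_lit 10) r9 r18))))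
noncomputable def r19 : WT := (.node (nat_lit 6) (.leaf (nat_lit 31749) [nat_lit 156, nat_lit 208, nat_lit 156, nat_lit 130, nat_lit 208, nat_lit 130, nat_lit 156, nat_lit 208, nat_lit 130, nat_lit 208]) (.node (nat_lit 7) (.leaf (nat_lit 24584) [nat_lit 104, nat_lit 130, nat_lit 208, nat_lit 130, nat_lit 208, nat_lit 104, nat_lit 234, nat_lit 130, nat_lit 234]) (.leaf (nat_lit 19456) [nat_lit 156, nat_lit 130, nat_lit 156, nat_lit 130, nat_lit 156])))
noncomputable def r20 : WT := (.node (nat_lit 19) (.leaf (nat_lit 31760) [nat_lit 234, nat_lit 130, nat_lit 234, nat_lit 156, nat_lit 130, nat_lit 234, nat_lit 130, nat_lit 156, nat_lit 234, nat_lit 156]) (.leaf (nat_lit 25610) [nat_lit 104, nat_lit 208, nat_lit 104, nat_lit 208, nat_lit 130, nat_lit 234, nat_lit 104, nat_lit 234, nat_lit 104]))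
noncomputable def r21 : WT := (.leaf (nat_lit 30723) [nat_lit 104, nat_lit 78, nat_lit 208, nat_lit 130, nat_lit 104, nat_lit 78, nat_lit 208, nat_lit 130, nat_lit 104, nat_lit 78, nat_lit 208, nat_lit 130, nat_lit 104, nat_lit 78, nat_lit 208, nat_lit 130, nat_lit 104, nat_lit 78, nat_lit 208, nat_lit 130, nat_lit 104, nat_lit 78, nat_lit 208, nat_lit 130, nat_lit 104, nat_lit 78, nat_lit 208])
noncomputable def r22 : WT := (.leaf (nat_lit 26627) [nat_lit 104, nat_lit 78, nat_lit 234, nat_lit 130, nat_lit 104, nat_lit 78, nat_lit 234, nat_lit 130, nat_lit 104, nat_lit 78, nat_lit 234, nat_lit 130, nat_lit 104, nat_lit 78, nat_lit 234, nat_lit 130, nat_lit 104, nat_lit 78, nat_lit 234])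
noncomputable def r23 : WT := (.leaf (nat_lit 26628) [nat_lit 208, nat_lit 78, nat_lit 104, nat_lit 130, nat_lit 208, nat_lit 78, nat_lit 104, nat_lit 130, nat_lit 208, nat_lit 78, nat_lit 104, nat_lit 130, nat_lit 208, nat_lit 78, nat_lit 104, nat_lit 130, nat_lit 208, nat_lit 78, nat_lit 104])
noncomputable def r24 : WT := (.leaf (nat_lit 32770) [nat_lit 104, nat_lit 234, nat_lit 156, nat_lit 130, nat_lit 104, nat_lit 234, nat_lit 156, nat_lit 130, nat_lit 104, nat_lit 234, nat_lit 156, nat_lit 130, nat_lit 104, nat_lit 234, nat_lit 156, nat_lit 130, nat_lit 104, nat_lit 234, nat_lit 156])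
noncomputable def r25 : WT := (.node (nat_lit 27) r24 (.leaf (nat_lit 23555) [nat_lit 104, nat_lit 130, nat_lit 104, nat_lit 130, nat_lit 104, nat_lit 130, nat_lit 182, nat_lit 52, nat_lit 104]))
noncomputable def r26 : WT := (.node (nat_lit 22) (.node (nat_lit 21) (.leaf (nat_lit 23568) [nat_lit 104, nat_lit 52, nat_lit 182, nat_lit 130, nat_lit 104, nat_lit 130, nat_lit 104, nat_lit 130, nat_lit 104]) r21) (.node (nat_lit 24) (.node (nat_lit 23) r22 (.leaf (nat_lit 23564) [nat_lit 104, nat_lit 130, nat_lit 104, nat_lit 52, nat_lit 182, nat_lit 130, nat_lit 104, nat_lit 130, nat_lit 104])) (.node (nat_lit 25) r23 (.node (nat_lit 26) (.leaf (nat_lit 23556) [nat_lit 104, nat_lit 130, nat_lit 104, nat_lit 130, nat_lit 104, nat_lit 130, nat_lit 104, nat_lit 52, nat_lit 182]) r25))))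
noncomputable def r27 : WT := (.node (nat_lit 12) (.node (nat_lit 10) (.node (nat_lit 9) (.leaf (nat_lit 23560) [nat_lit 104, nat_lit 130, nat_lit 104, nat_lit 130, nat_lit 104, nat_lit 52, nat_lit 182, nat_lit 130, nat_lit 104]) (.leaf (nat_lit 31752) [nat_lit 156, nat_lit 234, nat_lit 156, nat_lit 130, nat_lit 234, nat_lit 130, nat_lit 234, nat_lit 156, nat_lit 130, nat_lit 234])) (.node (nat_lit 11) (.leaf (nat_lit 31745) [nat_lit 208, nat_lit 130, nat_lit 156, nat_lit 208, nat_lit 156, nat_lit 130, nat_lit 208, nat_lit 130, nat_lit 156, nat_lit 208]) (.leaf (nat_lit 31761) [nat_lit 156, nat_lit 208, nat_lit 130, nat_lit 208, nat_lit 130, nat_lit 156, nat_lit 208, nat_lit 156, nat_lit 130, nat_lit 208]))) (.node (nat_lit 16) (.node (nat_lit 14) (.node (nat_lit 13) (.leaf (nat_lit 31764) [nat_lit 234, nat_lit 156, nat_lit 130, nat_lit 234, nat_lit 130, nat_lit 156, nat_lit 234, nat_lit 156, nat_lit 130, nat_lit 234]) (.leaf (nat_lit 31748) [nat_lit 234, nat_lit 130,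 nat_lit 156, nat_lit 234, nat_lit 156, nat_lit 130, nat_lit 234, nat_lit 130, nat_lit 234, nat_lit 156])) (.node (nat_lit 15) (.leaf (nat_lit 25600) [nat_lit 234, nat_lit 104, nat_lit 234, nat_lit 104, nat_lit 130, nat_lit 104, nat_lit 208, nat_lit 104, nat_lit 208]) (.leaf (nat_lit 24588) [nat_lit 208, nat_lit 130, nat_lit 208, nat_lit 104, nat_lit 234, nat_lit 130, nat_lit 234, nat_lit 130, nat_lit 104]))) (.node (nat_lit 18) (.node (nat_lit 17) (.leaf (nat_lit 24580) [nat_lit 234, nat_lit 130, nat_lit 104, nat_lit 130, nat_lit 208, nat_lit 130, nat_lit 208, nat_lit 104, nat_lit 234]) (.leaf (nat_lit 31757) [nat_lit 208, nat_lit 130, nat_lit 156, nat_lit 208, nat_lit 130, nat_lit 208, nat_lit 130, nat_lit 156, nat_lit 208, nat_lit 156])) (.node (nat_lit 20) r20 r26))))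
noncomputable def w3 : WT := (.node (nat_lit 1) (.leaf (nat_lit 3072) [nat_lit 130]) (.node (nat_lit 3) (.node (nat_lit 2) (.leaf (nat_lit 20480) [nat_lit 182, nat_lit 130, nat_lit 182]) (.leaf (nat_lit 9218) [nat_lit 52, nat_lit 130, nat_lit 52])) (.node (nat_lit 5) (.node (nat_lit 4) (.leaf (nat_lit 24592) [nat_lit 208, nat_lit 104, nat_lit 234, nat_lit 130, nat_lit 234, nat_lit 130, nat_lit 104, nat_lit 130, nat_lit 208]) (.leaf (nat_lit 13314) [nat_lit 78, nat_lit 130, nat_lit 78])) (.node (nat_lit 8) r19 r27))))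
noncomputable def r28 : WT := (.node (nat_lit 6) (.leaf (nat_lit 19458) [nat_lit 130, nat_lit 156, nat_lit 130, nat_lit 156, nat_lit 130]) (.leaf (nat_lit 31755) [nat_lit 130, nat_lit 208, nat_lit 130, nat_lit 156, nat_lit 208, nat_lit 130, nat_lit 208, nat_lit 130, nat_lit 156, nat_lit 208]))
noncomputable def r29 : WT := (.leaf (nat_lit 32768) [nat_lit 130, nat_lit 104, nat_lit 234, nat_lit 156, nat_lit 130, nat_lit 104, nat_lit 234, nat_lit 156, nat_lit 130, nat_lit 104, nat_lit 234, nat_lit 156, nat_lit 130, nat_lit 104, nat_lit 234, nat_lit 156, nat_lit 130, nat_lit 104, nat_lit 234])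
noncomputable def r30 : WT := (.leaf (nat_lit 32775) [nat_lit 208, nat_lit 104, nat_lit 130, nat_lit 156, nat_lit 208, nat_lit 104, nat_lit 130, nat_lit 156, nat_lit 208, nat_lit 104, nat_lit 130, nat_lit 156, nat_lit 208, nat_lit 104, nat_lit 130, nat_lit 156, nat_lit 208, nat_lit 104, nat_lit 130])
noncomputable def r31 : WT := (.node (nat_lit 13) r29 r30)
noncomputable def r32 : WT := (.node (nat_lit 9) (.node (nat_lit 8) (.leaf (nat_lit 31754) [nat_lit 234, nat_lit 156, nat_lit 130, nat_lit 234, nat_lit 130, nat_lit 234, nat_lit 156, nat_lit 130, nat_lit 234, nat_lit 130]) (.leaf (nat_lit 31746) [nat_lit 130, nat_lit 234, nat_lit 130, nat_lit 156, nat_lit 234, nat_lit 156, nat_lit 130, nat_lit 234, nat_lit 130, nat_lit 234])) (.node (nat_lit 10) (.leaf (nat_lit 31758) [nat_lit 130, nat_lit 234, nat_lit 130, nat_lit 234, nat_lit 156, nat_lit 130, nat_lit 234, nat_lit 130, nat_lit 156, nat_lit 234]) (.node (nat_lit 11) (.leaf (nat_lit 31751) [nat_lit 208, nat_lit 156,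 nat_lit 130, nat_lit 208, nat_lit 130, nat_lit 156, nat_lit 208, nat_lit 130, nat_lit 208, nat_lit 130]) (.node (nat_lit 12) (.leaf (nat_lit 31763) [nat_lit 208, nat_lit 130, nat_lit 208, nat_lit 130, nat_lit 156, nat_lit 208, nat_lit 156, nat_lit 130, nat_lit 208, nat_lit 130]) r31))))
noncomputable def w4 : WT := (.node (nat_lit 1) (.leaf (nat_lit 4096) [nat_lit 156]) (.node (nat_lit 3) (.node (nat_lit 2) (.leaf (nat_lit 17410) [nat_lit 104, nat_lit 156, nat_lit 104]) (.leaf (nat_lit 10242) [nat_lit 52, nat_lit 156, nat_lit 52])) (.node (nat_lit 5) (.node (nat_lit 4) (.leaf (nat_lit 14338) [nat_lit 78, nat_lit 156, nat_lit 78]) (.leaf (nat_lit 21504) [nat_lit 182, nat_lit 156, nat_lit 182, nat_lit 156, nat_lit 182])) (.node (nat_lit 7) r28 r32))))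
noncomputable def r33 : WT := (.node (nat_lit 6) (.leaf (nat_lit 11266) [nat_lit 52, nat_lit 182, nat_lit 52]) (.leaf (nat_lit 20482) [nat_lit 130, nat_lit 182, nat_lit 130]))
noncomputable def r34 : WT := (.node (nat_lit 8) (.leaf (nat_lit 21506) [nat_lit 156, nat_lit 182, nat_lit 156, nat_lit 182, nat_lit 156]) (.node (nat_lit 9) (.leaf (nat_lit 29698) [nat_lit 234, nat_lit 182, nat_lit 208]) (.node (nat_lit 10) (.leaf (nat_lit 22530) [nat_lit 234, nat_lit 234, nat_lit 52]) (.leaf (nat_lit 23554) [nat_lit 130, nat_lit 104, nat_lit 130, nat_lit 104, nat_lit 130, nat_lit 104, nat_lit 130, nat_lit 104, nat_lit 52]))))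
noncomputable def w5 : WT := (.node (nat_lit 1) (.leaf (nat_lit 5120) [nat_lit 182]) (.node (nat_lit 3) (.node (nat_lit 2) (.leaf (nat_lit 22533) [nat_lit 52, nat_lit 208, nat_lit 208]) (.leaf (nat_lit 29702) [nat_lit 208, nat_lit 182, nat_lit 234])) (.node (nat_lit 5) (.node (nat_lit 4) (.leaf (nat_lit 15362) [nat_lit 78, nat_lit 182, nat_lit 78]) (.leaf (nat_lit 18434) [nat_lit 104, nat_lit 182, nat_lit 104])) (.node (nat_lit 7) r33 r34))))
noncomputable def r35 : WT := (.node (nat_lit 5) (.leaf (nat_lit 27654) [nat_lit 104, nat_lit 78, nat_lit 208, nat_lit 78, nat_lit 104, nat_lit 208, nat_lit 104, nat_lit 208, nat_lit 78, nat_lit 104]) (.node (nat_lit 6) (.leaf (nat_lit 28672) [nat_lit 52, nat_lit 234, nat_lit 52]) (.leaf (nat_lit 27660) [nat_lit 78, nat_lit 104, nat_lit 208, nat_lit 104, nat_lit 208, nat_lit 78, nat_lit 104, nat_lit 208, nat_lit 104, nat_lit 78])))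
noncomputable def r36 : WT := (.leaf (nat_lit 26630) [nat_lit 78, nat_lit 104, nat_lit 130, nat_lit 208, nat_lit 78, nat_lit 104, nat_lit 130, nat_lit 208, nat_lit 78, nat_lit 104, nat_lit 130, nat_lit 208, nat_lit 78, nat_lit 104, nat_lit 130, nat_lit 208, nat_lit 78, nat_lit 104, nat_lit 130])
noncomputable def r37 : WT := (.leaf (nat_lit 33798) [nat_lit 156, nat_lit 130, nat_lit 104, nat_lit 208, nat_lit 156, nat_lit 130, nat_lit 104, nat_lit 208, nat_lit 156, nat_lit 130, nat_lit 104, nat_lit 208, nat_lit 156, nat_lit 130, nat_lit 104, nat_lit 208, nat_lit 156, nat_lit 130, nat_lit 104, nat_lit 208, nat_lit 156, nat_lit 130, nat_lit 104, nat_lit 208, nat_lit 156, nat_lit 130, nat_lit 104])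
noncomputable def r38 : WT := (.node (nat_lit 16) (.leaf (nat_lit 24594) [nat_lit 104, nat_lit 234, nat_lit 130, nat_lit 234, nat_lit 130, nat_lit 104, nat_lit 130, nat_lit 208, nat_lit 130]) (.node (nat_lit 17) (.leaf (nat_lit 31765) [nat_lit 130, nat_lit 208, nat_lit 130, nat_lit 156, nat_lit 208, nat_lit 156, nat_lit 130, nat_lit 208, nat_lit 130, nat_lit 156]) (.node (nat_lit 18) r36 r37)))
noncomputable def r39 : WT := (.node (nat_lit 10) (.node (nat_lit 8) (.leaf (nat_lit 24590) [nat_lit 130, nat_lit 208, nat_lit 104, nat_lit 234, nat_lit 130, nat_lit 234, nat_lit 130, nat_lit 104, nat_lit 130]) (.node (nat_lit 9) (.leaf (nat_lit 25614) [nat_lit 104, nat_lit 208, nat_lit 130, nat_lit 234, nat_lit 104, nat_lit 234, nat_lit 104, nat_lit 130, nat_lit 104]) (.leaf (nat_lit 27648) [nat_lit 78, nat_lit 104, nat_lit 208, nat_lit 104, nat_lit 78, nat_lit 208, nat_lit 78, nat_lit 104, nat_lit 208, nat_lit 104]))) (.node (nat_lit 12) (.node (nat_lit 11) (.leaf (nat_lit 31747)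 [nat_lit 130, nat_lit 156, nat_lit 208, nat_lit 156, nat_lit 130, nat_lit 208, nat_lit 130, nat_lit 156, nat_lit 208, nat_lit 130]) (.leaf (nat_lit 31753) [nat_lit 156, nat_lit 130, nat_lit 208, nat_lit 130, nat_lit 156, nat_lit 208, nat_lit 130, nat_lit 208, nat_lit 130, nat_lit 156])) (.node (nat_lit 14) (.node (nat_lit 13) (.leaf (nat_lit 31759) [nat_lit 130, nat_lit 156, nat_lit 208, nat_lit 130, nat_lit 208, nat_lit 130, nat_lit 156, nat_lit 208, nat_lit 156, nat_lit 130]) (.leaf (nat_lit 27666) [nat_lit 104, nat_lit 208, nat_lit 78, nat_lit 104, nat_lit 208, nat_lit 104, nat_lit 78, nat_lit 208, nat_lit 78, nat_lit 104])) (.node (nat_lit 15) (.leaf (nat_lit 25618) [nat_lit 130, nat_lit 234, nat_lit 104, nat_lit 234, nat_lit 104, nat_lit 130, nat_lit 104, nat_lit 208, nat_lit 104]) r38))))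
noncomputable def w6 : WT := (.node (nat_lit 1) (.leaf (nat_lit 6144) [nat_lit 234]) (.node (nat_lit 3) (.node (nat_lit 2) (.leaf (nat_lit 22531) [nat_lit 182, nat_lit 52, nat_lit 208]) (.leaf (nat_lit 29696) [nat_lit 182, nat_lit 234, nat_lit 182])) (.node (nat_lit 4) (.leaf (nat_lit 22529) [nat_lit 208, nat_lit 182, nat_lit 52]) (.node (nat_lit 7) r35 r39))))
noncomputable def r40 : WT := (.node (nat_lit 6) (.leaf (nat_lit 27651) [nat_lit 104, nat_lit 78, nat_lit 234, nat_lit 78, nat_lit 104, nat_lit 234, nat_lit 104, nat_lit 78, nat_lit 234, nat_lit 104]) (.node (nat_lit 7) (.leaf (nat_lit 27657) [nat_lit 78, nat_lit 104, nat_lit 234, nat_lit 104, nat_lit 78, nat_lit 234, nat_lit 104, nat_lit 234, nat_lit 104, nat_lit 78]) (.leaf (nat_lit 24582) [nat_lit 130, nat_lit 104, nat_lit 130, nat_lit 208, nat_lit 130, nat_lit 208, nat_lit 104, nat_lit 234, nat_lit 130])))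
noncomputable def r41 : WT := (.leaf (nat_lit 26625) [nat_lit 130, nat_lit 104, nat_lit 78, nat_lit 234, nat_lit 130, nat_lit 104, nat_lit 78, nat_lit 234, nat_lit 130, nat_lit 104, nat_lit 78, nat_lit 234, nat_lit 130, nat_lit 104, nat_lit 78, nat_lit 234, nat_lit 130, nat_lit 104, nat_lit 78])
noncomputable def r42 : WT := (.leaf (nat_lit 30726) [nat_lit 78, nat_lit 104, nat_lit 130, nat_lit 234, nat_lit 78, nat_lit 104, nat_lit 130, nat_lit 234, nat_lit 78, nat_lit 104, nat_lit 130, nat_lit 234, nat_lit 78, nat_lit 104, nat_lit 130, nat_lit 234, nat_lit 78, nat_lit 104, nat_lit 130, nat_lit 234, nat_lit 78, nat_lit 104, nat_lit 130, nat_lit 234, nat_lit 78, nat_lit 104, nat_lit 130])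
noncomputable def r43 : WT := (.leaf (nat_lit 32774) [nat_lit 156, nat_lit 130, nat_lit 104, nat_lit 234, nat_lit 156, nat_lit 130, nat_lit 104, nat_lit 234, nat_lit 156, nat_lit 130, nat_lit 104, nat_lit 234, nat_lit 156, nat_lit 130, nat_lit 104, nat_lit 234, nat_lit 156, nat_lit 130, nat_lit 104])
noncomputable def r44 : WT := (.node (nat_lit 17) (.leaf (nat_lit 25602) [nat_lit 104, nat_lit 234, nat_lit 104, nat_lit 130, nat_lit 104, nat_lit 208, nat_lit 104, nat_lit 208, nat_lit 130]) (.node (nat_lit 18) r41 (.node (nat_lit 19) r42 r43)))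
noncomputable def r45 : WT := (.node (nat_lit 11) (.node (nat_lit 9) (.leaf (nat_lit 25606) [nat_lit 104, nat_lit 130, nat_lit 104, nat_lit 208, nat_lit 104, nat_lit 208, nat_lit 130, nat_lit 234, nat_lit 104]) (.node (nat_lit 10) (.leaf (nat_lit 31750) [nat_lit 130, nat_lit 156, nat_lit 234, nat_lit 156, nat_lit 130, nat_lit 234, nat_lit 130, nat_lit 234, nat_lit 156, nat_lit 130]) (.leaf (nat_lit 27663) [nat_lit 104, nat_lit 78, nat_lit 234, nat_lit 104, nat_lit 234, nat_lit 104, nat_lit 78, nat_lit 234, nat_lit 78, nat_lit 104]))) (.node (nat_lit 13) (.node (nat_lit 12) (.leaf (nat_lit 31756) [nat_lit 156, nat_lit 130, nat_lit 234, nat_lit 130, nat_lit 234, nat_lit 156, nat_lit 130, nat_lit 234, nat_lit 130, nat_lit 156]) (.leaf (nat_lit 24578) [nat_lit 130, nat_lit 234, nat_lit 130, nat_lit 104, nat_lit 130, nat_lit 208, nat_lit 130, nat_lit 208, nat_lit 104])) (.node (nat_lit 15) (.node (nat_lit 14) (.leaf (nat_lit 31744) [nat_lit 156, nat_lit 130, nat_lit 234, nat_lit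 130, nat_lit 156, nat_lit 234, nat_lit 156, nat_lit 130, nat_lit 234, nat_lit 130]) (.leaf (nat_lit 27669) [nat_lit 104, nat_lit 234, nat_lit 104, nat_lit 78, nat_lit 234, nat_lit 78, nat_lit 104, nat_lit 234, nat_lit 104, nat_lit 78])) (.node (nat_lit 16) (.leaf (nat_lit 31762) [nat_lit 130, nat_lit 234, nat_lit 156, nat_lit 130, nat_lit 234, nat_lit 130, nat_lit 156, nat_lit 234, nat_lit 156, nat_lit 130]) r44))))
noncomputable def w7 : WT := (.node (nat_lit 1) (.leaf (nat_lit 6146) [nat_lit 208]) (.node (nat_lit 3) (.node (nat_lit 2) (.leaf (nat_lit 28676) [nat_lit 52, nat_lit 208, nat_lit 52]) (.leaf (nat_lit 22532) [nat_lit 234, nat_lit 52, nat_lit 182])) (.node (nat_lit 5) (.node (nat_lit 4) (.leaf (nat_lit 22534) [nat_lit 52, nat_lit 182, nat_lit 234]) (.leaf (nat_lit 29700) [nat_lit 182, nat_lit 208, nat_lit 182])) (.node (nat_lit 8) r40 r45))))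
noncomputable def r46 : WT := (.node (nat_lit 2) (.leaf (nat_lit 31750) [nat_lit 234, nat_lit 130, nat_lit 156, nat_lit 234, nat_lit 156, nat_lit 130, nat_lit 234, nat_lit 130, nat_lit 234, nat_lit 156, nat_lit 130]) (.leaf (nat_lit 31744) [nat_lit 234, nat_lit 156, nat_lit 130, nat_lit 234, nat_lit 130, nat_lit 156, nat_lit 234, nat_lit 156, nat_lit 130, nat_lit 234, nat_lit 130]))
noncomputable def r47 : WT := (.node (nat_lit 5) (.leaf (nat_lit 31765) [nat_lit 208, nat_lit 130, nat_lit 208, nat_lit 130, nat_lit 156, nat_lit 208, nat_lit 156, nat_lit 130, nat_lit 208, nat_lit 130, nat_lit 156]) (.leaf (nat_lit 27658) [nat_lit 78, nat_lit 208, nat_lit 78, nat_lit 104, nat_lit 208, nat_lit 104, nat_lit 208, nat_lit 78, nat_lit 104, nat_lit 208, nat_lit 104]))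
noncomputable def r48 : WT := (.node (nat_lit 7) (.leaf (nat_lit 31749) [nat_lit 130, nat_lit 156, nat_lit 208, nat_lit 156, nat_lit 130, nat_lit 208, nat_lit 130, nat_lit 156, nat_lit 208, nat_lit 130, nat_lit 208]) (.leaf (nat_lit 31752) [nat_lit 130, nat_lit 156, nat_lit 234, nat_lit 156, nat_lit 130, nat_lit 234, nat_lit 130, nat_lit 234, nat_lit 156, nat_lit 130, nat_lit 234]))
noncomputable def r49 : WT := (.node (nat_lit 9) (.leaf (nat_lit 31762) [nat_lit 234, nat_lit 130, nat_lit 234, nat_lit 156, nat_lit 130, nat_lit 234, nat_lit 130, nat_lit 156, nat_lit 234, nat_lit 156, nat_lit 130]) (.leaf (nat_lit 27650) [nat_lit 78, nat_lit 104, nat_lit 208, nat_lit 104, nat_lit 78, nat_lit 208, nat_lit 78, nat_lit 104, nat_lit 208, nat_lit 104, nat_lit 208]))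
noncomputable def r50 : WT := (.node (nat_lit 11) (.leaf (nat_lit 25604) [nat_lit 104, nat_lit 234, nat_lit 104, nat_lit 130, nat_lit 104, nat_lit 208, nat_lit 104, nat_lit 208, nat_lit 130, nat_lit 234]) (.leaf (nat_lit 24594) [nat_lit 208, nat_lit 104, nat_lit 234, nat_lit 130, nat_lit 234, nat_lit 130, nat_lit 104, nat_lit 130, nat_lit 208, nat_lit 130]))
noncomputable def r51 : WT := (.node (nat_lit 13) (.leaf (nat_lit 24592) [nat_lit 130, nat_lit 208, nat_lit 104, nat_lit 234, nat_lit 130, nat_lit 234, nat_lit 130, nat_lit 104, nat_lit 130, nat_lit 208]) (.node (nat_lit 14) (.leaf (nat_lit 24580) [nat_lit 130, nat_lit 234, nat_lit 130, nat_lit 104, nat_lit 130, nat_lit 208, nat_lit 130, nat_lit 208, nat_lit 104, nat_lit 234]) (.leaf (nat_lit 7170) [nat_lit 78, nat_lit 52, nat_lit 78, nat_lit 52, nat_lit 78, nat_lit 52])))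
noncomputable def r52 : WT := (.node (nat_lit 16) (.leaf (nat_lit 31745) [nat_lit 130, nat_lit 208, nat_lit 130, nat_lit 156, nat_lit 208, nat_lit 156, nat_lit 130, nat_lit 208, nat_lit 130, nat_lit 156, nat_lit 208]) (.leaf (nat_lit 29700) [nat_lit 234, nat_lit 182, nat_lit 208, nat_lit 182]))
noncomputable def r53 : WT := (.node (nat_lit 18) (.leaf (nat_lit 31747) [nat_lit 208, nat_lit 130, nat_lit 156, nat_lit 208, nat_lit 156, nat_lit 130, nat_lit 208, nat_lit 130, nat_lit 156, nat_lit 208, nat_lit 130]) (.node (nat_lit 19) (.leaf (nat_lit 31753) [nat_lit 208, nat_lit 156, nat_lit 130, nat_lit 208, nat_lit 130, nat_lit 156, nat_lit 208, nat_lit 130, nat_lit 208, nat_lit 130, nat_lit 156]) (.leaf (nat_lit 31759) [nat_lit 208, nat_lit 130, nat_lit 156, nat_lit 208, nat_lit 130, nat_lit 208, nat_lit 130, nat_lit 156, nat_lit 208, nat_lit 156, nat_lit 130])))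
noncomputable def r54 : WT := (.node (nat_lit 22) (.node (nat_lit 21) (.leaf (nat_lit 27653) [nat_lit 104, nat_lit 78, nat_lit 234, nat_lit 78, nat_lit 104, nat_lit 234, nat_lit 104, nat_lit 78, nat_lit 234, nat_lit 104, nat_lit 234]) (.leaf (nat_lit 27661) [nat_lit 104, nat_lit 234, nat_lit 104, nat_lit 78, nat_lit 234, nat_lit 104, nat_lit 234, nat_lit 104, nat_lit 78, nat_lit 234, nat_lit 78])) (.node (nat_lit 23) (.leaf (nat_lit 31754) [nat_lit 156, nat_lit 234, nat_lit 156, nat_lit 130, nat_lit 234, nat_lit 130, nat_lit 234, nat_lit 156, nat_lit 130, nat_lit 234, nat_lit 130]) (.leaf (nat_lit 27665) [nat_lit 104, nat_lit 78, nat_lit 234, nat_lit 104, nat_lit 234, nat_lit 104, nat_lit 78, nat_lit 234, nat_lit 78, nat_lit 104, nat_lit 234])))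
noncomputable def r55 : WT := (.leaf (nat_lit 32768) [nat_lit 156, nat_lit 130, nat_lit 104, nat_lit 234, nat_lit 156, nat_lit 130, nat_lit 104, nat_lit 234, nat_lit 156, nat_lit 130, nat_lit 104, nat_lit 234, nat_lit 156, nat_lit 130, nat_lit 104, nat_lit 234, nat_lit 156, nat_lit 130, nat_lit 104, nat_lit 234])
noncomputable def r56 : WT := (.node (nat_lit 26) (.node (nat_lit 25) (.leaf (nat_lit 31748) [nat_lit 130, nat_lit 234, nat_lit 130, nat_lit 156, nat_lit 234, nat_lit 156, nat_lit 130, nat_lit 234, nat_lit 130, nat_lit 234, nat_lit 156]) (.leaf (nat_lit 27662) [nat_lit 78, nat_lit 104, nat_lit 208, nat_lit 104, nat_lit 208, nat_lit 78, nat_lit 104, nat_lit 208, nat_lit 104, nat_lit 78, nat_lit 208])) (.node (nat_lit 27) (.leaf (nat_lit 31760) [nat_lit 130, nat_lit 234, nat_lit 130, nat_lit 234, nat_lit 156, nat_lit 130, nat_lit 234, nat_lit 130, nat_lit 156, nat_lit 234, nat_lit 156]) (.node (nat_lit 28) (.leaf (nat_lit 31764) [nat_lit 130, nat_lit 234, nat_lit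 156, nat_lit 130, nat_lit 234, nat_lit 130, nat_lit 156, nat_lit 234, nat_lit 156, nat_lit 130, nat_lit 234]) r55)))
noncomputable def r57 : WT := (.leaf (nat_lit 33799) [nat_lit 156, nat_lit 234, nat_lit 104, nat_lit 130, nat_lit 156, nat_lit 234, nat_lit 104, nat_lit 130, nat_lit 156, nat_lit 234, nat_lit 104, nat_lit 130, nat_lit 156, nat_lit 234, nat_lit 104, nat_lit 130, nat_lit 156, nat_lit 234, nat_lit 104, nat_lit 130, nat_lit 156, nat_lit 234, nat_lit 104, nat_lit 130, nat_lit 156, nat_lit 234, nat_lit 104, nat_lit 130])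
noncomputable def r58 : WT := (.node (nat_lit 31) (.node (nat_lit 30) r57 (.leaf (nat_lit 24576) [nat_lit 104, nat_lit 234, nat_lit 130, nat_lit 234, nat_lit 130, nat_lit 104, nat_lit 130, nat_lit 208, nat_lit 130, nat_lit 208])) (.node (nat_lit 32) (.leaf (nat_lit 13312) [nat_lit 78, nat_lit 130, nat_lit 78, nat_lit 130]) (.node (nat_lit 33) (.leaf (nat_lit 13314) [nat_lit 130, nat_lit 78, nat_lit 130, nat_lit 78]) (.leaf (nat_lit 14336) [nat_lit 78, nat_lit 156, nat_lit 78, nat_lit 156]))))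
noncomputable def r59 : WT := (.node (nat_lit 36) (.node (nat_lit 35) (.leaf (nat_lit 17408) [nat_lit 104, nat_lit 156, nat_lit 104, nat_lit 156]) (.leaf (nat_lit 18434) [nat_lit 182, nat_lit 104, nat_lit 182, nat_lit 104])) (.node (nat_lit 37) (.leaf (nat_lit 20482) [nat_lit 182, nat_lit 130, nat_lit 182, nat_lit 130]) (.node (nat_lit 38) (.leaf (nat_lit 28672) [nat_lit 208, nat_lit 52, nat_lit 234, nat_lit 52]) (.leaf (nat_lit 7168) [nat_lit 52, nat_lit 78, nat_lit 52, nat_lit 78, nat_lit 52, nat_lit 78]))))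
noncomputable def r60 : WT := (.node (nat_lit 41) (.node (nat_lit 40) (.leaf (nat_lit 12288) [nat_lit 78, nat_lit 104, nat_lit 78, nat_lit 104, nat_lit 78, nat_lit 104]) (.leaf (nat_lit 27655) [nat_lit 78, nat_lit 234, nat_lit 78, nat_lit 104, nat_lit 234, nat_lit 104, nat_lit 78, nat_lit 234, nat_lit 104, nat_lit 234, nat_lit 104])) (.node (nat_lit 42) (.leaf (nat_lit 24582) [nat_lit 234, nat_lit 130, nat_lit 104, nat_lit 130, nat_lit 208, nat_lit 130, nat_lit 208, nat_lit 104, nat_lit 234, nat_lit 130]) (.node (nat_lit 43) (.leaf (nat_lit 24590) [nat_lit 208, nat_lit 130, nat_lit 208, nat_lit 104, nat_lit 234, nat_lit 130, nat_lit 234, nat_lit 130, nat_lit 104, nat_lit 130]) (.leaf (nat_lit 25608) [nat_lit 104, nat_lit 130, nat_lit 104, nat_lit 208, nat_lit 104, nat_lit 208, nat_lit 130, nat_lit 234, nat_lit 104, nat_lit 234]))))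
noncomputable def r61 : WT := (.node (nat_lit 47) (.node (nat_lit 45) (.leaf (nat_lit 25616) [nat_lit 104, nat_lit 208, nat_lit 130, nat_lit 234, nat_lit 104, nat_lit 234, nat_lit 104, nat_lit 130, nat_lit 104, nat_lit 208]) (.node (nat_lit 46) (.leaf (nat_lit 25618) [nat_lit 208, nat_lit 130, nat_lit 234, nat_lit 104, nat_lit 234, nat_lit 104, nat_lit 130, nat_lit 104, nat_lit 208, nat_lit 104]) (.leaf (nat_lit 27652) [nat_lit 104, nat_lit 208, nat_lit 104, nat_lit 78, nat_lit 208, nat_lit 78, nat_lit 104, nat_lit 208, nat_lit 104, nat_lit 208, nat_lit 78]))) (.node (nat_lit 48) (.leaf (nat_lit 9218) [nat_lit 130, nat_lit 52, nat_lit 130, nat_lit 52]) (.node (nat_lit 49) (.leaf (nat_lit 27666) [nat_lit 208, nat_lit 104, nat_lit 208, nat_lit 78, nat_lit 104, nat_lit 208, nat_lit 104, nat_lit 78, nat_lit 208, nat_lit 78, nat_lit 104]) (.leaf (nat_lit 27651) [nat_lit 234, nat_lit 104, nat_lit 78, nat_lit 234, nat_lit 78, nat_lit 104, nat_lit 234, nat_lit 104, nat_lit 78,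 nat_lit 234, nat_lit 104]))))
noncomputable def wP : WT := (.node (nat_lit 15) (.node (nat_lit 6) (.node (nat_lit 3) (.node (nat_lit 1) (.leaf (nat_lit 31746) [nat_lit 156, nat_lit 130, nat_lit 234, nat_lit 130, nat_lit 156, nat_lit 234, nat_lit 156, nat_lit 130, nat_lit 234, nat_lit 130, nat_lit 234]) r46) (.node (nat_lit 4) (.leaf (nat_lit 27669) [nat_lit 234, nat_lit 104, nat_lit 234, nat_lit 104, nat_lit 78, nat_lit 234, nat_lit 78, nat_lit 104, nat_lit 234, nat_lit 104, nat_lit 78]) r47)) (.node (nat_lit 10) (.node (nat_lit 8) r48 r49) (.node (nat_lit 12) r50 r51))) (.node (nat_lit 29) (.node (nat_lit 20) (.node (nat_lit 17) r52 r53) (.node (nat_lit 24) r54 r56)) (.node (nat_lit 39) (.node (nat_lit 34) r58 r59) (.node (nat_lit 44) r60 r61))))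
noncomputable def P : Par := ⟨tb, nat_lit 260, nat_lit 0xfffffffffffffffffffffffffffffffffffffffffffffffffffffffffffffffff, nat_lit 15534, nat_lit 67108863, nat_lit 16383, nat_lit 26, nat_lit 14, nat_lit 1,
  [nat_lit 52, nat_lit 78, nat_lit 104, nat_lit 130, nat_lit 156, nat_lit 182, nat_lit 208, nat_lit 234], [nat_lit 52, nat_lit 78, nat_lit 104, nat_lit 130, nat_lit 182, nat_lit 208], wP,
  (.cons (nat_lit 52) w0 (.cons (nat_lit 78) w1 (.cons (nat_lit 104) w2 (.cons (nat_lit 130) w3 (.cons (nat_lit 156) w4 (.cons (nat_lit 182) w5 (.cons (nat_lit 208) w6 (.cons (nat_lit 234) w7 .nil)))))))),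
  .nil⟩

end Cfsg.Agent.Lib.TCOP9
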