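import Cfsg.Agent.Lib.TCS44aD0

set_option autoImplicit false
set_option maxRecDepth 100000

namespace Cfsg.Agent.Lib.TCS44a
open Cfsg.Agent.Lib.TCCore

noncomputable def tb : T := (.node (nat_lit 150) l0 l1)
noncomputable def r0 : WT := (.node (nat_lit 6) (.leaf (nat_lit 22528) [nat_lit 48, nat_lit 64, nat_lit 48, nat_lit 64, nat_lit 48, nat_lit 64, nat_lit 48, nat_lit 64, nat_lit 48, nat_lit 64]) (.leaf (nat_lit 10240) [nat_lit 112, nat_lit 32, nat_lit 112, nat_lit 32, nat_lit 112, nat_lit 32, nat_lit 112, nat_lit 32, nat_lit 112, nat_lit 32, nat_lit 112]))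
noncomputable def w0 : WT := (.node (nat_lit 1) (.leaf (nat_lit 0) [nat_lit 32]) (.node (nat_lit 3) (.node (nat_lit 2) (.leaf (nat_lit 7168) [nat_lit 64, nat_lit 32, nat_lit 64]) (.leaf (nat_lit 8192) [nat_lit 80, nat_lit 32, nat_lit 80])) (.node (nat_lit 4) (.leaf (nat_lit 9216) [nat_lit 96, nat_lit 32, nat_lit 96]) (.node (nat_lit 5) (.leaf (nat_lit 6144) [nat_lit 48, nat_lit 32, nat_lit 48]) r0))))
noncomputable def r1 : WT := (.leaf (nat_lit 21504) [nat_lit 64, nat_lit 80, nat_lit 48, nat_lit 64, nat_lit 80, nat_lit 48, nat_lit 64, nat_lit 80, nat_lit 48, nat_lit 64, nat_lit 80, nat_lit 48, nat_lit 64, nat_lit 80])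
noncomputable def r2 : WT := (.leaf (nat_lit 23556) [nat_lit 64, nat_lit 48, nat_lit 80, nat_lit 64, nat_lit 96, nat_lit 64, nat_lit 48, nat_lit 64, nat_lit 80, nat_lit 48, nat_lit 64, nat_lit 96, nat_lit 64, nat_lit 48, nat_lit 64, nat_lit 80, nat_lit 48, nat_lit 64, nat_lit 96, nat_lit 64])
noncomputable def r3 : WT := (.leaf (nat_lit 21509) [nat_lit 80, nat_lit 64, nat_lit 48, nat_lit 80, nat_lit 64, nat_lit 48, nat_lit 80, nat_lit 64, nat_lit 48, nat_lit 80, nat_lit 64, nat_lit 48, nat_lit 80, nat_lit 64])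
noncomputable def r4 : WT := (.leaf (nat_lit 23584) [nat_lit 64, nat_lit 80, nat_lit 48, nat_lit 64, nat_lit 96, nat_lit 64, nat_lit 48, nat_lit 64, nat_lit 48, nat_lit 80, nat_lit 64, nat_lit 96, nat_lit 64, nat_lit 48, nat_lit 64, nat_lit 80, nat_lit 48, nat_lit 64, nat_lit 96, nat_lit 64])
noncomputable def r5 : WT := (.leaf (nat_lit 23561) [nat_lit 64, nat_lit 96, nat_lit 64, nat_lit 48, nat_lit 80, nat_lit 64, nat_lit 48, nat_lit 64, nat_lit 96, nat_lit 64, nat_lit 80, nat_lit 48, nat_lit 64, nat_lit 48, nat_lit 64, nat_lit 96, nat_lit 64, nat_lit 48, nat_lit 80, nat_lit 64])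
noncomputable def r6 : WT := (.node (nat_lit 6) (.leaf (nat_lit 6146) [nat_lit 32, nat_lit 48, nat_lit 32]) (.node (nat_lit 9) (.node (nat_lit 7) r1 (.node (nat_lit 8) r2 (.leaf (nat_lit 22530) [nat_lit 64, nat_lit 48, nat_lit 64, nat_lit 48, nat_lit 64, nat_lit 48, nat_lit 64, nat_lit 48, nat_lit 64, nat_lit 32]))) (.node (nat_lit 11) (.node (nat_lit 10) (.leaf (nat_lit 22542) [nat_lit 64, nat_lit 48, nat_lit 64, nat_lit 32, nat_lit 48, nat_lit 64, nat_lit 48, nat_lit 64, nat_lit 48, nat_lit 64]) r3) (.node (nat_lit 12) r4 r5))))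
noncomputable def w1 : WT := (.node (nat_lit 1) (.leaf (nat_lit 1024) [nat_lit 48]) (.node (nat_lit 3) (.node (nat_lit 2) (.leaf (nat_lit 12288) [nat_lit 80, nat_lit 48, nat_lit 80]) (.leaf (nat_lit 14336) [nat_lit 112, nat_lit 48, nat_lit 112])) (.node (nat_lit 4) (.leaf (nat_lit 13312) [nat_lit 96, nat_lit 48, nat_lit 96]) (.node (nat_lit 5) (.leaf (nat_lit 22534) [nat_lit 64, nat_lit 48, nat_lit 64, nat_lit 48, nat_lit 64, nat_lit 48, nat_lit 64, nat_lit 32, nat_lit 48, nat_lit 64]) r6))))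
noncomputable def r7 : WT := (.node (nat_lit 6) (.leaf (nat_lit 25600) [nat_lit 80, nat_lit 112, nat_lit 64, nat_lit 80, nat_lit 112]) (.node (nat_lit 7) (.leaf (nat_lit 25605) [nat_lit 112, nat_lit 80, nat_lit 64, nat_lit 112, nat_lit 80]) (.leaf (nat_lit 22532) [nat_lit 48, nat_lit 64, nat_lit 48, nat_lit 64, nat_lit 48, nat_lit 64, nat_lit 48, nat_lit 64, nat_lit 32, nat_lit 48])))
noncomputable def r8 : WT := (.leaf (nat_lit 21507) [nat_lit 48, nat_lit 80, nat_lit 64, nat_lit 48, nat_lit 80, nat_lit 64, nat_lit 48, nat_lit 80, nat_lit 64, nat_lit 48, nat_lit 80, nat_lit 64, nat_lit 48, nat_lit 80])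
noncomputable def r9 : WT := (.leaf (nat_lit 23578) [nat_lit 96, nat_lit 64, nat_lit 48, nat_lit 64, nat_lit 80, nat_lit 48, nat_lit 64, nat_lit 96, nat_lit 64, nat_lit 48, nat_lit 64, nat_lit 48, nat_lit 80, nat_lit 64, nat_lit 96, nat_lit 64, nat_lit 48, nat_lit 64, nat_lit 80, nat_lit 48])
noncomputable def r10 : WT := (.leaf (nat_lit 23559) [nat_lit 48, nat_lit 64, nat_lit 96, nat_lit 64, nat_lit 48, nat_lit 80, nat_lit 64, nat_lit 48, nat_lit 64, nat_lit 96, nat_lit 64, nat_lit 80, nat_lit 48, nat_lit 64, nat_lit 48, nat_lit 64, nat_lit 96, nat_lit 64, nat_lit 48, nat_lit 80])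
noncomputable def r11 : WT := (.leaf (nat_lit 23567) [nat_lit 48, nat_lit 80, nat_lit 64, nat_lit 48, nat_lit 64, nat_lit 96, nat_lit 64, nat_lit 80, nat_lit 48, nat_lit 64, nat_lit 48, nat_lit 64, nat_lit 96, nat_lit 64, nat_lit 48, nat_lit 80, nat_lit 64, nat_lit 48, nat_lit 64, nat_lit 96])
noncomputable def r12 : WT := (.node (nat_lit 11) (.node (nat_lit 9) (.leaf (nat_lit 22548) [nat_lit 32, nat_lit 48, nat_lit 64, nat_lit 48, nat_lit 64, nat_lit 48, nat_lit 64, nat_lit 48, nat_lit 64, nat_lit 48]) (.node (nat_lit 10) (.leaf (nat_lit 22529) [nat_lit 48, nat_lit 64, nat_lit 48, nat_lit 64, nat_lit 48, nat_lit 64, nat_lit 48, nat_lit 64, nat_lit 48, nat_lit 32]) (.leaf (nat_lit 22540) [nat_lit 48, nat_lit 64, nat_lit 48, nat_lit 64, nat_lit 32, nat_lit 48, nat_lit 64, nat_lit 48, nat_lit 64, nat_lit 48]))) (.node (nat_lit 13) (.node (nat_lit 12) r8 r9) (.node (nat_lit 14) r10 r11)))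
noncomputable def w2 : WT := (.node (nat_lit 1) (.leaf (nat_lit 2048) [nat_lit 64]) (.node (nat_lit 3) (.node (nat_lit 2) (.leaf (nat_lit 15360) [nat_lit 80, nat_lit 64, nat_lit 80, nat_lit 64, nat_lit 80]) (.leaf (nat_lit 17408) [nat_lit 112, nat_lit 64, nat_lit 112, nat_lit 64, nat_lit 112])) (.node (nat_lit 5) (.node (nat_lit 4) (.leaf (nat_lit 16384) [nat_lit 96, nat_lit 64, nat_lit 96, nat_lit 64, nat_lit 96]) (.leaf (nat_lit 7170) [nat_lit 32, nat_lit 64, nat_lit 32])) (.node (nat_lit 8) r7 r12))))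
noncomputable def r13 : WT := (.leaf (nat_lit 21508) [nat_lit 48, nat_lit 64, nat_lit 80, nat_lit 48, nat_lit 64, nat_lit 80, nat_lit 48, nat_lit 64, nat_lit 80, nat_lit 48, nat_lit 64, nat_lit 80, nat_lit 48, nat_lit 64])
noncomputable def r14 : WT := (.leaf (nat_lit 21505) [nat_lit 64, nat_lit 48, nat_lit 80, nat_lit 64, nat_lit 48, nat_lit 80, nat_lit 64, nat_lit 48, nat_lit 80, nat_lit 64, nat_lit 48, nat_lit 80, nat_lit 64, nat_lit 48])
noncomputable def r15 : WT := (.node (nat_lit 7) (.leaf (nat_lit 25603) [nat_lit 64, nat_lit 112, nat_lit 80, nat_lit 64, nat_lit 112]) (.node (nat_lit 8) (.leaf (nat_lit 25602) [nat_lit 112, nat_lit 64, nat_lit 80, nat_lit 112, nat_lit 64]) (.node (nat_lit 9) (.leaf (nat_lit 24581) [nat_lit 112, nat_lit 96, nat_lit 80, nat_lit 112, nat_lit 96, nat_lit 80, nat_lit 112, nat_lit 96]) (.node (nat_lit 10) r13 r14))))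
noncomputable def w3 : WT := (.node (nat_lit 1) (.leaf (nat_lit 3072) [nat_lit 80]) (.node (nat_lit 3) (.node (nat_lit 2) (.leaf (nat_lit 18432) [nat_lit 96, nat_lit 80, nat_lit 96]) (.leaf (nat_lit 19456) [nat_lit 112, nat_lit 80, nat_lit 112, nat_lit 80, nat_lit 112])) (.node (nat_lit 5) (.node (nat_lit 4) (.leaf (nat_lit 8194) [nat_lit 32, nat_lit 80, nat_lit 32]) (.leaf (nat_lit 15362) [nat_lit 64, nat_lit 80, nat_lit 64, nat_lit 80, nat_lit 64])) (.node (nat_lit 6) (.leaf (nat_lit 12290) [nat_lit 48, nat_lit 80, nat_lit 48]) r15))))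
noncomputable def r16 : WT := (.leaf (nat_lit 23552) [nat_lit 64, nat_lit 48, nat_lit 64, nat_lit 48, nat_lit 80, nat_lit 64, nat_lit 96, nat_lit 64, nat_lit 48, nat_lit 64, nat_lit 80, nat_lit 48, nat_lit 64, nat_lit 96, nat_lit 64, nat_lit 48, nat_lit 64, nat_lit 80, nat_lit 48, nat_lit 64])
noncomputable def r17 : WT := (.node (nat_lit 6) (.leaf (nat_lit 9218) [nat_lit 32, nat_lit 96, nat_lit 32]) (.node (nat_lit 7) (.leaf (nat_lit 24579) [nat_lit 80, nat_lit 112, nat_lit 96, nat_lit 80, nat_lit 112, nat_lit 96, nat_lit 80, nat_lit 112]) (.node (nat_lit 8) (.leaf (nat_lit 24578) [nat_lit 112, nat_lit 80, nat_lit 96, nat_lit 112, nat_lit 80, nat_lit 96, nat_lit 112, nat_lit 80]) r16)))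
noncomputable def w4 : WT := (.node (nat_lit 1) (.leaf (nat_lit 4096) [nat_lit 96]) (.node (nat_lit 3) (.node (nat_lit 2) (.leaf (nat_lit 18434) [nat_lit 80, nat_lit 96, nat_lit 80]) (.leaf (nat_lit 16386) [nat_lit 64, nat_lit 96, nat_lit 64, nat_lit 96, nat_lit 64])) (.node (nat_lit 4) (.leaf (nat_lit 13314) [nat_lit 48, nat_lit 96, nat_lit 48]) (.node (nat_lit 5) (.leaf (nat_lit 20480) [nat_lit 112, nat_lit 96, nat_lit 112, nat_lit 96, nat_lit 112, nat_lit 96, nat_lit 112]) r17))))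
noncomputable def r18 : WT := (.node (nat_lit 8) (.leaf (nat_lit 25604) [nat_lit 64, nat_lit 80, nat_lit 112, nat_lit 64, nat_lit 80]) (.node (nat_lit 9) (.leaf (nat_lit 24577) [nat_lit 96, nat_lit 80, nat_lit 112, nat_lit 96, nat_lit 80, nat_lit 112, nat_lit 96, nat_lit 80]) (.leaf (nat_lit 10242) [nat_lit 32, nat_lit 112, nat_lit 32, nat_lit 112, nat_lit 32, nat_lit 112, nat_lit 32, nat_lit 112, nat_lit 32, nat_lit 112, nat_lit 32])))
noncomputable def w5 : WT := (.node (nat_lit 1) (.leaf (nat_lit 5120) [nat_lit 112]) (.node (nat_lit 4) (.node (nat_lit 2) (.leaf (nat_lit 19458) [nat_lit 80, nat_lit 112, nat_lit 80, nat_lit 112, nat_lit 80]) (.node (nat_lit 3) (.leaf (nat_lit 17410) [nat_lit 64, nat_lit 112, nat_lit 64, nat_lit 112, nat_lit 64]) (.leaf (nat_lit 20482) [nat_lit 96, nat_lit 112, nat_lit 96, nat_lit 112, nat_lit 96, nat_lit 112, nat_lit 96]))) (.node (nat_lit 6) (.node (nat_lit 5) (.leaf (nat_lit 14338) [nat_lit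 48, nat_lit 112, nat_lit 48]) (.leaf (nat_lit 25601) [nat_lit 80, nat_lit 64, nat_lit 112, nat_lit 80, nat_lit 64])) (.node (nat_lit 7) (.leaf (nat_lit 24580) [nat_lit 80, nat_lit 96, nat_lit 112, nat_lit 80, nat_lit 96, nat_lit 112, nat_lit 80, nat_lit 96]) r18))))
noncomputable def r19 : WT := (.leaf (nat_lit 21506) [nat_lit 64, nat_lit 80, nat_lit 48, nat_lit 64, nat_lit 80, nat_lit 48, nat_lit 64, nat_lit 80, nat_lit 48, nat_lit 64, nat_lit 80, nat_lit 48, nat_lit 64, nat_lit 80, nat_lit 48])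
noncomputable def r20 : WT := (.leaf (nat_lit 23580) [nat_lit 96, nat_lit 64, nat_lit 48, nat_lit 64, nat_lit 80, nat_lit 48, nat_lit 64, nat_lit 96, nat_lit 64, nat_lit 48, nat_lit 64, nat_lit 48, nat_lit 80, nat_lit 64, nat_lit 96, nat_lit 64, nat_lit 48, nat_lit 64, nat_lit 80, nat_lit 48, nat_lit 64])
noncomputable def wP : WT := (.node (nat_lit 2) (.node (nat_lit 1) (.leaf (nat_lit 19458) [nat_lit 112, nat_lit 80, nat_lit 112, nat_lit 80, nat_lit 112, nat_lit 80]) (.leaf (nat_lit 24581) [nat_lit 80, nat_lit 112, nat_lit 96, nat_lit 80, nat_lit 112, nat_lit 96, nat_lit 80, nat_lit 112, nat_lit 96])) (.node (nat_lit 3) r19 r20))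
noncomputable def P : Par := ⟨tb, nat_lit 128, nat_lit 0xffffffffffffffffffffffffffffffff, nat_lit 290, nat_lit 65535, nat_lit 511, nat_lit 16, nat_lit 9, nat_lit 255,
  [nat_lit 32, nat_lit 48, nat_lit 64, nat_lit 80, nat_lit 96, nat_lit 112], [nat_lit 32, nat_lit 48, nat_lit 64, nat_lit 80, nat_lit 96], wP,
  (.cons (nat_lit 32) w0 (.cons (nat_lit 48) w1 (.cons (nat_lit 64) w2 (.cons (nat_lit 80) w3 (.cons (nat_lit 96) w4 (.cons (nat_lit 112) w5 .nil)))))),
  .nil⟩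

end Cfsg.Agent.Lib.TCS44a
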