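import Cfsg.Agent.Lib.TCDefs

set_option autoImplicit false
set_option maxRecDepth 100000

namespace Cfsg.Agent.Lib.TCS44b
open Cfsg.Agent.Lib.TCCore

noncomputable def l0 : T := .leaf (nat_lit 0) (nat_lit 0x31f6603a03e03a0fff04836061f2dd39f35ffff03031e55d5de29c31efff02435d59e31f29b31dfff0242dc4db2552de2dcfff03031b51c2502dd2dbfff03035955a29659a31afff03039a2991ce419259fff0304572d81d1258258fff0304982571cc2d7257fff0302cb4d32da2552d6fff02421245429c296295fff04841149520f393294fff0301885162133d4213fff0482552512921cb252fff0243d4292218188211fff02428920f29b30d290fff03c1cc25025428e24ffff04818a20d2192cf20efff04814724e1cd3501cdfff04820f18921720a20cfff03c31618820a21220bfff03c1ce14724b24c1cafff03c2d01cc1c91471c9fff0241d31cb1461d11c8fff03018d18a104189187fff030186104188185186fff03c1450c31451c6145fff03c1441461470c3144fff024103105082104103fff0300410c20c30c20c2fff048082041041041081fff000)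

end Cfsg.Agent.Lib.TCS44b
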