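import Cfsg.Agent.Lib.TCDefs

set_option autoImplicit false
set_option maxRecDepth 100000

namespace Cfsg.Agent.Lib.TCS44c
open Cfsg.Agent.Lib.TCCore

noncomputable def l0 : T := .leaf (nat_lit 0) (nat_lit 0x7758ee677fff0185f66f46f8fff030677571675fff0247f84e96f6fff0246737779effff0306f45f28f0fff024671673568fff0186f25f64dffff01886f6de973fff0248f04dba74fff02486d978b6bfff0308eeb6a7ecfff018a6b76686dfff024aec459beefff0245e9bed4d8fff01866a575451fff0184df5e75f2fff0305606687e2fff0306e57ec961fff03076695a664fff0188615e36e5fff0246e2664560fff018763650867fff0248e44cf9e6fff0245e74ce5e3fff02456844d571fff02465d770953fff0306de5dc856fff02475b65d54afff0187dc56f447fff0186d99e5546fff01875a4eb3c5fff01845155756afff0304d25d8754fff0307d35558ddfff0246545d64d2fff0186d55447d7fff0248564439defff024557442555fff0244d83bd4e9fff02474f6e25bcfff0187d056143bfff01854d56044cfff0185ce4df3b9fff0183b94cb4cefff03043a54c648fff0306474c95dcfff02454854a43afff0185c94386cbfff0246ca3b74dbfff0245c54c15dafff024646331459fff0246c35d44aefff0187444d33abfff0183bd4d24befff0304405465aafff0304c13b64bffff0243aa4be540fff03032953f54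2fff030442451329fff01863b535650fff0246bc3a74cffff0244cb3a64c9fff02444c32344dfff0244b74c83b0fff018538447321fff018331440432fff0304b45bc6a0fff0305354285b3fff0243204b2634fff03029f5334b6fff0303b63c529ffff01832142f438fff0303a24b05acfff0305ab42d544fff0244ac4ae3a2fff01852d39e62ffff02462e31d443fff02443f31c641fff0243be2993bdfff0244a74b43a5fff01852843b318fff01832343a424fff030318424428fff0302974a54a6fff0303a63b9297fff01842f31642dfff0243b02953b7fff0243b3294735fff024332213331fff02441d42c31bfff01849e3ab292fff0182993aa39afff03029239a39efff03021141b41cfff03031c329211fff0183a52903a7fff02432420d323fff0243953a228ffff01841632120cfff01839332020bfff01841429f18afff01831b20931dfff02429a187299fff02420d31830efff03020c30e316fff03018638f390fff030290297186fff01828f185295fff02428a188294fff02430b104213fff024187292288fff03010320b309fff030209211103fff01820e10220dfff02410220c204fff03008118a285fff030188081187fff024185186081fff018104103102fff000)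

end Cfsg.Agent.Lib.TCS44c
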