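import Cfsg.Agent.Lib.TCSuz1D0

set_option autoImplicit false
set_option maxRecDepth 100000

namespace Cfsg.Agent.Lib.TCSuz1
open Cfsg.Agent.Lib.TCCore

noncomputable def n0 : T := (.node (nat_lit 88) l0 l1)
noncomputable def n1 : T := (.node (nat_lit 264) l2 (.node (nat_lit 352) l3 l4))
noncomputable def n2 : T := (.node (nat_lit 528) l5 l6)
noncomputable def n3 : T := (.node (nat_lit 704) l7 (.node (nat_lit 792) l8 l9))
noncomputable def n4 : T := (.node (nat_lit 968) l10 l11)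
noncomputable def n5 : T := (.node (nat_lit 1144) l12 (.node (nat_lit 1232) l13 l14))
noncomputable def n6 : T := (.node (nat_lit 1408) l15 l16)
noncomputable def n7 : T := (.node (nat_lit 1584) l17 (.node (nat_lit 1672) l18 l19))
noncomputable def n8 : T := (.node (nat_lit 1848) l20 l21)
noncomputable def n9 : T := (.node (nat_lit 2024) l22 (.node (nat_lit 2112) l23 l24))
noncomputable def n10 : T := (.node (nat_lit 2288) l25 l26)
noncomputable def n11 : T := (.node (nat_lit 2464) l27 (.node (nat_lit 2552) l28 l29))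
noncomputable def n12 : T := (.node (nat_lit 2728) l30 l31)
noncomputable def n13 : T := (.node (nat_lit 2904) l32 (.node (nat_lit 2992) l33 l34))
noncomputable def n14 : T := (.node (nat_lit 3168) l35 (.node (nat_lit 3256) l36 l37))
noncomputable def n15 : T := (.node (nat_lit 3432) l38 (.node (nat_lit 3520) l39 l40))
noncomputable def n16 : T := (.node (nat_lit 3696) l41 l42)
noncomputable def n17 : T := (.node (nat_lit 3872) l43 (.node (nat_lit 3960) l44 l45))
noncomputable def n18 : T := (.node (nat_lit 4136) l46 l47)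
noncomputable def n19 : T := (.node (nat_lit 4312) l48 (.node (nat_lit 4400) l49 l50))
noncomputable def n20 : T := (.node (nat_lit 4576) l51 l52)
noncomputable def n21 : T := (.node (nat_lit 4752) l53 (.node (nat_lit 4840) l54 l55))
noncomputable def n22 : T := (.node (nat_lit 5016) l56 l57)
noncomputable def n23 : T := (.node (nat_lit 5192) l58 (.node (nat_lit 5280) l59 l60))
noncomputable def n24 : T := (.node (nat_lit 5456) l61 l62)
noncomputable def n25 : T := (.node (nat_lit 5632) l63 (.node (nat_lit 5720) l64 l65))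
noncomputable def n26 : T := (.node (nat_lit 5896) l66 l67)
noncomputable def n27 : T := (.node (nat_lit 6072) l68 (.node (nat_lit 6160) l69 l70))
noncomputable def n28 : T := (.node (nat_lit 6336) l71 l72)
noncomputable def n29 : T := (.node (nat_lit 6512) l73 (.node (nat_lit 6600) l74 l75))
noncomputable def n30 : T := (.node (nat_lit 6776) l76 (.node (nat_lit 6864) l77 l78))
noncomputable def n31 : T := (.node (nat_lit 7040) l79 (.node (nat_lit 7128) l80 l81))
noncomputable def tb : T := (.node (nat_lit 3608) (.node (nat_lit 1760) (.node (nat_lit 880) (.node (nat_lit 440) (.node (nat_lit 176) n0 n1) (.node (nat_lit 616) n2 n3)) (.node (nat_lit 1320) (.node (nat_lit 1056) n4 n5) (.node (nat_lit 1496) n6 n7))) (.node (nat_lit 2640) (.node (nat_lit 2200) (.node (nat_lit 1936) n8 n9) (.node (nat_lit 2376) n10 n11)) (.node (nat_lit 3080) (.node (nat_lit 2816) n12 n13) (.node (nat_lit 3344) n14 n15)))) (.node (nat_lit 5368) (.node (nat_lit 4488) (.node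 (nat_lit 4048) (.node (nat_lit 3784) n16 n17) (.node (nat_lit 4224) n18 n19)) (.node (nat_lit 4928) (.node (nat_lit 4664) n20 n21) (.node (nat_lit 5104) n22 n23))) (.node (nat_lit 6248) (.node (nat_lit 5808) (.node (nat_lit 5544) n24 n25) (.node (nat_lit 5984) n26 n27)) (.node (nat_lit 6688) (.node (nat_lit 6424) n28 n29) (.node (nat_lit 6952) n30 n31)))))
noncomputable def r0 : WT := (.leaf (nat_lit 30720) [nat_lit 72, nat_lit 96, nat_lit 168, nat_lit 48, nat_lit 72, nat_lit 96, nat_lit 168, nat_lit 48, nat_lit 72, nat_lit 96, nat_lit 168, nat_lit 48, nat_lit 72, nat_lit 96, nat_lit 168, nat_lit 48, nat_lit 72, nat_lit 96, nat_lit 168])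
noncomputable def r1 : WT := (.leaf (nat_lit 30727) [nat_lit 168, nat_lit 96, nat_lit 72, nat_lit 48, nat_lit 168, nat_lit 96, nat_lit 72, nat_lit 48, nat_lit 168, nat_lit 96, nat_lit 72, nat_lit 48, nat_lit 168, nat_lit 96, nat_lit 72, nat_lit 48, nat_lit 168, nat_lit 96, nat_lit 72])
noncomputable def r2 : WT := (.node (nat_lit 11) r0 (.node (nat_lit 12) (.leaf (nat_lit 28689) [nat_lit 96, nat_lit 120, nat_lit 96, nat_lit 120, nat_lit 96, nat_lit 120, nat_lit 96, nat_lit 120]) r1))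
noncomputable def r3 : WT := (.node (nat_lit 7) (.leaf (nat_lit 29696) [nat_lit 192, nat_lit 168, nat_lit 192, nat_lit 168]) (.node (nat_lit 8) (.leaf (nat_lit 29705) [nat_lit 168, nat_lit 192, nat_lit 168, nat_lit 192]) (.node (nat_lit 9) (.leaf (nat_lit 7168) [nat_lit 72, nat_lit 48, nat_lit 72, nat_lit 48, nat_lit 72, nat_lit 48, nat_lit 72, nat_lit 48, nat_lit 72]) (.node (nat_lit 10) (.leaf (nat_lit 28672) [nat_lit 120, nat_lit 96, nat_lit 120, nat_lit 96, nat_lit 120, nat_lit 96, nat_lit 120, nat_lit 96]) r2))))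
noncomputable def w0 : WT := (.node (nat_lit 1) (.leaf (nat_lit 0) [nat_lit 48]) (.node (nat_lit 3) (.node (nat_lit 2) (.leaf (nat_lit 12288) [nat_lit 192, nat_lit 48, nat_lit 192]) (.leaf (nat_lit 11264) [nat_lit 168, nat_lit 48, nat_lit 168])) (.node (nat_lit 5) (.node (nat_lit 4) (.leaf (nat_lit 9216) [nat_lit 120, nat_lit 48, nat_lit 120]) (.leaf (nat_lit 10240) [nat_lit 144, nat_lit 48, nat_lit 144])) (.node (nat_lit 6) (.leaf (nat_lit 8192) [nat_lit 96, nat_lit 48, nat_lit 96]) r3))))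
noncomputable def r4 : WT := (.leaf (nat_lit 31744) [nat_lit 168, nat_lit 192, nat_lit 72, nat_lit 168, nat_lit 192, nat_lit 72, nat_lit 168, nat_lit 192, nat_lit 72, nat_lit 168, nat_lit 192, nat_lit 72, nat_lit 168, nat_lit 192])
noncomputable def r5 : WT := (.leaf (nat_lit 30722) [nat_lit 96, nat_lit 168, nat_lit 48, nat_lit 72, nat_lit 96, nat_lit 168, nat_lit 48, nat_lit 72, nat_lit 96, nat_lit 168, nat_lit 48, nat_lit 72, nat_lit 96, nat_lit 168, nat_lit 48, nat_lit 72, nat_lit 96, nat_lit 168, nat_lit 48])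
noncomputable def r6 : WT := (.leaf (nat_lit 30725) [nat_lit 48, nat_lit 168, nat_lit 96, nat_lit 72, nat_lit 48, nat_lit 168, nat_lit 96, nat_lit 72, nat_lit 48, nat_lit 168, nat_lit 96, nat_lit 72, nat_lit 48, nat_lit 168, nat_lit 96, nat_lit 72, nat_lit 48, nat_lit 168, nat_lit 96])
noncomputable def r7 : WT := (.leaf (nat_lit 32788) [nat_lit 96, nat_lit 120, nat_lit 96, nat_lit 120, nat_lit 72, nat_lit 96, nat_lit 120, nat_lit 96, nat_lit 120, nat_lit 72, nat_lit 96, nat_lit 120, nat_lit 96, nat_lit 120, nat_lit 144, nat_lit 72, nat_lit 96, nat_lit 120, nat_lit 96, nat_lit 120, nat_lit 72, nat_lit 96, nat_lit 120, nat_lit 96, nat_lit 120, nat_lit 72, nat_lit 96, nat_lit 120, nat_lit 96, nat_lit 120, nat_lit 72, nat_lit 96, nat_lit 120, nat_lit 96, nat_lit 120, nat_lit 72, nat_lit 96, nat_lit 120, nat_lit 96, nat_lit 120, nat_lit 144, nat_lit 72, nat_lit 96, nat_lit 120, nat_lit 96, nat_lit 120, nat_lit 72, nat_lit 96, nat_lit 120, nat_lit 96,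 nat_lit 120, nat_lit 72, nat_lit 96, nat_lit 120, nat_lit 96, nat_lit 120, nat_lit 72, nat_lit 96, nat_lit 120, nat_lit 96, nat_lit 120, nat_lit 72, nat_lit 96, nat_lit 120, nat_lit 96, nat_lit 120, nat_lit 144, nat_lit 72, nat_lit 96, nat_lit 120, nat_lit 96, nat_lit 120, nat_lit 72, nat_lit 96, nat_lit 120, nat_lit 96, nat_lit 120])
noncomputable def r8 : WT := (.node (nat_lit 10) r6 r7)
noncomputable def r9 : WT := (.leaf (nat_lit 32798) [nat_lit 96, nat_lit 120, nat_lit 96, nat_lit 120, nat_lit 72, nat_lit 96, nat_lit 120, nat_lit 96, nat_lit 120, nat_lit 144, nat_lit 72, nat_lit 96, nat_lit 120, nat_lit 96, nat_lit 120, nat_lit 72, nat_lit 96, nat_lit 120, nat_lit 96, nat_lit 120, nat_lit 72, nat_lit 96, nat_lit 120, nat_lit 96, nat_lit 120, nat_lit 72, nat_lit 96, nat_lit 120, nat_lit 96, nat_lit 120, nat_lit 72, nat_lit 96, nat_lit 120, nat_lit 96, nat_lit 120, nat_lit 144, nat_lit 72, nat_lit 96, nat_lit 120, nat_lit 96, nat_lit 120, nat_lit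 72, nat_lit 96, nat_lit 120, nat_lit 96, nat_lit 120, nat_lit 72, nat_lit 96, nat_lit 120, nat_lit 96, nat_lit 120, nat_lit 72, nat_lit 96, nat_lit 120, nat_lit 96, nat_lit 120, nat_lit 72, nat_lit 96, nat_lit 120, nat_lit 96, nat_lit 120, nat_lit 144, nat_lit 72, nat_lit 96, nat_lit 120, nat_lit 96, nat_lit 120, nat_lit 72, nat_lit 96, nat_lit 120, nat_lit 96, nat_lit 120, nat_lit 72, nat_lit 96, nat_lit 120, nat_lit 96, nat_lit 120])
noncomputable def r10 : WT := (.leaf (nat_lit 32789) [nat_lit 120, nat_lit 96, nat_lit 120, nat_lit 96, nat_lit 72, nat_lit 120, nat_lit 96, nat_lit 120, nat_lit 96, nat_lit 72, nat_lit 120, nat_lit 96, nat_lit 120, nat_lit 96, nat_lit 72, nat_lit 144, nat_lit 120, nat_lit 96, nat_lit 120, nat_lit 96, nat_lit 72, nat_lit 120, nat_lit 96, nat_lit 120, nat_lit 96, nat_lit 72, nat_lit 120, nat_lit 96, nat_lit 120, nat_lit 96, nat_lit 72, nat_lit 120, nat_lit 96, nat_lit 120, nat_lit 96, nat_lit 72, nat_lit 120, nat_lit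 96, nat_lit 120, nat_lit 96, nat_lit 72, nat_lit 144, nat_lit 120, nat_lit 96, nat_lit 120, nat_lit 96, nat_lit 72, nat_lit 120, nat_lit 96, nat_lit 120, nat_lit 96, nat_lit 72, nat_lit 120, nat_lit 96, nat_lit 120, nat_lit 96, nat_lit 72, nat_lit 120, nat_lit 96, nat_lit 120, nat_lit 96, nat_lit 72, nat_lit 120, nat_lit 96, nat_lit 120, nat_lit 96, nat_lit 72, nat_lit 144, nat_lit 120, nat_lit 96, nat_lit 120, nat_lit 96, nat_lit 72, nat_lit 120, nat_lit 96, nat_lit 120, nat_lit 96])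
noncomputable def r11 : WT := (.node (nat_lit 12) r9 r10)
noncomputable def r12 : WT := (.node (nat_lit 6) (.leaf (nat_lit 13312) [nat_lit 96, nat_lit 72, nat_lit 96, nat_lit 72, nat_lit 96]) (.node (nat_lit 7) (.leaf (nat_lit 7170) [nat_lit 48, nat_lit 72, nat_lit 48, nat_lit 72, nat_lit 48, nat_lit 72, nat_lit 48, nat_lit 72, nat_lit 48]) (.node (nat_lit 9) (.node (nat_lit 8) r4 r5) (.node (nat_lit 11) r8 r11))))
noncomputable def w1 : WT := (.node (nat_lit 1) (.leaf (nat_lit 1024) [nat_lit 72]) (.node (nat_lit 3) (.node (nat_lit 2) (.leaf (nat_lit 14336) [nat_lit 120, nat_lit 72, nat_lit 120]) (.leaf (nat_lit 15360) [nat_lit 144, nat_lit 72, nat_lit 144])) (.node (nat_lit 4) (.leaf (nat_lit 16384) [nat_lit 168, nat_lit 72, nat_lit 168, nat_lit 72, nat_lit 168]) (.node (nat_lit 5) (.leaf (nat_lit 17408) [nat_lit 192, nat_lit 72, nat_lit 192, nat_lit 72, nat_lit 192]) r12))))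
noncomputable def r13 : WT := (.leaf (nat_lit 30723) [nat_lit 72, nat_lit 48, nat_lit 168, nat_lit 96, nat_lit 72, nat_lit 48, nat_lit 168, nat_lit 96, nat_lit 72, nat_lit 48, nat_lit 168, nat_lit 96, nat_lit 72, nat_lit 48, nat_lit 168, nat_lit 96, nat_lit 72, nat_lit 48, nat_lit 168])
noncomputable def r14 : WT := (.leaf (nat_lit 30724) [nat_lit 168, nat_lit 48, nat_lit 72, nat_lit 96, nat_lit 168, nat_lit 48, nat_lit 72, nat_lit 96, nat_lit 168, nat_lit 48, nat_lit 72, nat_lit 96, nat_lit 168, nat_lit 48, nat_lit 72, nat_lit 96, nat_lit 168, nat_lit 48, nat_lit 72])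
noncomputable def r15 : WT := (.node (nat_lit 12) r14 (.leaf (nat_lit 28684) [nat_lit 120, nat_lit 96, nat_lit 48, nat_lit 120, nat_lit 96, nat_lit 120, nat_lit 96, nat_lit 120]))
noncomputable def r16 : WT := (.leaf (nat_lit 32770) [nat_lit 120, nat_lit 96, nat_lit 120, nat_lit 72, nat_lit 96, nat_lit 120, nat_lit 96, nat_lit 120, nat_lit 72, nat_lit 96, nat_lit 120, nat_lit 96, nat_lit 120, nat_lit 72, nat_lit 96, nat_lit 120, nat_lit 96, nat_lit 120, nat_lit 72, nat_lit 96, nat_lit 120, nat_lit 96, nat_lit 120, nat_lit 144, nat_lit 72, nat_lit 96, nat_lit 120, nat_lit 96, nat_lit 120, nat_lit 72, nat_lit 96, nat_lit 120, nat_lit 96, nat_lit 120, nat_lit 72, nat_lit 96, nat_lit 120, nat_lit 96, nat_lit 120, nat_lit 72, nat_lit 96, nat_lit 120, nat_lit 96, nat_lit 120, nat_lit 72, nat_lit 96, nat_lit 120, nat_lit 96, nat_lit 120, nat_lit 144, nat_lit 72, nat_lit 96, nat_lit 120, nat_lit 96, nat_lit 120, nat_lit 72, nat_lit 96, nat_lit 120, nat_lit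 96, nat_lit 120, nat_lit 72, nat_lit 96, nat_lit 120, nat_lit 96, nat_lit 120, nat_lit 72, nat_lit 96, nat_lit 120, nat_lit 96, nat_lit 120, nat_lit 72, nat_lit 96, nat_lit 120, nat_lit 96, nat_lit 120, nat_lit 144, nat_lit 72])
noncomputable def r17 : WT := (.leaf (nat_lit 32774) [nat_lit 120, nat_lit 72, nat_lit 96, nat_lit 120, nat_lit 96, nat_lit 120, nat_lit 72, nat_lit 96, nat_lit 120, nat_lit 96, nat_lit 120, nat_lit 72, nat_lit 96, nat_lit 120, nat_lit 96, nat_lit 120, nat_lit 72, nat_lit 96, nat_lit 120, nat_lit 96, nat_lit 120, nat_lit 144, nat_lit 72, nat_lit 96, nat_lit 120, nat_lit 96, nat_lit 120, nat_lit 72, nat_lit 96, nat_lit 120, nat_lit 96, nat_lit 120, nat_lit 72, nat_lit 96, nat_lit 120, nat_lit 96, nat_lit 120, nat_lit 72, nat_lit 96, nat_lit 120, nat_lit 96, nat_lit 120, nat_lit 72, nat_lit 96, nat_lit 120, nat_lit 96, nat_lit 120, nat_lit 144, nat_lit 72, nat_lit 96, nat_lit 120, nat_lit 96, nat_lit 120, nat_lit 72, nat_lit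 96, nat_lit 120, nat_lit 96, nat_lit 120, nat_lit 72, nat_lit 96, nat_lit 120, nat_lit 96, nat_lit 120, nat_lit 72, nat_lit 96, nat_lit 120, nat_lit 96, nat_lit 120, nat_lit 72, nat_lit 96, nat_lit 120, nat_lit 96, nat_lit 120, nat_lit 144, nat_lit 72, nat_lit 96, nat_lit 120])
noncomputable def r18 : WT := (.leaf (nat_lit 18432) [nat_lit 120, nat_lit 96, nat_lit 120, nat_lit 96, nat_lit 120, nat_lit 96, nat_lit 120, nat_lit 96, nat_lit 120, nat_lit 96, nat_lit 120, nat_lit 96, nat_lit 120, nat_lit 96, nat_lit 120])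
noncomputable def r19 : WT := (.leaf (nat_lit 32797) [nat_lit 72, nat_lit 120, nat_lit 96, nat_lit 120, nat_lit 96, nat_lit 72, nat_lit 120, nat_lit 96, nat_lit 120, nat_lit 96, nat_lit 72, nat_lit 144, nat_lit 120, nat_lit 96, nat_lit 120, nat_lit 96, nat_lit 72, nat_lit 120, nat_lit 96, nat_lit 120, nat_lit 96, nat_lit 72, nat_lit 120, nat_lit 96, nat_lit 120, nat_lit 96, nat_lit 72, nat_lit 120, nat_lit 96, nat_lit 120, nat_lit 96, nat_lit 72, nat_lit 120, nat_lit 96, nat_lit 120, nat_lit 96, nat_lit 72, nat_lit 144, nat_lit 120, nat_lit 96, nat_lit 120, nat_lit 96, nat_lit 72, nat_lit 120, nat_lit 96, nat_lit 120, nat_lit 96, nat_lit 72, nat_lit 120, nat_lit 96, nat_lit 120, nat_lit 96, nat_lit 72, nat_lit 120, nat_lit 96, nat_lit 120, nat_lit 96, nat_lit 72, nat_lit 120, nat_lit 96, nat_lit 120, nat_lit 96, nat_lit 72, nat_lit 144, nat_lit 120, nat_lit 96, nat_lit 120, nat_lit 96, nat_lit 72, nat_lit 120, nat_lit 96, nat_lit 120, nat_lit 96,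 nat_lit 72, nat_lit 120, nat_lit 96, nat_lit 120])
noncomputable def r20 : WT := (.leaf (nat_lit 32817) [nat_lit 72, nat_lit 144, nat_lit 120, nat_lit 96, nat_lit 120, nat_lit 96, nat_lit 72, nat_lit 120, nat_lit 96, nat_lit 120, nat_lit 96, nat_lit 72, nat_lit 120, nat_lit 96, nat_lit 120, nat_lit 96, nat_lit 72, nat_lit 120, nat_lit 96, nat_lit 120, nat_lit 96, nat_lit 72, nat_lit 120, nat_lit 96, nat_lit 120, nat_lit 96, nat_lit 72, nat_lit 144, nat_lit 120, nat_lit 96, nat_lit 120, nat_lit 96, nat_lit 72, nat_lit 120, nat_lit 96, nat_lit 120, nat_lit 96, nat_lit 72, nat_lit 120, nat_lit 96, nat_lit 120, nat_lit 96, nat_lit 72, nat_lit 120, nat_lit 96, nat_lit 120, nat_lit 96, nat_lit 72, nat_lit 120, nat_lit 96, nat_lit 120, nat_lit 96, nat_lit 72, nat_lit 144, nat_lit 120, nat_lit 96, nat_lit 120, nat_lit 96, nat_lit 72, nat_lit 120, nat_lit 96, nat_lit 120, nat_lit 96, nat_lit 72, nat_lit 120, nat_lit 96, nat_lit 120, nat_lit 96, nat_lit 72,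 nat_lit 120, nat_lit 96, nat_lit 120, nat_lit 96, nat_lit 72, nat_lit 120, nat_lit 96, nat_lit 120])
noncomputable def r21 : WT := (.node (nat_lit 15) (.node (nat_lit 14) r16 r17) (.node (nat_lit 17) (.node (nat_lit 16) (.leaf (nat_lit 28681) [nat_lit 120, nat_lit 96, nat_lit 120, nat_lit 48, nat_lit 96, nat_lit 120, nat_lit 96, nat_lit 120]) r18) (.node (nat_lit 18) r19 r20)))
noncomputable def r22 : WT := (.node (nat_lit 7) (.leaf (nat_lit 28676) [nat_lit 120, nat_lit 96, nat_lit 120, nat_lit 96, nat_lit 120, nat_lit 96, nat_lit 48, nat_lit 120]) (.node (nat_lit 9) (.node (nat_lit 8) (.leaf (nat_lit 28680) [nat_lit 120, nat_lit 96, nat_lit 120, nat_lit 96, nat_lit 48, nat_lit 120, nat_lit 96, nat_lit 120]) r13) (.node (nat_lit 11) (.node (nat_lit 10) (.leaf (nat_lit 28673) [nat_lit 120, nat_lit 96, nat_lit 120, nat_lit 96, nat_lit 120, nat_lit 96, nat_lit 120, nat_lit 48]) (.leaf (nat_lit 28688) [nat_lit 48, nat_lit 120, nat_lit 96, nat_lit 120,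 nat_lit 96, nat_lit 120, nat_lit 96, nat_lit 120])) (.node (nat_lit 13) r15 r21))))
noncomputable def w2 : WT := (.node (nat_lit 1) (.leaf (nat_lit 2048) [nat_lit 96]) (.node (nat_lit 3) (.node (nat_lit 2) (.leaf (nat_lit 21504) [nat_lit 192, nat_lit 96, nat_lit 192]) (.leaf (nat_lit 20480) [nat_lit 168, nat_lit 96, nat_lit 168])) (.node (nat_lit 5) (.node (nat_lit 4) (.leaf (nat_lit 19456) [nat_lit 144, nat_lit 96, nat_lit 144]) (.leaf (nat_lit 13314) [nat_lit 72, nat_lit 96, nat_lit 72, nat_lit 96, nat_lit 72])) (.node (nat_lit 6) (.leaf (nat_lit 8194) [nat_lit 48, nat_lit 96, nat_lit 48]) r22))))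
noncomputable def r23 : WT := (.leaf (nat_lit 32786) [nat_lit 72, nat_lit 96, nat_lit 120, nat_lit 96, nat_lit 120, nat_lit 72, nat_lit 96, nat_lit 120, nat_lit 96, nat_lit 120, nat_lit 72, nat_lit 96, nat_lit 120, nat_lit 96, nat_lit 120, nat_lit 144, nat_lit 72, nat_lit 96, nat_lit 120, nat_lit 96, nat_lit 120, nat_lit 72, nat_lit 96, nat_lit 120, nat_lit 96, nat_lit 120, nat_lit 72, nat_lit 96, nat_lit 120, nat_lit 96, nat_lit 120, nat_lit 72, nat_lit 96, nat_lit 120, nat_lit 96, nat_lit 120, nat_lit 72, nat_lit 96, nat_lit 120, nat_lit 96, nat_lit 120, nat_lit 144, nat_lit 72, nat_lit 96, nat_lit 120, nat_lit 96, nat_lit 120, nat_lit 72, nat_lit 96, nat_lit 120, nat_lit 96, nat_lit 120, nat_lit 72, nat_lit 96, nat_lit 120, nat_lit 96, nat_lit 120, nat_lit 72, nat_lit 96, nat_lit 120, nat_lit 96, nat_lit 120, nat_lit 72, nat_lit 96, nat_lit 120, nat_lit 96, nat_lit 120, nat_lit 144, nat_lit 72, nat_lit 96, nat_lit 120, nat_lit 96, nat_lit 120,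 nat_lit 72, nat_lit 96, nat_lit 120, nat_lit 96])
noncomputable def r24 : WT := (.leaf (nat_lit 32771) [nat_lit 96, nat_lit 120, nat_lit 96, nat_lit 72, nat_lit 120, nat_lit 96, nat_lit 120, nat_lit 96, nat_lit 72, nat_lit 120, nat_lit 96, nat_lit 120, nat_lit 96, nat_lit 72, nat_lit 120, nat_lit 96, nat_lit 120, nat_lit 96, nat_lit 72, nat_lit 120, nat_lit 96, nat_lit 120, nat_lit 96, nat_lit 72, nat_lit 144, nat_lit 120, nat_lit 96, nat_lit 120, nat_lit 96, nat_lit 72, nat_lit 120, nat_lit 96, nat_lit 120, nat_lit 96, nat_lit 72, nat_lit 120, nat_lit 96, nat_lit 120, nat_lit 96, nat_lit 72, nat_lit 120, nat_lit 96, nat_lit 120, nat_lit 96, nat_lit 72, nat_lit 120, nat_lit 96, nat_lit 120, nat_lit 96, nat_lit 72, nat_lit 144, nat_lit 120, nat_lit 96, nat_lit 120, nat_lit 96, nat_lit 72, nat_lit 120, nat_lit 96, nat_lit 120, nat_lit 96, nat_lit 72, nat_lit 120, nat_lit 96, nat_lit 120, nat_lit 96, nat_lit 72, nat_lit 120, nat_lit 96, nat_lit 120,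 nat_lit 96, nat_lit 72, nat_lit 120, nat_lit 96, nat_lit 120, nat_lit 96, nat_lit 72, nat_lit 144])
noncomputable def r25 : WT := (.node (nat_lit 7) (.leaf (nat_lit 28678) [nat_lit 96, nat_lit 120, nat_lit 96, nat_lit 120, nat_lit 96, nat_lit 48, nat_lit 120, nat_lit 96]) (.node (nat_lit 9) (.node (nat_lit 8) (.leaf (nat_lit 28674) [nat_lit 96, nat_lit 120, nat_lit 96, nat_lit 120, nat_lit 96, nat_lit 120, nat_lit 96, nat_lit 48]) (.leaf (nat_lit 28686) [nat_lit 96, nat_lit 48, nat_lit 120, nat_lit 96, nat_lit 120, nat_lit 96, nat_lit 120, nat_lit 96])) (.node (nat_lit 10) (.leaf (nat_lit 28687) [nat_lit 48, nat_lit 96, nat_lit 120, nat_lit 96, nat_lit 120, nat_lit 96, nat_lit 120, nat_lit 96]) (.node (nat_lit 11) r23 r24))))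
noncomputable def w3 : WT := (.node (nat_lit 1) (.leaf (nat_lit 3072) [nat_lit 120]) (.node (nat_lit 3) (.node (nat_lit 2) (.leaf (nat_lit 14338) [nat_lit 72, nat_lit 120, nat_lit 72]) (.leaf (nat_lit 24576) [nat_lit 192, nat_lit 120, nat_lit 192])) (.node (nat_lit 5) (.node (nat_lit 4) (.leaf (nat_lit 23552) [nat_lit 168, nat_lit 120, nat_lit 168]) (.leaf (nat_lit 22528) [nat_lit 144, nat_lit 120, nat_lit 144, nat_lit 120, nat_lit 144])) (.node (nat_lit 6) (.leaf (nat_lit 9218) [nat_lit 48, nat_lit 120, nat_lit 48]) r25))))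
noncomputable def r26 : WT := (.leaf (nat_lit 32818) [nat_lit 72, nat_lit 96, nat_lit 120, nat_lit 96, nat_lit 120, nat_lit 72, nat_lit 96, nat_lit 120, nat_lit 96, nat_lit 120, nat_lit 72, nat_lit 96, nat_lit 120, nat_lit 96, nat_lit 120, nat_lit 72, nat_lit 96, nat_lit 120, nat_lit 96, nat_lit 120, nat_lit 72, nat_lit 96, nat_lit 120, nat_lit 96, nat_lit 120, nat_lit 144, nat_lit 72, nat_lit 96, nat_lit 120, nat_lit 96, nat_lit 120, nat_lit 72, nat_lit 96, nat_lit 120, nat_lit 96, nat_lit 120, nat_lit 72, nat_lit 96, nat_lit 120, nat_lit 96, nat_lit 120, nat_lit 72, nat_lit 96, nat_lit 120, nat_lit 96, nat_lit 120, nat_lit 72, nat_lit 96, nat_lit 120, nat_lit 96, nat_lit 120, nat_lit 144, nat_lit 72, nat_lit 96, nat_lit 120, nat_lit 96, nat_lit 120, nat_lit 72, nat_lit 96, nat_lit 120, nat_lit 96, nat_lit 120, nat_lit 72, nat_lit 96, nat_lit 120, nat_lit 96, nat_lit 120, nat_lit 72, nat_lit 96, nat_lit 120, nat_lit 96, nat_lit 120, nat_lit 72,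 nat_lit 96, nat_lit 120, nat_lit 96, nat_lit 120])
noncomputable def r27 : WT := (.node (nat_lit 6) (.leaf (nat_lit 10242) [nat_lit 48, nat_lit 144, nat_lit 48]) (.node (nat_lit 7) (.leaf (nat_lit 19458) [nat_lit 96, nat_lit 144, nat_lit 96]) r26))
noncomputable def w4 : WT := (.node (nat_lit 1) (.leaf (nat_lit 4096) [nat_lit 144]) (.node (nat_lit 3) (.node (nat_lit 2) (.leaf (nat_lit 26624) [nat_lit 192, nat_lit 144, nat_lit 192]) (.leaf (nat_lit 25600) [nat_lit 168, nat_lit 144, nat_lit 168])) (.node (nat_lit 4) (.leaf (nat_lit 15362) [nat_lit 72, nat_lit 144, nat_lit 72]) (.node (nat_lit 5) (.leaf (nat_lit 22530) [nat_lit 120, nat_lit 144, nat_lit 120, nat_lit 144, nat_lit 120]) r27))))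
noncomputable def r28 : WT := (.leaf (nat_lit 30726) [nat_lit 48, nat_lit 72, nat_lit 96, nat_lit 168, nat_lit 48, nat_lit 72, nat_lit 96, nat_lit 168, nat_lit 48, nat_lit 72, nat_lit 96, nat_lit 168, nat_lit 48, nat_lit 72, nat_lit 96, nat_lit 168, nat_lit 48, nat_lit 72, nat_lit 96])
noncomputable def r29 : WT := (.leaf (nat_lit 31747) [nat_lit 72, nat_lit 192, nat_lit 168, nat_lit 72, nat_lit 192, nat_lit 168, nat_lit 72, nat_lit 192, nat_lit 168, nat_lit 72, nat_lit 192, nat_lit 168, nat_lit 72, nat_lit 192])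
noncomputable def r30 : WT := (.leaf (nat_lit 31746) [nat_lit 192, nat_lit 72, nat_lit 168, nat_lit 192, nat_lit 72, nat_lit 168, nat_lit 192, nat_lit 72, nat_lit 168, nat_lit 192, nat_lit 72, nat_lit 168, nat_lit 192, nat_lit 72])
noncomputable def r31 : WT := (.leaf (nat_lit 30721) [nat_lit 96, nat_lit 72, nat_lit 48, nat_lit 168, nat_lit 96, nat_lit 72, nat_lit 48, nat_lit 168, nat_lit 96, nat_lit 72, nat_lit 48, nat_lit 168, nat_lit 96, nat_lit 72, nat_lit 48, nat_lit 168, nat_lit 96, nat_lit 72, nat_lit 48])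
noncomputable def r32 : WT := (.node (nat_lit 12) r30 r31)
noncomputable def r33 : WT := (.node (nat_lit 8) (.leaf (nat_lit 29704) [nat_lit 48, nat_lit 192, nat_lit 168, nat_lit 192]) (.node (nat_lit 9) (.leaf (nat_lit 29697) [nat_lit 192, nat_lit 168, nat_lit 192, nat_lit 48]) (.node (nat_lit 10) r28 (.node (nat_lit 11) r29 r32))))
noncomputable def w5 : WT := (.node (nat_lit 1) (.leaf (nat_lit 5120) [nat_lit 168]) (.node (nat_lit 4) (.node (nat_lit 2) (.leaf (nat_lit 29700) [nat_lit 192, nat_lit 168, nat_lit 48, nat_lit 192]) (.node (nat_lit 3) (.leaf (nat_lit 23554) [nat_lit 120, nat_lit 168, nat_lit 120]) (.leaf (nat_lit 25602) [nat_lit 144, nat_lit 168, nat_lit 144]))) (.node (nat_lit 6) (.node (nat_lit 5) (.leaf (nat_lit 20482) [nat_lit 96, nat_lit 168, nat_lit 96]) (.leaf (nat_lit 16386) [nat_lit 72, nat_lit 168, nat_lit 72, nat_lit 168, nat_lit 72])) (.node (nat_lit 7) (.leaf (nat_lit 11266) [nat_lit 48, nat_lit 168, nat_lit 48]) r33))))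
noncomputable def r34 : WT := (.leaf (nat_lit 31745) [nat_lit 168, nat_lit 72, nat_lit 192, nat_lit 168, nat_lit 72, nat_lit 192, nat_lit 168, nat_lit 72, nat_lit 192, nat_lit 168, nat_lit 72, nat_lit 192, nat_lit 168, nat_lit 72])
noncomputable def r35 : WT := (.leaf (nat_lit 31748) [nat_lit 72, nat_lit 168, nat_lit 192, nat_lit 72, nat_lit 168, nat_lit 192, nat_lit 72, nat_lit 168, nat_lit 192, nat_lit 72, nat_lit 168, nat_lit 192, nat_lit 72, nat_lit 168])
noncomputable def r36 : WT := (.node (nat_lit 7) (.leaf (nat_lit 17410) [nat_lit 72, nat_lit 192, nat_lit 72, nat_lit 192, nat_lit 72]) (.node (nat_lit 9) (.node (nat_lit 8) r34 (.leaf (nat_lit 29699) [nat_lit 168, nat_lit 192, nat_lit 48, nat_lit 168])) (.node (nat_lit 10) r35 (.node (nat_lit 11) (.leaf (nat_lit 29703) [nat_lit 48, nat_lit 168, nat_lit 192, nat_lit 168]) (.leaf (nat_lit 29698) [nat_lit 168, nat_lit 192, nat_lit 168, nat_lit 48])))))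
noncomputable def w6 : WT := (.node (nat_lit 1) (.leaf (nat_lit 6144) [nat_lit 192]) (.node (nat_lit 3) (.node (nat_lit 2) (.leaf (nat_lit 29702) [nat_lit 168, nat_lit 48, nat_lit 192, nat_lit 168]) (.leaf (nat_lit 24578) [nat_lit 120, nat_lit 192, nat_lit 120])) (.node (nat_lit 5) (.node (nat_lit 4) (.leaf (nat_lit 26626) [nat_lit 144, nat_lit 192, nat_lit 144]) (.leaf (nat_lit 21506) [nat_lit 96, nat_lit 192, nat_lit 96])) (.node (nat_lit 6) (.leaf (nat_lit 12290) [nat_lit 48, nat_lit 192, nat_lit 48]) r36))))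
noncomputable def r37 : WT := (.leaf (nat_lit 31749) [nat_lit 72, nat_lit 192, nat_lit 168, nat_lit 72, nat_lit 192, nat_lit 168, nat_lit 72, nat_lit 192, nat_lit 168, nat_lit 72, nat_lit 192, nat_lit 168, nat_lit 72, nat_lit 192, nat_lit 168])
noncomputable def r38 : WT := (.leaf (nat_lit 30725) [nat_lit 72, nat_lit 48, nat_lit 168, nat_lit 96, nat_lit 72, nat_lit 48, nat_lit 168, nat_lit 96, nat_lit 72, nat_lit 48, nat_lit 168, nat_lit 96, nat_lit 72, nat_lit 48, nat_lit 168, nat_lit 96, nat_lit 72, nat_lit 48, nat_lit 168, nat_lit 96])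
noncomputable def r39 : WT := (.leaf (nat_lit 31745) [nat_lit 192, nat_lit 168, nat_lit 72, nat_lit 192, nat_lit 168, nat_lit 72, nat_lit 192, nat_lit 168, nat_lit 72, nat_lit 192, nat_lit 168, nat_lit 72, nat_lit 192, nat_lit 168, nat_lit 72])
noncomputable def r40 : WT := (.leaf (nat_lit 31744) [nat_lit 72, nat_lit 168, nat_lit 192, nat_lit 72, nat_lit 168, nat_lit 192, nat_lit 72, nat_lit 168, nat_lit 192, nat_lit 72, nat_lit 168, nat_lit 192, nat_lit 72, nat_lit 168, nat_lit 192])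
noncomputable def r41 : WT := (.node (nat_lit 8) r40 (.leaf (nat_lit 7168) [nat_lit 48, nat_lit 72, nat_lit 48, nat_lit 72, nat_lit 48, nat_lit 72, nat_lit 48, nat_lit 72, nat_lit 48, nat_lit 72]))
noncomputable def r42 : WT := (.node (nat_lit 10) (.leaf (nat_lit 28684) [nat_lit 96, nat_lit 120, nat_lit 96, nat_lit 48, nat_lit 120, nat_lit 96, nat_lit 120, nat_lit 96, nat_lit 120]) (.leaf (nat_lit 28680) [nat_lit 96, nat_lit 120, nat_lit 96, nat_lit 120, nat_lit 96, nat_lit 48, nat_lit 120, nat_lit 96, nat_lit 120]))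
noncomputable def r43 : WT := (.node (nat_lit 16) (.leaf (nat_lit 29700) [nat_lit 168, nat_lit 192, nat_lit 168, nat_lit 48, nat_lit 192]) (.leaf (nat_lit 15362) [nat_lit 144, nat_lit 72, nat_lit 144, nat_lit 72]))
noncomputable def wP : WT := (.node (nat_lit 6) (.node (nat_lit 2) (.node (nat_lit 1) (.leaf (nat_lit 17410) [nat_lit 192, nat_lit 72, nat_lit 192, nat_lit 72, nat_lit 192, nat_lit 72]) r37) (.node (nat_lit 4) (.node (nat_lit 3) (.leaf (nat_lit 13314) [nat_lit 96, nat_lit 72, nat_lit 96, nat_lit 72, nat_lit 96, nat_lit 72]) (.leaf (nat_lit 16384) [nat_lit 72, nat_lit 168, nat_lit 72, nat_lit 168, nat_lit 72, nat_lit 168])) (.node (nat_lit 5) (.leaf (nat_lit 22528) [nat_lit 120, nat_lit 144, nat_lit 120, nat_lit 144, nat_lit 120, nat_lit 144]) r38))) (.node (nat_lit 12) (.node (nat_lit 9) (.node (nat_lit 7) r39 r41) (.node (nat_lit 11) r42 (.leaf (nat_lit 28678) [nat_lit 120, nat_lit 96, nat_lit 120, nat_lit 96, nat_lit 120, nat_lit 96,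 nat_lit 48, nat_lit 120, nat_lit 96]))) (.node (nat_lit 14) (.node (nat_lit 13) (.leaf (nat_lit 14336) [nat_lit 72, nat_lit 120, nat_lit 72, nat_lit 120]) (.leaf (nat_lit 16386) [nat_lit 168, nat_lit 72, nat_lit 168, nat_lit 72, nat_lit 168, nat_lit 72])) (.node (nat_lit 15) (.leaf (nat_lit 13312) [nat_lit 72, nat_lit 96, nat_lit 72, nat_lit 96, nat_lit 72, nat_lit 96]) r43))))
noncomputable def P : Par := ⟨tb, nat_lit 216, nat_lit 0xffffffffffffffffffffffffffffffffffffffffffffffffffffff, nat_lit 7130, nat_lit 16777215, nat_lit 8191, nat_lit 24, nat_lit 13, nat_lit 1782,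
  [nat_lit 48, nat_lit 72, nat_lit 96, nat_lit 120, nat_lit 144, nat_lit 168, nat_lit 192], [nat_lit 48, nat_lit 72, nat_lit 96, nat_lit 120, nat_lit 144, nat_lit 168], wP,
  (.cons (nat_lit 48) w0 (.cons (nat_lit 72) w1 (.cons (nat_lit 96) w2 (.cons (nat_lit 120) w3 (.cons (nat_lit 144) w4 (.cons (nat_lit 168) w5 (.cons (nat_lit 192) w6 .nil))))))),
  .nil⟩

end Cfsg.Agent.Lib.TCSuz1
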