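import Cfsg.Agent.Lib.TCSuz2D0

set_option autoImplicit false
set_option maxRecDepth 100000

namespace Cfsg.Agent.Lib.TCSuz2
open Cfsg.Agent.Lib.TCCore

noncomputable def n0 : T := (.node (nat_lit 395) (.node (nat_lit 158) (.node (nat_lit 79) l0 l1) (.node (nat_lit 237) l2 (.node (nat_lit 316) l3 l4))) (.node (nat_lit 632) (.node (nat_lit 474) l5 (.node (nat_lit 553) l6 l7)) (.node (nat_lit 711) l8 (.node (nat_lit 790) l9 l10))))
noncomputable def n1 : T := (.node (nat_lit 1264) (.node (nat_lit 1027) (.node (nat_lit 948) l11 l12) (.node (nat_lit 1106) l13 (.node (nat_lit 1185) l14 l15))) (.node (nat_lit 1501) (.node (nat_lit 1343) l16 (.node (nat_lit 1422) l17 l18)) (.node (nat_lit 1580) l19 (.node (nat_lit 1659) l20 l21))))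
noncomputable def n2 : T := (.node (nat_lit 2133) (.node (nat_lit 1896) (.node (nat_lit 1817) l22 l23) (.node (nat_lit 1975) l24 (.node (nat_lit 2054) l25 l26))) (.node (nat_lit 2370) (.node (nat_lit 2212) l27 (.node (nat_lit 2291) l28 l29)) (.node (nat_lit 2449) l30 (.node (nat_lit 2528) l31 l32))))
noncomputable def n3 : T := (.node (nat_lit 3081) (.node (nat_lit 2844) (.node (nat_lit 2686) l33 (.node (nat_lit 2765) l34 l35)) (.node (nat_lit 2923) l36 (.node (nat_lit 3002) l37 l38))) (.node (nat_lit 3318) (.node (nat_lit 3160) l39 (.node (nat_lit 3239) l40 l41)) (.node (nat_lit 3397) l42 (.node (nat_lit 3476) l43 l44))))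
noncomputable def n4 : T := (.node (nat_lit 3950) (.node (nat_lit 3713) (.node (nat_lit 3634) l45 l46) (.node (nat_lit 3792) l47 (.node (nat_lit 3871) l48 l49))) (.node (nat_lit 4187) (.node (nat_lit 4029) l50 (.node (nat_lit 4108) l51 l52)) (.node (nat_lit 4266) l53 (.node (nat_lit 4345) l54 l55))))
noncomputable def n5 : T := (.node (nat_lit 4898) (.node (nat_lit 4661) (.node (nat_lit 4503) l56 (.node (nat_lit 4582) l57 l58)) (.node (nat_lit 4740) l59 (.node (nat_lit 4819) l60 l61))) (.node (nat_lit 5135) (.node (nat_lit 4977) l62 (.node (nat_lit 5056) l63 l64)) (.node (nat_lit 5214) l65 (.node (nat_lit 5293) l66 l67))))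
noncomputable def n6 : T := (.node (nat_lit 5767) (.node (nat_lit 5530) (.node (nat_lit 5451) l68 l69) (.node (nat_lit 5609) l70 (.node (nat_lit 5688) l71 l72))) (.node (nat_lit 6004) (.node (nat_lit 5846) l73 (.node (nat_lit 5925) l74 l75)) (.node (nat_lit 6083) l76 (.node (nat_lit 6162) l77 l78))))
noncomputable def n7 : T := (.node (nat_lit 6715) (.node (nat_lit 6478) (.node (nat_lit 6320) l79 (.node (nat_lit 6399) l80 l81)) (.node (nat_lit 6557) l82 (.node (nat_lit 6636) l83 l84))) (.node (nat_lit 6952) (.node (nat_lit 6794) l85 (.node (nat_lit 6873) l86 l87)) (.node (nat_lit 7031) l88 (.node (nat_lit 7110) l89 l90))))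
noncomputable def n8 : T := (.node (nat_lit 7584) (.node (nat_lit 7347) (.node (nat_lit 7268) l91 l92) (.node (nat_lit 7426) l93 (.node (nat_lit 7505) l94 l95))) (.node (nat_lit 7821) (.node (nat_lit 7663) l96 (.node (nat_lit 7742) l97 l98)) (.node (nat_lit 7900) l99 (.node (nat_lit 7979) l100 l101))))
noncomputable def n9 : T := (.node (nat_lit 8453) (.node (nat_lit 8216) (.node (nat_lit 8137) l102 l103) (.node (nat_lit 8295) l104 (.node (nat_lit 8374) l105 l106))) (.node (nat_lit 8690) (.node (nat_lit 8532) l107 (.node (nat_lit 8611) l108 l109)) (.node (nat_lit 8769) l110 (.node (nat_lit 8848) l111 l112))))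
noncomputable def n10 : T := (.node (nat_lit 9322) (.node (nat_lit 9085) (.node (nat_lit 9006) l113 l114) (.node (nat_lit 9164) l115 (.node (nat_lit 9243) l116 l117))) (.node (nat_lit 9559) (.node (nat_lit 9401) l118 (.node (nat_lit 9480) l119 l120)) (.node (nat_lit 9638) l121 (.node (nat_lit 9717) l122 l123))))
noncomputable def n11 : T := (.node (nat_lit 10270) (.node (nat_lit 10033) (.node (nat_lit 9875) l124 (.node (nat_lit 9954) l125 l126)) (.node (nat_lit 10112) l127 (.node (nat_lit 10191) l128 l129))) (.node (nat_lit 10507) (.node (nat_lit 10349) l130 (.node (nat_lit 10428) l131 l132)) (.node (nat_lit 10586) l133 (.node (nat_lit 10665) l134 l135))))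
noncomputable def n12 : T := (.node (nat_lit 11139) (.node (nat_lit 10902) (.node (nat_lit 10823) l136 l137) (.node (nat_lit 10981) l138 (.node (nat_lit 11060) l139 l140))) (.node (nat_lit 11376) (.node (nat_lit 11218) l141 (.node (nat_lit 11297) l142 l143)) (.node (nat_lit 11455) l144 (.node (nat_lit 11534) l145 l146))))
noncomputable def n13 : T := (.node (nat_lit 12087) (.node (nat_lit 11850) (.node (nat_lit 11692) l147 (.node (nat_lit 11771) l148 l149)) (.node (nat_lit 11929) l150 (.node (nat_lit 12008) l151 l152))) (.node (nat_lit 12324) (.node (nat_lit 12166) l153 (.node (nat_lit 12245) l154 l155)) (.node (nat_lit 12403) l156 (.node (nat_lit 12482) l157 l158))))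
noncomputable def n14 : T := (.node (nat_lit 12956) (.node (nat_lit 12719) (.node (nat_lit 12640) l159 l160) (.node (nat_lit 12798) l161 (.node (nat_lit 12877) l162 l163))) (.node (nat_lit 13193) (.node (nat_lit 13035) l164 (.node (nat_lit 13114) l165 l166)) (.node (nat_lit 13272) l167 (.node (nat_lit 13351) l168 l169))))
noncomputable def n15 : T := (.node (nat_lit 13904) (.node (nat_lit 13667) (.node (nat_lit 13509) l170 (.node (nat_lit 13588) l171 l172)) (.node (nat_lit 13746) l173 (.node (nat_lit 13825) l174 l175))) (.node (nat_lit 14141) (.node (nat_lit 13983) l176 (.node (nat_lit 14062) l177 l178)) (.node (nat_lit 14220) l179 (.node (nat_lit 14299) l180 l181))))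
noncomputable def n16 : T := (.node (nat_lit 14773) (.node (nat_lit 14536) (.node (nat_lit 14457) l182 l183) (.node (nat_lit 14615) l184 (.node (nat_lit 14694) l185 l186))) (.node (nat_lit 15010) (.node (nat_lit 14852) l187 (.node (nat_lit 14931) l188 l189)) (.node (nat_lit 15089) l190 (.node (nat_lit 15168) l191 l192))))
noncomputable def n17 : T := (.node (nat_lit 15642) (.node (nat_lit 15405) (.node (nat_lit 15326) l193 l194) (.node (nat_lit 15484) l195 (.node (nat_lit 15563) l196 l197))) (.node (nat_lit 15879) (.node (nat_lit 15721) l198 (.node (nat_lit 15800) l199 l200)) (.node (nat_lit 15958) l201 (.node (nat_lit 16037) l202 l203))))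
noncomputable def n18 : T := (.node (nat_lit 16511) (.node (nat_lit 16274) (.node (nat_lit 16195) l204 l205) (.node (nat_lit 16353) l206 (.node (nat_lit 16432) l207 l208))) (.node (nat_lit 16748) (.node (nat_lit 16590) l209 (.node (nat_lit 16669) l210 l211)) (.node (nat_lit 16827) l212 (.node (nat_lit 16906) l213 l214))))
noncomputable def n19 : T := (.node (nat_lit 17459) (.node (nat_lit 17222) (.node (nat_lit 17064) l215 (.node (nat_lit 17143) l216 l217)) (.node (nat_lit 17301) l218 (.node (nat_lit 17380) l219 l220))) (.node (nat_lit 17696) (.node (nat_lit 17538) l221 (.node (nat_lit 17617) l222 l223)) (.node (nat_lit 17775) l224 (.node (nat_lit 17854) l225 l226))))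
noncomputable def n20 : T := (.node (nat_lit 18328) (.node (nat_lit 18091) (.node (nat_lit 18012) l227 l228) (.node (nat_lit 18170) l229 (.node (nat_lit 18249) l230 l231))) (.node (nat_lit 18565) (.node (nat_lit 18407) l232 (.node (nat_lit 18486) l233 l234)) (.node (nat_lit 18644) l235 (.node (nat_lit 18723) l236 l237))))
noncomputable def n21 : T := (.node (nat_lit 19276) (.node (nat_lit 19039) (.node (nat_lit 18881) l238 (.node (nat_lit 18960) l239 l240)) (.node (nat_lit 19118) l241 (.node (nat_lit 19197) l242 l243))) (.node (nat_lit 19513) (.node (nat_lit 19355) l244 (.node (nat_lit 19434) l245 l246)) (.node (nat_lit 19592) l247 (.node (nat_lit 19671) l248 l249))))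
noncomputable def n22 : T := (.node (nat_lit 20145) (.node (nat_lit 19908) (.node (nat_lit 19829) l250 l251) (.node (nat_lit 19987) l252 (.node (nat_lit 20066) l253 l254))) (.node (nat_lit 20382) (.node (nat_lit 20224) l255 (.node (nat_lit 20303) l256 l257)) (.node (nat_lit 20461) l258 (.node (nat_lit 20540) l259 l260))))
noncomputable def n23 : T := (.node (nat_lit 21093) (.node (nat_lit 20856) (.node (nat_lit 20698) l261 (.node (nat_lit 20777) l262 l263)) (.node (nat_lit 20935) l264 (.node (nat_lit 21014) l265 l266))) (.node (nat_lit 21330) (.node (nat_lit 21172) l267 (.node (nat_lit 21251) l268 l269)) (.node (nat_lit 21409) l270 (.node (nat_lit 21488) l271 l272))))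
noncomputable def n24 : T := (.node (nat_lit 21962) (.node (nat_lit 21725) (.node (nat_lit 21646) l273 l274) (.node (nat_lit 21804) l275 (.node (nat_lit 21883) l276 l277))) (.node (nat_lit 22199) (.node (nat_lit 22041) l278 (.node (nat_lit 22120) l279 l280)) (.node (nat_lit 22278) l281 (.node (nat_lit 22357) l282 l283))))
noncomputable def n25 : T := (.node (nat_lit 22910) (.node (nat_lit 22673) (.node (nat_lit 22515) l284 (.node (nat_lit 22594) l285 l286)) (.node (nat_lit 22752) l287 (.node (nat_lit 22831) l288 l289))) (.node (nat_lit 23147) (.node (nat_lit 22989) l290 (.node (nat_lit 23068) l291 l292)) (.node (nat_lit 23226) l293 (.node (nat_lit 23305) l294 l295))))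
noncomputable def n26 : T := (.node (nat_lit 23779) (.node (nat_lit 23542) (.node (nat_lit 23463) l296 l297) (.node (nat_lit 23621) l298 (.node (nat_lit 23700) l299 l300))) (.node (nat_lit 24016) (.node (nat_lit 23858) l301 (.node (nat_lit 23937) l302 l303)) (.node (nat_lit 24095) l304 (.node (nat_lit 24174) l305 l306))))
noncomputable def n27 : T := (.node (nat_lit 24727) (.node (nat_lit 24490) (.node (nat_lit 24332) l307 (.node (nat_lit 24411) l308 l309)) (.node (nat_lit 24569) l310 (.node (nat_lit 24648) l311 l312))) (.node (nat_lit 24964) (.node (nat_lit 24806) l313 (.node (nat_lit 24885) l314 l315)) (.node (nat_lit 25043) l316 (.node (nat_lit 25122) l317 l318))))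
noncomputable def n28 : T := (.node (nat_lit 25596) (.node (nat_lit 25359) (.node (nat_lit 25280) l319 l320) (.node (nat_lit 25438) l321 (.node (nat_lit 25517) l322 l323))) (.node (nat_lit 25833) (.node (nat_lit 25675) l324 (.node (nat_lit 25754) l325 l326)) (.node (nat_lit 25912) l327 (.node (nat_lit 25991) l328 l329))))
noncomputable def n29 : T := (.node (nat_lit 26544) (.node (nat_lit 26307) (.node (nat_lit 26149) l330 (.node (nat_lit 26228) l331 l332)) (.node (nat_lit 26386) l333 (.node (nat_lit 26465) l334 l335))) (.node (nat_lit 26781) (.node (nat_lit 26623) l336 (.node (nat_lit 26702) l337 l338)) (.node (nat_lit 26860) l339 (.node (nat_lit 26939) l340 l341))))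
noncomputable def n30 : T := (.node (nat_lit 27413) (.node (nat_lit 27176) (.node (nat_lit 27097) l342 l343) (.node (nat_lit 27255) l344 (.node (nat_lit 27334) l345 l346))) (.node (nat_lit 27650) (.node (nat_lit 27492) l347 (.node (nat_lit 27571) l348 l349)) (.node (nat_lit 27729) l350 (.node (nat_lit 27808) l351 l352))))
noncomputable def n31 : T := (.node (nat_lit 28361) (.node (nat_lit 28124) (.node (nat_lit 27966) l353 (.node (nat_lit 28045) l354 l355)) (.node (nat_lit 28203) l356 (.node (nat_lit 28282) l357 l358))) (.node (nat_lit 28598) (.node (nat_lit 28440) l359 (.node (nat_lit 28519) l360 l361)) (.node (nat_lit 28677) l362 (.node (nat_lit 28756) l363 l364))))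
noncomputable def tb : T := (.node (nat_lit 14378) (.node (nat_lit 7189) (.node (nat_lit 3555) (.node (nat_lit 1738) (.node (nat_lit 869) n0 n1) (.node (nat_lit 2607) n2 n3)) (.node (nat_lit 5372) (.node (nat_lit 4424) n4 n5) (.node (nat_lit 6241) n6 n7))) (.node (nat_lit 10744) (.node (nat_lit 8927) (.node (nat_lit 8058) n8 n9) (.node (nat_lit 9796) n10 n11)) (.node (nat_lit 12561) (.node (nat_lit 11613) n12 n13) (.node (nat_lit 13430) n14 n15)))) (.node (nat_lit 21567) (.node (nat_lit 17933) (.node (nat_lit 16116) (.node (nat_lit 15247) n16 n17) (.node (nat_lit 16985) n18 n19)) (.node (nat_lit 19750) (.node (nat_lit 18802) n20 n21) (.node (nat_lit 20619) n22 n23))) (.node (nat_lit 25201) (.node (nat_lit 23384) (.node (nat_lit 22436) n24 n25) (.node (nat_lit 24253) n26 n27)) (.node (nat_lit 27018) (.node (nat_lit 26070) n28 n29) (.node (nat_lit 27887) n30 n31)))))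
noncomputable def r0 : WT := (.leaf (nat_lit 30727) [nat_lit 189, nat_lit 108, nat_lit 81, nat_lit 54, nat_lit 189, nat_lit 108, nat_lit 81, nat_lit 54, nat_lit 189, nat_lit 108, nat_lit 81, nat_lit 54, nat_lit 189, nat_lit 108, nat_lit 81, nat_lit 54, nat_lit 189, nat_lit 108, nat_lit 81])
noncomputable def r1 : WT := (.leaf (nat_lit 30720) [nat_lit 81, nat_lit 108, nat_lit 189, nat_lit 54, nat_lit 81, nat_lit 108, nat_lit 189, nat_lit 54, nat_lit 81, nat_lit 108, nat_lit 189, nat_lit 54, nat_lit 81, nat_lit 108, nat_lit 189, nat_lit 54, nat_lit 81, nat_lit 108, nat_lit 189])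
noncomputable def r2 : WT := (.node (nat_lit 12) r1 (.leaf (nat_lit 28672) [nat_lit 135, nat_lit 108, nat_lit 135, nat_lit 108, nat_lit 135, nat_lit 108, nat_lit 135, nat_lit 108]))
noncomputable def r3 : WT := (.node (nat_lit 8) (.node (nat_lit 7) (.leaf (nat_lit 29696) [nat_lit 216, nat_lit 189, nat_lit 216, nat_lit 189]) (.leaf (nat_lit 7168) [nat_lit 81, nat_lit 54, nat_lit 81, nat_lit 54, nat_lit 81, nat_lit 54, nat_lit 81, nat_lit 54, nat_lit 81])) (.node (nat_lit 9) (.leaf (nat_lit 29705) [nat_lit 189, nat_lit 216, nat_lit 189, nat_lit 216]) (.node (nat_lit 10) r0 (.node (nat_lit 11) (.leaf (nat_lit 28689) [nat_lit 108, nat_lit 135, nat_lit 108, nat_lit 135, nat_lit 108, nat_lit 135, nat_lit 108, nat_lit 135]) r2))))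
noncomputable def w0 : WT := (.node (nat_lit 1) (.leaf (nat_lit 0) [nat_lit 54]) (.node (nat_lit 3) (.node (nat_lit 2) (.leaf (nat_lit 12288) [nat_lit 216, nat_lit 54, nat_lit 216]) (.leaf (nat_lit 11264) [nat_lit 189, nat_lit 54, nat_lit 189])) (.node (nat_lit 5) (.node (nat_lit 4) (.leaf (nat_lit 9216) [nat_lit 135, nat_lit 54, nat_lit 135]) (.leaf (nat_lit 10240) [nat_lit 162, nat_lit 54, nat_lit 162])) (.node (nat_lit 6) (.leaf (nat_lit 8192) [nat_lit 108, nat_lit 54, nat_lit 108]) r3))))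
noncomputable def r4 : WT := (.leaf (nat_lit 31749) [nat_lit 216, nat_lit 189, nat_lit 81, nat_lit 216, nat_lit 189, nat_lit 81, nat_lit 216, nat_lit 189, nat_lit 81, nat_lit 216, nat_lit 189, nat_lit 81, nat_lit 216, nat_lit 189])
noncomputable def r5 : WT := (.leaf (nat_lit 31744) [nat_lit 189, nat_lit 216, nat_lit 81, nat_lit 189, nat_lit 216, nat_lit 81, nat_lit 189, nat_lit 216, nat_lit 81, nat_lit 189, nat_lit 216, nat_lit 81, nat_lit 189, nat_lit 216])
noncomputable def r6 : WT := (.leaf (nat_lit 30722) [nat_lit 108, nat_lit 189, nat_lit 54, nat_lit 81, nat_lit 108, nat_lit 189, nat_lit 54, nat_lit 81, nat_lit 108, nat_lit 189, nat_lit 54, nat_lit 81, nat_lit 108, nat_lit 189, nat_lit 54, nat_lit 81, nat_lit 108, nat_lit 189, nat_lit 54])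
noncomputable def r7 : WT := (.leaf (nat_lit 30725) [nat_lit 54, nat_lit 189, nat_lit 108, nat_lit 81, nat_lit 54, nat_lit 189, nat_lit 108, nat_lit 81, nat_lit 54, nat_lit 189, nat_lit 108, nat_lit 81, nat_lit 54, nat_lit 189, nat_lit 108, nat_lit 81, nat_lit 54, nat_lit 189, nat_lit 108])
noncomputable def r8 : WT := (.leaf (nat_lit 32779) [nat_lit 135, nat_lit 108, nat_lit 135, nat_lit 108, nat_lit 81, nat_lit 135, nat_lit 108, nat_lit 135, nat_lit 108, nat_lit 81, nat_lit 135, nat_lit 108, nat_lit 135, nat_lit 108, nat_lit 81, nat_lit 135, nat_lit 108, nat_lit 135, nat_lit 108, nat_lit 81, nat_lit 162, nat_lit 135, nat_lit 108, nat_lit 135, nat_lit 108, nat_lit 81, nat_lit 135, nat_lit 108, nat_lit 135, nat_lit 108, nat_lit 81, nat_lit 135, nat_lit 108, nat_lit 135, nat_lit 108, nat_lit 81, nat_lit 135, nat_lit 108, nat_lit 135, nat_lit 108, nat_lit 81, nat_lit 135, nat_lit 108, nat_lit 135, nat_lit 108, nat_lit 81, nat_lit 162, nat_lit 135, nat_lit 108, nat_lit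 135, nat_lit 108, nat_lit 81, nat_lit 135, nat_lit 108, nat_lit 135, nat_lit 108, nat_lit 81, nat_lit 135, nat_lit 108, nat_lit 135, nat_lit 108, nat_lit 81, nat_lit 135, nat_lit 108, nat_lit 135, nat_lit 108, nat_lit 81, nat_lit 135, nat_lit 108, nat_lit 135, nat_lit 108, nat_lit 81, nat_lit 162, nat_lit 135, nat_lit 108, nat_lit 135, nat_lit 108])
noncomputable def r9 : WT := (.leaf (nat_lit 32789) [nat_lit 135, nat_lit 108, nat_lit 135, nat_lit 108, nat_lit 81, nat_lit 135, nat_lit 108, nat_lit 135, nat_lit 108, nat_lit 81, nat_lit 135, nat_lit 108, nat_lit 135, nat_lit 108, nat_lit 81, nat_lit 162, nat_lit 135, nat_lit 108, nat_lit 135, nat_lit 108, nat_lit 81, nat_lit 135, nat_lit 108, nat_lit 135, nat_lit 108, nat_lit 81, nat_lit 135, nat_lit 108, nat_lit 135, nat_lit 108, nat_lit 81, nat_lit 135, nat_lit 108, nat_lit 135, nat_lit 108, nat_lit 81, nat_lit 135, nat_lit 108, nat_lit 135, nat_lit 108, nat_lit 81, nat_lit 162, nat_lit 135, nat_lit 108, nat_lit 135,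 nat_lit 108, nat_lit 81, nat_lit 135, nat_lit 108, nat_lit 135, nat_lit 108, nat_lit 81, nat_lit 135, nat_lit 108, nat_lit 135, nat_lit 108, nat_lit 81, nat_lit 135, nat_lit 108, nat_lit 135, nat_lit 108, nat_lit 81, nat_lit 135, nat_lit 108, nat_lit 135, nat_lit 108, nat_lit 81, nat_lit 162, nat_lit 135, nat_lit 108, nat_lit 135, nat_lit 108, nat_lit 81, nat_lit 135, nat_lit 108, nat_lit 135, nat_lit 108])
noncomputable def r10 : WT := (.leaf (nat_lit 32809) [nat_lit 135, nat_lit 108, nat_lit 135, nat_lit 108, nat_lit 81, nat_lit 162, nat_lit 135, nat_lit 108, nat_lit 135, nat_lit 108, nat_lit 81, nat_lit 135, nat_lit 108, nat_lit 135, nat_lit 108, nat_lit 81, nat_lit 135, nat_lit 108, nat_lit 135, nat_lit 108, nat_lit 81, nat_lit 135, nat_lit 108, nat_lit 135, nat_lit 108, nat_lit 81, nat_lit 135, nat_lit 108, nat_lit 135, nat_lit 108, nat_lit 81, nat_lit 162, nat_lit 135, nat_lit 108, nat_lit 135, nat_lit 108, nat_lit 81, nat_lit 135, nat_lit 108, nat_lit 135, nat_lit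 108, nat_lit 81, nat_lit 135, nat_lit 108, nat_lit 135, nat_lit 108, nat_lit 81, nat_lit 135, nat_lit 108, nat_lit 135, nat_lit 108, nat_lit 81, nat_lit 135, nat_lit 108, nat_lit 135, nat_lit 108, nat_lit 81, nat_lit 162, nat_lit 135, nat_lit 108, nat_lit 135, nat_lit 108, nat_lit 81, nat_lit 135, nat_lit 108, nat_lit 135, nat_lit 108, nat_lit 81, nat_lit 135, nat_lit 108, nat_lit 135, nat_lit 108, nat_lit 81, nat_lit 135, nat_lit 108, nat_lit 135, nat_lit 108])
noncomputable def r11 : WT := (.leaf (nat_lit 32788) [nat_lit 108, nat_lit 135, nat_lit 108, nat_lit 135, nat_lit 81, nat_lit 108, nat_lit 135, nat_lit 108, nat_lit 135, nat_lit 81, nat_lit 108, nat_lit 135, nat_lit 108, nat_lit 135, nat_lit 162, nat_lit 81, nat_lit 108, nat_lit 135, nat_lit 108, nat_lit 135, nat_lit 81, nat_lit 108, nat_lit 135, nat_lit 108, nat_lit 135, nat_lit 81, nat_lit 108, nat_lit 135, nat_lit 108, nat_lit 135, nat_lit 81, nat_lit 108, nat_lit 135, nat_lit 108, nat_lit 135, nat_lit 81,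 nat_lit 108, nat_lit 135, nat_lit 108, nat_lit 135, nat_lit 162, nat_lit 81, nat_lit 108, nat_lit 135, nat_lit 108, nat_lit 135, nat_lit 81, nat_lit 108, nat_lit 135, nat_lit 108, nat_lit 135, nat_lit 81, nat_lit 108, nat_lit 135, nat_lit 108, nat_lit 135, nat_lit 81, nat_lit 108, nat_lit 135, nat_lit 108, nat_lit 135, nat_lit 81, nat_lit 108, nat_lit 135, nat_lit 108, nat_lit 135, nat_lit 162, nat_lit 81, nat_lit 108, nat_lit 135, nat_lit 108, nat_lit 135, nat_lit 81, nat_lit 108, nat_lit 135, nat_lit 108, nat_lit 135])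
noncomputable def r12 : WT := (.leaf (nat_lit 32798) [nat_lit 108, nat_lit 135, nat_lit 108, nat_lit 135, nat_lit 81, nat_lit 108, nat_lit 135, nat_lit 108, nat_lit 135, nat_lit 162, nat_lit 81, nat_lit 108, nat_lit 135, nat_lit 108, nat_lit 135, nat_lit 81, nat_lit 108, nat_lit 135, nat_lit 108, nat_lit 135, nat_lit 81, nat_lit 108, nat_lit 135, nat_lit 108, nat_lit 135, nat_lit 81, nat_lit 108, nat_lit 135, nat_lit 108, nat_lit 135, nat_lit 81, nat_lit 108, nat_lit 135, nat_lit 108, nat_lit 135, nat_lit 162, nat_lit 81, nat_lit 108, nat_lit 135, nat_lit 108, nat_lit 135, nat_lit 81, nat_lit 108, nat_lit 135, nat_lit 108, nat_lit 135, nat_lit 81, nat_lit 108, nat_lit 135, nat_lit 108, nat_lit 135, nat_lit 81, nat_lit 108, nat_lit 135, nat_lit 108, nat_lit 135, nat_lit 81, nat_lit 108, nat_lit 135, nat_lit 108, nat_lit 135, nat_lit 162, nat_lit 81, nat_lit 108, nat_lit 135, nat_lit 108, nat_lit 135, nat_lit 81, nat_lit 108, nat_lit 135, nat_lit 108, nat_lit 135, nat_lit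 81, nat_lit 108, nat_lit 135, nat_lit 108, nat_lit 135])
noncomputable def r13 : WT := (.leaf (nat_lit 32799) [nat_lit 135, nat_lit 108, nat_lit 135, nat_lit 108, nat_lit 81, nat_lit 135, nat_lit 108, nat_lit 135, nat_lit 108, nat_lit 81, nat_lit 162, nat_lit 135, nat_lit 108, nat_lit 135, nat_lit 108, nat_lit 81, nat_lit 135, nat_lit 108, nat_lit 135, nat_lit 108, nat_lit 81, nat_lit 135, nat_lit 108, nat_lit 135, nat_lit 108, nat_lit 81, nat_lit 135, nat_lit 108, nat_lit 135, nat_lit 108, nat_lit 81, nat_lit 135, nat_lit 108, nat_lit 135, nat_lit 108, nat_lit 81, nat_lit 162, nat_lit 135, nat_lit 108, nat_lit 135, nat_lit 108, nat_lit 81, nat_lit 135, nat_lit 108, nat_lit 135, nat_lit 108, nat_lit 81, nat_lit 135, nat_lit 108, nat_lit 135, nat_lit 108, nat_lit 81, nat_lit 135, nat_lit 108, nat_lit 135, nat_lit 108, nat_lit 81, nat_lit 135, nat_lit 108, nat_lit 135, nat_lit 108, nat_lit 81, nat_lit 162, nat_lit 135, nat_lit 108, nat_lit 135, nat_lit 108, nat_lit 81,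 nat_lit 135, nat_lit 108, nat_lit 135, nat_lit 108, nat_lit 81, nat_lit 135, nat_lit 108, nat_lit 135, nat_lit 108])
noncomputable def r14 : WT := (.leaf (nat_lit 32778) [nat_lit 108, nat_lit 135, nat_lit 108, nat_lit 135, nat_lit 81, nat_lit 108, nat_lit 135, nat_lit 108, nat_lit 135, nat_lit 81, nat_lit 108, nat_lit 135, nat_lit 108, nat_lit 135, nat_lit 81, nat_lit 108, nat_lit 135, nat_lit 108, nat_lit 135, nat_lit 162, nat_lit 81, nat_lit 108, nat_lit 135, nat_lit 108, nat_lit 135, nat_lit 81, nat_lit 108, nat_lit 135, nat_lit 108, nat_lit 135, nat_lit 81, nat_lit 108, nat_lit 135, nat_lit 108, nat_lit 135, nat_lit 81, nat_lit 108, nat_lit 135, nat_lit 108, nat_lit 135, nat_lit 81, nat_lit 108, nat_lit 135, nat_lit 108, nat_lit 135, nat_lit 162, nat_lit 81, nat_lit 108, nat_lit 135, nat_lit 108, nat_lit 135, nat_lit 81, nat_lit 108, nat_lit 135, nat_lit 108, nat_lit 135, nat_lit 81, nat_lit 108, nat_lit 135, nat_lit 108, nat_lit 135, nat_lit 81, nat_lit 108, nat_lit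 135, nat_lit 108, nat_lit 135, nat_lit 81, nat_lit 108, nat_lit 135, nat_lit 108, nat_lit 135, nat_lit 162, nat_lit 81, nat_lit 108, nat_lit 135, nat_lit 108, nat_lit 135])
noncomputable def r15 : WT := (.leaf (nat_lit 32819) [nat_lit 162, nat_lit 135, nat_lit 108, nat_lit 135, nat_lit 108, nat_lit 81, nat_lit 135, nat_lit 108, nat_lit 135, nat_lit 108, nat_lit 81, nat_lit 135, nat_lit 108, nat_lit 135, nat_lit 108, nat_lit 81, nat_lit 135, nat_lit 108, nat_lit 135, nat_lit 108, nat_lit 81, nat_lit 135, nat_lit 108, nat_lit 135, nat_lit 108, nat_lit 81, nat_lit 162, nat_lit 135, nat_lit 108, nat_lit 135, nat_lit 108, nat_lit 81, nat_lit 135, nat_lit 108, nat_lit 135, nat_lit 108, nat_lit 81, nat_lit 135, nat_lit 108, nat_lit 135, nat_lit 108, nat_lit 81, nat_lit 135, nat_lit 108, nat_lit 135, nat_lit 108, nat_lit 81, nat_lit 135, nat_lit 108, nat_lit 135, nat_lit 108, nat_lit 81, nat_lit 162, nat_lit 135, nat_lit 108, nat_lit 135, nat_lit 108, nat_lit 81, nat_lit 135,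 nat_lit 108, nat_lit 135, nat_lit 108, nat_lit 81, nat_lit 135, nat_lit 108, nat_lit 135, nat_lit 108, nat_lit 81, nat_lit 135, nat_lit 108, nat_lit 135, nat_lit 108, nat_lit 81, nat_lit 135, nat_lit 108, nat_lit 135, nat_lit 108])
noncomputable def r16 : WT := (.node (nat_lit 18) r14 r15)
noncomputable def r17 : WT := (.node (nat_lit 13) (.node (nat_lit 12) r8 r9) (.node (nat_lit 15) (.node (nat_lit 14) r10 r11) (.node (nat_lit 16) r12 (.node (nat_lit 17) r13 r16))))
noncomputable def r18 : WT := (.node (nat_lit 7) (.leaf (nat_lit 7170) [nat_lit 54, nat_lit 81, nat_lit 54, nat_lit 81, nat_lit 54, nat_lit 81, nat_lit 54, nat_lit 81, nat_lit 54]) (.node (nat_lit 9) (.node (nat_lit 8) r4 r5) (.node (nat_lit 10) r6 (.node (nat_lit 11) r7 r17))))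
noncomputable def w1 : WT := (.node (nat_lit 1) (.leaf (nat_lit 1024) [nat_lit 81]) (.node (nat_lit 4) (.node (nat_lit 2) (.leaf (nat_lit 14336) [nat_lit 135, nat_lit 81, nat_lit 135]) (.node (nat_lit 3) (.leaf (nat_lit 15360) [nat_lit 162, nat_lit 81, nat_lit 162]) (.leaf (nat_lit 17408) [nat_lit 216, nat_lit 81, nat_lit 216, nat_lit 81, nat_lit 216]))) (.node (nat_lit 5) (.leaf (nat_lit 16384) [nat_lit 189, nat_lit 81, nat_lit 189, nat_lit 81, nat_lit 189]) (.node (nat_lit 6) (.leaf (nat_lit 13312) [nat_lit 108, nat_lit 81, nat_lit 108, nat_lit 81, nat_lit 108]) r18))))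
noncomputable def r19 : WT := (.leaf (nat_lit 30724) [nat_lit 189, nat_lit 54, nat_lit 81, nat_lit 108, nat_lit 189, nat_lit 54, nat_lit 81, nat_lit 108, nat_lit 189, nat_lit 54, nat_lit 81, nat_lit 108, nat_lit 189, nat_lit 54, nat_lit 81, nat_lit 108, nat_lit 189, nat_lit 54, nat_lit 81])
noncomputable def r20 : WT := (.leaf (nat_lit 30723) [nat_lit 81, nat_lit 54, nat_lit 189, nat_lit 108, nat_lit 81, nat_lit 54, nat_lit 189, nat_lit 108, nat_lit 81, nat_lit 54, nat_lit 189, nat_lit 108, nat_lit 81, nat_lit 54, nat_lit 189, nat_lit 108, nat_lit 81, nat_lit 54, nat_lit 189])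
noncomputable def r21 : WT := (.node (nat_lit 11) (.leaf (nat_lit 28673) [nat_lit 135, nat_lit 108, nat_lit 135, nat_lit 108, nat_lit 135, nat_lit 108, nat_lit 135, nat_lit 54]) r20)
noncomputable def r22 : WT := (.leaf (nat_lit 32774) [nat_lit 135, nat_lit 81, nat_lit 108, nat_lit 135, nat_lit 108, nat_lit 135, nat_lit 81, nat_lit 108, nat_lit 135, nat_lit 108, nat_lit 135, nat_lit 81, nat_lit 108, nat_lit 135, nat_lit 108, nat_lit 135, nat_lit 81, nat_lit 108, nat_lit 135, nat_lit 108, nat_lit 135, nat_lit 162, nat_lit 81, nat_lit 108, nat_lit 135, nat_lit 108, nat_lit 135, nat_lit 81, nat_lit 108, nat_lit 135, nat_lit 108, nat_lit 135, nat_lit 81, nat_lit 108, nat_lit 135, nat_lit 108, nat_lit 135, nat_lit 81, nat_lit 108, nat_lit 135, nat_lit 108, nat_lit 135, nat_lit 81, nat_lit 108, nat_lit 135, nat_lit 108, nat_lit 135, nat_lit 162, nat_lit 81, nat_lit 108, nat_lit 135, nat_lit 108, nat_lit 135, nat_lit 81, nat_lit 108, nat_lit 135, nat_lit 108, nat_lit 135,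 nat_lit 81, nat_lit 108, nat_lit 135, nat_lit 108, nat_lit 135, nat_lit 81, nat_lit 108, nat_lit 135, nat_lit 108, nat_lit 135, nat_lit 81, nat_lit 108, nat_lit 135, nat_lit 108, nat_lit 135, nat_lit 162, nat_lit 81, nat_lit 108, nat_lit 135])
noncomputable def r23 : WT := (.leaf (nat_lit 32770) [nat_lit 135, nat_lit 108, nat_lit 135, nat_lit 81, nat_lit 108, nat_lit 135, nat_lit 108, nat_lit 135, nat_lit 81, nat_lit 108, nat_lit 135, nat_lit 108, nat_lit 135, nat_lit 81, nat_lit 108, nat_lit 135, nat_lit 108, nat_lit 135, nat_lit 81, nat_lit 108, nat_lit 135, nat_lit 108, nat_lit 135, nat_lit 162, nat_lit 81, nat_lit 108, nat_lit 135, nat_lit 108, nat_lit 135, nat_lit 81, nat_lit 108, nat_lit 135, nat_lit 108, nat_lit 135, nat_lit 81, nat_lit 108, nat_lit 135, nat_lit 108, nat_lit 135, nat_lit 81, nat_lit 108, nat_lit 135, nat_lit 108, nat_lit 135, nat_lit 81, nat_lit 108, nat_lit 135, nat_lit 108, nat_lit 135, nat_lit 162, nat_lit 81, nat_lit 108, nat_lit 135, nat_lit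 108, nat_lit 135, nat_lit 81, nat_lit 108, nat_lit 135, nat_lit 108, nat_lit 135, nat_lit 81, nat_lit 108, nat_lit 135, nat_lit 108, nat_lit 135, nat_lit 81, nat_lit 108, nat_lit 135, nat_lit 108, nat_lit 135, nat_lit 81, nat_lit 108, nat_lit 135, nat_lit 108, nat_lit 135, nat_lit 162, nat_lit 81])
noncomputable def r24 : WT := (.leaf (nat_lit 32784) [nat_lit 135, nat_lit 81, nat_lit 108, nat_lit 135, nat_lit 108, nat_lit 135, nat_lit 81, nat_lit 108, nat_lit 135, nat_lit 108, nat_lit 135, nat_lit 81, nat_lit 108, nat_lit 135, nat_lit 108, nat_lit 135, nat_lit 162, nat_lit 81, nat_lit 108, nat_lit 135, nat_lit 108, nat_lit 135, nat_lit 81, nat_lit 108, nat_lit 135, nat_lit 108, nat_lit 135, nat_lit 81, nat_lit 108, nat_lit 135, nat_lit 108, nat_lit 135, nat_lit 81, nat_lit 108, nat_lit 135, nat_lit 108, nat_lit 135, nat_lit 81, nat_lit 108, nat_lit 135, nat_lit 108, nat_lit 135, nat_lit 162, nat_lit 81, nat_lit 108, nat_lit 135, nat_lit 108, nat_lit 135, nat_lit 81,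 nat_lit 108, nat_lit 135, nat_lit 108, nat_lit 135, nat_lit 81, nat_lit 108, nat_lit 135, nat_lit 108, nat_lit 135, nat_lit 81, nat_lit 108, nat_lit 135, nat_lit 108, nat_lit 135, nat_lit 81, nat_lit 108, nat_lit 135, nat_lit 108, nat_lit 135, nat_lit 162, nat_lit 81, nat_lit 108, nat_lit 135, nat_lit 108, nat_lit 135, nat_lit 81, nat_lit 108, nat_lit 135])
noncomputable def r25 : WT := (.leaf (nat_lit 32783) [nat_lit 135, nat_lit 108, nat_lit 81, nat_lit 135, nat_lit 108, nat_lit 135, nat_lit 108, nat_lit 81, nat_lit 135, nat_lit 108, nat_lit 135, nat_lit 108, nat_lit 81, nat_lit 135, nat_lit 108, nat_lit 135, nat_lit 108, nat_lit 81, nat_lit 162, nat_lit 135, nat_lit 108, nat_lit 135, nat_lit 108, nat_lit 81, nat_lit 135, nat_lit 108, nat_lit 135, nat_lit 108, nat_lit 81, nat_lit 135, nat_lit 108, nat_lit 135, nat_lit 108, nat_lit 81, nat_lit 135, nat_lit 108, nat_lit 135, nat_lit 108, nat_lit 81, nat_lit 135, nat_lit 108, nat_lit 135, nat_lit 108, nat_lit 81, nat_lit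 162, nat_lit 135, nat_lit 108, nat_lit 135, nat_lit 108, nat_lit 81, nat_lit 135, nat_lit 108, nat_lit 135, nat_lit 108, nat_lit 81, nat_lit 135, nat_lit 108, nat_lit 135, nat_lit 108, nat_lit 81, nat_lit 135, nat_lit 108, nat_lit 135, nat_lit 108, nat_lit 81, nat_lit 135, nat_lit 108, nat_lit 135, nat_lit 108, nat_lit 81, nat_lit 162, nat_lit 135, nat_lit 108, nat_lit 135, nat_lit 108, nat_lit 81, nat_lit 135])
noncomputable def r26 : WT := (.leaf (nat_lit 32793) [nat_lit 135, nat_lit 108, nat_lit 81, nat_lit 135, nat_lit 108, nat_lit 135, nat_lit 108, nat_lit 81, nat_lit 135, nat_lit 108, nat_lit 135, nat_lit 108, nat_lit 81, nat_lit 162, nat_lit 135, nat_lit 108, nat_lit 135, nat_lit 108, nat_lit 81, nat_lit 135, nat_lit 108, nat_lit 135, nat_lit 108, nat_lit 81, nat_lit 135, nat_lit 108, nat_lit 135, nat_lit 108, nat_lit 81, nat_lit 135, nat_lit 108, nat_lit 135, nat_lit 108, nat_lit 81, nat_lit 135, nat_lit 108, nat_lit 135, nat_lit 108, nat_lit 81, nat_lit 162,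 nat_lit 135, nat_lit 108, nat_lit 135, nat_lit 108, nat_lit 81, nat_lit 135, nat_lit 108, nat_lit 135, nat_lit 108, nat_lit 81, nat_lit 135, nat_lit 108, nat_lit 135, nat_lit 108, nat_lit 81, nat_lit 135, nat_lit 108, nat_lit 135, nat_lit 108, nat_lit 81, nat_lit 135, nat_lit 108, nat_lit 135, nat_lit 108, nat_lit 81, nat_lit 162, nat_lit 135, nat_lit 108, nat_lit 135, nat_lit 108, nat_lit 81, nat_lit 135, nat_lit 108, nat_lit 135, nat_lit 108, nat_lit 81, nat_lit 135])
noncomputable def r27 : WT := (.node (nat_lit 18) r26 (.leaf (nat_lit 28677) [nat_lit 135, nat_lit 108, nat_lit 135, nat_lit 108, nat_lit 135, nat_lit 54, nat_lit 108, nat_lit 135]))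
noncomputable def r28 : WT := (.leaf (nat_lit 32780) [nat_lit 135, nat_lit 108, nat_lit 135, nat_lit 81, nat_lit 108, nat_lit 135, nat_lit 108, nat_lit 135, nat_lit 81, nat_lit 108, nat_lit 135, nat_lit 108, nat_lit 135, nat_lit 81, nat_lit 108, nat_lit 135, nat_lit 108, nat_lit 135, nat_lit 162, nat_lit 81, nat_lit 108, nat_lit 135, nat_lit 108, nat_lit 135, nat_lit 81, nat_lit 108, nat_lit 135, nat_lit 108, nat_lit 135, nat_lit 81, nat_lit 108, nat_lit 135, nat_lit 108, nat_lit 135, nat_lit 81, nat_lit 108, nat_lit 135, nat_lit 108, nat_lit 135, nat_lit 81, nat_lit 108, nat_lit 135, nat_lit 108, nat_lit 135, nat_lit 162, nat_lit 81, nat_lit 108, nat_lit 135, nat_lit 108, nat_lit 135, nat_lit 81, nat_lit 108, nat_lit 135, nat_lit 108, nat_lit 135, nat_lit 81, nat_lit 108, nat_lit 135, nat_lit 108, nat_lit 135, nat_lit 81, nat_lit 108, nat_lit 135, nat_lit 108, nat_lit 135, nat_lit 81, nat_lit 108, nat_lit 135, nat_lit 108, nat_lit 135, nat_lit 162, nat_lit 81, nat_lit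 108, nat_lit 135, nat_lit 108, nat_lit 135, nat_lit 81])
noncomputable def r29 : WT := (.leaf (nat_lit 32803) [nat_lit 135, nat_lit 108, nat_lit 81, nat_lit 135, nat_lit 108, nat_lit 135, nat_lit 108, nat_lit 81, nat_lit 162, nat_lit 135, nat_lit 108, nat_lit 135, nat_lit 108, nat_lit 81, nat_lit 135, nat_lit 108, nat_lit 135, nat_lit 108, nat_lit 81, nat_lit 135, nat_lit 108, nat_lit 135, nat_lit 108, nat_lit 81, nat_lit 135, nat_lit 108, nat_lit 135, nat_lit 108, nat_lit 81, nat_lit 135, nat_lit 108, nat_lit 135, nat_lit 108, nat_lit 81, nat_lit 162, nat_lit 135, nat_lit 108, nat_lit 135, nat_lit 108, nat_lit 81, nat_lit 135, nat_lit 108, nat_lit 135, nat_lit 108, nat_lit 81, nat_lit 135, nat_lit 108, nat_lit 135, nat_lit 108, nat_lit 81, nat_lit 135, nat_lit 108, nat_lit 135, nat_lit 108, nat_lit 81, nat_lit 135, nat_lit 108, nat_lit 135, nat_lit 108, nat_lit 81, nat_lit 162, nat_lit 135, nat_lit 108, nat_lit 135, nat_lit 108, nat_lit 81, nat_lit 135, nat_lit 108,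 nat_lit 135, nat_lit 108, nat_lit 81, nat_lit 135, nat_lit 108, nat_lit 135, nat_lit 108, nat_lit 81, nat_lit 135])
noncomputable def r30 : WT := (.leaf (nat_lit 32794) [nat_lit 135, nat_lit 81, nat_lit 108, nat_lit 135, nat_lit 108, nat_lit 135, nat_lit 81, nat_lit 108, nat_lit 135, nat_lit 108, nat_lit 135, nat_lit 162, nat_lit 81, nat_lit 108, nat_lit 135, nat_lit 108, nat_lit 135, nat_lit 81, nat_lit 108, nat_lit 135, nat_lit 108, nat_lit 135, nat_lit 81, nat_lit 108, nat_lit 135, nat_lit 108, nat_lit 135, nat_lit 81, nat_lit 108, nat_lit 135, nat_lit 108, nat_lit 135, nat_lit 81, nat_lit 108, nat_lit 135, nat_lit 108, nat_lit 135, nat_lit 162, nat_lit 81, nat_lit 108, nat_lit 135, nat_lit 108, nat_lit 135, nat_lit 81, nat_lit 108, nat_lit 135, nat_lit 108, nat_lit 135, nat_lit 81, nat_lit 108, nat_lit 135, nat_lit 108, nat_lit 135, nat_lit 81, nat_lit 108, nat_lit 135, nat_lit 108, nat_lit 135, nat_lit 81, nat_lit 108, nat_lit 135, nat_lit 108, nat_lit 135, nat_lit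 162, nat_lit 81, nat_lit 108, nat_lit 135, nat_lit 108, nat_lit 135, nat_lit 81, nat_lit 108, nat_lit 135, nat_lit 108, nat_lit 135, nat_lit 81, nat_lit 108, nat_lit 135])
noncomputable def r31 : WT := (.node (nat_lit 20) r28 (.node (nat_lit 21) r29 r30))
noncomputable def r32 : WT := (.leaf (nat_lit 32787) [nat_lit 81, nat_lit 135, nat_lit 108, nat_lit 135, nat_lit 108, nat_lit 81, nat_lit 135, nat_lit 108, nat_lit 135, nat_lit 108, nat_lit 81, nat_lit 135, nat_lit 108, nat_lit 135, nat_lit 108, nat_lit 81, nat_lit 162, nat_lit 135, nat_lit 108, nat_lit 135, nat_lit 108, nat_lit 81, nat_lit 135, nat_lit 108, nat_lit 135, nat_lit 108, nat_lit 81, nat_lit 135, nat_lit 108, nat_lit 135, nat_lit 108, nat_lit 81, nat_lit 135, nat_lit 108, nat_lit 135, nat_lit 108, nat_lit 81, nat_lit 135, nat_lit 108, nat_lit 135, nat_lit 108, nat_lit 81, nat_lit 162, nat_lit 135, nat_lit 108, nat_lit 135, nat_lit 108, nat_lit 81, nat_lit 135, nat_lit 108, nat_lit 135, nat_lit 108, nat_lit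 81, nat_lit 135, nat_lit 108, nat_lit 135, nat_lit 108, nat_lit 81, nat_lit 135, nat_lit 108, nat_lit 135, nat_lit 108, nat_lit 81, nat_lit 135, nat_lit 108, nat_lit 135, nat_lit 108, nat_lit 81, nat_lit 162, nat_lit 135, nat_lit 108, nat_lit 135, nat_lit 108, nat_lit 81, nat_lit 135, nat_lit 108, nat_lit 135])
noncomputable def r33 : WT := (.leaf (nat_lit 32814) [nat_lit 135, nat_lit 162, nat_lit 81, nat_lit 108, nat_lit 135, nat_lit 108, nat_lit 135, nat_lit 81, nat_lit 108, nat_lit 135, nat_lit 108, nat_lit 135, nat_lit 81, nat_lit 108, nat_lit 135, nat_lit 108, nat_lit 135, nat_lit 81, nat_lit 108, nat_lit 135, nat_lit 108, nat_lit 135, nat_lit 81, nat_lit 108, nat_lit 135, nat_lit 108, nat_lit 135, nat_lit 162, nat_lit 81, nat_lit 108, nat_lit 135, nat_lit 108, nat_lit 135, nat_lit 81, nat_lit 108, nat_lit 135, nat_lit 108, nat_lit 135, nat_lit 81, nat_lit 108, nat_lit 135, nat_lit 108, nat_lit 135, nat_lit 81, nat_lit 108, nat_lit 135, nat_lit 108, nat_lit 135,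 nat_lit 81, nat_lit 108, nat_lit 135, nat_lit 108, nat_lit 135, nat_lit 162, nat_lit 81, nat_lit 108, nat_lit 135, nat_lit 108, nat_lit 135, nat_lit 81, nat_lit 108, nat_lit 135, nat_lit 108, nat_lit 135, nat_lit 81, nat_lit 108, nat_lit 135, nat_lit 108, nat_lit 135, nat_lit 81, nat_lit 108, nat_lit 135, nat_lit 108, nat_lit 135, nat_lit 81, nat_lit 108, nat_lit 135])
noncomputable def r34 : WT := (.leaf (nat_lit 32807) [nat_lit 81, nat_lit 135, nat_lit 108, nat_lit 135, nat_lit 108, nat_lit 81, nat_lit 162, nat_lit 135, nat_lit 108, nat_lit 135, nat_lit 108, nat_lit 81, nat_lit 135, nat_lit 108, nat_lit 135, nat_lit 108, nat_lit 81, nat_lit 135, nat_lit 108, nat_lit 135, nat_lit 108, nat_lit 81, nat_lit 135, nat_lit 108, nat_lit 135, nat_lit 108, nat_lit 81, nat_lit 135, nat_lit 108, nat_lit 135, nat_lit 108, nat_lit 81, nat_lit 162, nat_lit 135, nat_lit 108, nat_lit 135, nat_lit 108, nat_lit 81, nat_lit 135, nat_lit 108, nat_lit 135, nat_lit 108, nat_lit 81, nat_lit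 135, nat_lit 108, nat_lit 135, nat_lit 108, nat_lit 81, nat_lit 135, nat_lit 108, nat_lit 135, nat_lit 108, nat_lit 81, nat_lit 135, nat_lit 108, nat_lit 135, nat_lit 108, nat_lit 81, nat_lit 162, nat_lit 135, nat_lit 108, nat_lit 135, nat_lit 108, nat_lit 81, nat_lit 135, nat_lit 108, nat_lit 135, nat_lit 108, nat_lit 81, nat_lit 135, nat_lit 108, nat_lit 135, nat_lit 108, nat_lit 81, nat_lit 135, nat_lit 108, nat_lit 135])
noncomputable def r35 : WT := (.node (nat_lit 23) r32 (.node (nat_lit 24) r33 r34))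
noncomputable def r36 : WT := (.leaf (nat_lit 32804) [nat_lit 135, nat_lit 81, nat_lit 108, nat_lit 135, nat_lit 108, nat_lit 135, nat_lit 162, nat_lit 81, nat_lit 108, nat_lit 135, nat_lit 108, nat_lit 135, nat_lit 81, nat_lit 108, nat_lit 135, nat_lit 108, nat_lit 135, nat_lit 81, nat_lit 108, nat_lit 135, nat_lit 108, nat_lit 135, nat_lit 81, nat_lit 108, nat_lit 135, nat_lit 108, nat_lit 135, nat_lit 81, nat_lit 108, nat_lit 135, nat_lit 108, nat_lit 135, nat_lit 162, nat_lit 81, nat_lit 108, nat_lit 135, nat_lit 108, nat_lit 135, nat_lit 81, nat_lit 108, nat_lit 135, nat_lit 108, nat_lit 135, nat_lit 81, nat_lit 108, nat_lit 135, nat_lit 108, nat_lit 135, nat_lit 81, nat_lit 108, nat_lit 135, nat_lit 108, nat_lit 135, nat_lit 81, nat_lit 108, nat_lit 135, nat_lit 108, nat_lit 135, nat_lit 162, nat_lit 81, nat_lit 108, nat_lit 135, nat_lit 108, nat_lit 135, nat_lit 81, nat_lit 108, nat_lit 135, nat_lit 108, nat_lit 135, nat_lit 81, nat_lit 108, nat_lit 135, nat_lit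 108, nat_lit 135, nat_lit 81, nat_lit 108, nat_lit 135])
noncomputable def r37 : WT := (.leaf (nat_lit 32800) [nat_lit 135, nat_lit 108, nat_lit 135, nat_lit 81, nat_lit 108, nat_lit 135, nat_lit 108, nat_lit 135, nat_lit 162, nat_lit 81, nat_lit 108, nat_lit 135, nat_lit 108, nat_lit 135, nat_lit 81, nat_lit 108, nat_lit 135, nat_lit 108, nat_lit 135, nat_lit 81, nat_lit 108, nat_lit 135, nat_lit 108, nat_lit 135, nat_lit 81, nat_lit 108, nat_lit 135, nat_lit 108, nat_lit 135, nat_lit 81, nat_lit 108, nat_lit 135, nat_lit 108, nat_lit 135, nat_lit 162, nat_lit 81, nat_lit 108, nat_lit 135, nat_lit 108, nat_lit 135, nat_lit 81, nat_lit 108, nat_lit 135, nat_lit 108, nat_lit 135, nat_lit 81, nat_lit 108, nat_lit 135, nat_lit 108, nat_lit 135, nat_lit 81, nat_lit 108, nat_lit 135, nat_lit 108, nat_lit 135, nat_lit 81, nat_lit 108, nat_lit 135, nat_lit 108, nat_lit 135, nat_lit 162, nat_lit 81, nat_lit 108, nat_lit 135, nat_lit 108, nat_lit 135, nat_lit 81, nat_lit 108,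 nat_lit 135, nat_lit 108, nat_lit 135, nat_lit 81, nat_lit 108, nat_lit 135, nat_lit 108, nat_lit 135, nat_lit 81])
noncomputable def r38 : WT := (.leaf (nat_lit 32790) [nat_lit 135, nat_lit 108, nat_lit 135, nat_lit 81, nat_lit 108, nat_lit 135, nat_lit 108, nat_lit 135, nat_lit 81, nat_lit 108, nat_lit 135, nat_lit 108, nat_lit 135, nat_lit 162, nat_lit 81, nat_lit 108, nat_lit 135, nat_lit 108, nat_lit 135, nat_lit 81, nat_lit 108, nat_lit 135, nat_lit 108, nat_lit 135, nat_lit 81, nat_lit 108, nat_lit 135, nat_lit 108, nat_lit 135, nat_lit 81, nat_lit 108, nat_lit 135, nat_lit 108, nat_lit 135, nat_lit 81, nat_lit 108, nat_lit 135, nat_lit 108, nat_lit 135, nat_lit 162, nat_lit 81, nat_lit 108, nat_lit 135, nat_lit 108, nat_lit 135, nat_lit 81, nat_lit 108, nat_lit 135, nat_lit 108, nat_lit 135, nat_lit 81, nat_lit 108, nat_lit 135, nat_lit 108, nat_lit 135, nat_lit 81, nat_lit 108, nat_lit 135, nat_lit 108, nat_lit 135, nat_lit 81, nat_lit 108, nat_lit 135, nat_lit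 108, nat_lit 135, nat_lit 162, nat_lit 81, nat_lit 108, nat_lit 135, nat_lit 108, nat_lit 135, nat_lit 81, nat_lit 108, nat_lit 135, nat_lit 108, nat_lit 135, nat_lit 81])
noncomputable def r39 : WT := (.node (nat_lit 27) (.node (nat_lit 26) (.leaf (nat_lit 28681) [nat_lit 135, nat_lit 108, nat_lit 135, nat_lit 54, nat_lit 108, nat_lit 135, nat_lit 108, nat_lit 135]) r36) (.node (nat_lit 28) r37 (.node (nat_lit 29) r38 (.leaf (nat_lit 28685) [nat_lit 135, nat_lit 54, nat_lit 108, nat_lit 135, nat_lit 108, nat_lit 135, nat_lit 108, nat_lit 135]))))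
noncomputable def r40 : WT := (.node (nat_lit 13) (.leaf (nat_lit 28684) [nat_lit 135, nat_lit 108, nat_lit 54, nat_lit 135, nat_lit 108, nat_lit 135, nat_lit 108, nat_lit 135]) (.node (nat_lit 17) (.node (nat_lit 15) (.node (nat_lit 14) r22 r23) (.node (nat_lit 16) r24 r25)) (.node (nat_lit 22) (.node (nat_lit 19) r27 r31) (.node (nat_lit 25) r35 r39))))
noncomputable def r41 : WT := (.node (nat_lit 7) (.leaf (nat_lit 28676) [nat_lit 135, nat_lit 108, nat_lit 135, nat_lit 108, nat_lit 135, nat_lit 108, nat_lit 54, nat_lit 135]) (.node (nat_lit 8) (.leaf (nat_lit 28680) [nat_lit 135, nat_lit 108, nat_lit 135, nat_lit 108, nat_lit 54, nat_lit 135, nat_lit 108, nat_lit 135]) (.node (nat_lit 10) (.node (nat_lit 9) r19 (.leaf (nat_lit 28688) [nat_lit 54, nat_lit 135, nat_lit 108, nat_lit 135, nat_lit 108, nat_lit 135, nat_lit 108, nat_lit 135])) (.node (nat_lit 12) r21 r40))))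
noncomputable def w2 : WT := (.node (nat_lit 1) (.leaf (nat_lit 2048) [nat_lit 108]) (.node (nat_lit 3) (.node (nat_lit 2) (.leaf (nat_lit 21504) [nat_lit 216, nat_lit 108, nat_lit 216]) (.leaf (nat_lit 20480) [nat_lit 189, nat_lit 108, nat_lit 189])) (.node (nat_lit 5) (.node (nat_lit 4) (.leaf (nat_lit 19456) [nat_lit 162, nat_lit 108, nat_lit 162]) (.leaf (nat_lit 13314) [nat_lit 81, nat_lit 108, nat_lit 81, nat_lit 108, nat_lit 81])) (.node (nat_lit 6) (.leaf (nat_lit 8194) [nat_lit 54, nat_lit 108, nat_lit 54]) r41))))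
noncomputable def r42 : WT := (.leaf (nat_lit 32771) [nat_lit 108, nat_lit 135, nat_lit 108, nat_lit 81, nat_lit 135, nat_lit 108, nat_lit 135, nat_lit 108, nat_lit 81, nat_lit 135, nat_lit 108, nat_lit 135, nat_lit 108, nat_lit 81, nat_lit 135, nat_lit 108, nat_lit 135, nat_lit 108, nat_lit 81, nat_lit 135, nat_lit 108, nat_lit 135, nat_lit 108, nat_lit 81, nat_lit 162, nat_lit 135, nat_lit 108, nat_lit 135, nat_lit 108, nat_lit 81, nat_lit 135, nat_lit 108, nat_lit 135, nat_lit 108, nat_lit 81, nat_lit 135, nat_lit 108, nat_lit 135, nat_lit 108, nat_lit 81, nat_lit 135, nat_lit 108, nat_lit 135, nat_lit 108, nat_lit 81, nat_lit 135, nat_lit 108, nat_lit 135, nat_lit 108, nat_lit 81, nat_lit 162, nat_lit 135, nat_lit 108, nat_lit 135, nat_lit 108, nat_lit 81, nat_lit 135, nat_lit 108, nat_lit 135, nat_lit 108, nat_lit 81, nat_lit 135, nat_lit 108, nat_lit 135, nat_lit 108, nat_lit 81, nat_lit 135, nat_lit 108, nat_lit 135, nat_lit 108, nat_lit 81, nat_lit 135, nat_lit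 108, nat_lit 135, nat_lit 108, nat_lit 81, nat_lit 162])
noncomputable def r43 : WT := (.leaf (nat_lit 32776) [nat_lit 81, nat_lit 108, nat_lit 135, nat_lit 108, nat_lit 135, nat_lit 81, nat_lit 108, nat_lit 135, nat_lit 108, nat_lit 135, nat_lit 81, nat_lit 108, nat_lit 135, nat_lit 108, nat_lit 135, nat_lit 81, nat_lit 108, nat_lit 135, nat_lit 108, nat_lit 135, nat_lit 162, nat_lit 81, nat_lit 108, nat_lit 135, nat_lit 108, nat_lit 135, nat_lit 81, nat_lit 108, nat_lit 135, nat_lit 108, nat_lit 135, nat_lit 81, nat_lit 108, nat_lit 135, nat_lit 108, nat_lit 135, nat_lit 81, nat_lit 108, nat_lit 135, nat_lit 108, nat_lit 135, nat_lit 81, nat_lit 108, nat_lit 135, nat_lit 108, nat_lit 135, nat_lit 162, nat_lit 81, nat_lit 108, nat_lit 135, nat_lit 108, nat_lit 135, nat_lit 81, nat_lit 108, nat_lit 135, nat_lit 108, nat_lit 135, nat_lit 81, nat_lit 108, nat_lit 135, nat_lit 108, nat_lit 135, nat_lit 81, nat_lit 108, nat_lit 135, nat_lit 108, nat_lit 135, nat_lit 81,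 nat_lit 108, nat_lit 135, nat_lit 108, nat_lit 135, nat_lit 162, nat_lit 81, nat_lit 108, nat_lit 135, nat_lit 108])
noncomputable def r44 : WT := (.node (nat_lit 11) r42 (.node (nat_lit 12) r43 (.leaf (nat_lit 28674) [nat_lit 108, nat_lit 135, nat_lit 108, nat_lit 135, nat_lit 108, nat_lit 135, nat_lit 108, nat_lit 54])))
noncomputable def r45 : WT := (.leaf (nat_lit 32786) [nat_lit 81, nat_lit 108, nat_lit 135, nat_lit 108, nat_lit 135, nat_lit 81, nat_lit 108, nat_lit 135, nat_lit 108, nat_lit 135, nat_lit 81, nat_lit 108, nat_lit 135, nat_lit 108, nat_lit 135, nat_lit 162, nat_lit 81, nat_lit 108, nat_lit 135, nat_lit 108, nat_lit 135, nat_lit 81, nat_lit 108, nat_lit 135, nat_lit 108, nat_lit 135, nat_lit 81, nat_lit 108, nat_lit 135, nat_lit 108, nat_lit 135, nat_lit 81, nat_lit 108, nat_lit 135, nat_lit 108, nat_lit 135, nat_lit 81, nat_lit 108, nat_lit 135, nat_lit 108, nat_lit 135, nat_lit 162, nat_lit 81, nat_lit 108, nat_lit 135, nat_lit 108, nat_lit 135,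 nat_lit 81, nat_lit 108, nat_lit 135, nat_lit 108, nat_lit 135, nat_lit 81, nat_lit 108, nat_lit 135, nat_lit 108, nat_lit 135, nat_lit 81, nat_lit 108, nat_lit 135, nat_lit 108, nat_lit 135, nat_lit 81, nat_lit 108, nat_lit 135, nat_lit 108, nat_lit 135, nat_lit 162, nat_lit 81, nat_lit 108, nat_lit 135, nat_lit 108, nat_lit 135, nat_lit 81, nat_lit 108, nat_lit 135, nat_lit 108])
noncomputable def r46 : WT := (.leaf (nat_lit 32782) [nat_lit 108, nat_lit 135, nat_lit 81, nat_lit 108, nat_lit 135, nat_lit 108, nat_lit 135, nat_lit 81, nat_lit 108, nat_lit 135, nat_lit 108, nat_lit 135, nat_lit 81, nat_lit 108, nat_lit 135, nat_lit 108, nat_lit 135, nat_lit 162, nat_lit 81, nat_lit 108, nat_lit 135, nat_lit 108, nat_lit 135, nat_lit 81, nat_lit 108, nat_lit 135, nat_lit 108, nat_lit 135, nat_lit 81, nat_lit 108, nat_lit 135, nat_lit 108, nat_lit 135, nat_lit 81, nat_lit 108, nat_lit 135, nat_lit 108, nat_lit 135, nat_lit 81, nat_lit 108, nat_lit 135, nat_lit 108, nat_lit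 135, nat_lit 162, nat_lit 81, nat_lit 108, nat_lit 135, nat_lit 108, nat_lit 135, nat_lit 81, nat_lit 108, nat_lit 135, nat_lit 108, nat_lit 135, nat_lit 81, nat_lit 108, nat_lit 135, nat_lit 108, nat_lit 135, nat_lit 81, nat_lit 108, nat_lit 135, nat_lit 108, nat_lit 135, nat_lit 81, nat_lit 108, nat_lit 135, nat_lit 108, nat_lit 135, nat_lit 162, nat_lit 81, nat_lit 108, nat_lit 135, nat_lit 108, nat_lit 135, nat_lit 81, nat_lit 108])
noncomputable def r47 : WT := (.leaf (nat_lit 32796) [nat_lit 81, nat_lit 108, nat_lit 135, nat_lit 108, nat_lit 135, nat_lit 81, nat_lit 108, nat_lit 135, nat_lit 108, nat_lit 135, nat_lit 162, nat_lit 81, nat_lit 108, nat_lit 135, nat_lit 108, nat_lit 135, nat_lit 81, nat_lit 108, nat_lit 135, nat_lit 108, nat_lit 135, nat_lit 81, nat_lit 108, nat_lit 135, nat_lit 108, nat_lit 135, nat_lit 81, nat_lit 108, nat_lit 135, nat_lit 108, nat_lit 135, nat_lit 81, nat_lit 108, nat_lit 135, nat_lit 108, nat_lit 135, nat_lit 162, nat_lit 81,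 nat_lit 108, nat_lit 135, nat_lit 108, nat_lit 135, nat_lit 81, nat_lit 108, nat_lit 135, nat_lit 108, nat_lit 135, nat_lit 81, nat_lit 108, nat_lit 135, nat_lit 108, nat_lit 135, nat_lit 81, nat_lit 108, nat_lit 135, nat_lit 108, nat_lit 135, nat_lit 81, nat_lit 108, nat_lit 135, nat_lit 108, nat_lit 135, nat_lit 162, nat_lit 81, nat_lit 108, nat_lit 135, nat_lit 108, nat_lit 135, nat_lit 81, nat_lit 108, nat_lit 135, nat_lit 108, nat_lit 135, nat_lit 81, nat_lit 108, nat_lit 135, nat_lit 108])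
noncomputable def r48 : WT := (.leaf (nat_lit 32816) [nat_lit 162, nat_lit 81, nat_lit 108, nat_lit 135, nat_lit 108, nat_lit 135, nat_lit 81, nat_lit 108, nat_lit 135, nat_lit 108, nat_lit 135, nat_lit 81, nat_lit 108, nat_lit 135, nat_lit 108, nat_lit 135, nat_lit 81, nat_lit 108, nat_lit 135, nat_lit 108, nat_lit 135, nat_lit 81, nat_lit 108, nat_lit 135, nat_lit 108, nat_lit 135, nat_lit 162, nat_lit 81, nat_lit 108, nat_lit 135, nat_lit 108, nat_lit 135, nat_lit 81, nat_lit 108, nat_lit 135, nat_lit 108, nat_lit 135, nat_lit 81, nat_lit 108, nat_lit 135, nat_lit 108, nat_lit 135, nat_lit 81, nat_lit 108, nat_lit 135, nat_lit 108, nat_lit 135, nat_lit 81, nat_lit 108, nat_lit 135, nat_lit 108, nat_lit 135, nat_lit 162, nat_lit 81, nat_lit 108, nat_lit 135, nat_lit 108, nat_lit 135, nat_lit 81, nat_lit 108, nat_lit 135, nat_lit 108, nat_lit 135, nat_lit 81, nat_lit 108, nat_lit 135, nat_lit 108, nat_lit 135, nat_lit 81, nat_lit 108, nat_lit 135, nat_lit 108, nat_lit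 135, nat_lit 81, nat_lit 108, nat_lit 135, nat_lit 108])
noncomputable def r49 : WT := (.node (nat_lit 15) (.node (nat_lit 14) (.leaf (nat_lit 28687) [nat_lit 54, nat_lit 108, nat_lit 135, nat_lit 108, nat_lit 135, nat_lit 108, nat_lit 135, nat_lit 108]) r45) (.node (nat_lit 16) r46 (.node (nat_lit 17) r47 r48)))
noncomputable def r50 : WT := (.leaf (nat_lit 32772) [nat_lit 108, nat_lit 135, nat_lit 81, nat_lit 108, nat_lit 135, nat_lit 108, nat_lit 135, nat_lit 81, nat_lit 108, nat_lit 135, nat_lit 108, nat_lit 135, nat_lit 81, nat_lit 108, nat_lit 135, nat_lit 108, nat_lit 135, nat_lit 81, nat_lit 108, nat_lit 135, nat_lit 108, nat_lit 135, nat_lit 162, nat_lit 81, nat_lit 108, nat_lit 135, nat_lit 108, nat_lit 135, nat_lit 81, nat_lit 108, nat_lit 135, nat_lit 108, nat_lit 135, nat_lit 81, nat_lit 108, nat_lit 135, nat_lit 108, nat_lit 135, nat_lit 81, nat_lit 108, nat_lit 135, nat_lit 108, nat_lit 135, nat_lit 81, nat_lit 108, nat_lit 135, nat_lit 108, nat_lit 135,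 nat_lit 162, nat_lit 81, nat_lit 108, nat_lit 135, nat_lit 108, nat_lit 135, nat_lit 81, nat_lit 108, nat_lit 135, nat_lit 108, nat_lit 135, nat_lit 81, nat_lit 108, nat_lit 135, nat_lit 108, nat_lit 135, nat_lit 81, nat_lit 108, nat_lit 135, nat_lit 108, nat_lit 135, nat_lit 81, nat_lit 108, nat_lit 135, nat_lit 108, nat_lit 135, nat_lit 162, nat_lit 81, nat_lit 108])
noncomputable def r51 : WT := (.leaf (nat_lit 32805) [nat_lit 108, nat_lit 81, nat_lit 135, nat_lit 108, nat_lit 135, nat_lit 108, nat_lit 81, nat_lit 162, nat_lit 135, nat_lit 108, nat_lit 135, nat_lit 108, nat_lit 81, nat_lit 135, nat_lit 108, nat_lit 135, nat_lit 108, nat_lit 81, nat_lit 135, nat_lit 108, nat_lit 135, nat_lit 108, nat_lit 81, nat_lit 135, nat_lit 108, nat_lit 135, nat_lit 108, nat_lit 81, nat_lit 135, nat_lit 108, nat_lit 135, nat_lit 108, nat_lit 81, nat_lit 162, nat_lit 135, nat_lit 108, nat_lit 135, nat_lit 108, nat_lit 81, nat_lit 135, nat_lit 108, nat_lit 135, nat_lit 108, nat_lit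 81, nat_lit 135, nat_lit 108, nat_lit 135, nat_lit 108, nat_lit 81, nat_lit 135, nat_lit 108, nat_lit 135, nat_lit 108, nat_lit 81, nat_lit 135, nat_lit 108, nat_lit 135, nat_lit 108, nat_lit 81, nat_lit 162, nat_lit 135, nat_lit 108, nat_lit 135, nat_lit 108, nat_lit 81, nat_lit 135, nat_lit 108, nat_lit 135, nat_lit 108, nat_lit 81, nat_lit 135, nat_lit 108, nat_lit 135, nat_lit 108, nat_lit 81, nat_lit 135, nat_lit 108])
noncomputable def r52 : WT := (.leaf (nat_lit 32785) [nat_lit 108, nat_lit 81, nat_lit 135, nat_lit 108, nat_lit 135, nat_lit 108, nat_lit 81, nat_lit 135, nat_lit 108, nat_lit 135, nat_lit 108, nat_lit 81, nat_lit 135, nat_lit 108, nat_lit 135, nat_lit 108, nat_lit 81, nat_lit 162, nat_lit 135, nat_lit 108, nat_lit 135, nat_lit 108, nat_lit 81, nat_lit 135, nat_lit 108, nat_lit 135, nat_lit 108, nat_lit 81, nat_lit 135, nat_lit 108, nat_lit 135, nat_lit 108, nat_lit 81, nat_lit 135, nat_lit 108, nat_lit 135, nat_lit 108, nat_lit 81, nat_lit 135,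 nat_lit 108, nat_lit 135, nat_lit 108, nat_lit 81, nat_lit 162, nat_lit 135, nat_lit 108, nat_lit 135, nat_lit 108, nat_lit 81, nat_lit 135, nat_lit 108, nat_lit 135, nat_lit 108, nat_lit 81, nat_lit 135, nat_lit 108, nat_lit 135, nat_lit 108, nat_lit 81, nat_lit 135, nat_lit 108, nat_lit 135, nat_lit 108, nat_lit 81, nat_lit 135, nat_lit 108, nat_lit 135, nat_lit 108, nat_lit 81, nat_lit 162, nat_lit 135, nat_lit 108, nat_lit 135, nat_lit 108, nat_lit 81, nat_lit 135, nat_lit 108])
noncomputable def r53 : WT := (.leaf (nat_lit 32792) [nat_lit 108, nat_lit 135, nat_lit 81, nat_lit 108, nat_lit 135, nat_lit 108, nat_lit 135, nat_lit 81, nat_lit 108, nat_lit 135, nat_lit 108, nat_lit 135, nat_lit 162, nat_lit 81, nat_lit 108, nat_lit 135, nat_lit 108, nat_lit 135, nat_lit 81, nat_lit 108, nat_lit 135, nat_lit 108, nat_lit 135, nat_lit 81, nat_lit 108, nat_lit 135, nat_lit 108, nat_lit 135, nat_lit 81, nat_lit 108, nat_lit 135, nat_lit 108, nat_lit 135, nat_lit 81, nat_lit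 108, nat_lit 135, nat_lit 108, nat_lit 135, nat_lit 162, nat_lit 81, nat_lit 108, nat_lit 135, nat_lit 108, nat_lit 135, nat_lit 81, nat_lit 108, nat_lit 135, nat_lit 108, nat_lit 135, nat_lit 81, nat_lit 108, nat_lit 135, nat_lit 108, nat_lit 135, nat_lit 81, nat_lit 108, nat_lit 135, nat_lit 108, nat_lit 135, nat_lit 81, nat_lit 108, nat_lit 135, nat_lit 108, nat_lit 135, nat_lit 162, nat_lit 81, nat_lit 108, nat_lit 135, nat_lit 108, nat_lit 135, nat_lit 81, nat_lit 108, nat_lit 135, nat_lit 108, nat_lit 135, nat_lit 81, nat_lit 108])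
noncomputable def r54 : WT := (.leaf (nat_lit 32806) [nat_lit 81, nat_lit 108, nat_lit 135, nat_lit 108, nat_lit 135, nat_lit 162, nat_lit 81, nat_lit 108, nat_lit 135, nat_lit 108, nat_lit 135, nat_lit 81, nat_lit 108, nat_lit 135, nat_lit 108, nat_lit 135, nat_lit 81, nat_lit 108, nat_lit 135, nat_lit 108, nat_lit 135, nat_lit 81, nat_lit 108, nat_lit 135, nat_lit 108, nat_lit 135, nat_lit 81, nat_lit 108, nat_lit 135, nat_lit 108, nat_lit 135, nat_lit 162, nat_lit 81, nat_lit 108, nat_lit 135, nat_lit 108, nat_lit 135, nat_lit 81, nat_lit 108, nat_lit 135, nat_lit 108, nat_lit 135, nat_lit 81, nat_lit 108, nat_lit 135, nat_lit 108, nat_lit 135, nat_lit 81, nat_lit 108, nat_lit 135, nat_lit 108, nat_lit 135, nat_lit 81, nat_lit 108, nat_lit 135, nat_lit 108, nat_lit 135, nat_lit 162, nat_lit 81, nat_lit 108, nat_lit 135, nat_lit 108, nat_lit 135, nat_lit 81, nat_lit 108, nat_lit 135, nat_lit 108, nat_lit 135, nat_lit 81, nat_lit 108, nat_lit 135, nat_lit 108, nat_lit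 135, nat_lit 81, nat_lit 108, nat_lit 135, nat_lit 108])
noncomputable def r55 : WT := (.leaf (nat_lit 32781) [nat_lit 108, nat_lit 135, nat_lit 108, nat_lit 81, nat_lit 135, nat_lit 108, nat_lit 135, nat_lit 108, nat_lit 81, nat_lit 135, nat_lit 108, nat_lit 135, nat_lit 108, nat_lit 81, nat_lit 135, nat_lit 108, nat_lit 135, nat_lit 108, nat_lit 81, nat_lit 162, nat_lit 135, nat_lit 108, nat_lit 135, nat_lit 108, nat_lit 81, nat_lit 135, nat_lit 108, nat_lit 135, nat_lit 108, nat_lit 81, nat_lit 135, nat_lit 108, nat_lit 135, nat_lit 108, nat_lit 81, nat_lit 135, nat_lit 108, nat_lit 135, nat_lit 108, nat_lit 81, nat_lit 135, nat_lit 108, nat_lit 135, nat_lit 108, nat_lit 81, nat_lit 162, nat_lit 135, nat_lit 108, nat_lit 135, nat_lit 108, nat_lit 81, nat_lit 135, nat_lit 108, nat_lit 135, nat_lit 108, nat_lit 81, nat_lit 135, nat_lit 108, nat_lit 135, nat_lit 108, nat_lit 81, nat_lit 135, nat_lit 108, nat_lit 135, nat_lit 108, nat_lit 81, nat_lit 135, nat_lit 108,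 nat_lit 135, nat_lit 108, nat_lit 81, nat_lit 162, nat_lit 135, nat_lit 108, nat_lit 135, nat_lit 108, nat_lit 81])
noncomputable def r56 : WT := (.leaf (nat_lit 32791) [nat_lit 108, nat_lit 135, nat_lit 108, nat_lit 81, nat_lit 135, nat_lit 108, nat_lit 135, nat_lit 108, nat_lit 81, nat_lit 135, nat_lit 108, nat_lit 135, nat_lit 108, nat_lit 81, nat_lit 162, nat_lit 135, nat_lit 108, nat_lit 135, nat_lit 108, nat_lit 81, nat_lit 135, nat_lit 108, nat_lit 135, nat_lit 108, nat_lit 81, nat_lit 135, nat_lit 108, nat_lit 135, nat_lit 108, nat_lit 81, nat_lit 135, nat_lit 108, nat_lit 135, nat_lit 108, nat_lit 81, nat_lit 135, nat_lit 108, nat_lit 135, nat_lit 108, nat_lit 81, nat_lit 162, nat_lit 135, nat_lit 108, nat_lit 135, nat_lit 108, nat_lit 81, nat_lit 135, nat_lit 108, nat_lit 135, nat_lit 108, nat_lit 81, nat_lit 135, nat_lit 108, nat_lit 135, nat_lit 108, nat_lit 81, nat_lit 135, nat_lit 108, nat_lit 135, nat_lit 108, nat_lit 81, nat_lit 135, nat_lit 108, nat_lit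 135, nat_lit 108, nat_lit 81, nat_lit 162, nat_lit 135, nat_lit 108, nat_lit 135, nat_lit 108, nat_lit 81, nat_lit 135, nat_lit 108, nat_lit 135, nat_lit 108, nat_lit 81])
noncomputable def r57 : WT := (.leaf (nat_lit 32811) [nat_lit 108, nat_lit 135, nat_lit 108, nat_lit 81, nat_lit 162, nat_lit 135, nat_lit 108, nat_lit 135, nat_lit 108, nat_lit 81, nat_lit 135, nat_lit 108, nat_lit 135, nat_lit 108, nat_lit 81, nat_lit 135, nat_lit 108, nat_lit 135, nat_lit 108, nat_lit 81, nat_lit 135, nat_lit 108, nat_lit 135, nat_lit 108, nat_lit 81, nat_lit 135, nat_lit 108, nat_lit 135, nat_lit 108, nat_lit 81, nat_lit 162, nat_lit 135, nat_lit 108, nat_lit 135, nat_lit 108, nat_lit 81, nat_lit 135, nat_lit 108, nat_lit 135, nat_lit 108, nat_lit 81, nat_lit 135, nat_lit 108, nat_lit 135, nat_lit 108, nat_lit 81, nat_lit 135, nat_lit 108, nat_lit 135, nat_lit 108, nat_lit 81, nat_lit 135, nat_lit 108, nat_lit 135, nat_lit 108, nat_lit 81, nat_lit 162, nat_lit 135, nat_lit 108,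 nat_lit 135, nat_lit 108, nat_lit 81, nat_lit 135, nat_lit 108, nat_lit 135, nat_lit 108, nat_lit 81, nat_lit 135, nat_lit 108, nat_lit 135, nat_lit 108, nat_lit 81, nat_lit 135, nat_lit 108, nat_lit 135, nat_lit 108, nat_lit 81])
noncomputable def r58 : WT := (.leaf (nat_lit 32802) [nat_lit 108, nat_lit 135, nat_lit 81, nat_lit 108, nat_lit 135, nat_lit 108, nat_lit 135, nat_lit 162, nat_lit 81, nat_lit 108, nat_lit 135, nat_lit 108, nat_lit 135, nat_lit 81, nat_lit 108, nat_lit 135, nat_lit 108, nat_lit 135, nat_lit 81, nat_lit 108, nat_lit 135, nat_lit 108, nat_lit 135, nat_lit 81, nat_lit 108, nat_lit 135, nat_lit 108, nat_lit 135, nat_lit 81, nat_lit 108, nat_lit 135, nat_lit 108, nat_lit 135, nat_lit 162, nat_lit 81, nat_lit 108, nat_lit 135, nat_lit 108, nat_lit 135, nat_lit 81, nat_lit 108, nat_lit 135, nat_lit 108, nat_lit 135, nat_lit 81, nat_lit 108, nat_lit 135, nat_lit 108, nat_lit 135, nat_lit 81, nat_lit 108, nat_lit 135, nat_lit 108, nat_lit 135, nat_lit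 81, nat_lit 108, nat_lit 135, nat_lit 108, nat_lit 135, nat_lit 162, nat_lit 81, nat_lit 108, nat_lit 135, nat_lit 108, nat_lit 135, nat_lit 81, nat_lit 108, nat_lit 135, nat_lit 108, nat_lit 135, nat_lit 81, nat_lit 108, nat_lit 135, nat_lit 108, nat_lit 135, nat_lit 81, nat_lit 108])
noncomputable def r59 : WT := (.leaf (nat_lit 32812) [nat_lit 108, nat_lit 135, nat_lit 162, nat_lit 81, nat_lit 108, nat_lit 135, nat_lit 108, nat_lit 135, nat_lit 81, nat_lit 108, nat_lit 135, nat_lit 108, nat_lit 135, nat_lit 81, nat_lit 108, nat_lit 135, nat_lit 108, nat_lit 135, nat_lit 81, nat_lit 108, nat_lit 135, nat_lit 108, nat_lit 135, nat_lit 81, nat_lit 108, nat_lit 135, nat_lit 108, nat_lit 135, nat_lit 162, nat_lit 81, nat_lit 108, nat_lit 135, nat_lit 108, nat_lit 135, nat_lit 81, nat_lit 108, nat_lit 135, nat_lit 108, nat_lit 135, nat_lit 81, nat_lit 108, nat_lit 135, nat_lit 108, nat_lit 135, nat_lit 81, nat_lit 108, nat_lit 135, nat_lit 108, nat_lit 135, nat_lit 81,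 nat_lit 108, nat_lit 135, nat_lit 108, nat_lit 135, nat_lit 162, nat_lit 81, nat_lit 108, nat_lit 135, nat_lit 108, nat_lit 135, nat_lit 81, nat_lit 108, nat_lit 135, nat_lit 108, nat_lit 135, nat_lit 81, nat_lit 108, nat_lit 135, nat_lit 108, nat_lit 135, nat_lit 81, nat_lit 108, nat_lit 135, nat_lit 108, nat_lit 135, nat_lit 81, nat_lit 108])
noncomputable def r60 : WT := (.leaf (nat_lit 32795) [nat_lit 108, nat_lit 81, nat_lit 135, nat_lit 108, nat_lit 135, nat_lit 108, nat_lit 81, nat_lit 135, nat_lit 108, nat_lit 135, nat_lit 108, nat_lit 81, nat_lit 162, nat_lit 135, nat_lit 108, nat_lit 135, nat_lit 108, nat_lit 81, nat_lit 135, nat_lit 108, nat_lit 135, nat_lit 108, nat_lit 81, nat_lit 135, nat_lit 108, nat_lit 135, nat_lit 108, nat_lit 81, nat_lit 135, nat_lit 108, nat_lit 135, nat_lit 108, nat_lit 81, nat_lit 135, nat_lit 108, nat_lit 135, nat_lit 108, nat_lit 81, nat_lit 162, nat_lit 135, nat_lit 108, nat_lit 135, nat_lit 108, nat_lit 81, nat_lit 135, nat_lit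 108, nat_lit 135, nat_lit 108, nat_lit 81, nat_lit 135, nat_lit 108, nat_lit 135, nat_lit 108, nat_lit 81, nat_lit 135, nat_lit 108, nat_lit 135, nat_lit 108, nat_lit 81, nat_lit 135, nat_lit 108, nat_lit 135, nat_lit 108, nat_lit 81, nat_lit 162, nat_lit 135, nat_lit 108, nat_lit 135, nat_lit 108, nat_lit 81, nat_lit 135, nat_lit 108, nat_lit 135, nat_lit 108, nat_lit 81, nat_lit 135, nat_lit 108])
noncomputable def r61 : WT := (.leaf (nat_lit 32815) [nat_lit 108, nat_lit 81, nat_lit 162, nat_lit 135, nat_lit 108, nat_lit 135, nat_lit 108, nat_lit 81, nat_lit 135, nat_lit 108, nat_lit 135, nat_lit 108, nat_lit 81, nat_lit 135, nat_lit 108, nat_lit 135, nat_lit 108, nat_lit 81, nat_lit 135, nat_lit 108, nat_lit 135, nat_lit 108, nat_lit 81, nat_lit 135, nat_lit 108, nat_lit 135, nat_lit 108, nat_lit 81, nat_lit 162, nat_lit 135, nat_lit 108, nat_lit 135, nat_lit 108, nat_lit 81, nat_lit 135, nat_lit 108, nat_lit 135, nat_lit 108, nat_lit 81, nat_lit 135, nat_lit 108,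 nat_lit 135, nat_lit 108, nat_lit 81, nat_lit 135, nat_lit 108, nat_lit 135, nat_lit 108, nat_lit 81, nat_lit 135, nat_lit 108, nat_lit 135, nat_lit 108, nat_lit 81, nat_lit 162, nat_lit 135, nat_lit 108, nat_lit 135, nat_lit 108, nat_lit 81, nat_lit 135, nat_lit 108, nat_lit 135, nat_lit 108, nat_lit 81, nat_lit 135, nat_lit 108, nat_lit 135, nat_lit 108, nat_lit 81, nat_lit 135, nat_lit 108, nat_lit 135, nat_lit 108, nat_lit 81, nat_lit 135, nat_lit 108])
noncomputable def r62 : WT := (.node (nat_lit 29) r60 r61)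
noncomputable def r63 : WT := (.node (nat_lit 22) (.node (nat_lit 20) (.node (nat_lit 19) r50 r51) (.node (nat_lit 21) r52 r53)) (.node (nat_lit 25) (.node (nat_lit 23) r54 (.node (nat_lit 24) r55 r56)) (.node (nat_lit 27) (.node (nat_lit 26) r57 r58) (.node (nat_lit 28) r59 r62))))
noncomputable def r64 : WT := (.node (nat_lit 7) (.leaf (nat_lit 28678) [nat_lit 108, nat_lit 135, nat_lit 108, nat_lit 135, nat_lit 108, nat_lit 54, nat_lit 135, nat_lit 108]) (.node (nat_lit 9) (.node (nat_lit 8) (.leaf (nat_lit 28682) [nat_lit 108, nat_lit 135, nat_lit 108, nat_lit 54, nat_lit 135, nat_lit 108, nat_lit 135, nat_lit 108]) (.leaf (nat_lit 28686) [nat_lit 108, nat_lit 54, nat_lit 135, nat_lit 108, nat_lit 135, nat_lit 108, nat_lit 135, nat_lit 108])) (.node (nat_lit 13) (.node (nat_lit 10) (.leaf (nat_lit 28675) [nat_lit 108, nat_lit 135, nat_lit 108, nat_lit 135, nat_lit 108, nat_lit 135, nat_lit 54, nat_lit 108]) r44) (.node (nat_lit 18) r49 r63))))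
noncomputable def w3 : WT := (.node (nat_lit 1) (.leaf (nat_lit 3072) [nat_lit 135]) (.node (nat_lit 3) (.node (nat_lit 2) (.leaf (nat_lit 24576) [nat_lit 216, nat_lit 135, nat_lit 216]) (.leaf (nat_lit 23552) [nat_lit 189, nat_lit 135, nat_lit 189])) (.node (nat_lit 5) (.node (nat_lit 4) (.leaf (nat_lit 14338) [nat_lit 81, nat_lit 135, nat_lit 81]) (.leaf (nat_lit 22528) [nat_lit 162, nat_lit 135, nat_lit 162, nat_lit 135, nat_lit 162])) (.node (nat_lit 6) (.leaf (nat_lit 9218) [nat_lit 54, nat_lit 135, nat_lit 54]) r64))))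
noncomputable def r65 : WT := (.leaf (nat_lit 32818) [nat_lit 81, nat_lit 108, nat_lit 135, nat_lit 108, nat_lit 135, nat_lit 81, nat_lit 108, nat_lit 135, nat_lit 108, nat_lit 135, nat_lit 81, nat_lit 108, nat_lit 135, nat_lit 108, nat_lit 135, nat_lit 81, nat_lit 108, nat_lit 135, nat_lit 108, nat_lit 135, nat_lit 81, nat_lit 108, nat_lit 135, nat_lit 108, nat_lit 135, nat_lit 162, nat_lit 81, nat_lit 108, nat_lit 135, nat_lit 108, nat_lit 135, nat_lit 81, nat_lit 108, nat_lit 135, nat_lit 108, nat_lit 135, nat_lit 81, nat_lit 108, nat_lit 135, nat_lit 108, nat_lit 135, nat_lit 81, nat_lit 108, nat_lit 135, nat_lit 108, nat_lit 135, nat_lit 81, nat_lit 108, nat_lit 135, nat_lit 108, nat_lit 135, nat_lit 162, nat_lit 81, nat_lit 108, nat_lit 135, nat_lit 108, nat_lit 135, nat_lit 81, nat_lit 108, nat_lit 135, nat_lit 108, nat_lit 135, nat_lit 81, nat_lit 108, nat_lit 135, nat_lit 108, nat_lit 135, nat_lit 81, nat_lit 108, nat_lit 135, nat_lit 108, nat_lit 135, nat_lit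 81, nat_lit 108, nat_lit 135, nat_lit 108, nat_lit 135])
noncomputable def r66 : WT := (.leaf (nat_lit 32769) [nat_lit 135, nat_lit 108, nat_lit 135, nat_lit 108, nat_lit 81, nat_lit 135, nat_lit 108, nat_lit 135, nat_lit 108, nat_lit 81, nat_lit 135, nat_lit 108, nat_lit 135, nat_lit 108, nat_lit 81, nat_lit 135, nat_lit 108, nat_lit 135, nat_lit 108, nat_lit 81, nat_lit 135, nat_lit 108, nat_lit 135, nat_lit 108, nat_lit 81, nat_lit 162, nat_lit 135, nat_lit 108, nat_lit 135, nat_lit 108, nat_lit 81, nat_lit 135, nat_lit 108, nat_lit 135, nat_lit 108, nat_lit 81, nat_lit 135, nat_lit 108, nat_lit 135, nat_lit 108, nat_lit 81, nat_lit 135, nat_lit 108, nat_lit 135, nat_lit 108, nat_lit 81, nat_lit 135, nat_lit 108, nat_lit 135, nat_lit 108, nat_lit 81, nat_lit 162, nat_lit 135, nat_lit 108, nat_lit 135, nat_lit 108, nat_lit 81, nat_lit 135, nat_lit 108, nat_lit 135, nat_lit 108, nat_lit 81, nat_lit 135, nat_lit 108, nat_lit 135, nat_lit 108, nat_lit 81, nat_lit 135,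 nat_lit 108, nat_lit 135, nat_lit 108, nat_lit 81, nat_lit 135, nat_lit 108, nat_lit 135, nat_lit 108, nat_lit 81])
noncomputable def r67 : WT := (.node (nat_lit 7) (.leaf (nat_lit 10242) [nat_lit 54, nat_lit 162, nat_lit 54]) (.node (nat_lit 8) r65 r66))
noncomputable def w4 : WT := (.node (nat_lit 1) (.leaf (nat_lit 4096) [nat_lit 162]) (.node (nat_lit 3) (.node (nat_lit 2) (.leaf (nat_lit 26624) [nat_lit 216, nat_lit 162, nat_lit 216]) (.leaf (nat_lit 25600) [nat_lit 189, nat_lit 162, nat_lit 189])) (.node (nat_lit 5) (.node (nat_lit 4) (.leaf (nat_lit 15362) [nat_lit 81, nat_lit 162, nat_lit 81]) (.leaf (nat_lit 22530) [nat_lit 135, nat_lit 162, nat_lit 135, nat_lit 162, nat_lit 135])) (.node (nat_lit 6) (.leaf (nat_lit 19458) [nat_lit 108, nat_lit 162, nat_lit 108]) r67))))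
noncomputable def r68 : WT := (.leaf (nat_lit 31747) [nat_lit 81, nat_lit 216, nat_lit 189, nat_lit 81, nat_lit 216, nat_lit 189, nat_lit 81, nat_lit 216, nat_lit 189, nat_lit 81, nat_lit 216, nat_lit 189, nat_lit 81, nat_lit 216])
noncomputable def r69 : WT := (.leaf (nat_lit 31746) [nat_lit 216, nat_lit 81, nat_lit 189, nat_lit 216, nat_lit 81, nat_lit 189, nat_lit 216, nat_lit 81, nat_lit 189, nat_lit 216, nat_lit 81, nat_lit 189, nat_lit 216, nat_lit 81])
noncomputable def r70 : WT := (.leaf (nat_lit 30721) [nat_lit 108, nat_lit 81, nat_lit 54, nat_lit 189, nat_lit 108, nat_lit 81, nat_lit 54, nat_lit 189, nat_lit 108, nat_lit 81, nat_lit 54, nat_lit 189, nat_lit 108, nat_lit 81, nat_lit 54, nat_lit 189, nat_lit 108, nat_lit 81, nat_lit 54])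
noncomputable def r71 : WT := (.leaf (nat_lit 30726) [nat_lit 54, nat_lit 81, nat_lit 108, nat_lit 189, nat_lit 54, nat_lit 81, nat_lit 108, nat_lit 189, nat_lit 54, nat_lit 81, nat_lit 108, nat_lit 189, nat_lit 54, nat_lit 81, nat_lit 108, nat_lit 189, nat_lit 54, nat_lit 81, nat_lit 108])
noncomputable def r72 : WT := (.node (nat_lit 13) r71 (.leaf (nat_lit 29701) [nat_lit 216, nat_lit 54, nat_lit 189, nat_lit 216]))
noncomputable def r73 : WT := (.node (nat_lit 8) (.leaf (nat_lit 29704) [nat_lit 54, nat_lit 216, nat_lit 189, nat_lit 216]) (.node (nat_lit 9) (.leaf (nat_lit 29697) [nat_lit 216, nat_lit 189, nat_lit 216, nat_lit 54]) (.node (nat_lit 11) (.node (nat_lit 10) r68 r69) (.node (nat_lit 12) r70 r72))))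
noncomputable def w5 : WT := (.node (nat_lit 1) (.leaf (nat_lit 5120) [nat_lit 189]) (.node (nat_lit 4) (.node (nat_lit 2) (.leaf (nat_lit 29700) [nat_lit 216, nat_lit 189, nat_lit 54, nat_lit 216]) (.node (nat_lit 3) (.leaf (nat_lit 23554) [nat_lit 135, nat_lit 189, nat_lit 135]) (.leaf (nat_lit 25602) [nat_lit 162, nat_lit 189, nat_lit 162]))) (.node (nat_lit 6) (.node (nat_lit 5) (.leaf (nat_lit 20482) [nat_lit 108, nat_lit 189, nat_lit 108]) (.leaf (nat_lit 11266) [nat_lit 54, nat_lit 189, nat_lit 54])) (.node (nat_lit 7) (.leaf (nat_lit 16386) [nat_lit 81, nat_lit 189, nat_lit 81, nat_lit 189, nat_lit 81]) r73))))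
noncomputable def r74 : WT := (.leaf (nat_lit 31748) [nat_lit 81, nat_lit 189, nat_lit 216, nat_lit 81, nat_lit 189, nat_lit 216, nat_lit 81, nat_lit 189, nat_lit 216, nat_lit 81, nat_lit 189, nat_lit 216, nat_lit 81, nat_lit 189])
noncomputable def r75 : WT := (.leaf (nat_lit 31745) [nat_lit 189, nat_lit 81, nat_lit 216, nat_lit 189, nat_lit 81, nat_lit 216, nat_lit 189, nat_lit 81, nat_lit 216, nat_lit 189, nat_lit 81, nat_lit 216, nat_lit 189, nat_lit 81])
noncomputable def r76 : WT := (.node (nat_lit 7) (.leaf (nat_lit 17410) [nat_lit 81, nat_lit 216, nat_lit 81, nat_lit 216, nat_lit 81]) (.node (nat_lit 9) (.node (nat_lit 8) (.leaf (nat_lit 29699) [nat_lit 189, nat_lit 216, nat_lit 54, nat_lit 189]) (.leaf (nat_lit 29703) [nat_lit 54, nat_lit 189, nat_lit 216, nat_lit 189])) (.node (nat_lit 10) r74 (.node (nat_lit 11) (.leaf (nat_lit 29698) [nat_lit 189, nat_lit 216, nat_lit 189, nat_lit 54]) r75))))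
noncomputable def w6 : WT := (.node (nat_lit 1) (.leaf (nat_lit 6144) [nat_lit 216]) (.node (nat_lit 4) (.node (nat_lit 2) (.leaf (nat_lit 29702) [nat_lit 189, nat_lit 54, nat_lit 216, nat_lit 189]) (.node (nat_lit 3) (.leaf (nat_lit 24578) [nat_lit 135, nat_lit 216, nat_lit 135]) (.leaf (nat_lit 21506) [nat_lit 108, nat_lit 216, nat_lit 108]))) (.node (nat_lit 5) (.leaf (nat_lit 26626) [nat_lit 162, nat_lit 216, nat_lit 162]) (.node (nat_lit 6) (.leaf (nat_lit 12290) [nat_lit 54, nat_lit 216, nat_lit 54]) r76))))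
noncomputable def r77 : WT := (.leaf (nat_lit 30722) [nat_lit 81, nat_lit 108, nat_lit 189, nat_lit 54, nat_lit 81, nat_lit 108, nat_lit 189, nat_lit 54, nat_lit 81, nat_lit 108, nat_lit 189, nat_lit 54, nat_lit 81, nat_lit 108, nat_lit 189, nat_lit 54, nat_lit 81, nat_lit 108, nat_lit 189, nat_lit 54])
noncomputable def r78 : WT := (.leaf (nat_lit 31744) [nat_lit 81, nat_lit 189, nat_lit 216, nat_lit 81, nat_lit 189, nat_lit 216, nat_lit 81, nat_lit 189, nat_lit 216, nat_lit 81, nat_lit 189, nat_lit 216, nat_lit 81, nat_lit 189, nat_lit 216])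
noncomputable def r79 : WT := (.node (nat_lit 9) (.leaf (nat_lit 28683) [nat_lit 135, nat_lit 108, nat_lit 135, nat_lit 54, nat_lit 108, nat_lit 135, nat_lit 108, nat_lit 135, nat_lit 108]) r78)
noncomputable def r80 : WT := (.node (nat_lit 11) (.leaf (nat_lit 7170) [nat_lit 81, nat_lit 54, nat_lit 81, nat_lit 54, nat_lit 81, nat_lit 54, nat_lit 81, nat_lit 54, nat_lit 81, nat_lit 54]) (.leaf (nat_lit 13314) [nat_lit 108, nat_lit 81, nat_lit 108, nat_lit 81, nat_lit 108, nat_lit 81]))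
noncomputable def r81 : WT := (.leaf (nat_lit 31749) [nat_lit 81, nat_lit 216, nat_lit 189, nat_lit 81, nat_lit 216, nat_lit 189, nat_lit 81, nat_lit 216, nat_lit 189, nat_lit 81, nat_lit 216, nat_lit 189, nat_lit 81, nat_lit 216, nat_lit 189])
noncomputable def r82 : WT := (.leaf (nat_lit 32817) [nat_lit 108, nat_lit 81, nat_lit 162, nat_lit 135, nat_lit 108, nat_lit 135, nat_lit 108, nat_lit 81, nat_lit 135, nat_lit 108, nat_lit 135, nat_lit 108, nat_lit 81, nat_lit 135, nat_lit 108, nat_lit 135, nat_lit 108, nat_lit 81, nat_lit 135, nat_lit 108, nat_lit 135, nat_lit 108, nat_lit 81, nat_lit 135, nat_lit 108, nat_lit 135, nat_lit 108, nat_lit 81, nat_lit 162, nat_lit 135, nat_lit 108, nat_lit 135, nat_lit 108, nat_lit 81, nat_lit 135, nat_lit 108, nat_lit 135, nat_lit 108, nat_lit 81, nat_lit 135, nat_lit 108, nat_lit 135, nat_lit 108, nat_lit 81, nat_lit 135, nat_lit 108, nat_lit 135, nat_lit 108, nat_lit 81, nat_lit 135, nat_lit 108, nat_lit 135, nat_lit 108, nat_lit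 81, nat_lit 162, nat_lit 135, nat_lit 108, nat_lit 135, nat_lit 108, nat_lit 81, nat_lit 135, nat_lit 108, nat_lit 135, nat_lit 108, nat_lit 81, nat_lit 135, nat_lit 108, nat_lit 135, nat_lit 108, nat_lit 81, nat_lit 135, nat_lit 108, nat_lit 135, nat_lit 108, nat_lit 81, nat_lit 135, nat_lit 108, nat_lit 135])
noncomputable def r83 : WT := (.leaf (nat_lit 32816) [nat_lit 135, nat_lit 162, nat_lit 81, nat_lit 108, nat_lit 135, nat_lit 108, nat_lit 135, nat_lit 81, nat_lit 108, nat_lit 135, nat_lit 108, nat_lit 135, nat_lit 81, nat_lit 108, nat_lit 135, nat_lit 108, nat_lit 135, nat_lit 81, nat_lit 108, nat_lit 135, nat_lit 108, nat_lit 135, nat_lit 81, nat_lit 108, nat_lit 135, nat_lit 108, nat_lit 135, nat_lit 162, nat_lit 81, nat_lit 108, nat_lit 135, nat_lit 108, nat_lit 135, nat_lit 81, nat_lit 108, nat_lit 135, nat_lit 108, nat_lit 135, nat_lit 81, nat_lit 108, nat_lit 135, nat_lit 108, nat_lit 135, nat_lit 81, nat_lit 108, nat_lit 135, nat_lit 108, nat_lit 135,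 nat_lit 81, nat_lit 108, nat_lit 135, nat_lit 108, nat_lit 135, nat_lit 162, nat_lit 81, nat_lit 108, nat_lit 135, nat_lit 108, nat_lit 135, nat_lit 81, nat_lit 108, nat_lit 135, nat_lit 108, nat_lit 135, nat_lit 81, nat_lit 108, nat_lit 135, nat_lit 108, nat_lit 135, nat_lit 81, nat_lit 108, nat_lit 135, nat_lit 108, nat_lit 135, nat_lit 81, nat_lit 108, nat_lit 135, nat_lit 108])
noncomputable def r84 : WT := (.node (nat_lit 13) r81 (.node (nat_lit 14) r82 r83))
noncomputable def r85 : WT := (.leaf (nat_lit 32786) [nat_lit 135, nat_lit 81, nat_lit 108, nat_lit 135, nat_lit 108, nat_lit 135, nat_lit 81, nat_lit 108, nat_lit 135, nat_lit 108, nat_lit 135, nat_lit 81, nat_lit 108, nat_lit 135, nat_lit 108, nat_lit 135, nat_lit 162, nat_lit 81, nat_lit 108, nat_lit 135, nat_lit 108, nat_lit 135, nat_lit 81, nat_lit 108, nat_lit 135, nat_lit 108, nat_lit 135, nat_lit 81, nat_lit 108, nat_lit 135, nat_lit 108, nat_lit 135, nat_lit 81, nat_lit 108, nat_lit 135, nat_lit 108,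 nat_lit 135, nat_lit 81, nat_lit 108, nat_lit 135, nat_lit 108, nat_lit 135, nat_lit 162, nat_lit 81, nat_lit 108, nat_lit 135, nat_lit 108, nat_lit 135, nat_lit 81, nat_lit 108, nat_lit 135, nat_lit 108, nat_lit 135, nat_lit 81, nat_lit 108, nat_lit 135, nat_lit 108, nat_lit 135, nat_lit 81, nat_lit 108, nat_lit 135, nat_lit 108, nat_lit 135, nat_lit 81, nat_lit 108, nat_lit 135, nat_lit 108, nat_lit 135, nat_lit 162, nat_lit 81, nat_lit 108, nat_lit 135, nat_lit 108, nat_lit 135, nat_lit 81, nat_lit 108, nat_lit 135, nat_lit 108])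
noncomputable def r86 : WT := (.leaf (nat_lit 30727) [nat_lit 54, nat_lit 189, nat_lit 108, nat_lit 81, nat_lit 54, nat_lit 189, nat_lit 108, nat_lit 81, nat_lit 54, nat_lit 189, nat_lit 108, nat_lit 81, nat_lit 54, nat_lit 189, nat_lit 108, nat_lit 81, nat_lit 54, nat_lit 189, nat_lit 108, nat_lit 81])
noncomputable def r87 : WT := (.leaf (nat_lit 30725) [nat_lit 81, nat_lit 54, nat_lit 189, nat_lit 108, nat_lit 81, nat_lit 54, nat_lit 189, nat_lit 108, nat_lit 81, nat_lit 54, nat_lit 189, nat_lit 108, nat_lit 81, nat_lit 54, nat_lit 189, nat_lit 108, nat_lit 81, nat_lit 54, nat_lit 189, nat_lit 108])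
noncomputable def r88 : WT := (.node (nat_lit 16) r85 (.node (nat_lit 17) r86 r87))
noncomputable def r89 : WT := (.leaf (nat_lit 30723) [nat_lit 108, nat_lit 81, nat_lit 54, nat_lit 189, nat_lit 108, nat_lit 81, nat_lit 54, nat_lit 189, nat_lit 108, nat_lit 81, nat_lit 54, nat_lit 189, nat_lit 108, nat_lit 81, nat_lit 54, nat_lit 189, nat_lit 108, nat_lit 81, nat_lit 54, nat_lit 189])
noncomputable def r90 : WT := (.leaf (nat_lit 30720) [nat_lit 54, nat_lit 81, nat_lit 108, nat_lit 189, nat_lit 54, nat_lit 81, nat_lit 108, nat_lit 189, nat_lit 54, nat_lit 81, nat_lit 108, nat_lit 189, nat_lit 54, nat_lit 81, nat_lit 108, nat_lit 189, nat_lit 54, nat_lit 81, nat_lit 108, nat_lit 189])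
noncomputable def r91 : WT := (.node (nat_lit 19) r89 (.node (nat_lit 20) (.leaf (nat_lit 20482) [nat_lit 189, nat_lit 108, nat_lit 189, nat_lit 108]) r90))
noncomputable def r92 : WT := (.node (nat_lit 22) (.leaf (nat_lit 17410) [nat_lit 216, nat_lit 81, nat_lit 216, nat_lit 81, nat_lit 216, nat_lit 81]) (.node (nat_lit 23) (.leaf (nat_lit 21504) [nat_lit 108, nat_lit 216, nat_lit 108, nat_lit 216]) (.leaf (nat_lit 25600) [nat_lit 162, nat_lit 189, nat_lit 162, nat_lit 189])))
noncomputable def r93 : WT := (.node (nat_lit 26) (.node (nat_lit 25) (.leaf (nat_lit 28689) [nat_lit 54, nat_lit 108, nat_lit 135, nat_lit 108, nat_lit 135, nat_lit 108, nat_lit 135, nat_lit 108, nat_lit 135]) (.leaf (nat_lit 14336) [nat_lit 81, nat_lit 135, nat_lit 81, nat_lit 135])) (.node (nat_lit 27) (.leaf (nat_lit 16386) [nat_lit 189, nat_lit 81, nat_lit 189, nat_lit 81, nat_lit 189, nat_lit 81]) (.leaf (nat_lit 28684) [nat_lit 108, nat_lit 135, nat_lit 108, nat_lit 54, nat_lit 135, nat_lit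 108, nat_lit 135, nat_lit 108, nat_lit 135])))
noncomputable def wP : WT := (.node (nat_lit 7) (.node (nat_lit 3) (.node (nat_lit 1) (.leaf (nat_lit 13312) [nat_lit 81, nat_lit 108, nat_lit 81, nat_lit 108, nat_lit 81, nat_lit 108]) (.node (nat_lit 2) (.leaf (nat_lit 7168) [nat_lit 54, nat_lit 81, nat_lit 54, nat_lit 81, nat_lit 54, nat_lit 81, nat_lit 54, nat_lit 81, nat_lit 54, nat_lit 81]) r77)) (.node (nat_lit 5) (.node (nat_lit 4) (.leaf (nat_lit 28686) [nat_lit 135, nat_lit 108, nat_lit 54, nat_lit 135, nat_lit 108, nat_lit 135, nat_lit 108, nat_lit 135, nat_lit 108]) (.leaf (nat_lit 15360) [nat_lit 81, nat_lit 162, nat_lit 81, nat_lit 162])) (.node (nat_lit 6) (.leaf (nat_lit 23552) [nat_lit 135, nat_lit 189, nat_lit 135, nat_lit 189]) (.leaf (nat_lit 16384) [nat_lit 81, nat_lit 189, nat_lit 81, nat_lit 189, nat_lit 81, nat_lit 189])))) (.node (nat_lit 15) (.node (nat_lit 10) (.node (nat_lit 8) (.leaf (nat_lit 17408) [nat_lit 81, nat_lit 216, nat_lit 81, nat_lit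 216, nat_lit 81, nat_lit 216]) r79) (.node (nat_lit 12) r80 r84)) (.node (nat_lit 21) (.node (nat_lit 18) r88 r91) (.node (nat_lit 24) r92 r93))))
noncomputable def P : Par := ⟨tb, nat_lit 243, nat_lit 0x7ffffffffffffffffffffffffffffffffffffffffffffffffffffffffffff, nat_lit 28817, nat_lit 134217727, nat_lit 32767, nat_lit 27, nat_lit 15, nat_lit 22880,
  [nat_lit 54, nat_lit 81, nat_lit 108, nat_lit 135, nat_lit 162, nat_lit 189, nat_lit 216], [nat_lit 54, nat_lit 81, nat_lit 108, nat_lit 135, nat_lit 189, nat_lit 216], wP,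
  (.cons (nat_lit 54) w0 (.cons (nat_lit 81) w1 (.cons (nat_lit 108) w2 (.cons (nat_lit 135) w3 (.cons (nat_lit 162) w4 (.cons (nat_lit 189) w5 (.cons (nat_lit 216) w6 .nil))))))),
  .nil⟩

end Cfsg.Agent.Lib.TCSuz2
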