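import Cfsg.Agent.Lib.TCSuz3D0

set_option autoImplicit false
set_option maxRecDepth 100000

namespace Cfsg.Agent.Lib.TCSuz3
open Cfsg.Agent.Lib.TCCore

noncomputable def tb : T := (.node (nat_lit 720) (.node (nat_lit 360) (.node (nat_lit 120) l0 (.node (nat_lit 240) l1 l2)) (.node (nat_lit 480) l3 (.node (nat_lit 600) l4 l5))) (.node (nat_lit 1080) (.node (nat_lit 840) l6 (.node (nat_lit 960) l7 l8)) (.node (nat_lit 1200) l9 (.node (nat_lit 1320) l10 l11))))
noncomputable def r0 : WT := (.leaf (nat_lit 22528) [nat_lit 60, nat_lit 80, nat_lit 140, nat_lit 40, nat_lit 60, nat_lit 80, nat_lit 140, nat_lit 40, nat_lit 60, nat_lit 80, nat_lit 140, nat_lit 40, nat_lit 60, nat_lit 80, nat_lit 140, nat_lit 40, nat_lit 60, nat_lit 80, nat_lit 140])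
noncomputable def r1 : WT := (.leaf (nat_lit 22535) [nat_lit 140, nat_lit 80, nat_lit 60, nat_lit 40, nat_lit 140, nat_lit 80, nat_lit 60, nat_lit 40, nat_lit 140, nat_lit 80, nat_lit 60, nat_lit 40, nat_lit 140, nat_lit 80, nat_lit 60, nat_lit 40, nat_lit 140, nat_lit 80, nat_lit 60])
noncomputable def r2 : WT := (.node (nat_lit 6) (.leaf (nat_lit 6144) [nat_lit 60, nat_lit 40, nat_lit 60, nat_lit 40, nat_lit 60, nat_lit 40, nat_lit 60, nat_lit 40, nat_lit 60]) (.node (nat_lit 8) (.node (nat_lit 7) (.leaf (nat_lit 21504) [nat_lit 100, nat_lit 80, nat_lit 100, nat_lit 80, nat_lit 100, nat_lit 80, nat_lit 100, nat_lit 80]) (.leaf (nat_lit 21521) [nat_lit 80, nat_lit 100, nat_lit 80, nat_lit 100, nat_lit 80, nat_lit 100, nat_lit 80, nat_lit 100])) (.node (nat_lit 9) r0 r1)))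
noncomputable def w0 : WT := (.node (nat_lit 1) (.leaf (nat_lit 0) [nat_lit 40]) (.node (nat_lit 3) (.node (nat_lit 2) (.leaf (nat_lit 9216) [nat_lit 120, nat_lit 40, nat_lit 120]) (.leaf (nat_lit 8192) [nat_lit 100, nat_lit 40, nat_lit 100])) (.node (nat_lit 4) (.leaf (nat_lit 10240) [nat_lit 140, nat_lit 40, nat_lit 140]) (.node (nat_lit 5) (.leaf (nat_lit 7168) [nat_lit 80, nat_lit 40, nat_lit 80]) r2))))
noncomputable def r3 : WT := (.leaf (nat_lit 22530) [nat_lit 80, nat_lit 140, nat_lit 40, nat_lit 60, nat_lit 80, nat_lit 140, nat_lit 40, nat_lit 60, nat_lit 80, nat_lit 140, nat_lit 40, nat_lit 60, nat_lit 80, nat_lit 140, nat_lit 40, nat_lit 60, nat_lit 80, nat_lit 140, nat_lit 40])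
noncomputable def r4 : WT := (.leaf (nat_lit 22533) [nat_lit 40, nat_lit 140, nat_lit 80, nat_lit 60, nat_lit 40, nat_lit 140, nat_lit 80, nat_lit 60, nat_lit 40, nat_lit 140, nat_lit 80, nat_lit 60, nat_lit 40, nat_lit 140, nat_lit 80, nat_lit 60, nat_lit 40, nat_lit 140, nat_lit 80])
noncomputable def r5 : WT := (.leaf (nat_lit 23552) [nat_lit 80, nat_lit 100, nat_lit 80, nat_lit 100, nat_lit 60, nat_lit 80, nat_lit 100, nat_lit 80, nat_lit 100, nat_lit 60, nat_lit 80, nat_lit 100, nat_lit 80, nat_lit 100, nat_lit 60, nat_lit 80, nat_lit 100, nat_lit 80, nat_lit 100, nat_lit 60, nat_lit 80, nat_lit 100, nat_lit 80, nat_lit 100, nat_lit 120, nat_lit 60, nat_lit 80, nat_lit 100, nat_lit 80, nat_lit 100, nat_lit 60, nat_lit 80, nat_lit 100, nat_lit 80, nat_lit 100, nat_lit 60, nat_lit 80, nat_lit 100, nat_lit 80, nat_lit 100, nat_lit 60, nat_lit 80, nat_lit 100, nat_lit 80, nat_lit 100, nat_lit 60, nat_lit 80, nat_lit 100, nat_lit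 80, nat_lit 100, nat_lit 120, nat_lit 60, nat_lit 80, nat_lit 100, nat_lit 80, nat_lit 100, nat_lit 60, nat_lit 80, nat_lit 100, nat_lit 80, nat_lit 100, nat_lit 60, nat_lit 80, nat_lit 100, nat_lit 80, nat_lit 100, nat_lit 60, nat_lit 80, nat_lit 100, nat_lit 80, nat_lit 100, nat_lit 60, nat_lit 80, nat_lit 100, nat_lit 80, nat_lit 100, nat_lit 120])
noncomputable def r6 : WT := (.leaf (nat_lit 23563) [nat_lit 100, nat_lit 80, nat_lit 100, nat_lit 80, nat_lit 60, nat_lit 100, nat_lit 80, nat_lit 100, nat_lit 80, nat_lit 60, nat_lit 100, nat_lit 80, nat_lit 100, nat_lit 80, nat_lit 60, nat_lit 100, nat_lit 80, nat_lit 100, nat_lit 80, nat_lit 60, nat_lit 120, nat_lit 100, nat_lit 80, nat_lit 100, nat_lit 80, nat_lit 60, nat_lit 100, nat_lit 80, nat_lit 100, nat_lit 80, nat_lit 60, nat_lit 100, nat_lit 80, nat_lit 100, nat_lit 80, nat_lit 60, nat_lit 100, nat_lit 80, nat_lit 100, nat_lit 80, nat_lit 60, nat_lit 100, nat_lit 80, nat_lit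 100, nat_lit 80, nat_lit 60, nat_lit 120, nat_lit 100, nat_lit 80, nat_lit 100, nat_lit 80, nat_lit 60, nat_lit 100, nat_lit 80, nat_lit 100, nat_lit 80, nat_lit 60, nat_lit 100, nat_lit 80, nat_lit 100, nat_lit 80, nat_lit 60, nat_lit 100, nat_lit 80, nat_lit 100, nat_lit 80, nat_lit 60, nat_lit 100, nat_lit 80, nat_lit 100, nat_lit 80, nat_lit 60, nat_lit 120, nat_lit 100, nat_lit 80, nat_lit 100, nat_lit 80])
noncomputable def r7 : WT := (.node (nat_lit 6) (.leaf (nat_lit 6146) [nat_lit 40, nat_lit 60, nat_lit 40, nat_lit 60, nat_lit 40, nat_lit 60, nat_lit 40, nat_lit 60, nat_lit 40]) (.node (nat_lit 8) (.node (nat_lit 7) r3 r4) (.node (nat_lit 9) r5 r6)))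
noncomputable def w1 : WT := (.node (nat_lit 1) (.leaf (nat_lit 1024) [nat_lit 60]) (.node (nat_lit 3) (.node (nat_lit 2) (.leaf (nat_lit 12288) [nat_lit 100, nat_lit 60, nat_lit 100]) (.leaf (nat_lit 13312) [nat_lit 120, nat_lit 60, nat_lit 120])) (.node (nat_lit 4) (.leaf (nat_lit 14336) [nat_lit 140, nat_lit 60, nat_lit 140, nat_lit 60, nat_lit 140]) (.node (nat_lit 5) (.leaf (nat_lit 11264) [nat_lit 80, nat_lit 60, nat_lit 80, nat_lit 60, nat_lit 80]) r7))))
noncomputable def r8 : WT := (.leaf (nat_lit 22532) [nat_lit 140, nat_lit 40, nat_lit 60, nat_lit 80, nat_lit 140, nat_lit 40, nat_lit 60, nat_lit 80, nat_lit 140, nat_lit 40, nat_lit 60, nat_lit 80, nat_lit 140, nat_lit 40, nat_lit 60, nat_lit 80, nat_lit 140, nat_lit 40, nat_lit 60])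
noncomputable def r9 : WT := (.leaf (nat_lit 22531) [nat_lit 60, nat_lit 40, nat_lit 140, nat_lit 80, nat_lit 60, nat_lit 40, nat_lit 140, nat_lit 80, nat_lit 60, nat_lit 40, nat_lit 140, nat_lit 80, nat_lit 60, nat_lit 40, nat_lit 140, nat_lit 80, nat_lit 60, nat_lit 40, nat_lit 140])
noncomputable def r10 : WT := (.node (nat_lit 7) (.leaf (nat_lit 21512) [nat_lit 100, nat_lit 80, nat_lit 100, nat_lit 80, nat_lit 40, nat_lit 100, nat_lit 80, nat_lit 100]) (.node (nat_lit 8) (.leaf (nat_lit 21505) [nat_lit 100, nat_lit 80, nat_lit 100, nat_lit 80, nat_lit 100, nat_lit 80, nat_lit 100, nat_lit 40]) (.node (nat_lit 9) r8 (.node (nat_lit 10) r9 (.leaf (nat_lit 21520) [nat_lit 40, nat_lit 100, nat_lit 80, nat_lit 100, nat_lit 80, nat_lit 100, nat_lit 80, nat_lit 100])))))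
noncomputable def w2 : WT := (.node (nat_lit 1) (.leaf (nat_lit 2048) [nat_lit 80]) (.node (nat_lit 3) (.node (nat_lit 2) (.leaf (nat_lit 16384) [nat_lit 120, nat_lit 80, nat_lit 120]) (.leaf (nat_lit 17408) [nat_lit 140, nat_lit 80, nat_lit 140])) (.node (nat_lit 5) (.node (nat_lit 4) (.leaf (nat_lit 11266) [nat_lit 60, nat_lit 80, nat_lit 60, nat_lit 80, nat_lit 60]) (.leaf (nat_lit 7170) [nat_lit 40, nat_lit 80, nat_lit 40])) (.node (nat_lit 6) (.leaf (nat_lit 21508) [nat_lit 100, nat_lit 80, nat_lit 100, nat_lit 80, nat_lit 100, nat_lit 80, nat_lit 40, nat_lit 100]) r10))))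
noncomputable def r11 : WT := (.node (nat_lit 6) (.leaf (nat_lit 21510) [nat_lit 80, nat_lit 100, nat_lit 80, nat_lit 100, nat_lit 80, nat_lit 40, nat_lit 100, nat_lit 80]) (.node (nat_lit 7) (.leaf (nat_lit 21514) [nat_lit 80, nat_lit 100, nat_lit 80, nat_lit 40, nat_lit 100, nat_lit 80, nat_lit 100, nat_lit 80]) (.node (nat_lit 8) (.leaf (nat_lit 21506) [nat_lit 80, nat_lit 100, nat_lit 80, nat_lit 100, nat_lit 80, nat_lit 100, nat_lit 80, nat_lit 40]) (.leaf (nat_lit 21518) [nat_lit 80, nat_lit 40, nat_lit 100, nat_lit 80, nat_lit 100, nat_lit 80, nat_lit 100, nat_lit 80]))))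
noncomputable def w3 : WT := (.node (nat_lit 1) (.leaf (nat_lit 3072) [nat_lit 100]) (.node (nat_lit 3) (.node (nat_lit 2) (.leaf (nat_lit 12290) [nat_lit 60, nat_lit 100, nat_lit 60]) (.leaf (nat_lit 18432) [nat_lit 120, nat_lit 100, nat_lit 120, nat_lit 100, nat_lit 120])) (.node (nat_lit 4) (.leaf (nat_lit 19456) [nat_lit 140, nat_lit 100, nat_lit 140]) (.node (nat_lit 5) (.leaf (nat_lit 8194) [nat_lit 40, nat_lit 100, nat_lit 40]) r11))))
noncomputable def w4 : WT := (.node (nat_lit 1) (.leaf (nat_lit 4096) [nat_lit 120]) (.node (nat_lit 3) (.node (nat_lit 2) (.leaf (nat_lit 13314) [nat_lit 60, nat_lit 120, nat_lit 60]) (.leaf (nat_lit 20480) [nat_lit 140, nat_lit 120, nat_lit 140])) (.node (nat_lit 4) (.leaf (nat_lit 16386) [nat_lit 80, nat_lit 120, nat_lit 80]) (.node (nat_lit 5) (.leaf (nat_lit 18434) [nat_lit 100, nat_lit 120, nat_lit 100, nat_lit 120, nat_lit 100]) (.leaf (nat_lit 9218) [nat_lit 40, nat_lit 120, nat_lit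 40])))))
noncomputable def r12 : WT := (.leaf (nat_lit 22534) [nat_lit 40, nat_lit 60, nat_lit 80, nat_lit 140, nat_lit 40, nat_lit 60, nat_lit 80, nat_lit 140, nat_lit 40, nat_lit 60, nat_lit 80, nat_lit 140, nat_lit 40, nat_lit 60, nat_lit 80, nat_lit 140, nat_lit 40, nat_lit 60, nat_lit 80])
noncomputable def r13 : WT := (.node (nat_lit 6) (.leaf (nat_lit 10242) [nat_lit 40, nat_lit 140, nat_lit 40]) r12)
noncomputable def w5 : WT := (.node (nat_lit 1) (.leaf (nat_lit 5120) [nat_lit 140]) (.node (nat_lit 3) (.node (nat_lit 2) (.leaf (nat_lit 20482) [nat_lit 120, nat_lit 140, nat_lit 120]) (.leaf (nat_lit 19458) [nat_lit 100, nat_lit 140, nat_lit 100])) (.node (nat_lit 4) (.leaf (nat_lit 14338) [nat_lit 60, nat_lit 140, nat_lit 60, nat_lit 140, nat_lit 60]) (.node (nat_lit 5) (.leaf (nat_lit 17410) [nat_lit 80, nat_lit 140, nat_lit 80]) r13))))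
noncomputable def r14 : WT := (.leaf (nat_lit 22530) [nat_lit 60, nat_lit 80, nat_lit 140, nat_lit 40, nat_lit 60, nat_lit 80, nat_lit 140, nat_lit 40, nat_lit 60, nat_lit 80, nat_lit 140, nat_lit 40, nat_lit 60, nat_lit 80, nat_lit 140, nat_lit 40, nat_lit 60, nat_lit 80, nat_lit 140, nat_lit 40])
noncomputable def r15 : WT := (.leaf (nat_lit 22529) [nat_lit 140, nat_lit 80, nat_lit 60, nat_lit 40, nat_lit 140, nat_lit 80, nat_lit 60, nat_lit 40, nat_lit 140, nat_lit 80, nat_lit 60, nat_lit 40, nat_lit 140, nat_lit 80, nat_lit 60, nat_lit 40, nat_lit 140, nat_lit 80, nat_lit 60, nat_lit 40])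
noncomputable def r16 : WT := (.leaf (nat_lit 22533) [nat_lit 60, nat_lit 40, nat_lit 140, nat_lit 80, nat_lit 60, nat_lit 40, nat_lit 140, nat_lit 80, nat_lit 60, nat_lit 40, nat_lit 140, nat_lit 80, nat_lit 60, nat_lit 40, nat_lit 140, nat_lit 80, nat_lit 60, nat_lit 40, nat_lit 140, nat_lit 80])
noncomputable def r17 : WT := (.leaf (nat_lit 23598) [nat_lit 80, nat_lit 100, nat_lit 120, nat_lit 60, nat_lit 80, nat_lit 100, nat_lit 80, nat_lit 100, nat_lit 60, nat_lit 80, nat_lit 100, nat_lit 80, nat_lit 100, nat_lit 60, nat_lit 80, nat_lit 100, nat_lit 80, nat_lit 100, nat_lit 60, nat_lit 80, nat_lit 100, nat_lit 80, nat_lit 100, nat_lit 60, nat_lit 80, nat_lit 100, nat_lit 80, nat_lit 100, nat_lit 120, nat_lit 60, nat_lit 80, nat_lit 100, nat_lit 80, nat_lit 100, nat_lit 60, nat_lit 80, nat_lit 100, nat_lit 80, nat_lit 100, nat_lit 60, nat_lit 80, nat_lit 100, nat_lit 80, nat_lit 100, nat_lit 60, nat_lit 80, nat_lit 100, nat_lit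 80, nat_lit 100, nat_lit 60, nat_lit 80, nat_lit 100, nat_lit 80, nat_lit 100, nat_lit 120, nat_lit 60, nat_lit 80, nat_lit 100, nat_lit 80, nat_lit 100, nat_lit 60, nat_lit 80, nat_lit 100, nat_lit 80, nat_lit 100, nat_lit 60, nat_lit 80, nat_lit 100, nat_lit 80, nat_lit 100, nat_lit 60, nat_lit 80, nat_lit 100, nat_lit 80, nat_lit 100, nat_lit 60, nat_lit 80, nat_lit 100])
noncomputable def wP : WT := (.node (nat_lit 3) (.node (nat_lit 1) r14 (.node (nat_lit 2) (.leaf (nat_lit 10242) [nat_lit 140, nat_lit 40, nat_lit 140, nat_lit 40]) (.leaf (nat_lit 17410) [nat_lit 140, nat_lit 80, nat_lit 140, nat_lit 80]))) (.node (nat_lit 5) (.node (nat_lit 4) (.leaf (nat_lit 11264) [nat_lit 60, nat_lit 80, nat_lit 60, nat_lit 80, nat_lit 60, nat_lit 80]) (.leaf (nat_lit 6146) [nat_lit 60, nat_lit 40, nat_lit 60, nat_lit 40, nat_lit 60, nat_lit 40, nat_lit 60, nat_lit 40, nat_lit 60, nat_lit 40])) (.node (nat_lit 6) r15 (.node (nat_lit 7)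 r16 r17))))
noncomputable def P : Par := ⟨tb, nat_lit 160, nat_lit 0xffffffffffffffffffffffffffffffffffffffff, nat_lit 1377, nat_lit 1048575, nat_lit 2047, nat_lit 20, nat_lit 11, nat_lit 416,
  [nat_lit 40, nat_lit 60, nat_lit 80, nat_lit 100, nat_lit 120, nat_lit 140], [nat_lit 40, nat_lit 60, nat_lit 80, nat_lit 100, nat_lit 120], wP,
  (.cons (nat_lit 40) w0 (.cons (nat_lit 60) w1 (.cons (nat_lit 80) w2 (.cons (nat_lit 100) w3 (.cons (nat_lit 120) w4 (.cons (nat_lit 140) w5 .nil)))))),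
  .nil⟩

end Cfsg.Agent.Lib.TCSuz3
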