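import Cfsg.Agent.Lib.TCSuzH1P

set_option autoImplicit false
set_option maxRecDepth 100000

namespace Cfsg.Agent.Lib.TCSuzH1
open Cfsg.Agent.Lib.TCCore

theorem k0 : P.RowsS 0 40 := P.rowsS_of_chk _ _ [nat_lit 0x4041004180404000505010501060707070300014040804040c1c08040c04041808081c18040001050101020401020109010106000080404100404100c0408041014080c0c140404080c040001040103010302030601010101080000404080810040804180404180400020105010101010301020103010505010100004080404040c041404141c080c20040406b80004140001020601060102090101010000404080404041408040c040418080804041c040002010103010401020404040401050000406a802a800041408040c042c180808180400030101030109070102010c0107090000806980298000404080408040c04042808080001010104010201030102010405020303010101400050001401000140005004010040100, nat_lit 0x104010400008040418041004081010101004200814040001020103010401030505050103030201010000410040c040c080c1804080418000104010102040102010101010600008041c100408100c0408041014080c0c08040400010403020204010201080101060503010103010001410040c040c080c18042410040400010101060104010204040404000082004040408040c0408041014080c0c0404041808000501010301040103050505000040418040408100c0408041014080c0c040404040001070606010401020404040401070300008040c08081004080428040418100404081c04100005050105010607070708010205010000404040c0410040c1414140804000301010102080105010507080808, nat_lit 0x104010400008041818041004081010101004140003010606010801050105070808080300014040804040c1c08040c04042c0808040002010201010307020103010106020201010101050001404040c0410040c141414040c0c08040c0005040103010302030601040104010601040001414041404181c1c1c040c04080c0c0001040103010302030601]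 (by decide +kernel)
theorem k1 : P.RowsT 40 43 := P.rowsT_of_chk _ _ [nat_lit 0x4000010100004008040002003] (by decide +kernel)
theorem s0 : P.RowsS 0 40 := k0
theorem t0 : P.RowsT 40 43 := k1

end Cfsg.Agent.Lib.TCSuzH1
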