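import Cfsg.Agent.Lib.TCDefs

set_option autoImplicit false
set_option maxRecDepth 100000

namespace Cfsg.Agent.Lib.TCSuzH1
open Cfsg.Agent.Lib.TCCore

noncomputable def l0 : T := .leaf (nat_lit 0) (nat_lit 0x1fffffffffc593ffffffffffffffffffffffffffffffff8923ffffff32400d3fffffffffffffffe1c60a2fffcf55fffffffffffffffffffffffffea4504e7fffffffff0a2830ffffffffffa0a7fffffffffffffffffffffffffd2860b671437a1d50e681a88f49f50f682b438a1bd0de86d41fa1bd0de86f47ffc16d4279f39596749267913cc9e6ce767993cb9e64f2e7953cb9e5cf2e7fff8340bc85659d34f9a42b3d49d34d98ecd3269b34b9a64d266a134c9a54dfff06e9698a493242d3c65a62f3259729c964cb2a5912c9963cb2a5932c897ffe0dd2b2989a7cf3652ac93625492e437244922c91648d244922c90e48d27ffc153463a11ca6662f4e3a519878d3a823a11cf8e8473e3a31cb8e5c7463fff82729454e29d14f8a7c542237099810c5522ab1538aa45522a71528aac5fff047d4869c34219f0ce1283a66039121869c34a1a90d3869c34a1a50d287ffe09ca50518274136030f1a7cd446a141052828c13e09d04b828c1460a307ffc16d41f9efcc166066e030f4f7e73e81fa4fd37e9bf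51fa4fd37e8bf51ffff82a67bd39e906ca38cbe6602ee998cfbd35e98f4e7a6bd41e94f4a7a83dfff04e4d7673a61a2cdd1866086e330f1e7663b35d96ecc767bb21d92ecd77ffe0c32cdcb426b931c9ce4f7243128a3ce4e726b931c96e4d725b935c9ae7ffc1d52502ee1774ab52db94dc65e41c75b92dca6e43725b98dc66e3b729bfff830e30d1c72cd997639724a28cc634e3519a8ad476a33519a88d456a2b5fff04e445a2ab1979719360b4918d2ad1b662b311988cc36613311986cc367ffe0b624bc3523311d8292146629525c34c42620b10d884c426213105880c7ffc1d50d426c4d8e2b32e522b433a3b66577ebc05e02f0577ebc05df2f057fff82a482b15986b425892f1e58264118c2cf5678b3f59f2cf567ab3e591adfff07546648ad05382a0f524ccfc87e39755eaaf1576aba5512aed578abc57ffe0b688c425e02a3939d31055e924102ca3951d28e1472a3b5102885474a7ffc186bd36098f5202af137a9bb486a25536c9b74daa6d936e9a04cfa6e13fff823dda4f12704b820850351748bc4caa4e127293949d24e127293749d25fff054ad457223103a38e487503937291445aa2d116c8b545b227913c8b647ffe0d098e4a6cd8e35170839408a82c92683441aa0cd06883440ea07106a87ffc11ea4b0a2aa3d59ed89603ac3d59e80f5a7ae3d61eb4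f547ae3d69eacffff837569268a96f0935b8cd4592dc45d01ccce687323999cd4e6073139a1dfff061883059028e92f303589b1da8ac9f3581abcd606af3571abcd5e6ae37ffe0ea1240935698b0c5462b3038d0963c62e31698b8c5a62d31618b4c5a67ffc138a05547901070430a90d112c81640b265942c9164cb2a5902c89650bfff82d8d9c2c9205112a43434b96e46608945ca3051928d145ca2e51628d15fff06e8c2971c2ab729371db9e3107ca1225992c89664b2259126c9304b227ffe0d01868a31ca4689664322040f0153643021890c4864430205567086247ffc13921a0e31e44e20bcf704c0544907075e3b01d70ebc75a3b01d78eb87fff837440f1da5632c18354d8e84b0830e8cb065632c1958cac65832b1960dfff05b063d3961299afb63950ca850d51f1550aac5522aa1538aac5542a917ffe0d008205101043cb9aecf848884842821710c085442c218109084c42c27ffc1a0082080cd7d30a983094ac0d586843481a50d186903441ac0d2068c3fff83a80820c31e58310204142061040818410206104081840c20610308185fff075050c1040810208204082081020810410204104081040820410208107ffe000)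

end Cfsg.Agent.Lib.TCSuzH1
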