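import Cfsg.Agent.Lib.TCSuzH1D0

set_option autoImplicit false
set_option maxRecDepth 100000

namespace Cfsg.Agent.Lib.TCSuzH1
open Cfsg.Agent.Lib.TCCore

noncomputable def tb : T := l0
noncomputable def w0 : WT := (.node (nat_lit 4) (.node (nat_lit 2) (.node (nat_lit 1) (.leaf (nat_lit 34818) [nat_lit 156, nat_lit 91, nat_lit 65, nat_lit 52, nat_lit 143]) (.leaf (nat_lit 59402) [nat_lit 221, nat_lit 65, nat_lit 234, nat_lit 130, nat_lit 65])) (.node (nat_lit 3) (.leaf (nat_lit 56322) [nat_lit 234, nat_lit 130, nat_lit 65, nat_lit 221]) (.leaf (nat_lit 41986) [nat_lit 182, nat_lit 117, nat_lit 65, nat_lit 52, nat_lit 169]))) (.node (nat_lit 6) (.node (nat_lit 5) (.leaf (nat_lit 44044) [nat_lit 169, nat_lit 52, nat_lit 182, nat_lit 91, nat_lit 52, nat_lit 39]) (.leaf (nat_lit 52236) [nat_lit 195, nat_lit 65, nat_lit 208, nat_lit 117, nat_lit 91, nat_lit 39])) (.node (nat_lit 7) (.leaf (nat_lit 37898) [nat_lit 39, nat_lit 143, nat_lit 65, nat_lit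 156, nat_lit 117, nat_lit 65]) (.node (nat_lit 8) (.leaf (nat_lit 49154) [nat_lit 208, nat_lit 91, nat_lit 65, nat_lit 52, nat_lit 26, nat_lit 195]) (.leaf (nat_lit 58376) [nat_lit 39, nat_lit 221, nat_lit 52, nat_lit 234, nat_lit 91])))))
noncomputable def w1 : WT := (.node (nat_lit 3) (.node (nat_lit 2) (.node (nat_lit 1) (.leaf (nat_lit 51210) [nat_lit 195, nat_lit 52, nat_lit 208, nat_lit 130, nat_lit 52]) (.leaf (nat_lit 58378) [nat_lit 221, nat_lit 52, nat_lit 234, nat_lit 91, nat_lit 26])) (.leaf (nat_lit 57346) [nat_lit 234, nat_lit 117, nat_lit 65, nat_lit 52, nat_lit 39, nat_lit 221])) (.node (nat_lit 5) (.node (nat_lit 4) (.leaf (nat_lit 43010) [nat_lit 182, nat_lit 65, nat_lit 39, nat_lit 169]) (.leaf (nat_lit 45064) [nat_lit 169, nat_lit 65, nat_lit 182, nat_lit 130])) (.node (nat_lit 6) (.leaf (nat_lit 35842) [nat_lit 156, nat_lit 130, nat_lit 52, nat_lit 39, nat_lit 143]) (.node (nat_lit 7) (.leaf (nat_lit 36870) [nat_lit 143,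 nat_lit 52, nat_lit 156]) (.leaf (nat_lit 50178) [nat_lit 208, nat_lit 52, nat_lit 195])))))
noncomputable def r0 : WT := (.node (nat_lit 8) (.leaf (nat_lit 51202) [nat_lit 208, nat_lit 130, nat_lit 52, nat_lit 39, nat_lit 195]) (.leaf (nat_lit 2048) [nat_lit 52]))
noncomputable def r1 : WT := (.leaf (nat_lit 73730) [nat_lit 195, nat_lit 234, nat_lit 169, nat_lit 195, nat_lit 143, nat_lit 169, nat_lit 234, nat_lit 143, nat_lit 52, nat_lit 195, nat_lit 234, nat_lit 169, nat_lit 195, nat_lit 143, nat_lit 169, nat_lit 234, nat_lit 143])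
noncomputable def r2 : WT := (.node (nat_lit 10) (.leaf (nat_lit 51208) [nat_lit 39, nat_lit 195, nat_lit 52, nat_lit 208, nat_lit 130]) r1)
noncomputable def w2 : WT := (.node (nat_lit 3) (.node (nat_lit 1) (.leaf (nat_lit 50182) [nat_lit 195, nat_lit 39, nat_lit 208]) (.node (nat_lit 2) (.leaf (nat_lit 58370) [nat_lit 234, nat_lit 91, nat_lit 26, nat_lit 39, nat_lit 221]) (.leaf (nat_lit 36866) [nat_lit 156, nat_lit 39, nat_lit 143]))) (.node (nat_lit 5) (.node (nat_lit 4) (.leaf (nat_lit 44034) [nat_lit 182, nat_lit 91, nat_lit 52, nat_lit 39, nat_lit 26, nat_lit 169]) (.leaf (nat_lit 41994) [nat_lit 169, nat_lit 26, nat_lit 182, nat_lit 117, nat_lit 65])) (.node (nat_lit 7) (.node (nat_lit 6) (.leaf (nat_lit 57354) [nat_lit 39, nat_lit 221, nat_lit 39, nat_lit 234, nat_lit 117, nat_lit 65]) (.leaf (nat_lit 35848) [nat_lit 39, nat_lit 143, nat_lit 39, nat_lit 156, nat_lit 130])) (.node (nat_lit 9) r0 r2))))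
noncomputable def r3 : WT := (.node (nat_lit 9) (.leaf (nat_lit 59400) [nat_lit 26, nat_lit 221, nat_lit 65, nat_lit 234, nat_lit 130]) (.leaf (nat_lit 37896) [nat_lit 26, nat_lit 39, nat_lit 143, nat_lit 65, nat_lit 156, nat_lit 117]))
noncomputable def r4 : WT := (.node (nat_lit 11) (.leaf (nat_lit 52235) [nat_lit 208, nat_lit 26, nat_lit 39, nat_lit 78, nat_lit 104, nat_lit 195]) (.leaf (nat_lit 57352) [nat_lit 52, nat_lit 39, nat_lit 221, nat_lit 39, nat_lit 234, nat_lit 117]))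
noncomputable def w3 : WT := (.node (nat_lit 4) (.node (nat_lit 2) (.node (nat_lit 1) (.leaf (nat_lit 56328) [nat_lit 221, nat_lit 26, nat_lit 234, nat_lit 130]) (.leaf (nat_lit 37890) [nat_lit 156, nat_lit 117, nat_lit 65, nat_lit 26, nat_lit 39, nat_lit 143])) (.node (nat_lit 3) (.leaf (nat_lit 43014) [nat_lit 39, nat_lit 169, nat_lit 39, nat_lit 182]) (.leaf (nat_lit 45058) [nat_lit 182, nat_lit 130, nat_lit 39, nat_lit 169]))) (.node (nat_lit 6) (.node (nat_lit 5) (.leaf (nat_lit 59394) [nat_lit 234, nat_lit 130, nat_lit 65, nat_lit 26, nat_lit 221]) (.leaf (nat_lit 34824) [nat_lit 52, nat_lit 143, nat_lit 26, nat_lit 156, nat_lit 91])) (.node (nat_lit 8) (.node (nat_lit 7) (.leaf (nat_lit 52226) [nat_lit 208, nat_lit 117, nat_lit 91, nat_lit 39, nat_lit 26, nat_lit 195]) (.leaf (nat_lit 41992) [nat_lit 52, nat_lit 169, nat_lit 26, nat_lit 182, nat_lit 117])) (.node (nat_lit 10) r3 r4))))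
noncomputable def w4 : WT := (.node (nat_lit 1) (.leaf (nat_lit 4096) [nat_lit 91]) (.node (nat_lit 3) (.node (nat_lit 2) (.leaf (nat_lit 46082) [nat_lit 182, nat_lit 117, nat_lit 39, nat_lit 169]) (.leaf (nat_lit 38914) [nat_lit 156, nat_lit 91, nat_lit 117, nat_lit 52, nat_lit 143])) (.node (nat_lit 4) (.leaf (nat_lit 60418) [nat_lit 234, nat_lit 91, nat_lit 117, nat_lit 26, nat_lit 221]) (.leaf (nat_lit 53250) [nat_lit 208, nat_lit 91, nat_lit 117, nat_lit 52, nat_lit 195]))))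
noncomputable def w5 : WT := (.node (nat_lit 1) (.leaf (nat_lit 4098) [nat_lit 78]) (.node (nat_lit 3) (.node (nat_lit 2) (.leaf (nat_lit 54278) [nat_lit 52, nat_lit 39, nat_lit 195, nat_lit 104, nat_lit 208]) (.leaf (nat_lit 61446) [nat_lit 65, nat_lit 221, nat_lit 104, nat_lit 234])) (.node (nat_lit 4) (.leaf (nat_lit 47112) [nat_lit 65, nat_lit 169, nat_lit 104, nat_lit 182, nat_lit 117]) (.node (nat_lit 5) (.leaf (nat_lit 39944) [nat_lit 39, nat_lit 143, nat_lit 104, nat_lit 156, nat_lit 130]) (.leaf (nat_lit 38921) [nat_lit 156, nat_lit 52, nat_lit 104, nat_lit 78, nat_lit 143])))))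
noncomputable def w6 : WT := (.node (nat_lit 1) (.leaf (nat_lit 5120) [nat_lit 117]) (.node (nat_lit 3) (.node (nat_lit 2) (.leaf (nat_lit 61442) [nat_lit 234, nat_lit 91, nat_lit 65, nat_lit 221]) (.leaf (nat_lit 39938) [nat_lit 156, nat_lit 130, nat_lit 91, nat_lit 39, nat_lit 143])) (.node (nat_lit 4) (.leaf (nat_lit 47106) [nat_lit 182, nat_lit 117, nat_lit 91, nat_lit 65, nat_lit 169]) (.leaf (nat_lit 54274) [nat_lit 208, nat_lit 91, nat_lit 52, nat_lit 39, nat_lit 195]))))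
noncomputable def r5 : WT := (.node (nat_lit 6) (.leaf (nat_lit 39945) [nat_lit 156, nat_lit 39, nat_lit 78, nat_lit 130, nat_lit 143]) (.leaf (nat_lit 52230) [nat_lit 91, nat_lit 39, nat_lit 26, nat_lit 195, nat_lit 65, nat_lit 208]))
noncomputable def w7 : WT := (.node (nat_lit 1) (.leaf (nat_lit 5122) [nat_lit 104]) (.node (nat_lit 3) (.node (nat_lit 2) (.leaf (nat_lit 60424) [nat_lit 26, nat_lit 221, nat_lit 78, nat_lit 234, nat_lit 91]) (.leaf (nat_lit 46086) [nat_lit 39, nat_lit 169, nat_lit 78, nat_lit 182])) (.node (nat_lit 4) (.leaf (nat_lit 53256) [nat_lit 52, nat_lit 195, nat_lit 78, nat_lit 208, nat_lit 91]) (.node (nat_lit 5) (.leaf (nat_lit 38920) [nat_lit 52, nat_lit 143, nat_lit 78, nat_lit 156, nat_lit 91]) r5))))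
noncomputable def r6 : WT := (.node (nat_lit 8) (.leaf (nat_lit 55298) [nat_lit 208, nat_lit 130, nat_lit 195]) (.leaf (nat_lit 35846) [nat_lit 52, nat_lit 39, nat_lit 143, nat_lit 39, nat_lit 156]))
noncomputable def w8 : WT := (.node (nat_lit 3) (.node (nat_lit 2) (.node (nat_lit 1) (.leaf (nat_lit 48134) [nat_lit 169, nat_lit 130, nat_lit 182]) (.leaf (nat_lit 55302) [nat_lit 195, nat_lit 130, nat_lit 208])) (.leaf (nat_lit 62466) [nat_lit 234, nat_lit 130, nat_lit 221])) (.node (nat_lit 5) (.node (nat_lit 4) (.leaf (nat_lit 40962) [nat_lit 156, nat_lit 130, nat_lit 143]) (.leaf (nat_lit 40966) [nat_lit 143, nat_lit 130, nat_lit 156])) (.node (nat_lit 6) (.leaf (nat_lit 48130) [nat_lit 182, nat_lit 130, nat_lit 169]) (.node (nat_lit 7) (.leaf (nat_lit 62470) [nat_lit 221, nat_lit 130, nat_lit 234]) r6))))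
noncomputable def w9 : WT := (.node (nat_lit 1) (.leaf (nat_lit 7168) [nat_lit 156]) (.node (nat_lit 3) (.node (nat_lit 2) (.leaf (nat_lit 70656) [nat_lit 195, nat_lit 156, nat_lit 208]) (.leaf (nat_lit 71680) [nat_lit 221, nat_lit 156, nat_lit 234])) (.node (nat_lit 4) (.leaf (nat_lit 71683) [nat_lit 234, nat_lit 156, nat_lit 221]) (.node (nat_lit 5) (.leaf (nat_lit 63488) [nat_lit 143, nat_lit 143]) (.leaf (nat_lit 67588) [nat_lit 182, nat_lit 156, nat_lit 182, nat_lit 143, nat_lit 169])))))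
noncomputable def w10 : WT := (.node (nat_lit 1) (.leaf (nat_lit 7170) [nat_lit 143]) (.node (nat_lit 3) (.node (nat_lit 2) (.leaf (nat_lit 71684) [nat_lit 234, nat_lit 143, nat_lit 221]) (.leaf (nat_lit 70663) [nat_lit 195, nat_lit 143, nat_lit 208])) (.node (nat_lit 5) (.node (nat_lit 4) (.leaf (nat_lit 63489) [nat_lit 156, nat_lit 156]) (.leaf (nat_lit 67592) [nat_lit 182, nat_lit 143, nat_lit 169, nat_lit 143, nat_lit 182])) (.node (nat_lit 6) (.leaf (nat_lit 70660) [nat_lit 208, nat_lit 143, nat_lit 195]) (.leaf (nat_lit 67591) [nat_lit 182, nat_lit 156, nat_lit 169, nat_lit 143, nat_lit 169])))))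
noncomputable def w11 : WT := (.node (nat_lit 1) (.leaf (nat_lit 8192) [nat_lit 182]) (.node (nat_lit 3) (.node (nat_lit 2) (.leaf (nat_lit 64512) [nat_lit 169, nat_lit 169]) (.leaf (nat_lit 67586) [nat_lit 143, nat_lit 182, nat_lit 156, nat_lit 182, nat_lit 143])) (.node (nat_lit 4) (.leaf (nat_lit 68608) [nat_lit 195, nat_lit 169, nat_lit 208, nat_lit 182, nat_lit 208]) (.node (nat_lit 5) (.leaf (nat_lit 72704) [nat_lit 221, nat_lit 182, nat_lit 26, nat_lit 39, nat_lit 78, nat_lit 104, nat_lit 234, nat_lit 117, nat_lit 91, nat_lit 39, nat_lit 26]) (.leaf (nat_lit 68612) [nat_lit 208, nat_lit 182, nat_lit 208, nat_lit 169, nat_lit 195])))))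
noncomputable def w12 : WT := (.node (nat_lit 1) (.leaf (nat_lit 8194) [nat_lit 169]) (.node (nat_lit 3) (.node (nat_lit 2) (.leaf (nat_lit 72727) [nat_lit 26, nat_lit 39, nat_lit 78, nat_lit 104, nat_lit 221, nat_lit 117, nat_lit 91, nat_lit 39, nat_lit 26, nat_lit 169, nat_lit 234]) (.leaf (nat_lit 67590) [nat_lit 156, nat_lit 182, nat_lit 143, nat_lit 169, nat_lit 143])) (.node (nat_lit 5) (.node (nat_lit 4) (.leaf (nat_lit 72708) [nat_lit 26, nat_lit 39, nat_lit 78, nat_lit 104, nat_lit 234, nat_lit 117, nat_lit 91, nat_lit 39, nat_lit 26, nat_lit 169, nat_lit 221]) (.leaf (nat_lit 64513) [nat_lit 182, nat_lit 182])) (.node (nat_lit 6) (.leaf (nat_lit 67594) [nat_lit 143, nat_lit 169, nat_lit 143, nat_lit 182, nat_lit 156]) (.leaf (nat_lit 67593) [nat_lit 156, nat_lit 169, nat_lit 143, nat_lit 169, nat_lit 156])))))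
noncomputable def r7 : WT := (.leaf (nat_lit 73738) [nat_lit 143, nat_lit 169, nat_lit 234, nat_lit 143, nat_lit 52, nat_lit 195, nat_lit 234, nat_lit 169, nat_lit 195, nat_lit 143, nat_lit 169, nat_lit 234, nat_lit 143, nat_lit 52, nat_lit 195, nat_lit 234, nat_lit 169])
noncomputable def r8 : WT := (.node (nat_lit 7) (.leaf (nat_lit 69635) [nat_lit 221, nat_lit 208, nat_lit 234, nat_lit 208, nat_lit 221]) r7)
noncomputable def w13 : WT := (.node (nat_lit 1) (.leaf (nat_lit 9216) [nat_lit 208]) (.node (nat_lit 3) (.node (nat_lit 2) (.leaf (nat_lit 70658) [nat_lit 156, nat_lit 208, nat_lit 143]) (.leaf (nat_lit 65536) [nat_lit 195, nat_lit 195])) (.node (nat_lit 5) (.node (nat_lit 4) (.leaf (nat_lit 68610) [nat_lit 169, nat_lit 208, nat_lit 182, nat_lit 208, nat_lit 169]) (.leaf (nat_lit 68609) [nat_lit 169, nat_lit 195, nat_lit 182, nat_lit 208, nat_lit 182])) (.node (nat_lit 6) (.leaf (nat_lit 69636) [nat_lit 234, nat_lit 208, nat_lit 234,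 nat_lit 195, nat_lit 221]) r8))))
noncomputable def r9 : WT := (.leaf (nat_lit 73741) [nat_lit 52, nat_lit 156, nat_lit 221, nat_lit 182, nat_lit 156, nat_lit 208, nat_lit 182, nat_lit 221, nat_lit 208, nat_lit 52, nat_lit 156, nat_lit 221, nat_lit 182, nat_lit 156, nat_lit 208, nat_lit 182, nat_lit 221])
noncomputable def r10 : WT := (.node (nat_lit 7) (.leaf (nat_lit 68614) [nat_lit 182, nat_lit 208, nat_lit 169, nat_lit 195, nat_lit 169]) r9)
noncomputable def w14 : WT := (.node (nat_lit 1) (.leaf (nat_lit 9218) [nat_lit 195]) (.node (nat_lit 3) (.node (nat_lit 2) (.leaf (nat_lit 68618) [nat_lit 169, nat_lit 195, nat_lit 169, nat_lit 208, nat_lit 182]) (.leaf (nat_lit 70661) [nat_lit 156, nat_lit 195, nat_lit 143])) (.node (nat_lit 5) (.node (nat_lit 4) (.leaf (nat_lit 70662) [nat_lit 143, nat_lit 195, nat_lit 156]) (.leaf (nat_lit 69640) [nat_lit 234, nat_lit 195, nat_lit 221, nat_lit 195, nat_lit 234])) (.node (nat_lit 6) (.leaf (nat_lit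 65537) [nat_lit 208, nat_lit 208]) r10))))
noncomputable def r11 : WT := (.leaf (nat_lit 73739) [nat_lit 208, nat_lit 52, nat_lit 156, nat_lit 221, nat_lit 182, nat_lit 156, nat_lit 208, nat_lit 182, nat_lit 221, nat_lit 208, nat_lit 52, nat_lit 156, nat_lit 221, nat_lit 182, nat_lit 156, nat_lit 208, nat_lit 182])
noncomputable def r12 : WT := (.node (nat_lit 7) (.leaf (nat_lit 72713) [nat_lit 117, nat_lit 91, nat_lit 39, nat_lit 26, nat_lit 169, nat_lit 234, nat_lit 182, nat_lit 26, nat_lit 39, nat_lit 78, nat_lit 104]) r11)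
noncomputable def w15 : WT := (.node (nat_lit 1) (.leaf (nat_lit 10240) [nat_lit 234]) (.node (nat_lit 3) (.node (nat_lit 2) (.leaf (nat_lit 66560) [nat_lit 221, nat_lit 221]) (.leaf (nat_lit 71682) [nat_lit 156, nat_lit 234, nat_lit 143])) (.node (nat_lit 5) (.node (nat_lit 4) (.leaf (nat_lit 72706) [nat_lit 182, nat_lit 26, nat_lit 39, nat_lit 78, nat_lit 104, nat_lit 234, nat_lit 117, nat_lit 91, nat_lit 39, nat_lit 26, nat_lit 169]) (.leaf (nat_lit 69634) [nat_lit 195, nat_lit 234, nat_lit 208, nat_lit 234, nat_lit 195])) (.node (nat_lit 6) (.leaf (nat_lit 69633) [nat_lit 195, nat_lit 221, nat_lit 208, nat_lit 234, nat_lit 208]) r12))))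
noncomputable def r13 : WT := (.node (nat_lit 8) (.leaf (nat_lit 72718) [nat_lit 117, nat_lit 91, nat_lit 39, nat_lit 26, nat_lit 169, nat_lit 221, nat_lit 182, nat_lit 26, nat_lit 39, nat_lit 78, nat_lit 104]) (.leaf (nat_lit 72725) [nat_lit 182, nat_lit 26, nat_lit 39, nat_lit 78, nat_lit 104, nat_lit 221, nat_lit 117, nat_lit 91, nat_lit 39, nat_lit 26, nat_lit 169]))
noncomputable def w16 : WT := (.node (nat_lit 1) (.leaf (nat_lit 10242) [nat_lit 221]) (.node (nat_lit 4) (.node (nat_lit 2) (.leaf (nat_lit 69642) [nat_lit 195, nat_lit 221, nat_lit 195, nat_lit 234, nat_lit 208]) (.node (nat_lit 3) (.leaf (nat_lit 66561) [nat_lit 234, nat_lit 234]) (.leaf (nat_lit 71686) [nat_lit 143, nat_lit 221, nat_lit 156]))) (.node (nat_lit 6) (.node (nat_lit 5) (.leaf (nat_lit 71685) [nat_lit 156, nat_lit 221, nat_lit 143]) (.leaf (nat_lit 69638) [nat_lit 208, nat_lit 234, nat_lit 195, nat_lit 221, nat_lit 195])) (.node (nat_lit 7) (.leaf (nat_lit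 69641) [nat_lit 208, nat_lit 221, nat_lit 195, nat_lit 221, nat_lit 208]) r13))))
noncomputable def wP : WT := (.node (nat_lit 1) (.leaf (nat_lit 50182) [nat_lit 52, nat_lit 195, nat_lit 39, nat_lit 208]) (.node (nat_lit 2) (.leaf (nat_lit 71682) [nat_lit 221, nat_lit 156, nat_lit 234, nat_lit 143]) (.leaf (nat_lit 72706) [nat_lit 221, nat_lit 182, nat_lit 26, nat_lit 39, nat_lit 78, nat_lit 104, nat_lit 234, nat_lit 117, nat_lit 91, nat_lit 39, nat_lit 26, nat_lit 169])))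
noncomputable def P : Par := ⟨tb, nat_lit 247, nat_lit 0x7fffffffffffffffffffffffffffffffffffffffffffffffffffffffffffff, nat_lit 43, nat_lit 8191, nat_lit 63, nat_lit 13, nat_lit 6, nat_lit 40,
  [nat_lit 26, nat_lit 39, nat_lit 52, nat_lit 65, nat_lit 78, nat_lit 91, nat_lit 104, nat_lit 117, nat_lit 130, nat_lit 143, nat_lit 156, nat_lit 169, nat_lit 182, nat_lit 195, nat_lit 208, nat_lit 221, nat_lit 234], [nat_lit 26, nat_lit 39, nat_lit 52, nat_lit 65, nat_lit 78, nat_lit 104, nat_lit 130, nat_lit 143, nat_lit 169, nat_lit 195], wP,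
  (.cons (nat_lit 26) w0 (.cons (nat_lit 39) w1 (.cons (nat_lit 52) w2 (.cons (nat_lit 65) w3 (.cons (nat_lit 78) w4 (.cons (nat_lit 91) w5 (.cons (nat_lit 104) w6 (.cons (nat_lit 117) w7 (.cons (nat_lit 130) w8 (.cons (nat_lit 143) w9 (.cons (nat_lit 156) w10 (.cons (nat_lit 169) w11 (.cons (nat_lit 182) w12 (.cons (nat_lit 195) w13 (.cons (nat_lit 208) w14 (.cons (nat_lit 221) w15 (.cons (nat_lit 234) w16 .nil))))))))))))))))),
  .nil⟩

end Cfsg.Agent.Lib.TCSuzH1
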