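import Cfsg.Agent.Lib.TCSuzH2P

set_option autoImplicit false
set_option maxRecDepth 100000

namespace Cfsg.Agent.Lib.TCSuzH2
open Cfsg.Agent.Lib.TCCore

theorem k0 : P.RowsS 0 27 := P.rowsS_of_chk _ _ [nat_lit 0x102010000c040808040c04080c0808000101010202010102010201020101010101010000c10040c040c1010101008000101050103030102010601030301000041414040c0c0408041c040c0c040404000301020201030102030202030101010400014100410040c1418180408100400010401030103040404040000c04080404040408040804080404041000030101060104010405060505010000c0404040c0c04080418040c0c040408000101020201030102030202040100004040420041008040404141400030101010207010505010107070100004040408040404080408040804040404050001401000140005004010040100, nat_lit 0x301020202010102010201020101020000c0404100c0c0408040c040c0c0c0414041000050401040103050606020000c0404100c0c0408040c040c0c0001060202010101020102010201010101020000c040808040c04080c080804080410000104010301030404040405010200004040808040c04080c080800010106020101010201020102010101010000c0414180410041014181414040804100003040103010304040404] (by decide +kernel)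
theorem s0 : P.RowsS 0 27 := k0

end Cfsg.Agent.Lib.TCSuzH2
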