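import Cfsg.Agent.Lib.TCDefs

set_option autoImplicit false
set_option maxRecDepth 100000

namespace Cfsg.Agent.Lib.TCSuzH2
open Cfsg.Agent.Lib.TCCore

noncomputable def l0 : T := .leaf (nat_lit 0) (nat_lit 0x12f16e23b21b18b2251bb31b2fb31b2fb2fb25b25b2fbfff0c019315223a25a1fa1da1da37a39a35a37a3ba31a33a39afff0b42b92d91f92191d51942193f94193d93f93f93d93b9419fff0842171d62f83182f82d82584984b84784984d84184584b8fff0b41d62382ca2cb2f7317257477457477457477457457477fff0c01f81f728d1b52b62d62364164364364564164363f6456fff09c2b52951d624d1941f92153d53b53d53b53d53753b53b5fff09027429424e1731b91b51f43743943943b43743943543b4fff09c1521ba19420e1b31d31d3353333353333333313313333fff0c017a17312f1701b21921b23122f23122f22522f22f22f2fff0a82312112512311501c71d1371351371351371311351351fff0901f01d019212f1871711b03103303303503103302f0350fff09c10e15b15015214c1e618f2cf2af2cf2af2cf22f22f2cffff0c019b12f2332740ed1a816e26e24e28e26e2ae20e20e2aefff09010b0cc2752b616810e14d24d26d22d24d28d1cd1ed26dfff0b40ed0ab10c0ec12616f12c1ec20c1cc1ec22c16c1ac20cfff0b40cc12d2f7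08a0e51bb10b16b18b18b1ab16b18b14b1abfff09c0ca0ea0ab2f70a90640ea12a14a10a12a12a10a0ea14afff0840c90a90a90c90640ca0e91291091291091290a90e9129fff0900650a60e80c81ce18d0a8128108128108128108108128fff0c01471270861031f11b00c71c71a71871671271871a71a7fff0a80c80650c30a720f14c0a61461661261461860c6106166fff0b408608808404225b10b0850c50e50e51050c50e50a5105fff09c0840a40420a508a0890c40c40a40e41041040c40840a4fff0a80420811270e60a30830a31030e30830a30a30c30e30a3fff0c0021063065064062082062082062082062062062062062fff0c00a3042041021041021021041021041021021021021021fff000)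

end Cfsg.Agent.Lib.TCSuzH2
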