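import Cfsg.Agent.Lib.TCSuzH2D0

set_option autoImplicit false
set_option maxRecDepth 100000

namespace Cfsg.Agent.Lib.TCSuzH2
open Cfsg.Agent.Lib.TCCore

noncomputable def tb : T := l0
noncomputable def w0 : WT := (.node (nat_lit 2) (.node (nat_lit 1) (.leaf (nat_lit 48130) [nat_lit 192, nat_lit 84, nat_lit 60, nat_lit 48, nat_lit 24, nat_lit 180]) (.leaf (nat_lit 43020) [nat_lit 156, nat_lit 48, nat_lit 168, nat_lit 84, nat_lit 48, nat_lit 36])) (.node (nat_lit 4) (.node (nat_lit 3) (.leaf (nat_lit 51212) [nat_lit 180, nat_lit 60, nat_lit 192, nat_lit 108, nat_lit 84, nat_lit 36]) (.leaf (nat_lit 33794) [nat_lit 144, nat_lit 84, nat_lit 60, nat_lit 48, nat_lit 132])) (.node (nat_lit 5) (.leaf (nat_lit 40962) [nat_lit 168, nat_lit 108, nat_lit 60, nat_lit 48, nat_lit 156]) (.leaf (nat_lit 36874) [nat_lit 36, nat_lit 132, nat_lit 60, nat_lit 144, nat_lit 108, nat_lit 60]))))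
noncomputable def w1 : WT := (.node (nat_lit 2) (.node (nat_lit 1) (.leaf (nat_lit 49154) [nat_lit 192, nat_lit 48, nat_lit 180]) (.leaf (nat_lit 44040) [nat_lit 156, nat_lit 60, nat_lit 168, nat_lit 120])) (.node (nat_lit 4) (.node (nat_lit 3) (.leaf (nat_lit 50186) [nat_lit 180, nat_lit 48, nat_lit 192, nat_lit 120, nat_lit 48]) (.leaf (nat_lit 34818) [nat_lit 144, nat_lit 120, nat_lit 48, nat_lit 36, nat_lit 132])) (.node (nat_lit 5) (.leaf (nat_lit 41986) [nat_lit 168, nat_lit 60, nat_lit 36, nat_lit 156]) (.node (nat_lit 6) (.leaf (nat_lit 35846) [nat_lit 132, nat_lit 48, nat_lit 144]) (.leaf (nat_lit 53249) [nat_lit 48, nat_lit 72, nat_lit 180, nat_lit 108, nat_lit 192])))))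
noncomputable def w2 : WT := (.node (nat_lit 2) (.node (nat_lit 1) (.leaf (nat_lit 49158) [nat_lit 180, nat_lit 36, nat_lit 192]) (.leaf (nat_lit 50178) [nat_lit 192, nat_lit 120, nat_lit 48, nat_lit 36, nat_lit 180])) (.node (nat_lit 4) (.node (nat_lit 3) (.leaf (nat_lit 40970) [nat_lit 156, nat_lit 24, nat_lit 168, nat_lit 108, nat_lit 60]) (.leaf (nat_lit 35842) [nat_lit 144, nat_lit 36, nat_lit 132])) (.node (nat_lit 5) (.leaf (nat_lit 34824) [nat_lit 36, nat_lit 132, nat_lit 36, nat_lit 144, nat_lit 120]) (.node (nat_lit 6) (.leaf (nat_lit 43010) [nat_lit 168, nat_lit 84, nat_lit 48, nat_lit 36, nat_lit 24, nat_lit 156]) (.leaf (nat_lit 48138) [nat_lit 24, nat_lit 180, nat_lit 24, nat_lit 192, nat_lit 84, nat_lit 60])))))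
noncomputable def w3 : WT := (.node (nat_lit 2) (.node (nat_lit 1) (.leaf (nat_lit 51202) [nat_lit 192, nat_lit 108, nat_lit 84, nat_lit 36, nat_lit 24, nat_lit 180]) (.leaf (nat_lit 41990) [nat_lit 36, nat_lit 156, nat_lit 36, nat_lit 168])) (.node (nat_lit 4) (.node (nat_lit 3) (.leaf (nat_lit 33800) [nat_lit 48, nat_lit 132, nat_lit 24, nat_lit 144, nat_lit 84]) (.leaf (nat_lit 36866) [nat_lit 144, nat_lit 108, nat_lit 60, nat_lit 24, nat_lit 36, nat_lit 132])) (.node (nat_lit 5) (.leaf (nat_lit 44034) [nat_lit 168, nat_lit 120, nat_lit 36, nat_lit 156]) (.node (nat_lit 6) (.leaf (nat_lit 48136) [nat_lit 48, nat_lit 24, nat_lit 180, nat_lit 24, nat_lit 192, nat_lit 84]) (.leaf (nat_lit 40968) [nat_lit 48, nat_lit 156, nat_lit 24, nat_lit 168, nat_lit 108])))))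
noncomputable def w4 : WT := (.node (nat_lit 1) (.leaf (nat_lit 4096) [nat_lit 84]) (.node (nat_lit 2) (.leaf (nat_lit 52226) [nat_lit 192, nat_lit 84, nat_lit 108, nat_lit 48, nat_lit 180]) (.node (nat_lit 3) (.leaf (nat_lit 37890) [nat_lit 144, nat_lit 84, nat_lit 108, nat_lit 48, nat_lit 132]) (.leaf (nat_lit 45058) [nat_lit 168, nat_lit 108, nat_lit 36, nat_lit 156]))))
noncomputable def w5 : WT := (.node (nat_lit 1) (.leaf (nat_lit 4098) [nat_lit 72]) (.node (nat_lit 2) (.leaf (nat_lit 53254) [nat_lit 48, nat_lit 36, nat_lit 180, nat_lit 96, nat_lit 192]) (.node (nat_lit 3) (.leaf (nat_lit 46088) [nat_lit 60, nat_lit 156, nat_lit 96, nat_lit 168, nat_lit 108]) (.node (nat_lit 4) (.leaf (nat_lit 38920) [nat_lit 36, nat_lit 132, nat_lit 96, nat_lit 144, nat_lit 120]) (.leaf (nat_lit 52233) [nat_lit 192, nat_lit 48, nat_lit 96, nat_lit 72, nat_lit 180])))))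
noncomputable def w6 : WT := (.node (nat_lit 1) (.leaf (nat_lit 5120) [nat_lit 108]) (.node (nat_lit 2) (.leaf (nat_lit 53250) [nat_lit 192, nat_lit 84, nat_lit 48, nat_lit 36, nat_lit 180]) (.node (nat_lit 3) (.leaf (nat_lit 38914) [nat_lit 144, nat_lit 120, nat_lit 84, nat_lit 36, nat_lit 132]) (.node (nat_lit 4) (.leaf (nat_lit 46082) [nat_lit 168, nat_lit 108, nat_lit 84, nat_lit 60, nat_lit 156]) (.leaf (nat_lit 52227) [nat_lit 72, nat_lit 180, nat_lit 84, nat_lit 192, nat_lit 48])))))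
noncomputable def w7 : WT := (.node (nat_lit 1) (.leaf (nat_lit 5122) [nat_lit 96]) (.node (nat_lit 2) (.leaf (nat_lit 45062) [nat_lit 36, nat_lit 156, nat_lit 72, nat_lit 168]) (.node (nat_lit 3) (.leaf (nat_lit 52232) [nat_lit 48, nat_lit 180, nat_lit 72, nat_lit 192, nat_lit 84]) (.leaf (nat_lit 37896) [nat_lit 48, nat_lit 132, nat_lit 72, nat_lit 144, nat_lit 84]))))
noncomputable def w8 : WT := (.node (nat_lit 2) (.node (nat_lit 1) (.leaf (nat_lit 54274) [nat_lit 192, nat_lit 120, nat_lit 180]) (.leaf (nat_lit 47110) [nat_lit 156, nat_lit 120, nat_lit 168])) (.node (nat_lit 4) (.node (nat_lit 3) (.leaf (nat_lit 54278) [nat_lit 180, nat_lit 120, nat_lit 192]) (.leaf (nat_lit 39938) [nat_lit 144, nat_lit 120, nat_lit 132])) (.node (nat_lit 6) (.node (nat_lit 5) (.leaf (nat_lit 39942) [nat_lit 132, nat_lit 120, nat_lit 144]) (.leaf (nat_lit 47106) [nat_lit 168, nat_lit 120, nat_lit 156])) (.node (nat_lit 7) (.leaf (nat_lit 10241) [nat_lit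 84, nat_lit 84]) (.leaf (nat_lit 11268) [nat_lit 96, nat_lit 96])))))
noncomputable def w9 : WT := (.node (nat_lit 1) (.leaf (nat_lit 7168) [nat_lit 144]) (.node (nat_lit 3) (.node (nat_lit 2) (.leaf (nat_lit 60419) [nat_lit 192, nat_lit 144, nat_lit 180]) (.leaf (nat_lit 55296) [nat_lit 132, nat_lit 132])) (.node (nat_lit 4) (.leaf (nat_lit 60416) [nat_lit 180, nat_lit 144, nat_lit 192]) (.leaf (nat_lit 58372) [nat_lit 168, nat_lit 144, nat_lit 168, nat_lit 132, nat_lit 156]))))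
noncomputable def w10 : WT := (.node (nat_lit 1) (.leaf (nat_lit 7170) [nat_lit 132]) (.node (nat_lit 2) (.leaf (nat_lit 60420) [nat_lit 192, nat_lit 132, nat_lit 180]) (.node (nat_lit 3) (.leaf (nat_lit 58376) [nat_lit 168, nat_lit 132, nat_lit 156, nat_lit 132, nat_lit 168]) (.node (nat_lit 4) (.leaf (nat_lit 55297) [nat_lit 144, nat_lit 144]) (.leaf (nat_lit 60423) [nat_lit 180, nat_lit 132, nat_lit 192])))))
noncomputable def w11 : WT := (.node (nat_lit 1) (.leaf (nat_lit 8192) [nat_lit 168]) (.node (nat_lit 3) (.node (nat_lit 2) (.leaf (nat_lit 59396) [nat_lit 192, nat_lit 168, nat_lit 192, nat_lit 156, nat_lit 180]) (.leaf (nat_lit 56320) [nat_lit 156, nat_lit 156])) (.node (nat_lit 4) (.leaf (nat_lit 58370) [nat_lit 132, nat_lit 168, nat_lit 144, nat_lit 168, nat_lit 132]) (.node (nat_lit 5) (.leaf (nat_lit 59392) [nat_lit 180, nat_lit 156, nat_lit 192, nat_lit 168, nat_lit 192]) (.leaf (nat_lit 59395) [nat_lit 180, nat_lit 168,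 nat_lit 192, nat_lit 168, nat_lit 180])))))
noncomputable def w12 : WT := (.node (nat_lit 1) (.leaf (nat_lit 8194) [nat_lit 156]) (.node (nat_lit 3) (.node (nat_lit 2) (.leaf (nat_lit 56321) [nat_lit 168, nat_lit 168]) (.leaf (nat_lit 59400) [nat_lit 192, nat_lit 156, nat_lit 180, nat_lit 156, nat_lit 192])) (.node (nat_lit 4) (.leaf (nat_lit 58374) [nat_lit 144, nat_lit 168, nat_lit 132, nat_lit 156, nat_lit 132]) (.node (nat_lit 5) (.leaf (nat_lit 58378) [nat_lit 132, nat_lit 156, nat_lit 132, nat_lit 168, nat_lit 144]) (.leaf (nat_lit 59399) [nat_lit 192, nat_lit 168, nat_lit 180, nat_lit 156, nat_lit 180])))))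
noncomputable def w13 : WT := (.node (nat_lit 1) (.leaf (nat_lit 9216) [nat_lit 192]) (.node (nat_lit 2) (.leaf (nat_lit 60418) [nat_lit 144, nat_lit 192, nat_lit 132]) (.node (nat_lit 3) (.leaf (nat_lit 57344) [nat_lit 180, nat_lit 180]) (.leaf (nat_lit 59394) [nat_lit 156, nat_lit 192, nat_lit 168, nat_lit 192, nat_lit 156]))))
noncomputable def w14 : WT := (.node (nat_lit 1) (.leaf (nat_lit 9218) [nat_lit 180]) (.node (nat_lit 2) (.leaf (nat_lit 57345) [nat_lit 192, nat_lit 192]) (.node (nat_lit 3) (.leaf (nat_lit 60422) [nat_lit 132, nat_lit 180, nat_lit 144]) (.node (nat_lit 4) (.leaf (nat_lit 59398) [nat_lit 168, nat_lit 192, nat_lit 156, nat_lit 180, nat_lit 156]) (.leaf (nat_lit 59401) [nat_lit 168, nat_lit 180, nat_lit 156, nat_lit 180, nat_lit 168])))))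
noncomputable def wP : WT := (.leaf (nat_lit 0) [nat_lit 24, nat_lit 24])
noncomputable def P : Par := ⟨tb, nat_lit 204, nat_lit 0xfffffffffffffffffffffffffffffffffffffffffffffffffff, nat_lit 27, nat_lit 4095, nat_lit 31, nat_lit 12, nat_lit 5, nat_lit 27,
  [nat_lit 24, nat_lit 36, nat_lit 48, nat_lit 60, nat_lit 72, nat_lit 84, nat_lit 96, nat_lit 108, nat_lit 120, nat_lit 132, nat_lit 144, nat_lit 156, nat_lit 168, nat_lit 180, nat_lit 192], [nat_lit 24, nat_lit 36, nat_lit 48, nat_lit 60, nat_lit 72, nat_lit 96, nat_lit 120, nat_lit 132, nat_lit 156], wP,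
  (.cons (nat_lit 24) w0 (.cons (nat_lit 36) w1 (.cons (nat_lit 48) w2 (.cons (nat_lit 60) w3 (.cons (nat_lit 72) w4 (.cons (nat_lit 84) w5 (.cons (nat_lit 96) w6 (.cons (nat_lit 108) w7 (.cons (nat_lit 120) w8 (.cons (nat_lit 132) w9 (.cons (nat_lit 144) w10 (.cons (nat_lit 156) w11 (.cons (nat_lit 168) w12 (.cons (nat_lit 180) w13 (.cons (nat_lit 192) w14 .nil))))))))))))))),
  .nil⟩

end Cfsg.Agent.Lib.TCSuzH2
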