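import Cfsg.Agent.Lib.TCSuzH3D0

set_option autoImplicit false
set_option maxRecDepth 100000

namespace Cfsg.Agent.Lib.TCSuzH3
open Cfsg.Agent.Lib.TCCore

noncomputable def tb : T := l0
noncomputable def w0 : WT := (.node (nat_lit 1) (.leaf (nat_lit 39938) [nat_lit 168, nat_lit 108, nat_lit 60, nat_lit 48, nat_lit 156]) (.node (nat_lit 2) (.leaf (nat_lit 32770) [nat_lit 144, nat_lit 84, nat_lit 60, nat_lit 48, nat_lit 132]) (.node (nat_lit 3) (.leaf (nat_lit 35850) [nat_lit 36, nat_lit 132, nat_lit 60, nat_lit 144, nat_lit 108, nat_lit 60]) (.leaf (nat_lit 41996) [nat_lit 156, nat_lit 48, nat_lit 168, nat_lit 84, nat_lit 48, nat_lit 36]))))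
noncomputable def w1 : WT := (.node (nat_lit 2) (.node (nat_lit 1) (.leaf (nat_lit 40962) [nat_lit 168, nat_lit 60, nat_lit 36, nat_lit 156]) (.leaf (nat_lit 33794) [nat_lit 144, nat_lit 120, nat_lit 48, nat_lit 36, nat_lit 132])) (.node (nat_lit 3) (.leaf (nat_lit 34822) [nat_lit 132, nat_lit 48, nat_lit 144]) (.node (nat_lit 4) (.leaf (nat_lit 43016) [nat_lit 156, nat_lit 60, nat_lit 168, nat_lit 120]) (.leaf (nat_lit 44040) [nat_lit 156, nat_lit 72, nat_lit 168, nat_lit 108]))))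
noncomputable def w2 : WT := (.node (nat_lit 1) (.leaf (nat_lit 41986) [nat_lit 168, nat_lit 84, nat_lit 48, nat_lit 36, nat_lit 24, nat_lit 156]) (.node (nat_lit 2) (.leaf (nat_lit 39946) [nat_lit 156, nat_lit 24, nat_lit 168, nat_lit 108, nat_lit 60]) (.node (nat_lit 3) (.leaf (nat_lit 34818) [nat_lit 144, nat_lit 36, nat_lit 132]) (.leaf (nat_lit 33800) [nat_lit 36, nat_lit 132, nat_lit 36, nat_lit 144, nat_lit 120]))))
noncomputable def w3 : WT := (.node (nat_lit 3) (.node (nat_lit 1) (.leaf (nat_lit 43010) [nat_lit 168, nat_lit 120, nat_lit 36, nat_lit 156]) (.node (nat_lit 2) (.leaf (nat_lit 40966) [nat_lit 36, nat_lit 156, nat_lit 36, nat_lit 168]) (.leaf (nat_lit 32776) [nat_lit 48, nat_lit 132, nat_lit 24, nat_lit 144, nat_lit 84]))) (.node (nat_lit 4) (.leaf (nat_lit 39944) [nat_lit 48, nat_lit 156, nat_lit 24, nat_lit 168, nat_lit 108]) (.node (nat_lit 5) (.leaf (nat_lit 45057) [nat_lit 72, nat_lit 96, nat_lit 156, nat_lit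 108, nat_lit 168]) (.leaf (nat_lit 35842) [nat_lit 144, nat_lit 108, nat_lit 60, nat_lit 24, nat_lit 36, nat_lit 132]))))
noncomputable def w4 : WT := (.node (nat_lit 1) (.leaf (nat_lit 4096) [nat_lit 84]) (.node (nat_lit 2) (.leaf (nat_lit 44034) [nat_lit 168, nat_lit 108, nat_lit 36, nat_lit 156]) (.leaf (nat_lit 36866) [nat_lit 144, nat_lit 84, nat_lit 108, nat_lit 48, nat_lit 132])))
noncomputable def w5 : WT := (.node (nat_lit 1) (.leaf (nat_lit 4098) [nat_lit 72]) (.node (nat_lit 2) (.leaf (nat_lit 44039) [nat_lit 168, nat_lit 36, nat_lit 96, nat_lit 156]) (.node (nat_lit 3) (.leaf (nat_lit 37896) [nat_lit 36, nat_lit 132, nat_lit 96, nat_lit 144, nat_lit 120]) (.leaf (nat_lit 45064) [nat_lit 60, nat_lit 156, nat_lit 96, nat_lit 168, nat_lit 108]))))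
noncomputable def w6 : WT := (.node (nat_lit 1) (.leaf (nat_lit 5120) [nat_lit 108]) (.node (nat_lit 2) (.leaf (nat_lit 45058) [nat_lit 168, nat_lit 108, nat_lit 84, nat_lit 60, nat_lit 156]) (.leaf (nat_lit 37890) [nat_lit 144, nat_lit 120, nat_lit 84, nat_lit 36, nat_lit 132])))
noncomputable def w7 : WT := (.node (nat_lit 1) (.leaf (nat_lit 5122) [nat_lit 96]) (.node (nat_lit 2) (.leaf (nat_lit 44038) [nat_lit 36, nat_lit 156, nat_lit 72, nat_lit 168]) (.node (nat_lit 3) (.leaf (nat_lit 36872) [nat_lit 48, nat_lit 132, nat_lit 72, nat_lit 144, nat_lit 84]) (.leaf (nat_lit 45065) [nat_lit 168, nat_lit 60, nat_lit 72, nat_lit 96, nat_lit 156]))))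
noncomputable def w8 : WT := (.node (nat_lit 3) (.node (nat_lit 1) (.leaf (nat_lit 46082) [nat_lit 168, nat_lit 120, nat_lit 156]) (.node (nat_lit 2) (.leaf (nat_lit 9220) [nat_lit 72, nat_lit 72]) (.leaf (nat_lit 10241) [nat_lit 108, nat_lit 108]))) (.node (nat_lit 4) (.leaf (nat_lit 38914) [nat_lit 144, nat_lit 120, nat_lit 132]) (.node (nat_lit 5) (.leaf (nat_lit 38918) [nat_lit 132, nat_lit 120, nat_lit 144]) (.leaf (nat_lit 46086) [nat_lit 156, nat_lit 120, nat_lit 168]))))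
noncomputable def w9 : WT := (.node (nat_lit 1) (.leaf (nat_lit 7168) [nat_lit 144]) (.node (nat_lit 2) (.leaf (nat_lit 47104) [nat_lit 132, nat_lit 132]) (.leaf (nat_lit 49156) [nat_lit 168, nat_lit 144, nat_lit 168, nat_lit 132, nat_lit 156])))
noncomputable def w10 : WT := (.node (nat_lit 1) (.leaf (nat_lit 7170) [nat_lit 132]) (.node (nat_lit 2) (.leaf (nat_lit 47105) [nat_lit 144, nat_lit 144]) (.leaf (nat_lit 49160) [nat_lit 168, nat_lit 132, nat_lit 156, nat_lit 132, nat_lit 168])))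
noncomputable def w11 : WT := (.node (nat_lit 1) (.leaf (nat_lit 8192) [nat_lit 168]) (.node (nat_lit 2) (.leaf (nat_lit 48128) [nat_lit 156, nat_lit 156]) (.leaf (nat_lit 49154) [nat_lit 132, nat_lit 168, nat_lit 144, nat_lit 168, nat_lit 132])))
noncomputable def w12 : WT := (.node (nat_lit 1) (.leaf (nat_lit 8194) [nat_lit 156]) (.leaf (nat_lit 49158) [nat_lit 144, nat_lit 168, nat_lit 132, nat_lit 156, nat_lit 132]))
noncomputable def wP : WT := (.leaf (nat_lit 0) [nat_lit 24, nat_lit 24])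
noncomputable def P : Par := ⟨tb, nat_lit 180, nat_lit 0xfffffffffffffffffffffffffffffffffffffffffffff, nat_lit 8, nat_lit 4095, nat_lit 15, nat_lit 12, nat_lit 4, nat_lit 8,
  [nat_lit 24, nat_lit 36, nat_lit 48, nat_lit 60, nat_lit 72, nat_lit 84, nat_lit 96, nat_lit 108, nat_lit 120, nat_lit 132, nat_lit 144, nat_lit 156, nat_lit 168], [nat_lit 24, nat_lit 36, nat_lit 48, nat_lit 60, nat_lit 72, nat_lit 96, nat_lit 120, nat_lit 132], wP,
  (.cons (nat_lit 24) w0 (.cons (nat_lit 36) w1 (.cons (nat_lit 48) w2 (.cons (nat_lit 60) w3 (.cons (nat_lit 72) w4 (.cons (nat_lit 84) w5 (.cons (nat_lit 96) w6 (.cons (nat_lit 108) w7 (.cons (nat_lit 120) w8 (.cons (nat_lit 132) w9 (.cons (nat_lit 144) w10 (.cons (nat_lit 156) w11 (.cons (nat_lit 168) w12 .nil))))))))))))),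
  .nil⟩

end Cfsg.Agent.Lib.TCSuzH3
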