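import Cfsg.Agent.Lib.TCSuzH6D0

set_option autoImplicit false
set_option maxRecDepth 100000

namespace Cfsg.Agent.Lib.TCSuzH6
open Cfsg.Agent.Lib.TCCore

noncomputable def tb : T := l0
noncomputable def r0 : WT := (.node (nat_lit 8) (.leaf (nat_lit 7173) [nat_lit 45, nat_lit 30, nat_lit 120, nat_lit 45]) (.leaf (nat_lit 7177) [nat_lit 120, nat_lit 45, nat_lit 30, nat_lit 45]))
noncomputable def w0 : WT := (.node (nat_lit 1) (.leaf (nat_lit 0) [nat_lit 30]) (.node (nat_lit 4) (.node (nat_lit 2) (.leaf (nat_lit 16384) [nat_lit 105, nat_lit 30, nat_lit 105]) (.node (nat_lit 3) (.leaf (nat_lit 12288) [nat_lit 75, nat_lit 30, nat_lit 75]) (.leaf (nat_lit 7172) [nat_lit 45, nat_lit 120, nat_lit 30, nat_lit 45]))) (.node (nat_lit 6) (.node (nat_lit 5) (.leaf (nat_lit 22528) [nat_lit 120, nat_lit 30, nat_lit 120]) (.leaf (nat_lit 14336) [nat_lit 90, nat_lit 30, nat_lit 90])) (.node (nat_lit 7) (.leaf (nat_lit 10240) [nat_lit 60,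 nat_lit 30, nat_lit 60]) r0))))
noncomputable def r1 : WT := (.node (nat_lit 7) (.leaf (nat_lit 11264) [nat_lit 60, nat_lit 45, nat_lit 60]) (.leaf (nat_lit 7174) [nat_lit 120, nat_lit 30, nat_lit 45, nat_lit 30]))
noncomputable def r2 : WT := (.node (nat_lit 9) (.leaf (nat_lit 7171) [nat_lit 30, nat_lit 45, nat_lit 30, nat_lit 120]) (.leaf (nat_lit 7175) [nat_lit 30, nat_lit 120, nat_lit 45, nat_lit 30]))
noncomputable def w1 : WT := (.node (nat_lit 1) (.leaf (nat_lit 1024) [nat_lit 45]) (.node (nat_lit 4) (.node (nat_lit 2) (.leaf (nat_lit 17408) [nat_lit 105, nat_lit 45, nat_lit 105]) (.node (nat_lit 3) (.leaf (nat_lit 13312) [nat_lit 75, nat_lit 45, nat_lit 75]) (.leaf (nat_lit 7170) [nat_lit 30, nat_lit 45, nat_lit 120, nat_lit 30]))) (.node (nat_lit 6) (.node (nat_lit 5) (.leaf (nat_lit 15360) [nat_lit 90, nat_lit 45, nat_lit 90]) (.leaf (nat_lit 23552) [nat_lit 120, nat_lit 45, nat_lit 120])) (.node (nat_lit 8) r1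 r2))))
noncomputable def r3 : WT := (.node (nat_lit 8) (.leaf (nat_lit 8192) [nat_lit 75, nat_lit 60, nat_lit 75, nat_lit 120]) (.leaf (nat_lit 8197) [nat_lit 75, nat_lit 60, nat_lit 120, nat_lit 75]))
noncomputable def w2 : WT := (.node (nat_lit 1) (.leaf (nat_lit 2048) [nat_lit 60]) (.node (nat_lit 4) (.node (nat_lit 2) (.leaf (nat_lit 10242) [nat_lit 30, nat_lit 60, nat_lit 30]) (.node (nat_lit 3) (.leaf (nat_lit 8196) [nat_lit 75, nat_lit 120, nat_lit 60, nat_lit 75]) (.leaf (nat_lit 11266) [nat_lit 45, nat_lit 60, nat_lit 45]))) (.node (nat_lit 6) (.node (nat_lit 5) (.leaf (nat_lit 20480) [nat_lit 105, nat_lit 60, nat_lit 105]) (.leaf (nat_lit 18432) [nat_lit 90, nat_lit 60, nat_lit 90])) (.node (nat_lit 7) (.leaf (nat_lit 24576) [nat_lit 120, nat_lit 60, nat_lit 120]) r3))))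
noncomputable def r4 : WT := (.node (nat_lit 7) (.leaf (nat_lit 8198) [nat_lit 120, nat_lit 60, nat_lit 75, nat_lit 60]) (.node (nat_lit 8) (.leaf (nat_lit 8194) [nat_lit 60, nat_lit 75, nat_lit 120, nat_lit 60]) (.leaf (nat_lit 8195) [nat_lit 60, nat_lit 75, nat_lit 60, nat_lit 120])))
noncomputable def w3 : WT := (.node (nat_lit 1) (.leaf (nat_lit 3072) [nat_lit 75]) (.node (nat_lit 3) (.node (nat_lit 2) (.leaf (nat_lit 21504) [nat_lit 105, nat_lit 75, nat_lit 105]) (.leaf (nat_lit 12290) [nat_lit 30, nat_lit 75, nat_lit 30])) (.node (nat_lit 5) (.node (nat_lit 4) (.leaf (nat_lit 25600) [nat_lit 120, nat_lit 75, nat_lit 120]) (.leaf (nat_lit 13314) [nat_lit 45, nat_lit 75, nat_lit 45])) (.node (nat_lit 6) (.leaf (nat_lit 19456) [nat_lit 90, nat_lit 75, nat_lit 90]) r4))))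
noncomputable def r5 : WT := (.node (nat_lit 7) (.leaf (nat_lit 18434) [nat_lit 60, nat_lit 90, nat_lit 60]) (.leaf (nat_lit 9216) [nat_lit 105, nat_lit 90, nat_lit 105, nat_lit 120]))
noncomputable def w4 : WT := (.node (nat_lit 1) (.leaf (nat_lit 4096) [nat_lit 90]) (.node (nat_lit 3) (.node (nat_lit 2) (.leaf (nat_lit 9220) [nat_lit 105, nat_lit 120, nat_lit 90, nat_lit 105]) (.leaf (nat_lit 19458) [nat_lit 75, nat_lit 90, nat_lit 75])) (.node (nat_lit 5) (.node (nat_lit 4) (.leaf (nat_lit 15362) [nat_lit 45, nat_lit 90, nat_lit 45]) (.leaf (nat_lit 26624) [nat_lit 120, nat_lit 90, nat_lit 120])) (.node (nat_lit 6) (.leaf (nat_lit 14338) [nat_lit 30, nat_lit 90, nat_lit 30]) r5))))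
noncomputable def w5 : WT := (.node (nat_lit 1) (.leaf (nat_lit 5120) [nat_lit 105]) (.node (nat_lit 4) (.node (nat_lit 2) (.leaf (nat_lit 16386) [nat_lit 30, nat_lit 105, nat_lit 30]) (.node (nat_lit 3) (.leaf (nat_lit 27648) [nat_lit 120, nat_lit 105, nat_lit 120]) (.leaf (nat_lit 9218) [nat_lit 90, nat_lit 105, nat_lit 120, nat_lit 90]))) (.node (nat_lit 6) (.node (nat_lit 5) (.leaf (nat_lit 17410) [nat_lit 45, nat_lit 105, nat_lit 45]) (.leaf (nat_lit 21506) [nat_lit 75, nat_lit 105, nat_lit 75])) (.node (nat_lit 7) (.leaf (nat_lit 20482) [nat_lit 60, nat_lit 105, nat_lit 60]) (.leaf (nat_lit 9222) [nat_lit 120, nat_lit 90, nat_lit 105, nat_lit 90])))))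
noncomputable def r6 : WT := (.node (nat_lit 8) (.node (nat_lit 7) (.leaf (nat_lit 7169) [nat_lit 45, nat_lit 30, nat_lit 45, nat_lit 30]) (.leaf (nat_lit 26626) [nat_lit 90, nat_lit 120, nat_lit 90])) (.node (nat_lit 9) (.leaf (nat_lit 8200) [nat_lit 60, nat_lit 75, nat_lit 60, nat_lit 75]) (.leaf (nat_lit 9217) [nat_lit 105, nat_lit 90, nat_lit 105, nat_lit 90])))
noncomputable def w6 : WT := (.node (nat_lit 1) (.leaf (nat_lit 6144) [nat_lit 120]) (.node (nat_lit 3) (.node (nat_lit 2) (.leaf (nat_lit 22530) [nat_lit 30, nat_lit 120, nat_lit 30]) (.leaf (nat_lit 23554) [nat_lit 45, nat_lit 120, nat_lit 45])) (.node (nat_lit 5) (.node (nat_lit 4) (.leaf (nat_lit 27650) [nat_lit 105, nat_lit 120, nat_lit 105]) (.leaf (nat_lit 25602) [nat_lit 75, nat_lit 120, nat_lit 75])) (.node (nat_lit 6) (.leaf (nat_lit 24578) [nat_lit 60, nat_lit 120, nat_lit 60]) r6))))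
noncomputable def wP : WT := (.leaf (nat_lit 0) [nat_lit 30, nat_lit 30])
noncomputable def P : Par := ⟨tb, nat_lit 135, nat_lit 0x7fffffffffffffffffffffffffffffffff, nat_lit 128, nat_lit 32767, nat_lit 255, nat_lit 15, nat_lit 8, nat_lit 128,
  [nat_lit 30, nat_lit 45, nat_lit 60, nat_lit 75, nat_lit 90, nat_lit 105, nat_lit 120], [], wP,
  (.cons (nat_lit 30) w0 (.cons (nat_lit 45) w1 (.cons (nat_lit 60) w2 (.cons (nat_lit 75) w3 (.cons (nat_lit 90) w4 (.cons (nat_lit 105) w5 (.cons (nat_lit 120) w6 .nil))))))),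
  .nil⟩

end Cfsg.Agent.Lib.TCSuzH6
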