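import Cfsg.Agent.Lib.TCTh1D0

set_option autoImplicit false
set_option maxRecDepth 100000

namespace Cfsg.Agent.Lib.TCTh1
open Cfsg.Agent.Lib.TCCore

noncomputable def tb : T := l0
noncomputable def w0 : WT := (.node (nat_lit 1) (.leaf (nat_lit 23554) [nat_lit 108, nat_lit 24, nat_lit 120]) (.leaf (nat_lit 12288) [nat_lit 60, nat_lit 48, nat_lit 60, nat_lit 48, nat_lit 60, nat_lit 48, nat_lit 60, nat_lit 48]))
noncomputable def w1 : WT := (.leaf (nat_lit 24578) [nat_lit 108, nat_lit 36, nat_lit 120])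
noncomputable def w2 : WT := (.leaf (nat_lit 25602) [nat_lit 108, nat_lit 48, nat_lit 120])
noncomputable def w3 : WT := (.leaf (nat_lit 26626) [nat_lit 108, nat_lit 60, nat_lit 120])
noncomputable def w4 : WT := (.leaf (nat_lit 27650) [nat_lit 108, nat_lit 72, nat_lit 120])
noncomputable def w5 : WT := (.node (nat_lit 1) (.leaf (nat_lit 5120) [nat_lit 96]) (.leaf (nat_lit 28674) [nat_lit 108, nat_lit 96, nat_lit 96, nat_lit 120]))
noncomputable def w6 : WT := (.node (nat_lit 1) (.leaf (nat_lit 5122) [nat_lit 84]) (.leaf (nat_lit 28679) [nat_lit 108, nat_lit 84, nat_lit 84, nat_lit 120]))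
noncomputable def w7 : WT := (.node (nat_lit 1) (.leaf (nat_lit 6144) [nat_lit 120]) (.leaf (nat_lit 22528) [nat_lit 108, nat_lit 108]))
noncomputable def w8 : WT := (.leaf (nat_lit 6146) [nat_lit 108])
noncomputable def wP : WT := (.leaf (nat_lit 0) [nat_lit 24, nat_lit 24])
noncomputable def P : Par := ⟨tb, nat_lit 132, nat_lit 0xfffffffffffffffffffffffffffffffff, nat_lit 3, nat_lit 4095, nat_lit 7, nat_lit 12, nat_lit 3, nat_lit 3,
  [nat_lit 24, nat_lit 36, nat_lit 48, nat_lit 60, nat_lit 72, nat_lit 84, nat_lit 96, nat_lit 108, nat_lit 120], [nat_lit 24, nat_lit 36, nat_lit 48, nat_lit 60, nat_lit 72, nat_lit 84], wP,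
  (.cons (nat_lit 24) w0 (.cons (nat_lit 36) w1 (.cons (nat_lit 48) w2 (.cons (nat_lit 60) w3 (.cons (nat_lit 72) w4 (.cons (nat_lit 84) w5 (.cons (nat_lit 96) w6 (.cons (nat_lit 108) w7 (.cons (nat_lit 120) w8 .nil))))))))),
  .nil⟩

end Cfsg.Agent.Lib.TCTh1
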