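import Cfsg.Agent.Lib.TCTh2D0

set_option autoImplicit false
set_option maxRecDepth 100000

namespace Cfsg.Agent.Lib.TCTh2
open Cfsg.Agent.Lib.TCCore

noncomputable def n0 : T := (.node (nat_lit 553) (.node (nat_lit 237) (.node (nat_lit 79) l0 (.node (nat_lit 158) l1 l2)) (.node (nat_lit 395) (.node (nat_lit 316) l3 l4) (.node (nat_lit 474) l5 l6))) (.node (nat_lit 869) (.node (nat_lit 711) (.node (nat_lit 632) l7 l8) (.node (nat_lit 790) l9 l10)) (.node (nat_lit 1027) (.node (nat_lit 948) l11 l12) (.node (nat_lit 1106) l13 l14))))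
noncomputable def n1 : T := (.node (nat_lit 1817) (.node (nat_lit 1501) (.node (nat_lit 1343) (.node (nat_lit 1264) l15 l16) (.node (nat_lit 1422) l17 l18)) (.node (nat_lit 1659) (.node (nat_lit 1580) l19 l20) (.node (nat_lit 1738) l21 l22))) (.node (nat_lit 2133) (.node (nat_lit 1975) (.node (nat_lit 1896) l23 l24) (.node (nat_lit 2054) l25 l26)) (.node (nat_lit 2291) (.node (nat_lit 2212) l27 l28) (.node (nat_lit 2370) l29 l30))))
noncomputable def n2 : T := (.node (nat_lit 3081) (.node (nat_lit 2765) (.node (nat_lit 2607) (.node (nat_lit 2528) l31 l32) (.node (nat_lit 2686) l33 l34)) (.node (nat_lit 2923) (.node (nat_lit 2844) l35 l36) (.node (nat_lit 3002) l37 l38))) (.node (nat_lit 3397) (.node (nat_lit 3239) (.node (nat_lit 3160) l39 l40) (.node (nat_lit 3318) l41 l42)) (.node (nat_lit 3555) (.node (nat_lit 3476) l43 l44) (.node (nat_lit 3634) l45 l46))))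
noncomputable def n3 : T := (.node (nat_lit 4345) (.node (nat_lit 4029) (.node (nat_lit 3871) (.node (nat_lit 3792) l47 l48) (.node (nat_lit 3950) l49 l50)) (.node (nat_lit 4187) (.node (nat_lit 4108) l51 l52) (.node (nat_lit 4266) l53 l54))) (.node (nat_lit 4661) (.node (nat_lit 4503) (.node (nat_lit 4424) l55 l56) (.node (nat_lit 4582) l57 l58)) (.node (nat_lit 4819) (.node (nat_lit 4740) l59 l60) (.node (nat_lit 4898) l61 l62))))
noncomputable def n4 : T := (.node (nat_lit 5609) (.node (nat_lit 5293) (.node (nat_lit 5135) (.node (nat_lit 5056) l63 l64) (.node (nat_lit 5214) l65 l66)) (.node (nat_lit 5451) (.node (nat_lit 5372) l67 l68) (.node (nat_lit 5530) l69 l70))) (.node (nat_lit 5925) (.node (nat_lit 5767) (.node (nat_lit 5688) l71 l72) (.node (nat_lit 5846) l73 l74)) (.node (nat_lit 6083) (.node (nat_lit 6004) l75 l76) (.node (nat_lit 6162) l77 l78))))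
noncomputable def n5 : T := (.node (nat_lit 6873) (.node (nat_lit 6557) (.node (nat_lit 6399) (.node (nat_lit 6320) l79 l80) (.node (nat_lit 6478) l81 l82)) (.node (nat_lit 6715) (.node (nat_lit 6636) l83 l84) (.node (nat_lit 6794) l85 l86))) (.node (nat_lit 7189) (.node (nat_lit 7031) (.node (nat_lit 6952) l87 l88) (.node (nat_lit 7110) l89 l90)) (.node (nat_lit 7347) (.node (nat_lit 7268) l91 l92) (.node (nat_lit 7426) l93 l94))))
noncomputable def n6 : T := (.node (nat_lit 8137) (.node (nat_lit 7821) (.node (nat_lit 7663) (.node (nat_lit 7584) l95 l96) (.node (nat_lit 7742) l97 l98)) (.node (nat_lit 7979) (.node (nat_lit 7900) l99 l100) (.node (nat_lit 8058) l101 l102))) (.node (nat_lit 8453) (.node (nat_lit 8295) (.node (nat_lit 8216) l103 l104) (.node (nat_lit 8374) l105 l106)) (.node (nat_lit 8611) (.node (nat_lit 8532) l107 l108) (.node (nat_lit 8690) l109 l110))))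
noncomputable def n7 : T := (.node (nat_lit 9401) (.node (nat_lit 9085) (.node (nat_lit 8927) (.node (nat_lit 8848) l111 l112) (.node (nat_lit 9006) l113 l114)) (.node (nat_lit 9243) (.node (nat_lit 9164) l115 l116) (.node (nat_lit 9322) l117 l118))) (.node (nat_lit 9717) (.node (nat_lit 9559) (.node (nat_lit 9480) l119 l120) (.node (nat_lit 9638) l121 l122)) (.node (nat_lit 9875) (.node (nat_lit 9796) l123 l124) (.node (nat_lit 9954) l125 l126))))
noncomputable def n8 : T := (.node (nat_lit 10586) (.node (nat_lit 10270) (.node (nat_lit 10112) l127 (.node (nat_lit 10191) l128 l129)) (.node (nat_lit 10428) (.node (nat_lit 10349) l130 l131) (.node (nat_lit 10507) l132 l133))) (.node (nat_lit 10902) (.node (nat_lit 10744) (.node (nat_lit 10665) l134 l135) (.node (nat_lit 10823) l136 l137)) (.node (nat_lit 11060) (.node (nat_lit 10981) l138 l139) (.node (nat_lit 11139) l140 l141))))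
noncomputable def n9 : T := (.node (nat_lit 11850) (.node (nat_lit 11534) (.node (nat_lit 11376) (.node (nat_lit 11297) l142 l143) (.node (nat_lit 11455) l144 l145)) (.node (nat_lit 11692) (.node (nat_lit 11613) l146 l147) (.node (nat_lit 11771) l148 l149))) (.node (nat_lit 12166) (.node (nat_lit 12008) (.node (nat_lit 11929) l150 l151) (.node (nat_lit 12087) l152 l153)) (.node (nat_lit 12324) (.node (nat_lit 12245) l154 l155) (.node (nat_lit 12403) l156 l157))))
noncomputable def n10 : T := (.node (nat_lit 13114) (.node (nat_lit 12798) (.node (nat_lit 12640) (.node (nat_lit 12561) l158 l159) (.node (nat_lit 12719) l160 l161)) (.node (nat_lit 12956) (.node (nat_lit 12877) l162 l163) (.node (nat_lit 13035) l164 l165))) (.node (nat_lit 13430) (.node (nat_lit 13272) (.node (nat_lit 13193) l166 l167) (.node (nat_lit 13351) l168 l169)) (.node (nat_lit 13588) (.node (nat_lit 13509) l170 l171) (.node (nat_lit 13667) l172 l173))))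
noncomputable def n11 : T := (.node (nat_lit 14378) (.node (nat_lit 14062) (.node (nat_lit 13904) (.node (nat_lit 13825) l174 l175) (.node (nat_lit 13983) l176 l177)) (.node (nat_lit 14220) (.node (nat_lit 14141) l178 l179) (.node (nat_lit 14299) l180 l181))) (.node (nat_lit 14694) (.node (nat_lit 14536) (.node (nat_lit 14457) l182 l183) (.node (nat_lit 14615) l184 l185)) (.node (nat_lit 14852) (.node (nat_lit 14773) l186 l187) (.node (nat_lit 14931) l188 l189))))
noncomputable def n12 : T := (.node (nat_lit 15642) (.node (nat_lit 15326) (.node (nat_lit 15168) (.node (nat_lit 15089) l190 l191) (.node (nat_lit 15247) l192 l193)) (.node (nat_lit 15484) (.node (nat_lit 15405) l194 l195) (.node (nat_lit 15563) l196 l197))) (.node (nat_lit 15958) (.node (nat_lit 15800) (.node (nat_lit 15721) l198 l199) (.node (nat_lit 15879) l200 l201)) (.node (nat_lit 16116) (.node (nat_lit 16037) l202 l203) (.node (nat_lit 16195) l204 l205))))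
noncomputable def n13 : T := (.node (nat_lit 16906) (.node (nat_lit 16590) (.node (nat_lit 16432) (.node (nat_lit 16353) l206 l207) (.node (nat_lit 16511) l208 l209)) (.node (nat_lit 16748) (.node (nat_lit 16669) l210 l211) (.node (nat_lit 16827) l212 l213))) (.node (nat_lit 17222) (.node (nat_lit 17064) (.node (nat_lit 16985) l214 l215) (.node (nat_lit 17143) l216 l217)) (.node (nat_lit 17380) (.node (nat_lit 17301) l218 l219) (.node (nat_lit 17459) l220 l221))))
noncomputable def n14 : T := (.node (nat_lit 18170) (.node (nat_lit 17854) (.node (nat_lit 17696) (.node (nat_lit 17617) l222 l223) (.node (nat_lit 17775) l224 l225)) (.node (nat_lit 18012) (.node (nat_lit 17933) l226 l227) (.node (nat_lit 18091) l228 l229))) (.node (nat_lit 18486) (.node (nat_lit 18328) (.node (nat_lit 18249) l230 l231) (.node (nat_lit 18407) l232 l233)) (.node (nat_lit 18644) (.node (nat_lit 18565) l234 l235) (.node (nat_lit 18723) l236 l237))))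
noncomputable def n15 : T := (.node (nat_lit 19434) (.node (nat_lit 19118) (.node (nat_lit 18960) (.node (nat_lit 18881) l238 l239) (.node (nat_lit 19039) l240 l241)) (.node (nat_lit 19276) (.node (nat_lit 19197) l242 l243) (.node (nat_lit 19355) l244 l245))) (.node (nat_lit 19750) (.node (nat_lit 19592) (.node (nat_lit 19513) l246 l247) (.node (nat_lit 19671) l248 l249)) (.node (nat_lit 19908) (.node (nat_lit 19829) l250 l251) (.node (nat_lit 19987) l252 l253))))
noncomputable def n16 : T := (.node (nat_lit 20619) (.node (nat_lit 20303) (.node (nat_lit 20145) l254 (.node (nat_lit 20224) l255 l256)) (.node (nat_lit 20461) (.node (nat_lit 20382) l257 l258) (.node (nat_lit 20540) l259 l260))) (.node (nat_lit 20935) (.node (nat_lit 20777) (.node (nat_lit 20698) l261 l262) (.node (nat_lit 20856) l263 l264)) (.node (nat_lit 21093) (.node (nat_lit 21014) l265 l266) (.node (nat_lit 21172) l267 l268))))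
noncomputable def n17 : T := (.node (nat_lit 21883) (.node (nat_lit 21567) (.node (nat_lit 21409) (.node (nat_lit 21330) l269 l270) (.node (nat_lit 21488) l271 l272)) (.node (nat_lit 21725) (.node (nat_lit 21646) l273 l274) (.node (nat_lit 21804) l275 l276))) (.node (nat_lit 22199) (.node (nat_lit 22041) (.node (nat_lit 21962) l277 l278) (.node (nat_lit 22120) l279 l280)) (.node (nat_lit 22357) (.node (nat_lit 22278) l281 l282) (.node (nat_lit 22436) l283 l284))))
noncomputable def n18 : T := (.node (nat_lit 23147) (.node (nat_lit 22831) (.node (nat_lit 22673) (.node (nat_lit 22594) l285 l286) (.node (nat_lit 22752) l287 l288)) (.node (nat_lit 22989) (.node (nat_lit 22910) l289 l290) (.node (nat_lit 23068) l291 l292))) (.node (nat_lit 23463) (.node (nat_lit 23305) (.node (nat_lit 23226) l293 l294) (.node (nat_lit 23384) l295 l296)) (.node (nat_lit 23621) (.node (nat_lit 23542) l297 l298) (.node (nat_lit 23700) l299 l300))))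
noncomputable def n19 : T := (.node (nat_lit 24411) (.node (nat_lit 24095) (.node (nat_lit 23937) (.node (nat_lit 23858) l301 l302) (.node (nat_lit 24016) l303 l304)) (.node (nat_lit 24253) (.node (nat_lit 24174) l305 l306) (.node (nat_lit 24332) l307 l308))) (.node (nat_lit 24727) (.node (nat_lit 24569) (.node (nat_lit 24490) l309 l310) (.node (nat_lit 24648) l311 l312)) (.node (nat_lit 24885) (.node (nat_lit 24806) l313 l314) (.node (nat_lit 24964) l315 l316))))
noncomputable def n20 : T := (.node (nat_lit 25675) (.node (nat_lit 25359) (.node (nat_lit 25201) (.node (nat_lit 25122) l317 l318) (.node (nat_lit 25280) l319 l320)) (.node (nat_lit 25517) (.node (nat_lit 25438) l321 l322) (.node (nat_lit 25596) l323 l324))) (.node (nat_lit 25991) (.node (nat_lit 25833) (.node (nat_lit 25754) l325 l326) (.node (nat_lit 25912) l327 l328)) (.node (nat_lit 26149) (.node (nat_lit 26070) l329 l330) (.node (nat_lit 26228) l331 l332))))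
noncomputable def n21 : T := (.node (nat_lit 26939) (.node (nat_lit 26623) (.node (nat_lit 26465) (.node (nat_lit 26386) l333 l334) (.node (nat_lit 26544) l335 l336)) (.node (nat_lit 26781) (.node (nat_lit 26702) l337 l338) (.node (nat_lit 26860) l339 l340))) (.node (nat_lit 27255) (.node (nat_lit 27097) (.node (nat_lit 27018) l341 l342) (.node (nat_lit 27176) l343 l344)) (.node (nat_lit 27413) (.node (nat_lit 27334) l345 l346) (.node (nat_lit 27492) l347 l348))))
noncomputable def n22 : T := (.node (nat_lit 28203) (.node (nat_lit 27887) (.node (nat_lit 27729) (.node (nat_lit 27650) l349 l350) (.node (nat_lit 27808) l351 l352)) (.node (nat_lit 28045) (.node (nat_lit 27966) l353 l354) (.node (nat_lit 28124) l355 l356))) (.node (nat_lit 28519) (.node (nat_lit 28361) (.node (nat_lit 28282) l357 l358) (.node (nat_lit 28440) l359 l360)) (.node (nat_lit 28677) (.node (nat_lit 28598) l361 l362) (.node (nat_lit 28756) l363 l364))))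
noncomputable def n23 : T := (.node (nat_lit 29467) (.node (nat_lit 29151) (.node (nat_lit 28993) (.node (nat_lit 28914) l365 l366) (.node (nat_lit 29072) l367 l368)) (.node (nat_lit 29309) (.node (nat_lit 29230) l369 l370) (.node (nat_lit 29388) l371 l372))) (.node (nat_lit 29783) (.node (nat_lit 29625) (.node (nat_lit 29546) l373 l374) (.node (nat_lit 29704) l375 l376)) (.node (nat_lit 29941) (.node (nat_lit 29862) l377 l378) (.node (nat_lit 30020) l379 l380))))
noncomputable def n24 : T := (.node (nat_lit 30652) (.node (nat_lit 30336) (.node (nat_lit 30178) l381 (.node (nat_lit 30257) l382 l383)) (.node (nat_lit 30494) (.node (nat_lit 30415) l384 l385) (.node (nat_lit 30573) l386 l387))) (.node (nat_lit 30968) (.node (nat_lit 30810) (.node (nat_lit 30731) l388 l389) (.node (nat_lit 30889) l390 l391)) (.node (nat_lit 31126) (.node (nat_lit 31047) l392 l393) (.node (nat_lit 31205) l394 l395))))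
noncomputable def n25 : T := (.node (nat_lit 31916) (.node (nat_lit 31600) (.node (nat_lit 31442) (.node (nat_lit 31363) l396 l397) (.node (nat_lit 31521) l398 l399)) (.node (nat_lit 31758) (.node (nat_lit 31679) l400 l401) (.node (nat_lit 31837) l402 l403))) (.node (nat_lit 32232) (.node (nat_lit 32074) (.node (nat_lit 31995) l404 l405) (.node (nat_lit 32153) l406 l407)) (.node (nat_lit 32390) (.node (nat_lit 32311) l408 l409) (.node (nat_lit 32469) l410 l411))))
noncomputable def n26 : T := (.node (nat_lit 33180) (.node (nat_lit 32864) (.node (nat_lit 32706) (.node (nat_lit 32627) l412 l413) (.node (nat_lit 32785) l414 l415)) (.node (nat_lit 33022) (.node (nat_lit 32943) l416 l417) (.node (nat_lit 33101) l418 l419))) (.node (nat_lit 33496) (.node (nat_lit 33338) (.node (nat_lit 33259) l420 l421) (.node (nat_lit 33417) l422 l423)) (.node (nat_lit 33654) (.node (nat_lit 33575) l424 l425) (.node (nat_lit 33733) l426 l427))))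
noncomputable def n27 : T := (.node (nat_lit 34444) (.node (nat_lit 34128) (.node (nat_lit 33970) (.node (nat_lit 33891) l428 l429) (.node (nat_lit 34049) l430 l431)) (.node (nat_lit 34286) (.node (nat_lit 34207) l432 l433) (.node (nat_lit 34365) l434 l435))) (.node (nat_lit 34760) (.node (nat_lit 34602) (.node (nat_lit 34523) l436 l437) (.node (nat_lit 34681) l438 l439)) (.node (nat_lit 34918) (.node (nat_lit 34839) l440 l441) (.node (nat_lit 34997) l442 l443))))
noncomputable def n28 : T := (.node (nat_lit 35708) (.node (nat_lit 35392) (.node (nat_lit 35234) (.node (nat_lit 35155) l444 l445) (.node (nat_lit 35313) l446 l447)) (.node (nat_lit 35550) (.node (nat_lit 35471) l448 l449) (.node (nat_lit 35629) l450 l451))) (.node (nat_lit 36024) (.node (nat_lit 35866) (.node (nat_lit 35787) l452 l453) (.node (nat_lit 35945) l454 l455)) (.node (nat_lit 36182) (.node (nat_lit 36103) l456 l457) (.node (nat_lit 36261) l458 l459))))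
noncomputable def n29 : T := (.node (nat_lit 36972) (.node (nat_lit 36656) (.node (nat_lit 36498) (.node (nat_lit 36419) l460 l461) (.node (nat_lit 36577) l462 l463)) (.node (nat_lit 36814) (.node (nat_lit 36735) l464 l465) (.node (nat_lit 36893) l466 l467))) (.node (nat_lit 37288) (.node (nat_lit 37130) (.node (nat_lit 37051) l468 l469) (.node (nat_lit 37209) l470 l471)) (.node (nat_lit 37446) (.node (nat_lit 37367) l472 l473) (.node (nat_lit 37525) l474 l475))))
noncomputable def n30 : T := (.node (nat_lit 38236) (.node (nat_lit 37920) (.node (nat_lit 37762) (.node (nat_lit 37683) l476 l477) (.node (nat_lit 37841) l478 l479)) (.node (nat_lit 38078) (.node (nat_lit 37999) l480 l481) (.node (nat_lit 38157) l482 l483))) (.node (nat_lit 38552) (.node (nat_lit 38394) (.node (nat_lit 38315) l484 l485) (.node (nat_lit 38473) l486 l487)) (.node (nat_lit 38710) (.node (nat_lit 38631) l488 l489) (.node (nat_lit 38789) l490 l491))))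
noncomputable def n31 : T := (.node (nat_lit 39500) (.node (nat_lit 39184) (.node (nat_lit 39026) (.node (nat_lit 38947) l492 l493) (.node (nat_lit 39105) l494 l495)) (.node (nat_lit 39342) (.node (nat_lit 39263) l496 l497) (.node (nat_lit 39421) l498 l499))) (.node (nat_lit 39816) (.node (nat_lit 39658) (.node (nat_lit 39579) l500 l501) (.node (nat_lit 39737) l502 l503)) (.node (nat_lit 39974) (.node (nat_lit 39895) l504 l505) (.node (nat_lit 40053) l506 l507))))
noncomputable def tb : T := (.node (nat_lit 20066) (.node (nat_lit 10033) (.node (nat_lit 4977) (.node (nat_lit 2449) (.node (nat_lit 1185) n0 n1) (.node (nat_lit 3713) n2 n3)) (.node (nat_lit 7505) (.node (nat_lit 6241) n4 n5) (.node (nat_lit 8769) n6 n7))) (.node (nat_lit 15010) (.node (nat_lit 12482) (.node (nat_lit 11218) n8 n9) (.node (nat_lit 13746) n10 n11)) (.node (nat_lit 17538) (.node (nat_lit 16274) n12 n13) (.node (nat_lit 18802) n14 n15)))) (.node (nat_lit 30099) (.node (nat_lit 25043) (.node (nat_lit 22515) (.node (nat_lit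 21251) n16 n17) (.node (nat_lit 23779) n18 n19)) (.node (nat_lit 27571) (.node (nat_lit 26307) n20 n21) (.node (nat_lit 28835) n22 n23))) (.node (nat_lit 35076) (.node (nat_lit 32548) (.node (nat_lit 31284) n24 n25) (.node (nat_lit 33812) n26 n27)) (.node (nat_lit 37604) (.node (nat_lit 36340) n28 n29) (.node (nat_lit 38868) n30 n31)))))
noncomputable def r0 : WT := (.node (nat_lit 6) (.leaf (nat_lit 11264) [nat_lit 135, nat_lit 108, nat_lit 135, nat_lit 108, nat_lit 135, nat_lit 108, nat_lit 135, nat_lit 108]) (.leaf (nat_lit 11281) [nat_lit 108, nat_lit 135, nat_lit 108, nat_lit 135, nat_lit 108, nat_lit 135, nat_lit 108, nat_lit 135]))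
noncomputable def w0 : WT := (.node (nat_lit 1) (.leaf (nat_lit 0) [nat_lit 54]) (.node (nat_lit 3) (.node (nat_lit 2) (.leaf (nat_lit 16386) [nat_lit 189, nat_lit 54, nat_lit 216]) (.leaf (nat_lit 7168) [nat_lit 162, nat_lit 54, nat_lit 162])) (.node (nat_lit 4) (.leaf (nat_lit 16390) [nat_lit 216, nat_lit 54, nat_lit 189]) (.node (nat_lit 5) (.leaf (nat_lit 6144) [nat_lit 81, nat_lit 54, nat_lit 81, nat_lit 54, nat_lit 81]) r0))))
noncomputable def r1 : WT := (.leaf (nat_lit 14343) [nat_lit 162, nat_lit 135, nat_lit 108, nat_lit 81, nat_lit 162, nat_lit 135, nat_lit 108, nat_lit 81, nat_lit 162, nat_lit 135, nat_lit 108, nat_lit 81, nat_lit 162, nat_lit 135, nat_lit 108, nat_lit 81, nat_lit 162, nat_lit 135, nat_lit 108, nat_lit 81, nat_lit 162, nat_lit 135, nat_lit 108, nat_lit 81, nat_lit 162, nat_lit 135, nat_lit 108, nat_lit 81, nat_lit 162, nat_lit 135, nat_lit 108])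
noncomputable def r2 : WT := (.leaf (nat_lit 14336) [nat_lit 108, nat_lit 135, nat_lit 162, nat_lit 81, nat_lit 108, nat_lit 135, nat_lit 162, nat_lit 81, nat_lit 108, nat_lit 135, nat_lit 162, nat_lit 81, nat_lit 108, nat_lit 135, nat_lit 162, nat_lit 81, nat_lit 108, nat_lit 135, nat_lit 162, nat_lit 81, nat_lit 108, nat_lit 135, nat_lit 162, nat_lit 81, nat_lit 108, nat_lit 135, nat_lit 162, nat_lit 81, nat_lit 108, nat_lit 135, nat_lit 162])
noncomputable def r3 : WT := (.node (nat_lit 7) (.leaf (nat_lit 6146) [nat_lit 54, nat_lit 81, nat_lit 54, nat_lit 81, nat_lit 54]) (.node (nat_lit 8) r1 r2))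
noncomputable def w1 : WT := (.node (nat_lit 1) (.leaf (nat_lit 1024) [nat_lit 81]) (.node (nat_lit 3) (.node (nat_lit 2) (.leaf (nat_lit 17410) [nat_lit 189, nat_lit 81, nat_lit 216]) (.leaf (nat_lit 10240) [nat_lit 162, nat_lit 81, nat_lit 162])) (.node (nat_lit 5) (.node (nat_lit 4) (.leaf (nat_lit 8192) [nat_lit 108, nat_lit 81, nat_lit 108, nat_lit 81, nat_lit 108]) (.leaf (nat_lit 17414) [nat_lit 216, nat_lit 81, nat_lit 189])) (.node (nat_lit 6) (.leaf (nat_lit 9216) [nat_lit 135, nat_lit 81, nat_lit 135]) r3))))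
noncomputable def r4 : WT := (.leaf (nat_lit 14338) [nat_lit 135, nat_lit 162, nat_lit 81, nat_lit 108, nat_lit 135, nat_lit 162, nat_lit 81, nat_lit 108, nat_lit 135, nat_lit 162, nat_lit 81, nat_lit 108, nat_lit 135, nat_lit 162, nat_lit 81, nat_lit 108, nat_lit 135, nat_lit 162, nat_lit 81, nat_lit 108, nat_lit 135, nat_lit 162, nat_lit 81, nat_lit 108, nat_lit 135, nat_lit 162, nat_lit 81, nat_lit 108, nat_lit 135, nat_lit 162, nat_lit 81])
noncomputable def r5 : WT := (.leaf (nat_lit 14341) [nat_lit 81, nat_lit 162, nat_lit 135, nat_lit 108, nat_lit 81, nat_lit 162, nat_lit 135, nat_lit 108, nat_lit 81, nat_lit 162, nat_lit 135, nat_lit 108, nat_lit 81, nat_lit 162, nat_lit 135, nat_lit 108, nat_lit 81, nat_lit 162, nat_lit 135, nat_lit 108, nat_lit 81, nat_lit 162, nat_lit 135, nat_lit 108, nat_lit 81, nat_lit 162, nat_lit 135, nat_lit 108, nat_lit 81, nat_lit 162, nat_lit 135])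
noncomputable def r6 : WT := (.node (nat_lit 10) (.leaf (nat_lit 11280) [nat_lit 54, nat_lit 135, nat_lit 108, nat_lit 135, nat_lit 108, nat_lit 135, nat_lit 108, nat_lit 135]) (.node (nat_lit 12) (.node (nat_lit 11) r4 (.leaf (nat_lit 11269) [nat_lit 135, nat_lit 108, nat_lit 135, nat_lit 108, nat_lit 135, nat_lit 54, nat_lit 108, nat_lit 135])) (.node (nat_lit 13) r5 (.node (nat_lit 14) (.leaf (nat_lit 11277) [nat_lit 135, nat_lit 54, nat_lit 108, nat_lit 135, nat_lit 108, nat_lit 135, nat_lit 108, nat_lit 135]) (.leaf (nat_lit 11273) [nat_lit 135, nat_lit 108, nat_lit 135, nat_lit 54, nat_lit 108, nat_lit 135, nat_lit 108, nat_lit 135])))))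
noncomputable def r7 : WT := (.node (nat_lit 6) (.leaf (nat_lit 11268) [nat_lit 135, nat_lit 108, nat_lit 135, nat_lit 108, nat_lit 135, nat_lit 108, nat_lit 54, nat_lit 135]) (.node (nat_lit 7) (.leaf (nat_lit 11265) [nat_lit 135, nat_lit 108, nat_lit 135, nat_lit 108, nat_lit 135, nat_lit 108, nat_lit 135, nat_lit 54]) (.node (nat_lit 8) (.leaf (nat_lit 11272) [nat_lit 135, nat_lit 108, nat_lit 135, nat_lit 108, nat_lit 54, nat_lit 135, nat_lit 108, nat_lit 135]) (.node (nat_lit 9) (.leaf (nat_lit 11276) [nat_lit 135, nat_lit 108, nat_lit 54, nat_lit 135, nat_lit 108, nat_lit 135, nat_lit 108, nat_lit 135]) r6))))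
noncomputable def w2 : WT := (.node (nat_lit 1) (.leaf (nat_lit 2048) [nat_lit 108]) (.node (nat_lit 3) (.node (nat_lit 2) (.leaf (nat_lit 18434) [nat_lit 189, nat_lit 108, nat_lit 216]) (.leaf (nat_lit 12288) [nat_lit 162, nat_lit 108, nat_lit 162])) (.node (nat_lit 4) (.leaf (nat_lit 18438) [nat_lit 216, nat_lit 108, nat_lit 189]) (.node (nat_lit 5) (.leaf (nat_lit 8194) [nat_lit 81, nat_lit 108, nat_lit 81, nat_lit 108, nat_lit 81]) r7))))
noncomputable def r8 : WT := (.leaf (nat_lit 14340) [nat_lit 162, nat_lit 81, nat_lit 108, nat_lit 135, nat_lit 162, nat_lit 81, nat_lit 108, nat_lit 135, nat_lit 162, nat_lit 81, nat_lit 108, nat_lit 135, nat_lit 162, nat_lit 81, nat_lit 108, nat_lit 135, nat_lit 162, nat_lit 81, nat_lit 108, nat_lit 135, nat_lit 162, nat_lit 81, nat_lit 108, nat_lit 135, nat_lit 162, nat_lit 81, nat_lit 108, nat_lit 135, nat_lit 162, nat_lit 81, nat_lit 108])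
noncomputable def r9 : WT := (.node (nat_lit 10) (.leaf (nat_lit 11274) [nat_lit 108, nat_lit 135, nat_lit 108, nat_lit 54, nat_lit 135, nat_lit 108, nat_lit 135, nat_lit 108]) r8)
noncomputable def r10 : WT := (.leaf (nat_lit 14339) [nat_lit 108, nat_lit 81, nat_lit 162, nat_lit 135, nat_lit 108, nat_lit 81, nat_lit 162, nat_lit 135, nat_lit 108, nat_lit 81, nat_lit 162, nat_lit 135, nat_lit 108, nat_lit 81, nat_lit 162, nat_lit 135, nat_lit 108, nat_lit 81, nat_lit 162, nat_lit 135, nat_lit 108, nat_lit 81, nat_lit 162, nat_lit 135, nat_lit 108, nat_lit 81, nat_lit 162, nat_lit 135, nat_lit 108, nat_lit 81, nat_lit 162])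
noncomputable def r11 : WT := (.node (nat_lit 12) r10 (.node (nat_lit 13) (.leaf (nat_lit 11278) [nat_lit 108, nat_lit 54, nat_lit 135, nat_lit 108, nat_lit 135, nat_lit 108, nat_lit 135, nat_lit 108]) (.node (nat_lit 14) (.leaf (nat_lit 11275) [nat_lit 108, nat_lit 135, nat_lit 54, nat_lit 108, nat_lit 135, nat_lit 108, nat_lit 135, nat_lit 108]) (.leaf (nat_lit 11271) [nat_lit 108, nat_lit 135, nat_lit 108, nat_lit 135, nat_lit 54, nat_lit 108, nat_lit 135, nat_lit 108]))))
noncomputable def r12 : WT := (.node (nat_lit 6) (.leaf (nat_lit 11270) [nat_lit 108, nat_lit 135, nat_lit 108, nat_lit 135, nat_lit 108, nat_lit 54, nat_lit 135, nat_lit 108]) (.node (nat_lit 7) (.leaf (nat_lit 11266) [nat_lit 108, nat_lit 135, nat_lit 108, nat_lit 135, nat_lit 108, nat_lit 135, nat_lit 108, nat_lit 54]) (.node (nat_lit 9) (.node (nat_lit 8) (.leaf (nat_lit 11267) [nat_lit 108, nat_lit 135, nat_lit 108, nat_lit 135, nat_lit 108, nat_lit 135, nat_lit 54, nat_lit 108]) (.leaf (nat_lit 11279) [nat_lit 54,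 nat_lit 108, nat_lit 135, nat_lit 108, nat_lit 135, nat_lit 108, nat_lit 135, nat_lit 108])) (.node (nat_lit 11) r9 r11))))
noncomputable def w3 : WT := (.node (nat_lit 1) (.leaf (nat_lit 3072) [nat_lit 135]) (.node (nat_lit 2) (.leaf (nat_lit 19457) [nat_lit 216, nat_lit 135, nat_lit 216]) (.node (nat_lit 4) (.node (nat_lit 3) (.leaf (nat_lit 19458) [nat_lit 189, nat_lit 135, nat_lit 189]) (.leaf (nat_lit 13312) [nat_lit 162, nat_lit 135, nat_lit 162, nat_lit 135, nat_lit 162])) (.node (nat_lit 5) (.leaf (nat_lit 9218) [nat_lit 81, nat_lit 135, nat_lit 81]) r12))))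
noncomputable def r13 : WT := (.node (nat_lit 7) (.leaf (nat_lit 20480) [nat_lit 216, nat_lit 162, nat_lit 216, nat_lit 216, nat_lit 162, nat_lit 189, nat_lit 189, nat_lit 189]) (.leaf (nat_lit 20490) [nat_lit 189, nat_lit 189, nat_lit 189, nat_lit 162, nat_lit 216, nat_lit 162, nat_lit 216, nat_lit 216]))
noncomputable def r14 : WT := (.leaf (nat_lit 14342) [nat_lit 81, nat_lit 108, nat_lit 135, nat_lit 162, nat_lit 81, nat_lit 108, nat_lit 135, nat_lit 162, nat_lit 81, nat_lit 108, nat_lit 135, nat_lit 162, nat_lit 81, nat_lit 108, nat_lit 135, nat_lit 162, nat_lit 81, nat_lit 108, nat_lit 135, nat_lit 162, nat_lit 81, nat_lit 108, nat_lit 135, nat_lit 162, nat_lit 81, nat_lit 108, nat_lit 135, nat_lit 162, nat_lit 81, nat_lit 108, nat_lit 135])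
noncomputable def r15 : WT := (.leaf (nat_lit 14337) [nat_lit 135, nat_lit 108, nat_lit 81, nat_lit 162, nat_lit 135, nat_lit 108, nat_lit 81, nat_lit 162, nat_lit 135, nat_lit 108, nat_lit 81, nat_lit 162, nat_lit 135, nat_lit 108, nat_lit 81, nat_lit 162, nat_lit 135, nat_lit 108, nat_lit 81, nat_lit 162, nat_lit 135, nat_lit 108, nat_lit 81, nat_lit 162, nat_lit 135, nat_lit 108, nat_lit 81, nat_lit 162, nat_lit 135, nat_lit 108, nat_lit 81])
noncomputable def r16 : WT := (.node (nat_lit 9) (.leaf (nat_lit 20493) [nat_lit 189, nat_lit 162, nat_lit 216, nat_lit 216, nat_lit 216, nat_lit 162, nat_lit 189, nat_lit 189]) (.node (nat_lit 10) (.leaf (nat_lit 20497) [nat_lit 216, nat_lit 216, nat_lit 216, nat_lit 162, nat_lit 189, nat_lit 189, nat_lit 162, nat_lit 189]) (.node (nat_lit 11) (.leaf (nat_lit 20487) [nat_lit 189, nat_lit 189, nat_lit 162, nat_lit 189, nat_lit 162, nat_lit 216, nat_lit 216, nat_lit 216]) (.node (nat_lit 12) r14 r15))))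
noncomputable def w4 : WT := (.node (nat_lit 1) (.leaf (nat_lit 4096) [nat_lit 162]) (.node (nat_lit 4) (.node (nat_lit 2) (.leaf (nat_lit 12290) [nat_lit 108, nat_lit 162, nat_lit 108]) (.node (nat_lit 3) (.leaf (nat_lit 20484) [nat_lit 216, nat_lit 216, nat_lit 162, nat_lit 189, nat_lit 189, nat_lit 189, nat_lit 162, nat_lit 216]) (.leaf (nat_lit 13314) [nat_lit 135, nat_lit 162, nat_lit 135, nat_lit 162, nat_lit 135]))) (.node (nat_lit 6) (.node (nat_lit 5) (.leaf (nat_lit 10242) [nat_lit 81, nat_lit 162, nat_lit 81]) (.leaf (nat_lit 7170) [nat_lit 54, nat_lit 162, nat_lit 54])) (.node (nat_lit 8) r13 r16))))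
noncomputable def r17 : WT := (.node (nat_lit 8) (.leaf (nat_lit 20495) [nat_lit 162, nat_lit 216, nat_lit 216, nat_lit 216, nat_lit 162, nat_lit 189, nat_lit 189, nat_lit 162]) (.node (nat_lit 10) (.node (nat_lit 9) (.leaf (nat_lit 20496) [nat_lit 162, nat_lit 216, nat_lit 162, nat_lit 216, nat_lit 216, nat_lit 162, nat_lit 189, nat_lit 189]) (.leaf (nat_lit 20494) [nat_lit 189, nat_lit 162, nat_lit 216, nat_lit 162, nat_lit 216, nat_lit 216, nat_lit 162, nat_lit 189])) (.node (nat_lit 11) (.leaf (nat_lit 20489) [nat_lit 189, nat_lit 162, nat_lit 189, nat_lit 162, nat_lit 216, nat_lit 216, nat_lit 216, nat_lit 162]) (.leaf (nat_lit 20491) [nat_lit 162, nat_lit 189, nat_lit 162, nat_lit 216, nat_lit 216, nat_lit 216, nat_lit 162, nat_lit 189]))))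
noncomputable def w5 : WT := (.node (nat_lit 1) (.leaf (nat_lit 5120) [nat_lit 216]) (.node (nat_lit 4) (.node (nat_lit 2) (.leaf (nat_lit 18436) [nat_lit 108, nat_lit 216, nat_lit 108]) (.node (nat_lit 3) (.leaf (nat_lit 16388) [nat_lit 54, nat_lit 216, nat_lit 54]) (.leaf (nat_lit 17412) [nat_lit 81, nat_lit 216, nat_lit 81]))) (.node (nat_lit 6) (.node (nat_lit 5) (.leaf (nat_lit 15360) [nat_lit 189, nat_lit 189, nat_lit 189, nat_lit 189, nat_lit 189, nat_lit 189]) (.leaf (nat_lit 19456) [nat_lit 135, nat_lit 189, nat_lit 135])) (.node (nat_lit 7) (.leaf (nat_lit 20492) [nat_lit 189, nat_lit 189, nat_lit 162, nat_lit 216, nat_lit 162, nat_lit 216, nat_lit 216, nat_lit 162]) r17))))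
noncomputable def r18 : WT := (.node (nat_lit 6) (.leaf (nat_lit 20482) [nat_lit 162, nat_lit 216, nat_lit 216, nat_lit 162, nat_lit 189, nat_lit 189, nat_lit 189, nat_lit 162]) (.leaf (nat_lit 16384) [nat_lit 54, nat_lit 189, nat_lit 54]))
noncomputable def r19 : WT := (.node (nat_lit 8) (.leaf (nat_lit 20486) [nat_lit 216, nat_lit 162, nat_lit 189, nat_lit 189, nat_lit 189, nat_lit 162, nat_lit 216, nat_lit 162]) (.node (nat_lit 9) (.leaf (nat_lit 20488) [nat_lit 162, nat_lit 189, nat_lit 189, nat_lit 189, nat_lit 162, nat_lit 216, nat_lit 162, nat_lit 216]) (.node (nat_lit 10) (.leaf (nat_lit 20481) [nat_lit 216, nat_lit 216, nat_lit 162, nat_lit 189, nat_lit 189, nat_lit 162, nat_lit 189, nat_lit 162]) (.node (nat_lit 11) (.leaf (nat_lit 20485) [nat_lit 162, nat_lit 189, nat_lit 189, nat_lit 162, nat_lit 189, nat_lit 162, nat_lit 216, nat_lit 216]) (.leaf (nat_lit 20483) [nat_lit 216, nat_lit 162, nat_lit 189, nat_lit 189, nat_lit 162, nat_lit 189, nat_lit 162, nat_lit 216])))))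
noncomputable def w6 : WT := (.node (nat_lit 1) (.leaf (nat_lit 5122) [nat_lit 189]) (.node (nat_lit 3) (.node (nat_lit 2) (.leaf (nat_lit 19459) [nat_lit 135, nat_lit 216, nat_lit 135]) (.leaf (nat_lit 15361) [nat_lit 216, nat_lit 216, nat_lit 216, nat_lit 216, nat_lit 216, nat_lit 216])) (.node (nat_lit 5) (.node (nat_lit 4) (.leaf (nat_lit 18432) [nat_lit 108, nat_lit 189, nat_lit 108]) (.leaf (nat_lit 17408) [nat_lit 81, nat_lit 189, nat_lit 81])) (.node (nat_lit 7) r18 r19))))
noncomputable def r20 : WT := (.node (nat_lit 6) (.leaf (nat_lit 13314) [nat_lit 162, nat_lit 135, nat_lit 162, nat_lit 135, nat_lit 162, nat_lit 135]) (.leaf (nat_lit 20490) [nat_lit 162, nat_lit 189, nat_lit 189, nat_lit 189, nat_lit 162, nat_lit 216, nat_lit 162, nat_lit 216, nat_lit 216]))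
noncomputable def r21 : WT := (.node (nat_lit 8) (.leaf (nat_lit 20497) [nat_lit 162, nat_lit 216, nat_lit 216, nat_lit 216, nat_lit 162, nat_lit 189, nat_lit 189, nat_lit 162, nat_lit 189]) (.leaf (nat_lit 16386) [nat_lit 54, nat_lit 189, nat_lit 54, nat_lit 216]))
noncomputable def r22 : WT := (.node (nat_lit 10) (.leaf (nat_lit 20484) [nat_lit 162, nat_lit 216, nat_lit 216, nat_lit 162, nat_lit 189, nat_lit 189, nat_lit 189, nat_lit 162, nat_lit 216]) (.node (nat_lit 11) (.leaf (nat_lit 20487) [nat_lit 162, nat_lit 189, nat_lit 189, nat_lit 162, nat_lit 189, nat_lit 162, nat_lit 216, nat_lit 216, nat_lit 216]) (.leaf (nat_lit 18434) [nat_lit 108, nat_lit 189, nat_lit 108, nat_lit 216])))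
noncomputable def r23 : WT := (.leaf (nat_lit 14341) [nat_lit 108, nat_lit 81, nat_lit 162, nat_lit 135, nat_lit 108, nat_lit 81, nat_lit 162, nat_lit 135, nat_lit 108, nat_lit 81, nat_lit 162, nat_lit 135, nat_lit 108, nat_lit 81, nat_lit 162, nat_lit 135, nat_lit 108, nat_lit 81, nat_lit 162, nat_lit 135, nat_lit 108, nat_lit 81, nat_lit 162, nat_lit 135, nat_lit 108, nat_lit 81, nat_lit 162, nat_lit 135, nat_lit 108, nat_lit 81, nat_lit 162, nat_lit 135])
noncomputable def r24 : WT := (.leaf (nat_lit 14342) [nat_lit 162, nat_lit 81, nat_lit 108, nat_lit 135, nat_lit 162, nat_lit 81, nat_lit 108, nat_lit 135, nat_lit 162, nat_lit 81, nat_lit 108, nat_lit 135, nat_lit 162, nat_lit 81, nat_lit 108, nat_lit 135, nat_lit 162, nat_lit 81, nat_lit 108, nat_lit 135, nat_lit 162, nat_lit 81, nat_lit 108, nat_lit 135, nat_lit 162, nat_lit 81, nat_lit 108, nat_lit 135, nat_lit 162, nat_lit 81, nat_lit 108, nat_lit 135])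
noncomputable def r25 : WT := (.leaf (nat_lit 14339) [nat_lit 135, nat_lit 108, nat_lit 81, nat_lit 162, nat_lit 135, nat_lit 108, nat_lit 81, nat_lit 162, nat_lit 135, nat_lit 108, nat_lit 81, nat_lit 162, nat_lit 135, nat_lit 108, nat_lit 81, nat_lit 162, nat_lit 135, nat_lit 108, nat_lit 81, nat_lit 162, nat_lit 135, nat_lit 108, nat_lit 81, nat_lit 162, nat_lit 135, nat_lit 108, nat_lit 81, nat_lit 162, nat_lit 135, nat_lit 108, nat_lit 81, nat_lit 162])
noncomputable def r26 : WT := (.node (nat_lit 15) (.node (nat_lit 13) (.leaf (nat_lit 11272) [nat_lit 108, nat_lit 135, nat_lit 108, nat_lit 135, nat_lit 108, nat_lit 54, nat_lit 135, nat_lit 108, nat_lit 135]) (.node (nat_lit 14) r23 r24)) (.node (nat_lit 16) r25 (.node (nat_lit 17) (.leaf (nat_lit 7170) [nat_lit 162, nat_lit 54, nat_lit 162, nat_lit 54]) (.leaf (nat_lit 11281) [nat_lit 54, nat_lit 108, nat_lit 135, nat_lit 108, nat_lit 135, nat_lit 108, nat_lit 135, nat_lit 108, nat_lit 135]))))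
noncomputable def r27 : WT := (.node (nat_lit 21) (.node (nat_lit 19) (.leaf (nat_lit 11280) [nat_lit 108, nat_lit 54, nat_lit 135, nat_lit 108, nat_lit 135, nat_lit 108, nat_lit 135, nat_lit 108, nat_lit 135]) (.node (nat_lit 20) (.leaf (nat_lit 8194) [nat_lit 108, nat_lit 81, nat_lit 108, nat_lit 81, nat_lit 108, nat_lit 81]) (.leaf (nat_lit 6144) [nat_lit 54, nat_lit 81, nat_lit 54, nat_lit 81, nat_lit 54, nat_lit 81]))) (.node (nat_lit 23) (.node (nat_lit 22) (.leaf (nat_lit 18438) [nat_lit 108, nat_lit 216, nat_lit 108, nat_lit 189]) (.leaf (nat_lit 17414) [nat_lit 81, nat_lit 216, nat_lit 81, nat_lit 189])) (.node (nat_lit 24) (.leaf (nat_lit 12288) [nat_lit 108, nat_lit 162, nat_lit 108, nat_lit 162]) (.leaf (nat_lit 10240) [nat_lit 81, nat_lit 162, nat_lit 81, nat_lit 162]))))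
noncomputable def wP : WT := (.node (nat_lit 3) (.node (nat_lit 1) (.leaf (nat_lit 11266) [nat_lit 135, nat_lit 108, nat_lit 135, nat_lit 108, nat_lit 135, nat_lit 108, nat_lit 135, nat_lit 108, nat_lit 54]) (.node (nat_lit 2) (.leaf (nat_lit 11268) [nat_lit 108, nat_lit 135, nat_lit 108, nat_lit 135, nat_lit 108, nat_lit 135, nat_lit 108, nat_lit 54, nat_lit 135]) (.leaf (nat_lit 13312) [nat_lit 135, nat_lit 162, nat_lit 135, nat_lit 162, nat_lit 135, nat_lit 162]))) (.node (nat_lit 7) (.node (nat_lit 4) (.leaf (nat_lit 11265) [nat_lit 108, nat_lit 135, nat_lit 108, nat_lit 135, nat_lit 108, nat_lit 135, nat_lit 108, nat_lit 135, nat_lit 54]) (.node (nat_lit 5) (.leaf (nat_lit 11269) [nat_lit 108, nat_lit 135, nat_lit 108, nat_lit 135, nat_lit 108, nat_lit 135, nat_lit 54, nat_lit 108, nat_lit 135]) r20)) (.node (nat_lit 12) (.node (nat_lit 9) r21 r22) (.node (nat_lit 18) r26 r27))))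
noncomputable def P : Par := ⟨tb, nat_lit 243, nat_lit 0x7ffffffffffffffffffffffffffffffffffffffffffffffffffffffffffff, nat_lit 40101, nat_lit 134217727, nat_lit 65535, nat_lit 27, nat_lit 16, nat_lit 17472,
  [nat_lit 54, nat_lit 81, nat_lit 108, nat_lit 135, nat_lit 162, nat_lit 189, nat_lit 216], [nat_lit 54, nat_lit 81, nat_lit 108, nat_lit 135, nat_lit 162], wP,
  (.cons (nat_lit 54) w0 (.cons (nat_lit 81) w1 (.cons (nat_lit 108) w2 (.cons (nat_lit 135) w3 (.cons (nat_lit 162) w4 (.cons (nat_lit 189) w5 (.cons (nat_lit 216) w6 .nil))))))),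
  .nil⟩

end Cfsg.Agent.Lib.TCTh2
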