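import Cfsg.Agent.Lib.TCTh3P

set_option autoImplicit false
set_option maxRecDepth 100000

namespace Cfsg.Agent.Lib.TCTh3
open Cfsg.Agent.Lib.TCCore

theorem k0 : P.RowsS 0 126 := P.rowsS_of_chk _ _ [nat_lit 0x4000103010301000040404040400010000404040404000102010401000040404040400010000404040404000102010401000040400037f800040404008080008040404000401020101050000c08040001401004000500, nat_lit 0x102000100410100001040101000040400030103010000c08040c041c0001040401000041404080400010000c04040c040001010501010100004000103010101000080c040c04000101010101000040001010101, nat_lit 0x30102000080003010103010201000080400040104010105010001400010101010000404041004000401010100004040804040400010101010000814040400010102010000804141400010101010000001020301, nat_lit 0x101030000c04080400020301030000810040001010101000040414000401050000408040c04040400020206000041004140404000000404040c0400080105010105010000003010301010000408040001020103, nat_lit 0x401000063a0001010000636000201010500004040004010000c040c04040003020202010105000000101030101010105000040001020100004040c0c04040c0002030203000040404040001040200010080c04040002, nat_lit 0x10001004140804140400040400010040404000101010001008100400040201010000404100001020303010201000080410000104010501010000410000401010100010140400040104010001808040400010101, nat_lit 0x50001c08140804140c000201010500000020103010000c04040400010201010000c04040c00010201030000c080c040001010101010101050000400010201040100010040c08040002010103000040408040002,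 nat_lit 0xc080c000202060506000101000010105000100810140001018f800140001020103010300008000102010300004080c0404181414000104000100404100001040500004080c0c040c0002] (by decide +kernel)
theorem k1 : P.RowsT 126 143 := P.rowsT_of_chk _ _ [nat_lit 0x200001400508e05a00000008c62c0b40000001004002212012c00000852604b0000000d261c16800004008c4d04b000050022cc412c00000278605a0000020c2407800000001000018180000301000120412c0000400002, nat_lit 0x1] (by decide +kernel)
theorem s0 : P.RowsS 0 126 := k0
theorem t0 : P.RowsT 126 143 := k1

end Cfsg.Agent.Lib.TCTh3
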