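import Cfsg.Agent.Lib.TCDefs

set_option autoImplicit false
set_option maxRecDepth 100000

namespace Cfsg.Agent.Lib.TCTh3
open Cfsg.Agent.Lib.TCCore

noncomputable def l0 : T := .leaf (nat_lit 0) (nat_lit 0x7ffffffffffffffa279a2f400788c6fffffffffffc714a850003dffffffffffffffe34a14a7801efffe5d27fffb88bffff0134025ffff1c4ffffdcc67fff4e62012ffff9648fffffffffffc3430097fffc6937ffffffffffd512004b390f090ffffffffffff092002d1d88369bfffffffffff8292012d2429531fffffffffffa8270097fffc6127ffffffffffd493004bfffffffffffffff1212902000f7ffffffffffffff88084612007bfff8303fffffffffffa00300966410bc07ffffffffffcd82004bfffe6204b0b7ffffffe701401e7ffffffe1c1c2837fff0e0c00b693f517ea0fc8df2abf7fff005b49f69bed17aa8fa8df3fff801ea2f941f113ca47e48fbfffc01e4f7b42f141ed1bd517bfffe012e6bd2077a4fa91ee93cffff009741e50bb237c9ef28e3ffff804b9ae689ee6b920779ef1fffc0169f7442f485b50bc2176fffe016903aa2799edd39d913bffff00b485da7bacd659aea7dd3fff801e40ef31d0f334b7340ebfffc01e4e7866e6456263a3473fffe00f192c1e719cf0c9ada397fff009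67d70fb936713ad8d9c7fff802d6aaa79bda33b67068d7fffc025b35b3ee0c9b1ab79d6cfffe00790b2cf6da0ed35a4fb6ffff003c799a737227796d481bbfff805a38b4c1ad9b79e713cdffffc02d105762d849a99b93570fffe01687ab2f6926d731b48b3ffff00b4414d8352a699cdcb1a3fff805a1ea4459d3b428675ad3fffc02d0e5124d0d5c14b4126afffe0168fb6cb613ee92558eb2ffff003c89b8e324e758ea6799bfff804b94c27594db1c5508ec3fffc01e486238c47190d2fc662fffe00b64b19d638cc26d823b1ffff005b2d9253347621c9f1993fff802d8ebe697e2241c628abbfffc025c66036c10d24db1995efffe0078daec15d3094e974d2fffff0078717a12f154776bd1983fff803c40e2710182e1e5a62b9fffc025b46f30b2c16932db25afffe012ceb61b3d62b67d718adffff00965d50cad992f4ab2b8f7fff805a66e4c504939905762b1fffc016916b5e783d588ac2f55fffe00f08352d4f20af2998728ffff003cd9c15aa0e5150aac15ffff803c30b2b154b1724545879fffc01e11691ea0a54e432aa52fffe012c8340e294ca499455a9ffff00963d9c6940f554ea43d5bfff804b229e414c713c6645253fffc01e12505cac34987b0aa28fffe00f20a6c0448096f8b0d267fff003d0938e439a4c7c63012ffff803c32966d14da6bc3b369dfff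c02d1a4c3094fd39d1a3f4dfffe012cca3994b32bce0d4ba4ffff003c5920c46445f6c4e612bfff805a2e925e2a2b034262a8ffffc00f1a4a288c597591b1648fffe012c9a29547748a54dd321ffff00b45118e26394624745513fff802d4886fd393a193252c8bfffc016a5448710a1106122746fffe00b4f9fa142368274711217fff0078750192c1c423478b907fff802d3c827570e9f9b3d5e81fffc016a042407c7900c0da03ffffe00b431f213f0c7c106909f7fff005a70f0e2d1a1d3880bd67fff803c3a7ac15cc8c9b415aa9fffc01e32342474a0cdea63932fffe012c89b933b6e724d14988ffff00b4d8e1b1c383a2470d087fff802d6a72d4e489b93396441fffc01e123a606c48e0b231010fffe0078a9ab1375e6acd1d687ffff00b458d8a1a2e367294ac3bfff804b667654d54993b4b2667fffc00f12324c1ca4ed2151434fffe0168999911154684cadd1dffff009650b0b43242a7e9a90abfff805a325aa8bd218172f542bfffc016962e52606964c18281dfffe0168b97a7222ea854b530cffff005a68c0a11a32d2c5c9053fff804b2a628895015bf4e2657fffc00f222a242484b0a19142cfffe012d1958d0d4a6294cd298ffff00963ca07a90d0d48503e3bfff803c2052394460625291d1bfffc01e0f261f163d41ba48d0dfffe00788138e891c9ed520606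7fff003c889109623232888484bfff801e464a36152110d431617fffc00f22222a5a88952911313fffe0079191a82e4a48988c5057fff003c448141013114c3cd4e7fff805a24429c84808241f6671fffc01e0b1e443c2425290241efffe00f060fa31f10109c8528fffff0078646510a9b3d362ea4bffff805a30368070d0c1e42400dfffc02d191c3c345c5cc9f9e05fffe00f028d1f1b060614f8f827fff007868750051a3c30309cbbfff802d2e2e7824d8e1919400ffffc02d18182c2c606ce0e9e16fffe012cf0397172f005454f8bffff005a505118e9e152c2cacc3fff805a2a2a4c4cf8a1e074a5bfffc025a00a282848490041423fffe00f1105932b26264444992ffff005a40409191421242450ebfff805a22223c3c890220b226ffffc025a40e202038392062e36fffe00f1287a7331e1e343561affff005a30307150e291c1c389ffff805a1a1a2c2c694230f1a4dfffc025a112181828291880c24fffe00f1089a119161624245917fff005a2020f8c0a1f14142a13fff805a12121c1c48f1f131307fffc0259d16101019fcf8a2118fffe00f02029d06100e19fd08e7fff00b414181821d160a0a7c6ffff804b3502101410104044035fffc01e0403090410682018202fffe0078181030206080404181ffff005a0404080810104040407fff8000)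

end Cfsg.Agent.Lib.TCTh3
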