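import Cfsg.Agent.Lib.TCTh3D0

set_option autoImplicit false
set_option maxRecDepth 100000

namespace Cfsg.Agent.Lib.TCTh3
open Cfsg.Agent.Lib.TCCore

noncomputable def tb : T := l0
noncomputable def w0 : WT := (.node (nat_lit 1) (.leaf (nat_lit 0) [nat_lit 30]) (.node (nat_lit 3) (.node (nat_lit 2) (.leaf (nat_lit 5120) [nat_lit 45, nat_lit 30, nat_lit 45, nat_lit 30, nat_lit 45]) (.leaf (nat_lit 6144) [nat_lit 90, nat_lit 30, nat_lit 90])) (.node (nat_lit 4) (.leaf (nat_lit 10240) [nat_lit 75, nat_lit 60, nat_lit 75, nat_lit 60, nat_lit 75, nat_lit 60, nat_lit 75, nat_lit 60]) (.leaf (nat_lit 10257) [nat_lit 60, nat_lit 75, nat_lit 60, nat_lit 75, nat_lit 60, nat_lit 75, nat_lit 60, nat_lit 75]))))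
noncomputable def r0 : WT := (.leaf (nat_lit 13312) [nat_lit 60, nat_lit 75, nat_lit 90, nat_lit 45, nat_lit 60, nat_lit 75, nat_lit 90, nat_lit 45, nat_lit 60, nat_lit 75, nat_lit 90, nat_lit 45, nat_lit 60, nat_lit 75, nat_lit 90, nat_lit 45, nat_lit 60, nat_lit 75, nat_lit 90, nat_lit 45, nat_lit 60, nat_lit 75, nat_lit 90, nat_lit 45, nat_lit 60, nat_lit 75, nat_lit 90, nat_lit 45, nat_lit 60, nat_lit 75, nat_lit 90])
noncomputable def w1 : WT := (.node (nat_lit 1) (.leaf (nat_lit 1024) [nat_lit 45]) (.node (nat_lit 3) (.node (nat_lit 2) (.leaf (nat_lit 8192) [nat_lit 75, nat_lit 45, nat_lit 75]) (.leaf (nat_lit 9216) [nat_lit 90, nat_lit 45, nat_lit 90])) (.node (nat_lit 4) (.leaf (nat_lit 7168) [nat_lit 60, nat_lit 45, nat_lit 60, nat_lit 45, nat_lit 60]) (.node (nat_lit 5) (.leaf (nat_lit 5122) [nat_lit 30, nat_lit 45, nat_lit 30, nat_lit 45, nat_lit 30]) r0))))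
noncomputable def r1 : WT := (.node (nat_lit 6) (.leaf (nat_lit 10248) [nat_lit 75, nat_lit 60, nat_lit 75, nat_lit 60, nat_lit 30, nat_lit 75, nat_lit 60, nat_lit 75]) (.node (nat_lit 7) (.leaf (nat_lit 10252) [nat_lit 75, nat_lit 60, nat_lit 30, nat_lit 75, nat_lit 60, nat_lit 75, nat_lit 60, nat_lit 75]) (.leaf (nat_lit 10256) [nat_lit 30, nat_lit 75, nat_lit 60, nat_lit 75, nat_lit 60, nat_lit 75, nat_lit 60, nat_lit 75])))
noncomputable def w2 : WT := (.node (nat_lit 1) (.leaf (nat_lit 2048) [nat_lit 60]) (.node (nat_lit 3) (.node (nat_lit 2) (.leaf (nat_lit 11264) [nat_lit 90, nat_lit 60, nat_lit 90]) (.leaf (nat_lit 7170) [nat_lit 45, nat_lit 60, nat_lit 45, nat_lit 60, nat_lit 45])) (.node (nat_lit 4) (.leaf (nat_lit 10244) [nat_lit 75, nat_lit 60, nat_lit 75, nat_lit 60, nat_lit 75, nat_lit 60, nat_lit 30, nat_lit 75]) (.node (nat_lit 5) (.leaf (nat_lit 10241) [nat_lit 75, nat_lit 60, nat_lit 75, nat_lit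 60, nat_lit 75, nat_lit 60, nat_lit 75, nat_lit 30]) r1))))
noncomputable def r2 : WT := (.node (nat_lit 6) (.leaf (nat_lit 10255) [nat_lit 30, nat_lit 60, nat_lit 75, nat_lit 60, nat_lit 75, nat_lit 60, nat_lit 75, nat_lit 60]) (.leaf (nat_lit 10254) [nat_lit 60, nat_lit 30, nat_lit 75, nat_lit 60, nat_lit 75, nat_lit 60, nat_lit 75, nat_lit 60]))
noncomputable def w3 : WT := (.node (nat_lit 1) (.leaf (nat_lit 3072) [nat_lit 75]) (.node (nat_lit 3) (.node (nat_lit 2) (.leaf (nat_lit 8194) [nat_lit 45, nat_lit 75, nat_lit 45]) (.leaf (nat_lit 12288) [nat_lit 90, nat_lit 75, nat_lit 90, nat_lit 75, nat_lit 90])) (.node (nat_lit 4) (.leaf (nat_lit 10246) [nat_lit 60, nat_lit 75, nat_lit 60, nat_lit 75, nat_lit 60, nat_lit 30, nat_lit 75, nat_lit 60]) (.node (nat_lit 5) (.leaf (nat_lit 10242) [nat_lit 60, nat_lit 75, nat_lit 60, nat_lit 75, nat_lit 60, nat_lit 75, nat_lit 60, nat_lit 30]) r2))))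
noncomputable def r3 : WT := (.leaf (nat_lit 13318) [nat_lit 45, nat_lit 60, nat_lit 75, nat_lit 90, nat_lit 45, nat_lit 60, nat_lit 75, nat_lit 90, nat_lit 45, nat_lit 60, nat_lit 75, nat_lit 90, nat_lit 45, nat_lit 60, nat_lit 75, nat_lit 90, nat_lit 45, nat_lit 60, nat_lit 75, nat_lit 90, nat_lit 45, nat_lit 60, nat_lit 75, nat_lit 90, nat_lit 45, nat_lit 60, nat_lit 75, nat_lit 90, nat_lit 45, nat_lit 60, nat_lit 75])
noncomputable def w4 : WT := (.node (nat_lit 1) (.leaf (nat_lit 4096) [nat_lit 90]) (.node (nat_lit 3) (.node (nat_lit 2) (.leaf (nat_lit 6146) [nat_lit 30, nat_lit 90, nat_lit 30]) (.leaf (nat_lit 9218) [nat_lit 45, nat_lit 90, nat_lit 45])) (.node (nat_lit 4) (.leaf (nat_lit 11266) [nat_lit 60, nat_lit 90, nat_lit 60]) (.node (nat_lit 5) (.leaf (nat_lit 12290) [nat_lit 75, nat_lit 90, nat_lit 75, nat_lit 90, nat_lit 75]) r3))))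
noncomputable def wP : WT := (.node (nat_lit 3) (.node (nat_lit 1) (.leaf (nat_lit 10242) [nat_lit 75, nat_lit 60, nat_lit 75, nat_lit 60, nat_lit 75, nat_lit 60, nat_lit 75, nat_lit 60, nat_lit 30]) (.node (nat_lit 2) (.leaf (nat_lit 9218) [nat_lit 90, nat_lit 45, nat_lit 90, nat_lit 45]) (.leaf (nat_lit 11264) [nat_lit 60, nat_lit 90, nat_lit 60, nat_lit 90]))) (.node (nat_lit 4) (.leaf (nat_lit 10244) [nat_lit 60, nat_lit 75, nat_lit 60, nat_lit 75, nat_lit 60, nat_lit 75, nat_lit 60, nat_lit 30, nat_lit 75]) (.node (nat_lit 5) (.leaf (nat_lit 10241) [nat_lit 60, nat_lit 75, nat_lit 60, nat_lit 75, nat_lit 60, nat_lit 75, nat_lit 60, nat_lit 75, nat_lit 30]) (.leaf (nat_lit 10249) [nat_lit 60, nat_lit 75, nat_lit 60, nat_lit 75, nat_lit 30, nat_lit 60, nat_lit 75, nat_lit 60, nat_lit 75]))))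
noncomputable def P : Par := ⟨tb, nat_lit 105, nat_lit 0x1ffffffffffffffffffffffffff, nat_lit 143, nat_lit 32767, nat_lit 255, nat_lit 15, nat_lit 8, nat_lit 126,
  [nat_lit 30, nat_lit 45, nat_lit 60, nat_lit 75, nat_lit 90], [nat_lit 30, nat_lit 60, nat_lit 75, nat_lit 90], wP,
  (.cons (nat_lit 30) w0 (.cons (nat_lit 45) w1 (.cons (nat_lit 60) w2 (.cons (nat_lit 75) w3 (.cons (nat_lit 90) w4 .nil))))),
  .nil⟩

end Cfsg.Agent.Lib.TCTh3
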