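import Cfsg.Agent.Lib.TCTh4P

set_option autoImplicit false
set_option maxRecDepth 100000

namespace Cfsg.Agent.Lib.TCTh4
open Cfsg.Agent.Lib.TCCore

theorem k0 : P.RowsS 0 96 := P.rowsS_of_chk _ _ [nat_lit 0x41800010100004040404000101000040404040001010000404000201010100004040001010101000041000010201010100004080404000000404040404040001010101, nat_lit 0x404040c0400010101000040400010100008040400010202000040408000102010100004040400030401010000c0410040001010000c0410040000004080804040003, nat_lit 0x4000076400020000eb800100001010100004040c0400cf000080801a2000400004040400010100004080800010102000080404000102010000404040001020200004040800010201, nat_lit 0x10300004040400010100004040001020201030000c041004000105000040404000404000040404000101040000404040001010100004040400010403010000404040001, nat_lit 0x3010000404040002000040808000102010000804080001020200008040400010102000040804000201010000404040400010100004080800010201010000c1004041000, nat_lit 0x3030000c081004000303000040002010101030000c04000104010000c040400010100004080800010201000080408040c0003010401000040c000103010001004040001] (by decide +kernel)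
theorem k1 : P.RowsT 96 112 := P.rowsT_of_chk _ _ [nat_lit 0x800001001b700410000200383601a000001c6e041000020017eb0410000100000408003ba41040000400001020000080057a0104000080053941040000400d2740680000800158c10400004000020200318a01a000000c62041000] (by decide +kernel)
theorem s0 : P.RowsS 0 96 := k0
theorem t0 : P.RowsT 96 112 := k1

end Cfsg.Agent.Lib.TCTh4
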