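import Cfsg.Agent.Lib.TCDefs

set_option autoImplicit false
set_option maxRecDepth 100000

namespace Cfsg.Agent.Lib.TCTh4
open Cfsg.Agent.Lib.TCCore

noncomputable def l0 : T := .leaf (nat_lit 0) (nat_lit 0x3f7ffffffe63841b006bfffffffff92dd16a01a336ffffffe4b645c006bfffffffff90d526e01a375ffffffe52e5180068ed9ffffff96b535e01a3b4ffffffe5aa4130068fd5ffffff8aa4a3a01a273ffffffe31f2d5806bfffffffff8a78c5801a1f2ffffffe2a639500688cdffffff8874b5201a1f1ffffffe29c2c480688c9ffffff8860a1401a1f0ffffffe28a2cc006bfffffffff8824c3801a62d3f612befddfff809d6b2ece4f0237bffe01a4adbb350ba95ffff809cfb8dd746f4183ffe04142eb33ceb685afff809d3bc6c43ee2967ffe03467015452b28dcfff80d17be5c34ed2b6fffe034229c180a94a57fff81049aae5d2eb2b63ffe04122a2720cae54afff8104aae9d022a274fffe02726b22f49aa3c5fff80689b07d21e2a957ffe0273e8a14cc70850fff809d0a45da25ba53fffe027327a95496c8d2fff809cda0d5c21aa347ffe027260bd7d68c5cdfff8104880f5e2a6193bffe0411df192cb9aa46fff81048766cc2a4951fffe0411e29d24bb05d6fff81049787ca2e59f23ffe04121d2958a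8e849fff81047684c62e4172fffe041199951d79caccfff81048943322299153ffe03431f9d6ce5cbc3fff8104a846593583113ffe0412e19304b5eb3ffff80d0a9c5425199103ffe01a266a4fc77c4c1fff809cd889c02d6af0bffe0272260cb0880a33fff80d067295435518cbffe0412a49ac48766bafff809c9965ab25e0ed3ffe01a26412e476873cfff809c77a53a15494c7ffe02735b96a0da46f0fff80d0e704222a895bfffe03429a9090aa056efff80d0b6c3a126793b7ffe0342238c7c87443bfff80d078c29e560a6fbffe0341d88f1454c6bdfff809c86473c10e96e7ffe0272178c80e86aaefff80d096029a32128b7ffe0342d6928cf885ecfff80d0c5c51931f99afffe0341d58ef853869efff809c85863b10c187fffe027314949ce7a66afff80d0d5421219c8da7ffe03428a18e0c4e724fff81049265aa3541697ffe04110e9494664366fff81048205a6292189fffe0411c792d8b4a7a8fff810482c52e2911e83ffe0411ca92dcb464a1fff810461c435210148bffe0411468ec0942823fff810473c3b41450fa3ffe02720f8ccc412367fff809c54c1861588b97ffe03410c0c6c658364fff810431639c14d1623ffe0411060cbc636719fff810492e5ad4441e6bffe04114e060c5562e3fff80d0a324163c39a33ffe034251925c72a68dfff809c84459420b0c3bffe01a2d4185492660ffff809ca4e51128a1043ffe01a0c88aa4506686fff81044245930811617ffe027252921471e493fff809c84830e2081a53ffe0341d08e3c51a395fff809c64020c1871c5bffe03414d0a34316717fff809c436102106161fffe0341048c1063e362fff810451418814f0b87ffe034083882523261bfff810431008140b942fffe0340828874608712fff810430c5100409847ffe0271408e2870c183fff80682042181890813ffe0410c1862c322081fff8068608107082840bffe000)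

end Cfsg.Agent.Lib.TCTh4
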