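import Cfsg.Agent.Lib.TCTh5D0

set_option autoImplicit false
set_option maxRecDepth 100000

namespace Cfsg.Agent.Lib.TCTh5
open Cfsg.Agent.Lib.TCCore

noncomputable def tb : T := (.node (nat_lit 636) (.node (nat_lit 318) (.node (nat_lit 106) l0 (.node (nat_lit 212) l1 l2)) (.node (nat_lit 424) l3 (.node (nat_lit 530) l4 l5))) (.node (nat_lit 954) (.node (nat_lit 742) l6 (.node (nat_lit 848) l7 l8)) (.node (nat_lit 1166) (.node (nat_lit 1060) l9 l10) (.node (nat_lit 1272) l11 l12))))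
noncomputable def r0 : WT := (.node (nat_lit 6) (.leaf (nat_lit 6144) [nat_lit 60, nat_lit 40, nat_lit 60, nat_lit 40, nat_lit 60]) (.leaf (nat_lit 20486) [nat_lit 60, nat_lit 140, nat_lit 60, nat_lit 40, nat_lit 80, nat_lit 60, nat_lit 120, nat_lit 160, nat_lit 60, nat_lit 80]))
noncomputable def r1 : WT := (.leaf (nat_lit 21526) [nat_lit 80, nat_lit 60, nat_lit 80, nat_lit 120, nat_lit 100, nat_lit 160, nat_lit 100, nat_lit 60, nat_lit 80, nat_lit 40, nat_lit 60, nat_lit 120, nat_lit 160, nat_lit 100, nat_lit 160, nat_lit 100, nat_lit 60, nat_lit 80, nat_lit 40, nat_lit 60, nat_lit 100, nat_lit 140, nat_lit 100, nat_lit 60])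
noncomputable def r2 : WT := (.node (nat_lit 12) (.leaf (nat_lit 20487) [nat_lit 60, nat_lit 160, nat_lit 60, nat_lit 40, nat_lit 80, nat_lit 60, nat_lit 140, nat_lit 120, nat_lit 60, nat_lit 80]) r1)
noncomputable def r3 : WT := (.node (nat_lit 8) (.leaf (nat_lit 11264) [nat_lit 100, nat_lit 80, nat_lit 100, nat_lit 80, nat_lit 100, nat_lit 80, nat_lit 100, nat_lit 80]) (.node (nat_lit 9) (.leaf (nat_lit 16386) [nat_lit 140, nat_lit 40, nat_lit 160]) (.node (nat_lit 10) (.leaf (nat_lit 11281) [nat_lit 80, nat_lit 100, nat_lit 80, nat_lit 100, nat_lit 80, nat_lit 100, nat_lit 80, nat_lit 100]) (.node (nat_lit 11) (.leaf (nat_lit 20494) [nat_lit 80, nat_lit 60, nat_lit 120, nat_lit 160, nat_lit 60, nat_lit 80, nat_lit 40, nat_lit 60, nat_lit 140, nat_lit 60]) r2))))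
noncomputable def w0 : WT := (.node (nat_lit 1) (.leaf (nat_lit 0) [nat_lit 40]) (.node (nat_lit 3) (.node (nat_lit 2) (.leaf (nat_lit 15361) [nat_lit 80, nat_lit 160, nat_lit 160]) (.leaf (nat_lit 7168) [nat_lit 120, nat_lit 40, nat_lit 120])) (.node (nat_lit 5) (.node (nat_lit 4) (.leaf (nat_lit 16390) [nat_lit 160, nat_lit 40, nat_lit 140]) (.leaf (nat_lit 15366) [nat_lit 140, nat_lit 140, nat_lit 80])) (.node (nat_lit 7) r0 r3))))
noncomputable def r4 : WT := (.leaf (nat_lit 14336) [nat_lit 80, nat_lit 100, nat_lit 120, nat_lit 60, nat_lit 80, nat_lit 100, nat_lit 120, nat_lit 60, nat_lit 80, nat_lit 100, nat_lit 120, nat_lit 60, nat_lit 80, nat_lit 100, nat_lit 120, nat_lit 60, nat_lit 80, nat_lit 100, nat_lit 120, nat_lit 60, nat_lit 80, nat_lit 100, nat_lit 120, nat_lit 60, nat_lit 80, nat_lit 100, nat_lit 120, nat_lit 60, nat_lit 80, nat_lit 100, nat_lit 120])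
noncomputable def r5 : WT := (.leaf (nat_lit 21541) [nat_lit 40, nat_lit 80, nat_lit 60, nat_lit 100, nat_lit 140, nat_lit 100, nat_lit 140, nat_lit 120, nat_lit 60, nat_lit 40, nat_lit 80, nat_lit 60, nat_lit 100, nat_lit 140, nat_lit 100, nat_lit 120, nat_lit 80, nat_lit 60, nat_lit 80, nat_lit 40, nat_lit 60, nat_lit 100, nat_lit 160, nat_lit 100])
noncomputable def r6 : WT := (.leaf (nat_lit 21524) [nat_lit 40, nat_lit 80, nat_lit 60, nat_lit 80, nat_lit 120, nat_lit 100, nat_lit 160, nat_lit 100, nat_lit 60, nat_lit 80, nat_lit 40, nat_lit 60, nat_lit 120, nat_lit 160, nat_lit 100, nat_lit 160, nat_lit 100, nat_lit 60, nat_lit 80, nat_lit 40, nat_lit 60, nat_lit 100, nat_lit 140, nat_lit 100])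
noncomputable def r7 : WT := (.leaf (nat_lit 21509) [nat_lit 40, nat_lit 80, nat_lit 60, nat_lit 100, nat_lit 140, nat_lit 100, nat_lit 120, nat_lit 80, nat_lit 60, nat_lit 80, nat_lit 40, nat_lit 60, nat_lit 100, nat_lit 160, nat_lit 100, nat_lit 60, nat_lit 40, nat_lit 80, nat_lit 60, nat_lit 100, nat_lit 140, nat_lit 100, nat_lit 140, nat_lit 120])
noncomputable def r8 : WT := (.node (nat_lit 12) r6 r7)
noncomputable def r9 : WT := (.leaf (nat_lit 14343) [nat_lit 120, nat_lit 100, nat_lit 80, nat_lit 60, nat_lit 120, nat_lit 100, nat_lit 80, nat_lit 60, nat_lit 120, nat_lit 100, nat_lit 80, nat_lit 60, nat_lit 120, nat_lit 100, nat_lit 80, nat_lit 60, nat_lit 120, nat_lit 100, nat_lit 80, nat_lit 60, nat_lit 120, nat_lit 100, nat_lit 80, nat_lit 60, nat_lit 120, nat_lit 100, nat_lit 80, nat_lit 60, nat_lit 120, nat_lit 100, nat_lit 80])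
noncomputable def r10 : WT := (.leaf (nat_lit 21547) [nat_lit 100, nat_lit 140, nat_lit 100, nat_lit 140, nat_lit 120, nat_lit 60, nat_lit 40, nat_lit 80, nat_lit 60, nat_lit 100, nat_lit 140, nat_lit 100, nat_lit 120, nat_lit 80, nat_lit 60, nat_lit 80, nat_lit 40, nat_lit 60, nat_lit 100, nat_lit 160, nat_lit 100, nat_lit 60, nat_lit 40, nat_lit 80])
noncomputable def r11 : WT := (.node (nat_lit 14) r9 r10)
noncomputable def r12 : WT := (.leaf (nat_lit 21527) [nat_lit 80, nat_lit 40, nat_lit 60, nat_lit 100, nat_lit 160, nat_lit 100, nat_lit 60, nat_lit 40, nat_lit 80, nat_lit 60, nat_lit 100, nat_lit 140, nat_lit 100, nat_lit 140, nat_lit 120, nat_lit 60, nat_lit 40, nat_lit 80, nat_lit 60, nat_lit 100, nat_lit 140, nat_lit 100, nat_lit 120, nat_lit 80])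
noncomputable def r13 : WT := (.leaf (nat_lit 21516) [nat_lit 100, nat_lit 140, nat_lit 100, nat_lit 60, nat_lit 40, nat_lit 80, nat_lit 60, nat_lit 80, nat_lit 120, nat_lit 100, nat_lit 160, nat_lit 100, nat_lit 60, nat_lit 80, nat_lit 40, nat_lit 60, nat_lit 120, nat_lit 160, nat_lit 100, nat_lit 160, nat_lit 100, nat_lit 60, nat_lit 80, nat_lit 40])
noncomputable def r14 : WT := (.node (nat_lit 16) r12 r13)
noncomputable def r15 : WT := (.node (nat_lit 18) (.leaf (nat_lit 20499) [nat_lit 140, nat_lit 120, nat_lit 60, nat_lit 80, nat_lit 40, nat_lit 60, nat_lit 160, nat_lit 60, nat_lit 40, nat_lit 80]) (.node (nat_lit 19) (.leaf (nat_lit 20493) [nat_lit 40, nat_lit 80, nat_lit 60, nat_lit 140, nat_lit 120, nat_lit 60, nat_lit 80, nat_lit 40, nat_lit 60, nat_lit 160]) (.leaf (nat_lit 20489) [nat_lit 160, nat_lit 60, nat_lit 40, nat_lit 80, nat_lit 60, nat_lit 140, nat_lit 120, nat_lit 60, nat_lit 80, nat_lit 40])))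
noncomputable def r16 : WT := (.node (nat_lit 8) (.node (nat_lit 6) (.leaf (nat_lit 20482) [nat_lit 80, nat_lit 40, nat_lit 60, nat_lit 140, nat_lit 60, nat_lit 40, nat_lit 80, nat_lit 60, nat_lit 120, nat_lit 160]) (.node (nat_lit 7) (.leaf (nat_lit 20488) [nat_lit 140, nat_lit 60, nat_lit 40, nat_lit 80, nat_lit 60, nat_lit 120, nat_lit 160, nat_lit 60, nat_lit 80, nat_lit 40]) (.leaf (nat_lit 20498) [nat_lit 120, nat_lit 160, nat_lit 60, nat_lit 80, nat_lit 40, nat_lit 60, nat_lit 140, nat_lit 60, nat_lit 40, nat_lit 80]))) (.node (nat_lit 11) (.node (nat_lit 9) (.leaf (nat_lit 20492) [nat_lit 40, nat_lit 80, nat_lit 60, nat_lit 120, nat_lit 160, nat_lit 60, nat_lit 80, nat_lit 40, nat_lit 60, nat_lit 140]) (.node (nat_lit 10) r4 r5)) (.node (nat_lit 15) (.node (nat_lit 13) r8 r11) (.node (nat_lit 17) r14 r15))))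
noncomputable def w1 : WT := (.node (nat_lit 1) (.leaf (nat_lit 1024) [nat_lit 60]) (.node (nat_lit 3) (.node (nat_lit 2) (.leaf (nat_lit 10240) [nat_lit 120, nat_lit 60, nat_lit 120]) (.leaf (nat_lit 9216) [nat_lit 100, nat_lit 60, nat_lit 100])) (.node (nat_lit 4) (.leaf (nat_lit 8192) [nat_lit 80, nat_lit 60, nat_lit 80, nat_lit 60, nat_lit 80]) (.node (nat_lit 5) (.leaf (nat_lit 6146) [nat_lit 40, nat_lit 60, nat_lit 40, nat_lit 60, nat_lit 40]) r16))))
noncomputable def r17 : WT := (.node (nat_lit 6) (.leaf (nat_lit 8194) [nat_lit 60, nat_lit 80, nat_lit 60, nat_lit 80, nat_lit 60]) (.leaf (nat_lit 11268) [nat_lit 100, nat_lit 80, nat_lit 100, nat_lit 80, nat_lit 100, nat_lit 80, nat_lit 40, nat_lit 100]))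
noncomputable def r18 : WT := (.node (nat_lit 13) (.leaf (nat_lit 11273) [nat_lit 100, nat_lit 80, nat_lit 100, nat_lit 40, nat_lit 80, nat_lit 100, nat_lit 80, nat_lit 100]) (.leaf (nat_lit 20497) [nat_lit 60, nat_lit 140, nat_lit 120, nat_lit 60, nat_lit 80, nat_lit 40, nat_lit 60, nat_lit 160, nat_lit 60, nat_lit 40]))
noncomputable def r19 : WT := (.leaf (nat_lit 21528) [nat_lit 60, nat_lit 80, nat_lit 120, nat_lit 100, nat_lit 160, nat_lit 100, nat_lit 60, nat_lit 80, nat_lit 40, nat_lit 60, nat_lit 120, nat_lit 160, nat_lit 100, nat_lit 160, nat_lit 100, nat_lit 60, nat_lit 80, nat_lit 40, nat_lit 60, nat_lit 100, nat_lit 140, nat_lit 100, nat_lit 60, nat_lit 40])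
noncomputable def r20 : WT := (.leaf (nat_lit 21532) [nat_lit 120, nat_lit 100, nat_lit 160, nat_lit 100, nat_lit 60, nat_lit 80, nat_lit 40, nat_lit 60, nat_lit 120, nat_lit 160, nat_lit 100, nat_lit 160, nat_lit 100, nat_lit 60, nat_lit 80, nat_lit 40, nat_lit 60, nat_lit 100, nat_lit 140, nat_lit 100, nat_lit 60, nat_lit 40, nat_lit 80, nat_lit 60])
noncomputable def r21 : WT := (.leaf (nat_lit 14338) [nat_lit 100, nat_lit 120, nat_lit 60, nat_lit 80, nat_lit 100, nat_lit 120, nat_lit 60, nat_lit 80, nat_lit 100, nat_lit 120, nat_lit 60, nat_lit 80, nat_lit 100, nat_lit 120, nat_lit 60, nat_lit 80, nat_lit 100, nat_lit 120, nat_lit 60, nat_lit 80, nat_lit 100, nat_lit 120, nat_lit 60, nat_lit 80, nat_lit 100, nat_lit 120, nat_lit 60, nat_lit 80, nat_lit 100, nat_lit 120, nat_lit 60])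
noncomputable def r22 : WT := (.node (nat_lit 15) r19 (.node (nat_lit 16) r20 r21))
noncomputable def r23 : WT := (.node (nat_lit 9) (.node (nat_lit 8) (.leaf (nat_lit 20496) [nat_lit 60, nat_lit 120, nat_lit 160, nat_lit 60, nat_lit 80, nat_lit 40, nat_lit 60, nat_lit 140, nat_lit 60, nat_lit 40]) (.leaf (nat_lit 11272) [nat_lit 100, nat_lit 80, nat_lit 100, nat_lit 80, nat_lit 40, nat_lit 100, nat_lit 80, nat_lit 100])) (.node (nat_lit 11) (.node (nat_lit 10) (.leaf (nat_lit 11265) [nat_lit 100, nat_lit 80, nat_lit 100, nat_lit 80, nat_lit 100, nat_lit 80, nat_lit 100, nat_lit 40]) (.leaf (nat_lit 20484) [nat_lit 40, nat_lit 60, nat_lit 140, nat_lit 60, nat_lit 40, nat_lit 80, nat_lit 60, nat_lit 120, nat_lit 160, nat_lit 60])) (.node (nat_lit 12) (.leaf (nat_lit 17414) [nat_lit 160, nat_lit 80, nat_lit 140]) (.node (nat_lit 14) r18 r22))))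
noncomputable def w2 : WT := (.node (nat_lit 1) (.leaf (nat_lit 2048) [nat_lit 80]) (.node (nat_lit 3) (.node (nat_lit 2) (.leaf (nat_lit 17410) [nat_lit 140, nat_lit 80, nat_lit 160]) (.leaf (nat_lit 12288) [nat_lit 120, nat_lit 80, nat_lit 120])) (.node (nat_lit 5) (.node (nat_lit 4) (.leaf (nat_lit 15363) [nat_lit 160, nat_lit 160, nat_lit 40]) (.leaf (nat_lit 15364) [nat_lit 40, nat_lit 140, nat_lit 140])) (.node (nat_lit 7) r17 r23))))
noncomputable def r24 : WT := (.node (nat_lit 6) (.leaf (nat_lit 19456) [nat_lit 120, nat_lit 160, nat_lit 100, nat_lit 140, nat_lit 100, nat_lit 120, nat_lit 160, nat_lit 100, nat_lit 140]) (.leaf (nat_lit 11266) [nat_lit 80, nat_lit 100, nat_lit 80, nat_lit 100, nat_lit 80, nat_lit 100, nat_lit 80, nat_lit 40]))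
noncomputable def r25 : WT := (.node (nat_lit 8) (.leaf (nat_lit 19462) [nat_lit 140, nat_lit 100, nat_lit 120, nat_lit 160, nat_lit 100, nat_lit 140, nat_lit 100, nat_lit 120, nat_lit 160]) (.leaf (nat_lit 19465) [nat_lit 160, nat_lit 100, nat_lit 140, nat_lit 120, nat_lit 100, nat_lit 160, nat_lit 100, nat_lit 140, nat_lit 120]))
noncomputable def r26 : WT := (.leaf (nat_lit 21553) [nat_lit 140, nat_lit 120, nat_lit 60, nat_lit 40, nat_lit 80, nat_lit 60, nat_lit 100, nat_lit 140, nat_lit 100, nat_lit 120, nat_lit 80, nat_lit 60, nat_lit 80, nat_lit 40, nat_lit 60, nat_lit 100, nat_lit 160, nat_lit 100, nat_lit 60, nat_lit 40, nat_lit 80, nat_lit 60, nat_lit 100, nat_lit 140])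
noncomputable def r27 : WT := (.leaf (nat_lit 21508) [nat_lit 60, nat_lit 80, nat_lit 40, nat_lit 60, nat_lit 100, nat_lit 140, nat_lit 100, nat_lit 60, nat_lit 40, nat_lit 80, nat_lit 60, nat_lit 80, nat_lit 120, nat_lit 100, nat_lit 160, nat_lit 100, nat_lit 60, nat_lit 80, nat_lit 40, nat_lit 60, nat_lit 120, nat_lit 160, nat_lit 100, nat_lit 160])
noncomputable def r28 : WT := (.leaf (nat_lit 21518) [nat_lit 140, nat_lit 100, nat_lit 60, nat_lit 40, nat_lit 80, nat_lit 60, nat_lit 80, nat_lit 120, nat_lit 100, nat_lit 160, nat_lit 100, nat_lit 60, nat_lit 80, nat_lit 40, nat_lit 60, nat_lit 120, nat_lit 160, nat_lit 100, nat_lit 160, nat_lit 100, nat_lit 60, nat_lit 80, nat_lit 40, nat_lit 60])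
noncomputable def r29 : WT := (.leaf (nat_lit 21536) [nat_lit 160, nat_lit 100, nat_lit 60, nat_lit 80, nat_lit 40, nat_lit 60, nat_lit 120, nat_lit 160, nat_lit 100, nat_lit 160, nat_lit 100, nat_lit 60, nat_lit 80, nat_lit 40, nat_lit 60, nat_lit 100, nat_lit 140, nat_lit 100, nat_lit 60, nat_lit 40, nat_lit 80, nat_lit 60, nat_lit 80, nat_lit 120])
noncomputable def r30 : WT := (.leaf (nat_lit 14340) [nat_lit 120, nat_lit 60, nat_lit 80, nat_lit 100, nat_lit 120, nat_lit 60, nat_lit 80, nat_lit 100, nat_lit 120, nat_lit 60, nat_lit 80, nat_lit 100, nat_lit 120, nat_lit 60, nat_lit 80, nat_lit 100, nat_lit 120, nat_lit 60, nat_lit 80, nat_lit 100, nat_lit 120, nat_lit 60, nat_lit 80, nat_lit 100, nat_lit 120, nat_lit 60, nat_lit 80, nat_lit 100, nat_lit 120, nat_lit 60, nat_lit 80])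
noncomputable def r31 : WT := (.leaf (nat_lit 21522) [nat_lit 60, nat_lit 40, nat_lit 80, nat_lit 60, nat_lit 80, nat_lit 120, nat_lit 100, nat_lit 160, nat_lit 100, nat_lit 60, nat_lit 80, nat_lit 40, nat_lit 60, nat_lit 120, nat_lit 160, nat_lit 100, nat_lit 160, nat_lit 100, nat_lit 60, nat_lit 80, nat_lit 40, nat_lit 60, nat_lit 100, nat_lit 140])
noncomputable def r32 : WT := (.leaf (nat_lit 21540) [nat_lit 60, nat_lit 80, nat_lit 40, nat_lit 60, nat_lit 120, nat_lit 160, nat_lit 100, nat_lit 160, nat_lit 100, nat_lit 60, nat_lit 80, nat_lit 40, nat_lit 60, nat_lit 100, nat_lit 140, nat_lit 100, nat_lit 60, nat_lit 40, nat_lit 80, nat_lit 60, nat_lit 80, nat_lit 120, nat_lit 100, nat_lit 160])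
noncomputable def r33 : WT := (.leaf (nat_lit 21521) [nat_lit 120, nat_lit 80, nat_lit 60, nat_lit 80, nat_lit 40, nat_lit 60, nat_lit 100, nat_lit 160, nat_lit 100, nat_lit 60, nat_lit 40, nat_lit 80, nat_lit 60, nat_lit 100, nat_lit 140, nat_lit 100, nat_lit 140, nat_lit 120, nat_lit 60, nat_lit 40, nat_lit 80, nat_lit 60, nat_lit 100, nat_lit 140])
noncomputable def r34 : WT := (.node (nat_lit 19) r32 r33)
noncomputable def r35 : WT := (.leaf (nat_lit 21535) [nat_lit 160, nat_lit 100, nat_lit 60, nat_lit 40, nat_lit 80, nat_lit 60, nat_lit 100, nat_lit 140, nat_lit 100, nat_lit 140, nat_lit 120, nat_lit 60, nat_lit 40, nat_lit 80, nat_lit 60, nat_lit 100, nat_lit 140, nat_lit 100, nat_lit 120, nat_lit 80, nat_lit 60, nat_lit 80, nat_lit 40, nat_lit 60])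
noncomputable def r36 : WT := (.leaf (nat_lit 21549) [nat_lit 140, nat_lit 100, nat_lit 140, nat_lit 120, nat_lit 60, nat_lit 40, nat_lit 80, nat_lit 60, nat_lit 100, nat_lit 140, nat_lit 100, nat_lit 120, nat_lit 80, nat_lit 60, nat_lit 80, nat_lit 40, nat_lit 60, nat_lit 100, nat_lit 160, nat_lit 100, nat_lit 60, nat_lit 40, nat_lit 80, nat_lit 60])
noncomputable def r37 : WT := (.leaf (nat_lit 14339) [nat_lit 80, nat_lit 60, nat_lit 120, nat_lit 100, nat_lit 80, nat_lit 60, nat_lit 120, nat_lit 100, nat_lit 80, nat_lit 60, nat_lit 120, nat_lit 100, nat_lit 80, nat_lit 60, nat_lit 120, nat_lit 100, nat_lit 80, nat_lit 60, nat_lit 120, nat_lit 100, nat_lit 80, nat_lit 60, nat_lit 120, nat_lit 100, nat_lit 80, nat_lit 60, nat_lit 120, nat_lit 100, nat_lit 80, nat_lit 60, nat_lit 120])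
noncomputable def r38 : WT := (.node (nat_lit 22) r36 r37)
noncomputable def r39 : WT := (.node (nat_lit 13) (.node (nat_lit 10) r26 (.node (nat_lit 11) (.leaf (nat_lit 11278) [nat_lit 80, nat_lit 40, nat_lit 100, nat_lit 80, nat_lit 100, nat_lit 80, nat_lit 100, nat_lit 80]) (.node (nat_lit 12) r27 r28))) (.node (nat_lit 17) (.node (nat_lit 15) (.node (nat_lit 14) r29 r30) (.node (nat_lit 16) (.leaf (nat_lit 11275) [nat_lit 80, nat_lit 100, nat_lit 40, nat_lit 80, nat_lit 100, nat_lit 80, nat_lit 100, nat_lit 80]) (.leaf (nat_lit 11274) [nat_lit 80, nat_lit 100, nat_lit 80, nat_lit 40, nat_lit 100, nat_lit 80, nat_lit 100, nat_lit 80]))) (.node (nat_lit 20) (.node (nat_lit 18) r31 r34) (.node (nat_lit 21) r35 r38))))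
noncomputable def w3 : WT := (.node (nat_lit 1) (.leaf (nat_lit 3072) [nat_lit 100]) (.node (nat_lit 4) (.node (nat_lit 2) (.leaf (nat_lit 13312) [nat_lit 120, nat_lit 100, nat_lit 120, nat_lit 100, nat_lit 120]) (.node (nat_lit 3) (.leaf (nat_lit 9218) [nat_lit 60, nat_lit 100, nat_lit 60]) (.leaf (nat_lit 11270) [nat_lit 80, nat_lit 100, nat_lit 80, nat_lit 100, nat_lit 80, nat_lit 40, nat_lit 100, nat_lit 80]))) (.node (nat_lit 7) (.node (nat_lit 5) (.leaf (nat_lit 19459) [nat_lit 140, nat_lit 120, nat_lit 100, nat_lit 160, nat_lit 100, nat_lit 140, nat_lit 120, nat_lit 100, nat_lit 160]) r24) (.node (nat_lit 9) r25 r39))))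
noncomputable def r40 : WT := (.leaf (nat_lit 14342) [nat_lit 60, nat_lit 80, nat_lit 100, nat_lit 120, nat_lit 60, nat_lit 80, nat_lit 100, nat_lit 120, nat_lit 60, nat_lit 80, nat_lit 100, nat_lit 120, nat_lit 60, nat_lit 80, nat_lit 100, nat_lit 120, nat_lit 60, nat_lit 80, nat_lit 100, nat_lit 120, nat_lit 60, nat_lit 80, nat_lit 100, nat_lit 120, nat_lit 60, nat_lit 80, nat_lit 100, nat_lit 120, nat_lit 60, nat_lit 80, nat_lit 100])
noncomputable def r41 : WT := (.leaf (nat_lit 21534) [nat_lit 100, nat_lit 160, nat_lit 100, nat_lit 60, nat_lit 80, nat_lit 40, nat_lit 60, nat_lit 120, nat_lit 160, nat_lit 100, nat_lit 160, nat_lit 100, nat_lit 60, nat_lit 80, nat_lit 40, nat_lit 60, nat_lit 100, nat_lit 140, nat_lit 100, nat_lit 60, nat_lit 40, nat_lit 80, nat_lit 60, nat_lit 80])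
noncomputable def r42 : WT := (.leaf (nat_lit 21523) [nat_lit 80, nat_lit 60, nat_lit 80, nat_lit 40, nat_lit 60, nat_lit 100, nat_lit 160, nat_lit 100, nat_lit 60, nat_lit 40, nat_lit 80, nat_lit 60, nat_lit 100, nat_lit 140, nat_lit 100, nat_lit 140, nat_lit 120, nat_lit 60, nat_lit 40, nat_lit 80, nat_lit 60, nat_lit 100, nat_lit 140, nat_lit 100])
noncomputable def r43 : WT := (.node (nat_lit 7) (.leaf (nat_lit 18438) [nat_lit 160, nat_lit 120, nat_lit 140]) (.node (nat_lit 9) (.node (nat_lit 8) (.leaf (nat_lit 19458) [nat_lit 160, nat_lit 100, nat_lit 140, nat_lit 100, nat_lit 120, nat_lit 160, nat_lit 100, nat_lit 140, nat_lit 100]) r40) (.node (nat_lit 11) (.node (nat_lit 10) (.leaf (nat_lit 19463) [nat_lit 100, nat_lit 160, nat_lit 100, nat_lit 140, nat_lit 120, nat_lit 100, nat_lit 160, nat_lit 100, nat_lit 140]) (.leaf (nat_lit 20481) [nat_lit 60, nat_lit 80, nat_lit 40, nat_lit 60, nat_lit 160, nat_lit 60, nat_lit 40, nat_lit 80, nat_lit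 60, nat_lit 140])) (.node (nat_lit 12) r41 r42))))
noncomputable def w4 : WT := (.node (nat_lit 1) (.leaf (nat_lit 4096) [nat_lit 120]) (.node (nat_lit 3) (.node (nat_lit 2) (.leaf (nat_lit 18434) [nat_lit 140, nat_lit 120, nat_lit 160]) (.leaf (nat_lit 12290) [nat_lit 80, nat_lit 120, nat_lit 80])) (.node (nat_lit 5) (.node (nat_lit 4) (.leaf (nat_lit 7170) [nat_lit 40, nat_lit 120, nat_lit 40]) (.leaf (nat_lit 10242) [nat_lit 60, nat_lit 120, nat_lit 60])) (.node (nat_lit 6) (.leaf (nat_lit 13314) [nat_lit 100, nat_lit 120, nat_lit 100, nat_lit 120, nat_lit 100]) r43))))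
noncomputable def r44 : WT := (.leaf (nat_lit 21505) [nat_lit 120, nat_lit 60, nat_lit 40, nat_lit 80, nat_lit 60, nat_lit 100, nat_lit 140, nat_lit 100, nat_lit 120, nat_lit 80, nat_lit 60, nat_lit 80, nat_lit 40, nat_lit 60, nat_lit 100, nat_lit 160, nat_lit 100, nat_lit 60, nat_lit 40, nat_lit 80, nat_lit 60, nat_lit 100, nat_lit 140, nat_lit 100])
noncomputable def r45 : WT := (.node (nat_lit 7) (.leaf (nat_lit 16388) [nat_lit 40, nat_lit 160, nat_lit 40]) (.node (nat_lit 8) (.leaf (nat_lit 20490) [nat_lit 60, nat_lit 40, nat_lit 80, nat_lit 60, nat_lit 120, nat_lit 160, nat_lit 60, nat_lit 80, nat_lit 40, nat_lit 60]) (.node (nat_lit 9) (.leaf (nat_lit 19461) [nat_lit 120, nat_lit 100, nat_lit 160, nat_lit 100, nat_lit 140, nat_lit 120, nat_lit 100, nat_lit 160, nat_lit 100]) (.node (nat_lit 10) r44 (.leaf (nat_lit 20501) [nat_lit 120, nat_lit 60, nat_lit 80, nat_lit 40, nat_lit 60, nat_lit 160, nat_lit 60, nat_lit 40, nat_lit 80, nat_lit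 60])))))
noncomputable def w5 : WT := (.node (nat_lit 1) (.leaf (nat_lit 5120) [nat_lit 160]) (.node (nat_lit 3) (.node (nat_lit 2) (.leaf (nat_lit 18436) [nat_lit 120, nat_lit 160, nat_lit 120]) (.leaf (nat_lit 17412) [nat_lit 80, nat_lit 160, nat_lit 80])) (.node (nat_lit 5) (.node (nat_lit 4) (.leaf (nat_lit 15362) [nat_lit 80, nat_lit 40, nat_lit 140]) (.leaf (nat_lit 15360) [nat_lit 140, nat_lit 80, nat_lit 40])) (.node (nat_lit 6) (.leaf (nat_lit 19464) [nat_lit 100, nat_lit 120, nat_lit 160, nat_lit 100, nat_lit 140, nat_lit 100, nat_lit 120, nat_lit 160, nat_lit 100]) r45))))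
noncomputable def r46 : WT := (.node (nat_lit 9) (.leaf (nat_lit 20480) [nat_lit 60, nat_lit 80, nat_lit 40, nat_lit 60, nat_lit 140, nat_lit 60, nat_lit 40, nat_lit 80, nat_lit 60, nat_lit 120]) (.leaf (nat_lit 20491) [nat_lit 60, nat_lit 40, nat_lit 80, nat_lit 60, nat_lit 140, nat_lit 120, nat_lit 60, nat_lit 80, nat_lit 40, nat_lit 60]))
noncomputable def r47 : WT := (.leaf (nat_lit 21506) [nat_lit 100, nat_lit 60, nat_lit 80, nat_lit 40, nat_lit 60, nat_lit 100, nat_lit 140, nat_lit 100, nat_lit 60, nat_lit 40, nat_lit 80, nat_lit 60, nat_lit 80, nat_lit 120, nat_lit 100, nat_lit 160, nat_lit 100, nat_lit 60, nat_lit 80, nat_lit 40, nat_lit 60, nat_lit 120, nat_lit 160, nat_lit 100])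
noncomputable def r48 : WT := (.leaf (nat_lit 21552) [nat_lit 100, nat_lit 160, nat_lit 100, nat_lit 60, nat_lit 80, nat_lit 40, nat_lit 60, nat_lit 100, nat_lit 140, nat_lit 100, nat_lit 60, nat_lit 40, nat_lit 80, nat_lit 60, nat_lit 80, nat_lit 120, nat_lit 100, nat_lit 160, nat_lit 100, nat_lit 60, nat_lit 80, nat_lit 40, nat_lit 60, nat_lit 120])
noncomputable def r49 : WT := (.node (nat_lit 11) r47 r48)
noncomputable def r50 : WT := (.node (nat_lit 6) (.leaf (nat_lit 16384) [nat_lit 40, nat_lit 140, nat_lit 40]) (.node (nat_lit 7) (.leaf (nat_lit 19457) [nat_lit 100, nat_lit 140, nat_lit 120, nat_lit 100, nat_lit 160, nat_lit 100, nat_lit 140, nat_lit 120, nat_lit 100]) (.node (nat_lit 8) (.leaf (nat_lit 19460) [nat_lit 100, nat_lit 140, nat_lit 100, nat_lit 120, nat_lit 160, nat_lit 100, nat_lit 140, nat_lit 100, nat_lit 120]) (.node (nat_lit 10) r46 r49))))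
noncomputable def w6 : WT := (.node (nat_lit 1) (.leaf (nat_lit 5122) [nat_lit 140]) (.node (nat_lit 3) (.node (nat_lit 2) (.leaf (nat_lit 18432) [nat_lit 120, nat_lit 140, nat_lit 120]) (.leaf (nat_lit 15367) [nat_lit 40, nat_lit 80, nat_lit 160])) (.node (nat_lit 4) (.leaf (nat_lit 15365) [nat_lit 160, nat_lit 40, nat_lit 80]) (.node (nat_lit 5) (.leaf (nat_lit 17408) [nat_lit 80, nat_lit 140, nat_lit 80]) r50))))
noncomputable def r51 : WT := (.leaf (nat_lit 21539) [nat_lit 100, nat_lit 60, nat_lit 40, nat_lit 80, nat_lit 60, nat_lit 100, nat_lit 140, nat_lit 100, nat_lit 140, nat_lit 120, nat_lit 60, nat_lit 40, nat_lit 80, nat_lit 60, nat_lit 100, nat_lit 140, nat_lit 100, nat_lit 120, nat_lit 80, nat_lit 60, nat_lit 80, nat_lit 40, nat_lit 60, nat_lit 100, nat_lit 160])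
noncomputable def r52 : WT := (.node (nat_lit 6) (.leaf (nat_lit 19465) [nat_lit 100, nat_lit 160, nat_lit 100, nat_lit 140, nat_lit 120, nat_lit 100, nat_lit 160, nat_lit 100, nat_lit 140, nat_lit 120]) (.leaf (nat_lit 19457) [nat_lit 160, nat_lit 100, nat_lit 140, nat_lit 120, nat_lit 100, nat_lit 160, nat_lit 100, nat_lit 140, nat_lit 120, nat_lit 100]))
noncomputable def r53 : WT := (.leaf (nat_lit 14341) [nat_lit 80, nat_lit 60, nat_lit 120, nat_lit 100, nat_lit 80, nat_lit 60, nat_lit 120, nat_lit 100, nat_lit 80, nat_lit 60, nat_lit 120, nat_lit 100, nat_lit 80, nat_lit 60, nat_lit 120, nat_lit 100, nat_lit 80, nat_lit 60, nat_lit 120, nat_lit 100, nat_lit 80, nat_lit 60, nat_lit 120, nat_lit 100, nat_lit 80, nat_lit 60, nat_lit 120, nat_lit 100, nat_lit 80, nat_lit 60, nat_lit 120, nat_lit 100])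
noncomputable def r54 : WT := (.leaf (nat_lit 21553) [nat_lit 100, nat_lit 140, nat_lit 120, nat_lit 60, nat_lit 40, nat_lit 80, nat_lit 60, nat_lit 100, nat_lit 140, nat_lit 100, nat_lit 120, nat_lit 80, nat_lit 60, nat_lit 80, nat_lit 40, nat_lit 60, nat_lit 100, nat_lit 160, nat_lit 100, nat_lit 60, nat_lit 40, nat_lit 80, nat_lit 60, nat_lit 100, nat_lit 140])
noncomputable def r55 : WT := (.node (nat_lit 8) r53 r54)
noncomputable def r56 : WT := (.leaf (nat_lit 21551) [nat_lit 140, nat_lit 100, nat_lit 140, nat_lit 120, nat_lit 60, nat_lit 40, nat_lit 80, nat_lit 60, nat_lit 100, nat_lit 140, nat_lit 100, nat_lit 120, nat_lit 80, nat_lit 60, nat_lit 80, nat_lit 40, nat_lit 60, nat_lit 100, nat_lit 160, nat_lit 100, nat_lit 60, nat_lit 40, nat_lit 80, nat_lit 60, nat_lit 100])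
noncomputable def r57 : WT := (.leaf (nat_lit 21521) [nat_lit 100, nat_lit 120, nat_lit 80, nat_lit 60, nat_lit 80, nat_lit 40, nat_lit 60, nat_lit 100, nat_lit 160, nat_lit 100, nat_lit 60, nat_lit 40, nat_lit 80, nat_lit 60, nat_lit 100, nat_lit 140, nat_lit 100, nat_lit 140, nat_lit 120, nat_lit 60, nat_lit 40, nat_lit 80, nat_lit 60, nat_lit 100, nat_lit 140])
noncomputable def r58 : WT := (.node (nat_lit 10) r56 r57)
noncomputable def r59 : WT := (.leaf (nat_lit 21540) [nat_lit 100, nat_lit 60, nat_lit 80, nat_lit 40, nat_lit 60, nat_lit 120, nat_lit 160, nat_lit 100, nat_lit 160, nat_lit 100, nat_lit 60, nat_lit 80, nat_lit 40, nat_lit 60, nat_lit 100, nat_lit 140, nat_lit 100, nat_lit 60, nat_lit 40, nat_lit 80, nat_lit 60, nat_lit 80, nat_lit 120, nat_lit 100, nat_lit 160])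
noncomputable def r60 : WT := (.leaf (nat_lit 21516) [nat_lit 60, nat_lit 100, nat_lit 140, nat_lit 100, nat_lit 60, nat_lit 40, nat_lit 80, nat_lit 60, nat_lit 80, nat_lit 120, nat_lit 100, nat_lit 160, nat_lit 100, nat_lit 60, nat_lit 80, nat_lit 40, nat_lit 60, nat_lit 120, nat_lit 160, nat_lit 100, nat_lit 160, nat_lit 100, nat_lit 60, nat_lit 80, nat_lit 40])
noncomputable def r61 : WT := (.leaf (nat_lit 21506) [nat_lit 160, nat_lit 100, nat_lit 60, nat_lit 80, nat_lit 40, nat_lit 60, nat_lit 100, nat_lit 140, nat_lit 100, nat_lit 60, nat_lit 40, nat_lit 80, nat_lit 60, nat_lit 80, nat_lit 120, nat_lit 100, nat_lit 160, nat_lit 100, nat_lit 60, nat_lit 80, nat_lit 40, nat_lit 60, nat_lit 120, nat_lit 160, nat_lit 100])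
noncomputable def r62 : WT := (.node (nat_lit 12) r59 (.node (nat_lit 13) r60 r61))
noncomputable def r63 : WT := (.leaf (nat_lit 21504) [nat_lit 100, nat_lit 160, nat_lit 100, nat_lit 60, nat_lit 80, nat_lit 40, nat_lit 60, nat_lit 100, nat_lit 140, nat_lit 100, nat_lit 60, nat_lit 40, nat_lit 80, nat_lit 60, nat_lit 80, nat_lit 120, nat_lit 100, nat_lit 160, nat_lit 100, nat_lit 60, nat_lit 80, nat_lit 40, nat_lit 60, nat_lit 120, nat_lit 160])
noncomputable def r64 : WT := (.node (nat_lit 15) r63 (.leaf (nat_lit 20501) [nat_lit 140, nat_lit 120, nat_lit 60, nat_lit 80, nat_lit 40, nat_lit 60, nat_lit 160, nat_lit 60, nat_lit 40, nat_lit 80, nat_lit 60]))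
noncomputable def r65 : WT := (.node (nat_lit 17) (.leaf (nat_lit 12290) [nat_lit 120, nat_lit 80, nat_lit 120, nat_lit 80]) (.leaf (nat_lit 19462) [nat_lit 100, nat_lit 140, nat_lit 100, nat_lit 120, nat_lit 160, nat_lit 100, nat_lit 140, nat_lit 100, nat_lit 120, nat_lit 160]))
noncomputable def r66 : WT := (.node (nat_lit 19) (.leaf (nat_lit 11277) [nat_lit 80, nat_lit 100, nat_lit 40, nat_lit 80, nat_lit 100, nat_lit 80, nat_lit 100, nat_lit 80, nat_lit 100]) (.leaf (nat_lit 11265) [nat_lit 80, nat_lit 100, nat_lit 80, nat_lit 100, nat_lit 80, nat_lit 100, nat_lit 80, nat_lit 100, nat_lit 40]))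
noncomputable def r67 : WT := (.node (nat_lit 21) (.leaf (nat_lit 11264) [nat_lit 40, nat_lit 100, nat_lit 80, nat_lit 100, nat_lit 80, nat_lit 100, nat_lit 80, nat_lit 100, nat_lit 80]) (.node (nat_lit 22) (.leaf (nat_lit 13312) [nat_lit 100, nat_lit 120, nat_lit 100, nat_lit 120, nat_lit 100, nat_lit 120]) (.leaf (nat_lit 8192) [nat_lit 60, nat_lit 80, nat_lit 60, nat_lit 80, nat_lit 60, nat_lit 80])))
noncomputable def wP : WT := (.node (nat_lit 5) (.node (nat_lit 2) (.node (nat_lit 1) (.leaf (nat_lit 11266) [nat_lit 100, nat_lit 80, nat_lit 100, nat_lit 80, nat_lit 100, nat_lit 80, nat_lit 100, nat_lit 80, nat_lit 40]) (.leaf (nat_lit 19456) [nat_lit 100, nat_lit 120, nat_lit 160, nat_lit 100, nat_lit 140, nat_lit 100, nat_lit 120, nat_lit 160, nat_lit 100, nat_lit 140])) (.node (nat_lit 3) (.leaf (nat_lit 11268) [nat_lit 80, nat_lit 100, nat_lit 80, nat_lit 100, nat_lit 80, nat_lit 100, nat_lit 80, nat_lit 40, nat_lit 100]) (.node (nat_lit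 4) r51 (.leaf (nat_lit 11281) [nat_lit 40, nat_lit 80, nat_lit 100, nat_lit 80, nat_lit 100, nat_lit 80, nat_lit 100, nat_lit 80, nat_lit 100])))) (.node (nat_lit 14) (.node (nat_lit 9) (.node (nat_lit 7) r52 r55) (.node (nat_lit 11) r58 r62)) (.node (nat_lit 18) (.node (nat_lit 16) r64 r65) (.node (nat_lit 20) r66 r67))))
noncomputable def P : Par := ⟨tb, nat_lit 180, nat_lit 0xfffffffffffffffffffffffffffffffffffffffffffff, nat_lit 1289, nat_lit 1048575, nat_lit 2047, nat_lit 20, nat_lit 11, nat_lit 702,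
  [nat_lit 40, nat_lit 60, nat_lit 80, nat_lit 100, nat_lit 120, nat_lit 140, nat_lit 160], [nat_lit 40, nat_lit 60, nat_lit 80, nat_lit 100, nat_lit 120], wP,
  (.cons (nat_lit 40) w0 (.cons (nat_lit 60) w1 (.cons (nat_lit 80) w2 (.cons (nat_lit 100) w3 (.cons (nat_lit 120) w4 (.cons (nat_lit 140) w5 (.cons (nat_lit 160) w6 .nil))))))),
  .nil⟩

end Cfsg.Agent.Lib.TCTh5
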