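import Cfsg.Agent.Lib.TCTh6D0

set_option autoImplicit false
set_option maxRecDepth 100000

namespace Cfsg.Agent.Lib.TCTh6
open Cfsg.Agent.Lib.TCCore

noncomputable def tb : T := (.node (nat_lit 188) (.node (nat_lit 94) l0 l1) (.node (nat_lit 282) l2 (.node (nat_lit 376) l3 l4)))
noncomputable def r0 : WT := (.node (nat_lit 9) (.leaf (nat_lit 7168) [nat_lit 85, nat_lit 34, nat_lit 85]) (.node (nat_lit 10) (.leaf (nat_lit 22534) [nat_lit 170, nat_lit 170, nat_lit 51]) (.leaf (nat_lit 29711) [nat_lit 170, nat_lit 102, nat_lit 170, nat_lit 102, nat_lit 170, nat_lit 102, nat_lit 51])))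
noncomputable def w0 : WT := (.node (nat_lit 4) (.node (nat_lit 2) (.node (nat_lit 1) (.leaf (nat_lit 23558) [nat_lit 187, nat_lit 34, nat_lit 170]) (.leaf (nat_lit 12294) [nat_lit 119, nat_lit 34, nat_lit 102])) (.node (nat_lit 3) (.leaf (nat_lit 23554) [nat_lit 170, nat_lit 34, nat_lit 187]) (.leaf (nat_lit 0) [nat_lit 34]))) (.node (nat_lit 6) (.node (nat_lit 5) (.leaf (nat_lit 17410) [nat_lit 136, nat_lit 34, nat_lit 153]) (.leaf (nat_lit 22529) [nat_lit 51, nat_lit 187, nat_lit 187])) (.node (nat_lit 7) (.leaf (nat_lit 12290) [nat_lit 102, nat_lit 34, nat_lit 119]) (.node (nat_lit 8) (.leaf (nat_lit 17414) [nat_lit 153, nat_lit 34, nat_lit 136]) r0))))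
noncomputable def r1 : WT := (.node (nat_lit 7) (.leaf (nat_lit 18438) [nat_lit 153, nat_lit 51, nat_lit 136]) (.node (nat_lit 8) (.leaf (nat_lit 22531) [nat_lit 187, nat_lit 187, nat_lit 34]) (.node (nat_lit 9) (.leaf (nat_lit 9216) [nat_lit 85, nat_lit 51, nat_lit 85]) (.node (nat_lit 10) (.leaf (nat_lit 24582) [nat_lit 187, nat_lit 51, nat_lit 170]) (.leaf (nat_lit 8200) [nat_lit 68, nat_lit 51, nat_lit 68, nat_lit 51, nat_lit 34, nat_lit 68, nat_lit 51, nat_lit 68])))))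
noncomputable def w1 : WT := (.node (nat_lit 1) (.leaf (nat_lit 1024) [nat_lit 51]) (.node (nat_lit 3) (.node (nat_lit 2) (.leaf (nat_lit 22532) [nat_lit 34, nat_lit 170, nat_lit 170]) (.leaf (nat_lit 24578) [nat_lit 170, nat_lit 51, nat_lit 187])) (.node (nat_lit 5) (.node (nat_lit 4) (.leaf (nat_lit 13318) [nat_lit 119, nat_lit 51, nat_lit 102]) (.leaf (nat_lit 13314) [nat_lit 102, nat_lit 51, nat_lit 119])) (.node (nat_lit 6) (.leaf (nat_lit 18434) [nat_lit 136, nat_lit 51, nat_lit 153]) r1))))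
noncomputable def r2 : WT := (.leaf (nat_lit 31768) [nat_lit 119, nat_lit 119, nat_lit 170, nat_lit 102, nat_lit 102, nat_lit 68, nat_lit 119, nat_lit 119, nat_lit 170, nat_lit 85, nat_lit 68, nat_lit 51, nat_lit 68, nat_lit 85, nat_lit 102, nat_lit 102, nat_lit 102, nat_lit 85, nat_lit 68, nat_lit 51, nat_lit 68, nat_lit 85, nat_lit 119, nat_lit 68, nat_lit 51, nat_lit 68, nat_lit 51, nat_lit 34, nat_lit 68, nat_lit 119, nat_lit 119, nat_lit 170, nat_lit 102, nat_lit 102, nat_lit 68, nat_lit 119, nat_lit 119, nat_lit 170, nat_lit 102, nat_lit 102])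
noncomputable def r3 : WT := (.node (nat_lit 6) (.leaf (nat_lit 10240) [nat_lit 85, nat_lit 68, nat_lit 85, nat_lit 68, nat_lit 85]) (.node (nat_lit 8) (.node (nat_lit 7) (.leaf (nat_lit 26624) [nat_lit 85, nat_lit 187, nat_lit 68, nat_lit 170, nat_lit 68, nat_lit 85, nat_lit 187, nat_lit 68, nat_lit 170]) (.leaf (nat_lit 26630) [nat_lit 170, nat_lit 68, nat_lit 85, nat_lit 187, nat_lit 68, nat_lit 170, nat_lit 68, nat_lit 85, nat_lit 187])) (.node (nat_lit 9) (.leaf (nat_lit 26633) [nat_lit 187, nat_lit 68, nat_lit 170, nat_lit 85, nat_lit 68, nat_lit 187, nat_lit 68, nat_lit 170, nat_lit 85]) r2)))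
noncomputable def w2 : WT := (.node (nat_lit 1) (.leaf (nat_lit 2048) [nat_lit 68]) (.node (nat_lit 3) (.node (nat_lit 2) (.leaf (nat_lit 19458) [nat_lit 136, nat_lit 68, nat_lit 153]) (.leaf (nat_lit 14338) [nat_lit 102, nat_lit 68, nat_lit 102])) (.node (nat_lit 4) (.leaf (nat_lit 19462) [nat_lit 153, nat_lit 68, nat_lit 136]) (.node (nat_lit 5) (.leaf (nat_lit 14337) [nat_lit 119, nat_lit 68, nat_lit 119]) r3))))
noncomputable def r4 : WT := (.node (nat_lit 6) (.leaf (nat_lit 20486) [nat_lit 153, nat_lit 85, nat_lit 136]) (.leaf (nat_lit 15360) [nat_lit 119, nat_lit 85, nat_lit 119, nat_lit 119, nat_lit 85, nat_lit 102, nat_lit 102, nat_lit 102]))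
noncomputable def r5 : WT := (.node (nat_lit 10) (.node (nat_lit 8) (.leaf (nat_lit 7170) [nat_lit 34, nat_lit 85, nat_lit 34]) (.node (nat_lit 9) (.leaf (nat_lit 15373) [nat_lit 102, nat_lit 85, nat_lit 119, nat_lit 119, nat_lit 119, nat_lit 85, nat_lit 102, nat_lit 102]) (.leaf (nat_lit 10242) [nat_lit 68, nat_lit 85, nat_lit 68, nat_lit 85, nat_lit 68]))) (.node (nat_lit 12) (.node (nat_lit 11) (.leaf (nat_lit 15364) [nat_lit 119, nat_lit 119, nat_lit 85, nat_lit 102, nat_lit 102, nat_lit 102, nat_lit 85, nat_lit 119]) (.leaf (nat_lit 15370) [nat_lit 102, nat_lit 102, nat_lit 102, nat_lit 85, nat_lit 119, nat_lit 85, nat_lit 119, nat_lit 119])) (.node (nat_lit 13) (.leaf (nat_lit 15367) [nat_lit 102, nat_lit 102, nat_lit 85, nat_lit 102, nat_lit 85, nat_lit 119, nat_lit 119, nat_lit 119]) (.node (nat_lit 14) (.leaf (nat_lit 26626) [nat_lit 187, nat_lit 68, nat_lit 170, nat_lit 68, nat_lit 85, nat_lit 187, nat_lit 68, nat_lit 170, nat_lit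 68]) (.leaf (nat_lit 28684) [nat_lit 119, nat_lit 119, nat_lit 170, nat_lit 102, nat_lit 102, nat_lit 85, nat_lit 119, nat_lit 119, nat_lit 187, nat_lit 102, nat_lit 102])))))
noncomputable def w3 : WT := (.node (nat_lit 1) (.leaf (nat_lit 3072) [nat_lit 85]) (.node (nat_lit 3) (.node (nat_lit 2) (.leaf (nat_lit 25602) [nat_lit 170, nat_lit 85, nat_lit 187]) (.leaf (nat_lit 9218) [nat_lit 51, nat_lit 85, nat_lit 51])) (.node (nat_lit 5) (.node (nat_lit 4) (.leaf (nat_lit 25606) [nat_lit 187, nat_lit 85, nat_lit 170]) (.leaf (nat_lit 20482) [nat_lit 136, nat_lit 85, nat_lit 153])) (.node (nat_lit 7) r4 r5))))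
noncomputable def r6 : WT := (.node (nat_lit 7) (.leaf (nat_lit 29703) [nat_lit 170, nat_lit 102, nat_lit 51, nat_lit 34, nat_lit 170, nat_lit 102, nat_lit 170]) (.node (nat_lit 8) (.leaf (nat_lit 15375) [nat_lit 85, nat_lit 119, nat_lit 119, nat_lit 119, nat_lit 85, nat_lit 102, nat_lit 102, nat_lit 85]) (.leaf (nat_lit 15372) [nat_lit 102, nat_lit 102, nat_lit 85, nat_lit 119, nat_lit 85, nat_lit 119, nat_lit 119, nat_lit 85])))
noncomputable def r7 : WT := (.leaf (nat_lit 30728) [nat_lit 170, nat_lit 119, nat_lit 187, nat_lit 102, nat_lit 170, nat_lit 119, nat_lit 187, nat_lit 102, nat_lit 170, nat_lit 119, nat_lit 187, nat_lit 102, nat_lit 170, nat_lit 34, nat_lit 51, nat_lit 119, nat_lit 187])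
noncomputable def r8 : WT := (.leaf (nat_lit 30736) [nat_lit 170, nat_lit 119, nat_lit 187, nat_lit 102, nat_lit 170, nat_lit 119, nat_lit 187, nat_lit 102, nat_lit 170, nat_lit 34, nat_lit 51, nat_lit 119, nat_lit 187, nat_lit 102, nat_lit 170, nat_lit 119, nat_lit 187])
noncomputable def r9 : WT := (.node (nat_lit 12) (.node (nat_lit 10) (.leaf (nat_lit 12292) [nat_lit 34, nat_lit 119, nat_lit 34]) (.node (nat_lit 11) r7 (.leaf (nat_lit 11264) [nat_lit 102, nat_lit 102, nat_lit 102, nat_lit 102, nat_lit 102, nat_lit 102]))) (.node (nat_lit 14) (.node (nat_lit 13) (.leaf (nat_lit 29707) [nat_lit 51, nat_lit 34, nat_lit 170, nat_lit 102, nat_lit 170, nat_lit 102, nat_lit 170]) (.leaf (nat_lit 15376) [nat_lit 85, nat_lit 119, nat_lit 85, nat_lit 119, nat_lit 119, nat_lit 85, nat_lit 102, nat_lit 102])) (.node (nat_lit 15) (.leaf (nat_lit 28680) [nat_lit 102, nat_lit 85, nat_lit 119, nat_lit 119, nat_lit 170, nat_lit 102, nat_lit 102, nat_lit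 85, nat_lit 119, nat_lit 119, nat_lit 187]) (.node (nat_lit 16) (.leaf (nat_lit 14336) [nat_lit 68, nat_lit 102, nat_lit 68]) r8))))
noncomputable def w4 : WT := (.node (nat_lit 1) (.leaf (nat_lit 4096) [nat_lit 119]) (.node (nat_lit 4) (.node (nat_lit 2) (.leaf (nat_lit 21507) [nat_lit 153, nat_lit 119, nat_lit 136, nat_lit 102]) (.node (nat_lit 3) (.leaf (nat_lit 29699) [nat_lit 170, nat_lit 102, nat_lit 170, nat_lit 102, nat_lit 51, nat_lit 34, nat_lit 170]) (.leaf (nat_lit 13316) [nat_lit 51, nat_lit 119, nat_lit 51]))) (.node (nat_lit 6) (.node (nat_lit 5) (.leaf (nat_lit 21506) [nat_lit 136, nat_lit 119, nat_lit 119, nat_lit 153]) (.leaf (nat_lit 21505) [nat_lit 102, nat_lit 153, nat_lit 119, nat_lit 136])) (.node (nat_lit 9) r6 r9))))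
noncomputable def r10 : WT := (.node (nat_lit 5) (.leaf (nat_lit 13312) [nat_lit 51, nat_lit 102, nat_lit 51]) (.leaf (nat_lit 14339) [nat_lit 68, nat_lit 119, nat_lit 68]))
noncomputable def r11 : WT := (.leaf (nat_lit 30732) [nat_lit 187, nat_lit 102, nat_lit 170, nat_lit 119, nat_lit 187, nat_lit 102, nat_lit 170, nat_lit 119, nat_lit 187, nat_lit 102, nat_lit 170, nat_lit 34, nat_lit 51, nat_lit 119, nat_lit 187, nat_lit 102, nat_lit 170])
noncomputable def r12 : WT := (.node (nat_lit 7) (.leaf (nat_lit 15362) [nat_lit 85, nat_lit 119, nat_lit 119, nat_lit 85, nat_lit 102, nat_lit 102, nat_lit 102, nat_lit 85]) (.node (nat_lit 8) (.leaf (nat_lit 11265) [nat_lit 119, nat_lit 119, nat_lit 119, nat_lit 119, nat_lit 119, nat_lit 119]) r11))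
noncomputable def r13 : WT := (.leaf (nat_lit 31782) [nat_lit 119, nat_lit 170, nat_lit 85, nat_lit 68, nat_lit 51, nat_lit 68, nat_lit 85, nat_lit 102, nat_lit 102, nat_lit 102, nat_lit 85, nat_lit 68, nat_lit 51, nat_lit 68, nat_lit 85, nat_lit 119, nat_lit 68, nat_lit 51, nat_lit 68, nat_lit 51, nat_lit 34, nat_lit 68, nat_lit 119, nat_lit 119, nat_lit 170, nat_lit 102, nat_lit 102, nat_lit 68, nat_lit 119, nat_lit 119, nat_lit 170, nat_lit 102, nat_lit 102, nat_lit 68, nat_lit 119, nat_lit 119, nat_lit 170, nat_lit 102, nat_lit 102, nat_lit 68])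
noncomputable def r14 : WT := (.leaf (nat_lit 30748) [nat_lit 187, nat_lit 102, nat_lit 170, nat_lit 34, nat_lit 51, nat_lit 119, nat_lit 187, nat_lit 102, nat_lit 170, nat_lit 119, nat_lit 187, nat_lit 102, nat_lit 170, nat_lit 119, nat_lit 187, nat_lit 102, nat_lit 170])
noncomputable def r15 : WT := (.node (nat_lit 12) (.node (nat_lit 10) (.leaf (nat_lit 21510) [nat_lit 119, nat_lit 153, nat_lit 102, nat_lit 136]) (.node (nat_lit 11) (.leaf (nat_lit 15361) [nat_lit 119, nat_lit 119, nat_lit 85, nat_lit 102, nat_lit 102, nat_lit 85, nat_lit 102, nat_lit 85]) (.leaf (nat_lit 29708) [nat_lit 187, nat_lit 34, nat_lit 51, nat_lit 119, nat_lit 187, nat_lit 119, nat_lit 187]))) (.node (nat_lit 15) (.node (nat_lit 13) r13 (.node (nat_lit 14) r14 (.leaf (nat_lit 28688) [nat_lit 170, nat_lit 102, nat_lit 102, nat_lit 85, nat_lit 119, nat_lit 119, nat_lit 187, nat_lit 102, nat_lit 102, nat_lit 85, nat_lit 119]))) (.node (nat_lit 16) (.leaf (nat_lit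 28676) [nat_lit 187, nat_lit 102, nat_lit 102, nat_lit 85, nat_lit 119, nat_lit 119, nat_lit 170, nat_lit 102, nat_lit 102, nat_lit 85, nat_lit 119]) (.node (nat_lit 17) (.leaf (nat_lit 29700) [nat_lit 187, nat_lit 119, nat_lit 187, nat_lit 119, nat_lit 187, nat_lit 34, nat_lit 51]) (.leaf (nat_lit 12288) [nat_lit 34, nat_lit 102, nat_lit 34])))))
noncomputable def w5 : WT := (.node (nat_lit 1) (.leaf (nat_lit 4098) [nat_lit 102]) (.node (nat_lit 3) (.node (nat_lit 2) (.leaf (nat_lit 21512) [nat_lit 153, nat_lit 102, nat_lit 136, nat_lit 119]) (.leaf (nat_lit 21511) [nat_lit 136, nat_lit 102, nat_lit 102, nat_lit 153])) (.node (nat_lit 6) (.node (nat_lit 4) (.leaf (nat_lit 29704) [nat_lit 187, nat_lit 119, nat_lit 187, nat_lit 34, nat_lit 51, nat_lit 119, nat_lit 187]) r10) (.node (nat_lit 9) r12 r15))))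
noncomputable def r16 : WT := (.node (nat_lit 7) (.leaf (nat_lit 20484) [nat_lit 85, nat_lit 153, nat_lit 85]) (.node (nat_lit 8) (.leaf (nat_lit 19460) [nat_lit 68, nat_lit 153, nat_lit 68]) (.node (nat_lit 9) (.leaf (nat_lit 21513) [nat_lit 102, nat_lit 102, nat_lit 153, nat_lit 119]) (.leaf (nat_lit 17412) [nat_lit 34, nat_lit 153, nat_lit 34]))))
noncomputable def w6 : WT := (.node (nat_lit 1) (.leaf (nat_lit 5120) [nat_lit 153]) (.node (nat_lit 3) (.node (nat_lit 2) (.leaf (nat_lit 27654) [nat_lit 187, nat_lit 136, nat_lit 170]) (.leaf (nat_lit 27650) [nat_lit 170, nat_lit 136, nat_lit 187])) (.node (nat_lit 5) (.node (nat_lit 4) (.leaf (nat_lit 16384) [nat_lit 136, nat_lit 136]) (.leaf (nat_lit 18436) [nat_lit 51, nat_lit 153, nat_lit 51])) (.node (nat_lit 6) (.leaf (nat_lit 21508) [nat_lit 119, nat_lit 119, nat_lit 153, nat_lit 102]) r16))))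
noncomputable def r17 : WT := (.node (nat_lit 6) (.leaf (nat_lit 21509) [nat_lit 119, nat_lit 136, nat_lit 102, nat_lit 102]) (.node (nat_lit 7) (.leaf (nat_lit 20480) [nat_lit 85, nat_lit 136, nat_lit 85]) (.node (nat_lit 8) (.leaf (nat_lit 21504) [nat_lit 102, nat_lit 136, nat_lit 119, nat_lit 119]) (.leaf (nat_lit 19456) [nat_lit 68, nat_lit 136, nat_lit 68]))))
noncomputable def w7 : WT := (.node (nat_lit 1) (.leaf (nat_lit 5122) [nat_lit 136]) (.node (nat_lit 3) (.node (nat_lit 2) (.leaf (nat_lit 27653) [nat_lit 170, nat_lit 153, nat_lit 187]) (.leaf (nat_lit 27649) [nat_lit 187, nat_lit 153, nat_lit 170])) (.node (nat_lit 4) (.leaf (nat_lit 16385) [nat_lit 153, nat_lit 153]) (.node (nat_lit 5) (.leaf (nat_lit 18432) [nat_lit 51, nat_lit 136, nat_lit 51]) r17))))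
noncomputable def r18 : WT := (.leaf (nat_lit 30730) [nat_lit 119, nat_lit 187, nat_lit 102, nat_lit 170, nat_lit 119, nat_lit 187, nat_lit 102, nat_lit 170, nat_lit 119, nat_lit 187, nat_lit 102, nat_lit 170, nat_lit 34, nat_lit 51, nat_lit 119, nat_lit 187, nat_lit 102])
noncomputable def r19 : WT := (.leaf (nat_lit 30725) [nat_lit 102, nat_lit 187, nat_lit 119, nat_lit 170, nat_lit 102, nat_lit 187, nat_lit 119, nat_lit 170, nat_lit 102, nat_lit 187, nat_lit 119, nat_lit 170, nat_lit 102, nat_lit 51, nat_lit 34, nat_lit 187, nat_lit 119])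
noncomputable def r20 : WT := (.node (nat_lit 6) (.leaf (nat_lit 25604) [nat_lit 85, nat_lit 187, nat_lit 85]) (.node (nat_lit 8) (.node (nat_lit 7) (.leaf (nat_lit 22528) [nat_lit 170, nat_lit 51, nat_lit 34]) (.leaf (nat_lit 29701) [nat_lit 102, nat_lit 170, nat_lit 102, nat_lit 51, nat_lit 34, nat_lit 170, nat_lit 102])) (.node (nat_lit 9) (.leaf (nat_lit 26629) [nat_lit 85, nat_lit 68, nat_lit 187, nat_lit 68, nat_lit 170, nat_lit 85, nat_lit 68, nat_lit 187, nat_lit 68]) (.node (nat_lit 10) r18 r19))))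
noncomputable def w8 : WT := (.node (nat_lit 1) (.leaf (nat_lit 6144) [nat_lit 187]) (.node (nat_lit 3) (.node (nat_lit 2) (.leaf (nat_lit 22530) [nat_lit 51, nat_lit 34, nat_lit 170]) (.leaf (nat_lit 24580) [nat_lit 51, nat_lit 187, nat_lit 51])) (.node (nat_lit 4) (.leaf (nat_lit 27655) [nat_lit 153, nat_lit 187, nat_lit 153]) (.node (nat_lit 5) (.leaf (nat_lit 27652) [nat_lit 136, nat_lit 187, nat_lit 136]) r20))))
noncomputable def r21 : WT := (.node (nat_lit 5) (.leaf (nat_lit 29702) [nat_lit 119, nat_lit 187, nat_lit 119, nat_lit 187, nat_lit 34, nat_lit 51, nat_lit 119]) (.leaf (nat_lit 25600) [nat_lit 85, nat_lit 170, nat_lit 85]))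
noncomputable def r22 : WT := (.leaf (nat_lit 30729) [nat_lit 119, nat_lit 170, nat_lit 102, nat_lit 187, nat_lit 119, nat_lit 170, nat_lit 102, nat_lit 187, nat_lit 119, nat_lit 170, nat_lit 102, nat_lit 51, nat_lit 34, nat_lit 187, nat_lit 119, nat_lit 170, nat_lit 102])
noncomputable def r23 : WT := (.node (nat_lit 7) (.leaf (nat_lit 27648) [nat_lit 136, nat_lit 170, nat_lit 136]) (.node (nat_lit 8) r22 (.leaf (nat_lit 24576) [nat_lit 51, nat_lit 170, nat_lit 51])))
noncomputable def w9 : WT := (.node (nat_lit 1) (.leaf (nat_lit 6146) [nat_lit 170]) (.node (nat_lit 3) (.node (nat_lit 2) (.leaf (nat_lit 22533) [nat_lit 187, nat_lit 34, nat_lit 51]) (.leaf (nat_lit 22535) [nat_lit 34, nat_lit 51, nat_lit 187])) (.node (nat_lit 4) (.leaf (nat_lit 27651) [nat_lit 153, nat_lit 170, nat_lit 153]) (.node (nat_lit 6) r21 r23))))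
noncomputable def wP : WT := (.node (nat_lit 3) (.node (nat_lit 1) (.leaf (nat_lit 21513) [nat_lit 136, nat_lit 102, nat_lit 102, nat_lit 153, nat_lit 119]) (.node (nat_lit 2) (.leaf (nat_lit 8196) [nat_lit 51, nat_lit 68, nat_lit 51, nat_lit 68, nat_lit 51, nat_lit 68, nat_lit 51, nat_lit 34, nat_lit 68]) (.leaf (nat_lit 26624) [nat_lit 68, nat_lit 85, nat_lit 187, nat_lit 68, nat_lit 170, nat_lit 68, nat_lit 85, nat_lit 187, nat_lit 68, nat_lit 170]))) (.node (nat_lit 4) (.leaf (nat_lit 26626) [nat_lit 85, nat_lit 187, nat_lit 68, nat_lit 170, nat_lit 68, nat_lit 85, nat_lit 187, nat_lit 68, nat_lit 170, nat_lit 68]) (.leaf (nat_lit 28680) [nat_lit 102, nat_lit 102, nat_lit 85, nat_lit 119, nat_lit 119, nat_lit 170, nat_lit 102, nat_lit 102, nat_lit 85, nat_lit 119, nat_lit 119, nat_lit 187])))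
noncomputable def P : Par := ⟨tb, nat_lit 204, nat_lit 0xfffffffffffffffffffffffffffffffffffffffffffffffffff, nat_lit 422, nat_lit 131071, nat_lit 511, nat_lit 17, nat_lit 9, nat_lit 120,
  [nat_lit 34, nat_lit 51, nat_lit 68, nat_lit 85, nat_lit 102, nat_lit 119, nat_lit 136, nat_lit 153, nat_lit 170, nat_lit 187], [nat_lit 34, nat_lit 51, nat_lit 68, nat_lit 85, nat_lit 102, nat_lit 136], wP,
  (.cons (nat_lit 34) w0 (.cons (nat_lit 51) w1 (.cons (nat_lit 68) w2 (.cons (nat_lit 85) w3 (.cons (nat_lit 102) w4 (.cons (nat_lit 119) w5 (.cons (nat_lit 136) w6 (.cons (nat_lit 153) w7 (.cons (nat_lit 170) w8 (.cons (nat_lit 187) w9 .nil)))))))))),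
  .nil⟩

end Cfsg.Agent.Lib.TCTh6
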