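import Cfsg.Agent.Lib.TCTh7D0

set_option autoImplicit false
set_option maxRecDepth 100000

namespace Cfsg.Agent.Lib.TCTh7
open Cfsg.Agent.Lib.TCCore

noncomputable def tb : T := (.node (nat_lit 303) (.node (nat_lit 101) l0 (.node (nat_lit 202) l1 l2)) (.node (nat_lit 404) l3 (.node (nat_lit 505) l4 l5)))
noncomputable def r0 : WT := (.node (nat_lit 7) (.leaf (nat_lit 16390) [nat_lit 171, nat_lit 38, nat_lit 152]) (.leaf (nat_lit 7185) [nat_lit 57, nat_lit 76, nat_lit 57, nat_lit 76, nat_lit 57, nat_lit 76, nat_lit 57, nat_lit 76]))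
noncomputable def w0 : WT := (.node (nat_lit 1) (.leaf (nat_lit 0) [nat_lit 38]) (.node (nat_lit 3) (.node (nat_lit 2) (.leaf (nat_lit 16386) [nat_lit 152, nat_lit 38, nat_lit 171]) (.leaf (nat_lit 11266) [nat_lit 114, nat_lit 38, nat_lit 133])) (.node (nat_lit 5) (.node (nat_lit 4) (.leaf (nat_lit 11270) [nat_lit 133, nat_lit 38, nat_lit 114]) (.leaf (nat_lit 6144) [nat_lit 95, nat_lit 38, nat_lit 95])) (.node (nat_lit 6) (.leaf (nat_lit 7168) [nat_lit 76, nat_lit 57, nat_lit 76, nat_lit 57, nat_lit 76, nat_lit 57, nat_lit 76, nat_lit 57]) r0))))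
noncomputable def r1 : WT := (.node (nat_lit 6) (.leaf (nat_lit 17414) [nat_lit 171, nat_lit 57, nat_lit 152]) (.leaf (nat_lit 7172) [nat_lit 76, nat_lit 57, nat_lit 76, nat_lit 57, nat_lit 76, nat_lit 57, nat_lit 38, nat_lit 76]))
noncomputable def r2 : WT := (.leaf (nat_lit 21511) [nat_lit 95, nat_lit 114, nat_lit 76, nat_lit 57, nat_lit 95, nat_lit 114, nat_lit 76, nat_lit 57, nat_lit 95, nat_lit 114, nat_lit 76, nat_lit 57, nat_lit 95, nat_lit 114, nat_lit 76, nat_lit 57, nat_lit 95, nat_lit 114, nat_lit 76, nat_lit 57, nat_lit 95, nat_lit 114, nat_lit 76, nat_lit 57, nat_lit 95, nat_lit 114, nat_lit 76, nat_lit 57, nat_lit 95, nat_lit 114, nat_lit 76, nat_lit 57, nat_lit 95, nat_lit 114, nat_lit 76])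
noncomputable def r3 : WT := (.node (nat_lit 8) (.leaf (nat_lit 7169) [nat_lit 76, nat_lit 57, nat_lit 76, nat_lit 57, nat_lit 76, nat_lit 57, nat_lit 76, nat_lit 38]) (.node (nat_lit 9) (.leaf (nat_lit 7176) [nat_lit 76, nat_lit 57, nat_lit 76, nat_lit 57, nat_lit 38, nat_lit 76, nat_lit 57, nat_lit 76]) (.node (nat_lit 11) (.node (nat_lit 10) (.leaf (nat_lit 7184) [nat_lit 38, nat_lit 76, nat_lit 57, nat_lit 76, nat_lit 57, nat_lit 76, nat_lit 57, nat_lit 76]) (.leaf (nat_lit 7173) [nat_lit 76, nat_lit 57, nat_lit 76, nat_lit 57, nat_lit 76, nat_lit 38, nat_lit 57, nat_lit 76])) (.node (nat_lit 12) (.leaf (nat_lit 7177) [nat_lit 76, nat_lit 57, nat_lit 76, nat_lit 38, nat_lit 57, nat_lit 76, nat_lit 57, nat_lit 76]) r2))))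
noncomputable def w1 : WT := (.node (nat_lit 1) (.leaf (nat_lit 1024) [nat_lit 57]) (.node (nat_lit 3) (.node (nat_lit 2) (.leaf (nat_lit 17410) [nat_lit 152, nat_lit 57, nat_lit 171]) (.leaf (nat_lit 12290) [nat_lit 114, nat_lit 57, nat_lit 133])) (.node (nat_lit 5) (.node (nat_lit 4) (.leaf (nat_lit 12294) [nat_lit 133, nat_lit 57, nat_lit 114]) (.leaf (nat_lit 8192) [nat_lit 95, nat_lit 57, nat_lit 95])) (.node (nat_lit 7) r1 r3))))
noncomputable def r4 : WT := (.node (nat_lit 6) (.leaf (nat_lit 7174) [nat_lit 57, nat_lit 76, nat_lit 57, nat_lit 76, nat_lit 57, nat_lit 38, nat_lit 76, nat_lit 57]) (.leaf (nat_lit 9216) [nat_lit 95, nat_lit 76, nat_lit 95, nat_lit 76, nat_lit 95]))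
noncomputable def r5 : WT := (.leaf (nat_lit 21506) [nat_lit 133, nat_lit 95, nat_lit 57, nat_lit 76, nat_lit 133, nat_lit 95, nat_lit 57, nat_lit 76, nat_lit 133, nat_lit 95, nat_lit 57, nat_lit 76, nat_lit 133, nat_lit 95, nat_lit 57, nat_lit 76, nat_lit 133, nat_lit 95, nat_lit 57, nat_lit 76, nat_lit 133, nat_lit 95, nat_lit 57, nat_lit 76, nat_lit 133, nat_lit 95, nat_lit 57, nat_lit 76, nat_lit 133, nat_lit 95, nat_lit 57, nat_lit 76, nat_lit 133, nat_lit 95, nat_lit 57])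
noncomputable def r6 : WT := (.node (nat_lit 9) (.node (nat_lit 8) (.leaf (nat_lit 7170) [nat_lit 57, nat_lit 76, nat_lit 57, nat_lit 76, nat_lit 57, nat_lit 76, nat_lit 57, nat_lit 38]) (.leaf (nat_lit 7183) [nat_lit 38, nat_lit 57, nat_lit 76, nat_lit 57, nat_lit 76, nat_lit 57, nat_lit 76, nat_lit 57])) (.node (nat_lit 11) (.node (nat_lit 10) (.leaf (nat_lit 7182) [nat_lit 57, nat_lit 38, nat_lit 76, nat_lit 57, nat_lit 76, nat_lit 57, nat_lit 76, nat_lit 57]) (.leaf (nat_lit 7178) [nat_lit 57, nat_lit 76, nat_lit 57, nat_lit 38, nat_lit 76, nat_lit 57, nat_lit 76, nat_lit 57])) (.node (nat_lit 12) (.leaf (nat_lit 7171) [nat_lit 57, nat_lit 76, nat_lit 57, nat_lit 76, nat_lit 57, nat_lit 76, nat_lit 38, nat_lit 57]) (.node (nat_lit 13) (.leaf (nat_lit 7179) [nat_lit 57, nat_lit 76, nat_lit 38, nat_lit 57, nat_lit 76, nat_lit 57, nat_lit 76, nat_lit 57]) r5))))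
noncomputable def w2 : WT := (.node (nat_lit 1) (.leaf (nat_lit 2048) [nat_lit 76]) (.node (nat_lit 3) (.node (nat_lit 2) (.leaf (nat_lit 18434) [nat_lit 152, nat_lit 76, nat_lit 171]) (.leaf (nat_lit 13314) [nat_lit 114, nat_lit 76, nat_lit 114])) (.node (nat_lit 5) (.node (nat_lit 4) (.leaf (nat_lit 13313) [nat_lit 133, nat_lit 76, nat_lit 133]) (.leaf (nat_lit 18438) [nat_lit 171, nat_lit 76, nat_lit 152])) (.node (nat_lit 7) r4 r6))))
noncomputable def r7 : WT := (.node (nat_lit 6) (.leaf (nat_lit 6146) [nat_lit 38, nat_lit 95, nat_lit 38]) (.leaf (nat_lit 14340) [nat_lit 133, nat_lit 133, nat_lit 95, nat_lit 114, nat_lit 114, nat_lit 114, nat_lit 95, nat_lit 133]))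
noncomputable def r8 : WT := (.node (nat_lit 8) (.leaf (nat_lit 14346) [nat_lit 114, nat_lit 114, nat_lit 114, nat_lit 95, nat_lit 133, nat_lit 95, nat_lit 133, nat_lit 133]) (.leaf (nat_lit 14353) [nat_lit 133, nat_lit 133, nat_lit 133, nat_lit 95, nat_lit 114, nat_lit 114, nat_lit 95, nat_lit 114]))
noncomputable def r9 : WT := (.leaf (nat_lit 21510) [nat_lit 57, nat_lit 76, nat_lit 133, nat_lit 95, nat_lit 57, nat_lit 76, nat_lit 133, nat_lit 95, nat_lit 57, nat_lit 76, nat_lit 133, nat_lit 95, nat_lit 57, nat_lit 76, nat_lit 133, nat_lit 95, nat_lit 57, nat_lit 76, nat_lit 133, nat_lit 95, nat_lit 57, nat_lit 76, nat_lit 133, nat_lit 95, nat_lit 57, nat_lit 76, nat_lit 133, nat_lit 95, nat_lit 57, nat_lit 76, nat_lit 133, nat_lit 95, nat_lit 57, nat_lit 76, nat_lit 133])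
noncomputable def r10 : WT := (.leaf (nat_lit 21505) [nat_lit 114, nat_lit 76, nat_lit 57, nat_lit 95, nat_lit 114, nat_lit 76, nat_lit 57, nat_lit 95, nat_lit 114, nat_lit 76, nat_lit 57, nat_lit 95, nat_lit 114, nat_lit 76, nat_lit 57, nat_lit 95, nat_lit 114, nat_lit 76, nat_lit 57, nat_lit 95, nat_lit 114, nat_lit 76, nat_lit 57, nat_lit 95, nat_lit 114, nat_lit 76, nat_lit 57, nat_lit 95, nat_lit 114, nat_lit 76, nat_lit 57, nat_lit 95, nat_lit 114, nat_lit 76, nat_lit 57])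
noncomputable def r11 : WT := (.node (nat_lit 11) (.node (nat_lit 10) (.leaf (nat_lit 14336) [nat_lit 133, nat_lit 95, nat_lit 133, nat_lit 133, nat_lit 95, nat_lit 114, nat_lit 114, nat_lit 114]) (.leaf (nat_lit 14349) [nat_lit 114, nat_lit 95, nat_lit 133, nat_lit 133, nat_lit 133, nat_lit 95, nat_lit 114, nat_lit 114])) (.node (nat_lit 12) (.leaf (nat_lit 14343) [nat_lit 114, nat_lit 114, nat_lit 95, nat_lit 114, nat_lit 95, nat_lit 133, nat_lit 133, nat_lit 133]) (.node (nat_lit 13) r9 r10)))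
noncomputable def w3 : WT := (.node (nat_lit 1) (.leaf (nat_lit 3072) [nat_lit 95]) (.node (nat_lit 4) (.node (nat_lit 2) (.leaf (nat_lit 19458) [nat_lit 152, nat_lit 95, nat_lit 171]) (.node (nat_lit 3) (.leaf (nat_lit 8194) [nat_lit 57, nat_lit 95, nat_lit 57]) (.leaf (nat_lit 9218) [nat_lit 76, nat_lit 95, nat_lit 76, nat_lit 95, nat_lit 76]))) (.node (nat_lit 7) (.node (nat_lit 5) (.leaf (nat_lit 19462) [nat_lit 171, nat_lit 95, nat_lit 152]) r7) (.node (nat_lit 9) r8 r11))))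
noncomputable def r12 : WT := (.node (nat_lit 7) (.leaf (nat_lit 11268) [nat_lit 38, nat_lit 133, nat_lit 38]) (.leaf (nat_lit 14351) [nat_lit 95, nat_lit 133, nat_lit 133, nat_lit 133, nat_lit 95, nat_lit 114, nat_lit 114, nat_lit 95]))
noncomputable def r13 : WT := (.leaf (nat_lit 21507) [nat_lit 76, nat_lit 57, nat_lit 95, nat_lit 114, nat_lit 76, nat_lit 57, nat_lit 95, nat_lit 114, nat_lit 76, nat_lit 57, nat_lit 95, nat_lit 114, nat_lit 76, nat_lit 57, nat_lit 95, nat_lit 114, nat_lit 76, nat_lit 57, nat_lit 95, nat_lit 114, nat_lit 76, nat_lit 57, nat_lit 95, nat_lit 114, nat_lit 76, nat_lit 57, nat_lit 95, nat_lit 114, nat_lit 76, nat_lit 57, nat_lit 95, nat_lit 114, nat_lit 76, nat_lit 57, nat_lit 95])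
noncomputable def r14 : WT := (.node (nat_lit 10) (.node (nat_lit 9) (.leaf (nat_lit 10240) [nat_lit 114, nat_lit 114, nat_lit 114, nat_lit 114, nat_lit 114, nat_lit 114]) (.leaf (nat_lit 14348) [nat_lit 114, nat_lit 114, nat_lit 95, nat_lit 133, nat_lit 95, nat_lit 133, nat_lit 133, nat_lit 95])) (.node (nat_lit 11) (.leaf (nat_lit 14345) [nat_lit 114, nat_lit 95, nat_lit 114, nat_lit 95, nat_lit 133, nat_lit 133, nat_lit 133, nat_lit 95]) (.node (nat_lit 13) (.node (nat_lit 12) (.leaf (nat_lit 14350) [nat_lit 114, nat_lit 95, nat_lit 133, nat_lit 95, nat_lit 133, nat_lit 133, nat_lit 95, nat_lit 114]) (.leaf (nat_lit 14352) [nat_lit 95, nat_lit 133, nat_lit 95, nat_lit 133, nat_lit 133, nat_lit 95, nat_lit 114, nat_lit 114])) (.node (nat_lit 14) (.leaf (nat_lit 14347) [nat_lit 95, nat_lit 114, nat_lit 95, nat_lit 133, nat_lit 133, nat_lit 133, nat_lit 95, nat_lit 114]) r13))))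
noncomputable def w4 : WT := (.node (nat_lit 1) (.leaf (nat_lit 4096) [nat_lit 133]) (.node (nat_lit 4) (.node (nat_lit 2) (.leaf (nat_lit 20483) [nat_lit 171, nat_lit 133, nat_lit 152, nat_lit 114]) (.node (nat_lit 3) (.leaf (nat_lit 20482) [nat_lit 152, nat_lit 133, nat_lit 133, nat_lit 171]) (.leaf (nat_lit 12292) [nat_lit 57, nat_lit 133, nat_lit 57]))) (.node (nat_lit 6) (.node (nat_lit 5) (.leaf (nat_lit 13312) [nat_lit 76, nat_lit 114, nat_lit 76]) (.leaf (nat_lit 20481) [nat_lit 114, nat_lit 171, nat_lit 133, nat_lit 152])) (.node (nat_lit 8) r12 r14))))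
noncomputable def r15 : WT := (.node (nat_lit 7) (.leaf (nat_lit 14338) [nat_lit 95, nat_lit 133, nat_lit 133, nat_lit 95, nat_lit 114, nat_lit 114, nat_lit 114, nat_lit 95]) (.leaf (nat_lit 20486) [nat_lit 133, nat_lit 171, nat_lit 114, nat_lit 152]))
noncomputable def r16 : WT := (.node (nat_lit 9) (.leaf (nat_lit 10241) [nat_lit 133, nat_lit 133, nat_lit 133, nat_lit 133, nat_lit 133, nat_lit 133]) (.node (nat_lit 10) (.leaf (nat_lit 14337) [nat_lit 133, nat_lit 133, nat_lit 95, nat_lit 114, nat_lit 114, nat_lit 95, nat_lit 114, nat_lit 95]) (.node (nat_lit 11) (.leaf (nat_lit 14342) [nat_lit 133, nat_lit 95, nat_lit 114, nat_lit 114, nat_lit 114, nat_lit 95, nat_lit 133, nat_lit 95]) (.leaf (nat_lit 14344) [nat_lit 95, nat_lit 114, nat_lit 114, nat_lit 114, nat_lit 95, nat_lit 133, nat_lit 95, nat_lit 133]))))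
noncomputable def w5 : WT := (.node (nat_lit 1) (.leaf (nat_lit 4098) [nat_lit 114]) (.node (nat_lit 4) (.node (nat_lit 2) (.leaf (nat_lit 20488) [nat_lit 171, nat_lit 114, nat_lit 152, nat_lit 133]) (.node (nat_lit 3) (.leaf (nat_lit 20487) [nat_lit 152, nat_lit 114, nat_lit 114, nat_lit 171]) (.leaf (nat_lit 13315) [nat_lit 76, nat_lit 133, nat_lit 76]))) (.node (nat_lit 6) (.node (nat_lit 5) (.leaf (nat_lit 12288) [nat_lit 57, nat_lit 114, nat_lit 57]) (.leaf (nat_lit 11264) [nat_lit 38, nat_lit 114, nat_lit 38])) (.node (nat_lit 8) r15 r16))))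
noncomputable def w6 : WT := (.node (nat_lit 1) (.leaf (nat_lit 5120) [nat_lit 171]) (.node (nat_lit 4) (.node (nat_lit 2) (.leaf (nat_lit 20489) [nat_lit 114, nat_lit 114, nat_lit 171, nat_lit 133]) (.node (nat_lit 3) (.leaf (nat_lit 19460) [nat_lit 95, nat_lit 171, nat_lit 95]) (.leaf (nat_lit 20484) [nat_lit 133, nat_lit 133, nat_lit 171, nat_lit 114]))) (.node (nat_lit 6) (.node (nat_lit 5) (.leaf (nat_lit 17412) [nat_lit 57, nat_lit 171, nat_lit 57]) (.leaf (nat_lit 15360) [nat_lit 152, nat_lit 152])) (.node (nat_lit 7) (.leaf (nat_lit 18436) [nat_lit 76, nat_lit 171, nat_lit 76]) (.leaf (nat_lit 16388) [nat_lit 38, nat_lit 171, nat_lit 38])))))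
noncomputable def r17 : WT := (.node (nat_lit 7) (.leaf (nat_lit 17408) [nat_lit 57, nat_lit 152, nat_lit 57]) (.leaf (nat_lit 16384) [nat_lit 38, nat_lit 152, nat_lit 38]))
noncomputable def w7 : WT := (.node (nat_lit 1) (.leaf (nat_lit 5122) [nat_lit 152]) (.node (nat_lit 3) (.node (nat_lit 2) (.leaf (nat_lit 15361) [nat_lit 171, nat_lit 171]) (.leaf (nat_lit 20480) [nat_lit 114, nat_lit 152, nat_lit 133, nat_lit 133])) (.node (nat_lit 5) (.node (nat_lit 4) (.leaf (nat_lit 20485) [nat_lit 133, nat_lit 152, nat_lit 114, nat_lit 114]) (.leaf (nat_lit 19456) [nat_lit 95, nat_lit 152, nat_lit 95])) (.node (nat_lit 6) (.leaf (nat_lit 18432) [nat_lit 76, nat_lit 152, nat_lit 76]) r17))))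
noncomputable def wP : WT := (.node (nat_lit 1) (.leaf (nat_lit 8192) [nat_lit 57, nat_lit 95, nat_lit 57, nat_lit 95]) (.node (nat_lit 2) (.leaf (nat_lit 13312) [nat_lit 114, nat_lit 76, nat_lit 114, nat_lit 76]) (.node (nat_lit 3) (.leaf (nat_lit 13313) [nat_lit 76, nat_lit 133, nat_lit 76, nat_lit 133]) (.leaf (nat_lit 7168) [nat_lit 38, nat_lit 76, nat_lit 57, nat_lit 76, nat_lit 57, nat_lit 76, nat_lit 57, nat_lit 76, nat_lit 57]))))
noncomputable def P : Par := ⟨tb, nat_lit 190, nat_lit 0x3fffffffffffffffffffffffffffffffffffffffffffffff, nat_lit 520, nat_lit 524287, nat_lit 1023, nat_lit 19, nat_lit 10, nat_lit 512,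
  [nat_lit 38, nat_lit 57, nat_lit 76, nat_lit 95, nat_lit 114, nat_lit 133, nat_lit 152, nat_lit 171], [nat_lit 76, nat_lit 95, nat_lit 114, nat_lit 152], wP,
  (.cons (nat_lit 38) w0 (.cons (nat_lit 57) w1 (.cons (nat_lit 76) w2 (.cons (nat_lit 95) w3 (.cons (nat_lit 114) w4 (.cons (nat_lit 133) w5 (.cons (nat_lit 152) w6 (.cons (nat_lit 171) w7 .nil)))))))),
  .nil⟩

end Cfsg.Agent.Lib.TCTh7
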