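import Cfsg.Agent.Lib.TCTh8D0

set_option autoImplicit false
set_option maxRecDepth 100000

namespace Cfsg.Agent.Lib.TCTh8
open Cfsg.Agent.Lib.TCCore

noncomputable def tb : T := (.node (nat_lit 720) (.node (nat_lit 360) (.node (nat_lit 120) l0 (.node (nat_lit 240) l1 l2)) (.node (nat_lit 480) l3 (.node (nat_lit 600) l4 l5))) (.node (nat_lit 1080) (.node (nat_lit 840) l6 (.node (nat_lit 960) l7 l8)) (.node (nat_lit 1320) (.node (nat_lit 1200) l9 l10) (.node (nat_lit 1440) l11 l12))))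
noncomputable def w0 : WT := (.node (nat_lit 1) (.leaf (nat_lit 0) [nat_lit 40]) (.node (nat_lit 3) (.node (nat_lit 2) (.leaf (nat_lit 9218) [nat_lit 120, nat_lit 40, nat_lit 140]) (.leaf (nat_lit 6146) [nat_lit 80, nat_lit 40, nat_lit 80])) (.node (nat_lit 4) (.leaf (nat_lit 6145) [nat_lit 100, nat_lit 40, nat_lit 100]) (.node (nat_lit 5) (.leaf (nat_lit 4096) [nat_lit 60, nat_lit 40, nat_lit 60, nat_lit 40, nat_lit 60]) (.leaf (nat_lit 9222) [nat_lit 140, nat_lit 40, nat_lit 120])))))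
noncomputable def r0 : WT := (.node (nat_lit 6) (.leaf (nat_lit 7181) [nat_lit 80, nat_lit 60, nat_lit 100, nat_lit 100, nat_lit 100, nat_lit 60, nat_lit 80, nat_lit 80]) (.leaf (nat_lit 7185) [nat_lit 100, nat_lit 100, nat_lit 100, nat_lit 60, nat_lit 80, nat_lit 80, nat_lit 60, nat_lit 80]))
noncomputable def r1 : WT := (.node (nat_lit 8) (.leaf (nat_lit 7178) [nat_lit 80, nat_lit 80, nat_lit 80, nat_lit 60, nat_lit 100, nat_lit 60, nat_lit 100, nat_lit 100]) (.node (nat_lit 9) (.leaf (nat_lit 10246) [nat_lit 140, nat_lit 60, nat_lit 120]) (.leaf (nat_lit 7175) [nat_lit 80, nat_lit 80, nat_lit 60, nat_lit 80, nat_lit 60, nat_lit 100, nat_lit 100, nat_lit 100])))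
noncomputable def w1 : WT := (.node (nat_lit 1) (.leaf (nat_lit 1024) [nat_lit 60]) (.node (nat_lit 3) (.node (nat_lit 2) (.leaf (nat_lit 10242) [nat_lit 120, nat_lit 60, nat_lit 140]) (.leaf (nat_lit 7168) [nat_lit 100, nat_lit 60, nat_lit 100, nat_lit 100, nat_lit 60, nat_lit 80, nat_lit 80, nat_lit 80])) (.node (nat_lit 5) (.node (nat_lit 4) (.leaf (nat_lit 7172) [nat_lit 100, nat_lit 100, nat_lit 60, nat_lit 80, nat_lit 80, nat_lit 80, nat_lit 60, nat_lit 100]) (.leaf (nat_lit 4098) [nat_lit 40, nat_lit 60, nat_lit 40, nat_lit 60, nat_lit 40])) (.node (nat_lit 7) r0 r1))))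
noncomputable def r2 : WT := (.node (nat_lit 11) (.leaf (nat_lit 7182) [nat_lit 80, nat_lit 60, nat_lit 100, nat_lit 60, nat_lit 100, nat_lit 100, nat_lit 60, nat_lit 80]) (.leaf (nat_lit 7179) [nat_lit 60, nat_lit 80, nat_lit 60, nat_lit 100, nat_lit 100, nat_lit 100, nat_lit 60, nat_lit 80]))
noncomputable def r3 : WT := (.node (nat_lit 7) (.leaf (nat_lit 7183) [nat_lit 60, nat_lit 100, nat_lit 100, nat_lit 100, nat_lit 60, nat_lit 80, nat_lit 80, nat_lit 60]) (.node (nat_lit 8) (.leaf (nat_lit 5120) [nat_lit 80, nat_lit 80, nat_lit 80, nat_lit 80, nat_lit 80, nat_lit 80]) (.node (nat_lit 9) (.leaf (nat_lit 7177) [nat_lit 80, nat_lit 60, nat_lit 80, nat_lit 60, nat_lit 100, nat_lit 100, nat_lit 100, nat_lit 60]) (.node (nat_lit 10) (.leaf (nat_lit 7184) [nat_lit 60, nat_lit 100, nat_lit 60, nat_lit 100, nat_lit 100, nat_lit 60, nat_lit 80, nat_lit 80]) r2))))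
noncomputable def w2 : WT := (.node (nat_lit 1) (.leaf (nat_lit 2048) [nat_lit 100]) (.node (nat_lit 3) (.node (nat_lit 2) (.leaf (nat_lit 11267) [nat_lit 140, nat_lit 100, nat_lit 120, nat_lit 80]) (.leaf (nat_lit 11266) [nat_lit 120, nat_lit 100, nat_lit 100, nat_lit 140])) (.node (nat_lit 5) (.node (nat_lit 4) (.leaf (nat_lit 6144) [nat_lit 40, nat_lit 80, nat_lit 40]) (.leaf (nat_lit 11265) [nat_lit 80, nat_lit 140, nat_lit 100, nat_lit 120])) (.node (nat_lit 6) (.leaf (nat_lit 7180) [nat_lit 80, nat_lit 80, nat_lit 60, nat_lit 100, nat_lit 60, nat_lit 100, nat_lit 100, nat_lit 60]) r3))))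
noncomputable def r4 : WT := (.node (nat_lit 11) (.leaf (nat_lit 7171) [nat_lit 100, nat_lit 60, nat_lit 80, nat_lit 80, nat_lit 60, nat_lit 80, nat_lit 60, nat_lit 100]) (.leaf (nat_lit 7173) [nat_lit 60, nat_lit 80, nat_lit 80, nat_lit 60, nat_lit 80, nat_lit 60, nat_lit 100, nat_lit 100]))
noncomputable def r5 : WT := (.node (nat_lit 7) (.leaf (nat_lit 5121) [nat_lit 100, nat_lit 100, nat_lit 100, nat_lit 100, nat_lit 100, nat_lit 100]) (.node (nat_lit 8) (.leaf (nat_lit 7174) [nat_lit 100, nat_lit 60, nat_lit 80, nat_lit 80, nat_lit 80, nat_lit 60, nat_lit 100, nat_lit 60]) (.node (nat_lit 9) (.leaf (nat_lit 7176) [nat_lit 60, nat_lit 80, nat_lit 80, nat_lit 80, nat_lit 60, nat_lit 100, nat_lit 60, nat_lit 100]) (.node (nat_lit 10) (.leaf (nat_lit 7169) [nat_lit 100, nat_lit 100, nat_lit 60, nat_lit 80, nat_lit 80, nat_lit 60, nat_lit 80, nat_lit 60]) r4))))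
noncomputable def w3 : WT := (.node (nat_lit 1) (.leaf (nat_lit 2050) [nat_lit 80]) (.node (nat_lit 3) (.node (nat_lit 2) (.leaf (nat_lit 11272) [nat_lit 140, nat_lit 80, nat_lit 120, nat_lit 100]) (.leaf (nat_lit 11271) [nat_lit 120, nat_lit 80, nat_lit 80, nat_lit 140])) (.node (nat_lit 5) (.node (nat_lit 4) (.leaf (nat_lit 6147) [nat_lit 40, nat_lit 100, nat_lit 40]) (.leaf (nat_lit 7170) [nat_lit 60, nat_lit 100, nat_lit 100, nat_lit 60, nat_lit 80, nat_lit 80, nat_lit 80, nat_lit 60])) (.node (nat_lit 6) (.leaf (nat_lit 11270) [nat_lit 100, nat_lit 140, nat_lit 80, nat_lit 120]) r5))))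
noncomputable def w4 : WT := (.node (nat_lit 1) (.leaf (nat_lit 3072) [nat_lit 140]) (.node (nat_lit 3) (.node (nat_lit 2) (.leaf (nat_lit 11268) [nat_lit 100, nat_lit 100, nat_lit 140, nat_lit 80]) (.leaf (nat_lit 11273) [nat_lit 80, nat_lit 80, nat_lit 140, nat_lit 100])) (.node (nat_lit 4) (.leaf (nat_lit 10244) [nat_lit 60, nat_lit 140, nat_lit 60]) (.node (nat_lit 5) (.leaf (nat_lit 9220) [nat_lit 40, nat_lit 140, nat_lit 40]) (.leaf (nat_lit 8192) [nat_lit 120, nat_lit 120])))))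
noncomputable def w5 : WT := (.node (nat_lit 1) (.leaf (nat_lit 3074) [nat_lit 120]) (.node (nat_lit 3) (.node (nat_lit 2) (.leaf (nat_lit 8193) [nat_lit 140, nat_lit 140]) (.leaf (nat_lit 11269) [nat_lit 100, nat_lit 120, nat_lit 80, nat_lit 80])) (.node (nat_lit 4) (.leaf (nat_lit 11264) [nat_lit 80, nat_lit 120, nat_lit 100, nat_lit 100]) (.node (nat_lit 5) (.leaf (nat_lit 10240) [nat_lit 60, nat_lit 120, nat_lit 60]) (.leaf (nat_lit 9216) [nat_lit 40, nat_lit 120, nat_lit 40])))))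
noncomputable def wP : WT := (.leaf (nat_lit 0) [nat_lit 40, nat_lit 40])
noncomputable def P : Par := ⟨tb, nat_lit 160, nat_lit 0xffffffffffffffffffffffffffffffffffffffff, nat_lit 1512, nat_lit 1048575, nat_lit 2047, nat_lit 20, nat_lit 11, nat_lit 1512,
  [nat_lit 40, nat_lit 60, nat_lit 80, nat_lit 100, nat_lit 120, nat_lit 140], [], wP,
  (.cons (nat_lit 40) w0 (.cons (nat_lit 60) w1 (.cons (nat_lit 80) w2 (.cons (nat_lit 100) w3 (.cons (nat_lit 120) w4 (.cons (nat_lit 140) w5 .nil)))))),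
  .nil⟩

end Cfsg.Agent.Lib.TCTh8
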