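import Cfsg.Agent.Lib.TCThS0D0

set_option autoImplicit false
set_option maxRecDepth 100000

namespace Cfsg.Agent.Lib.TCThS0
open Cfsg.Agent.Lib.TCCore

noncomputable def tb : T := (.node (nat_lit 455) (.node (nat_lit 182) (.node (nat_lit 91) l0 l1) (.node (nat_lit 273) l2 (.node (nat_lit 364) l3 l4))) (.node (nat_lit 728) (.node (nat_lit 546) l5 (.node (nat_lit 637) l6 l7)) (.node (nat_lit 819) l8 (.node (nat_lit 910) l9 l10))))
noncomputable def r0 : WT := (.node (nat_lit 5) (.leaf (nat_lit 12294) [nat_lit 152, nat_lit 38, nat_lit 133]) (.leaf (nat_lit 8192) [nat_lit 95, nat_lit 76, nat_lit 95, nat_lit 76, nat_lit 95, nat_lit 76, nat_lit 95, nat_lit 76]))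
noncomputable def r1 : WT := (.node (nat_lit 8) (.leaf (nat_lit 7168) [nat_lit 114, nat_lit 38, nat_lit 114]) (.leaf (nat_lit 17414) [nat_lit 190, nat_lit 38, nat_lit 171]))
noncomputable def w0 : WT := (.node (nat_lit 1) (.leaf (nat_lit 0) [nat_lit 38]) (.node (nat_lit 3) (.node (nat_lit 2) (.leaf (nat_lit 23554) [nat_lit 57, nat_lit 76, nat_lit 57]) (.leaf (nat_lit 17410) [nat_lit 171, nat_lit 38, nat_lit 190])) (.node (nat_lit 6) (.node (nat_lit 4) (.leaf (nat_lit 12290) [nat_lit 133, nat_lit 38, nat_lit 152]) r0) (.node (nat_lit 7) (.leaf (nat_lit 8209) [nat_lit 76, nat_lit 95, nat_lit 76, nat_lit 95, nat_lit 76, nat_lit 95, nat_lit 76, nat_lit 95]) r1))))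
noncomputable def r2 : WT := (.leaf (nat_lit 29702) [nat_lit 95, nat_lit 76, nat_lit 95, nat_lit 76, nat_lit 95, nat_lit 57, nat_lit 95, nat_lit 76, nat_lit 95, nat_lit 76, nat_lit 95, nat_lit 57, nat_lit 95, nat_lit 76, nat_lit 95, nat_lit 76, nat_lit 95, nat_lit 57, nat_lit 95, nat_lit 76, nat_lit 95, nat_lit 76, nat_lit 95, nat_lit 57, nat_lit 95, nat_lit 76, nat_lit 95, nat_lit 76, nat_lit 95, nat_lit 57, nat_lit 95, nat_lit 76, nat_lit 95, nat_lit 76, nat_lit 95])
noncomputable def r3 : WT := (.leaf (nat_lit 27705) [nat_lit 114, nat_lit 95, nat_lit 76, nat_lit 95, nat_lit 114, nat_lit 95, nat_lit 76, nat_lit 95, nat_lit 76, nat_lit 57, nat_lit 76, nat_lit 95, nat_lit 76, nat_lit 95, nat_lit 133, nat_lit 114, nat_lit 95, nat_lit 76, nat_lit 95, nat_lit 114, nat_lit 133, nat_lit 114, nat_lit 95, nat_lit 76, nat_lit 95, nat_lit 114, nat_lit 152, nat_lit 152, nat_lit 171, nat_lit 133, nat_lit 114, nat_lit 95, nat_lit 76, nat_lit 95, nat_lit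 114, nat_lit 152, nat_lit 190, nat_lit 114])
noncomputable def r4 : WT := (.node (nat_lit 8) (.leaf (nat_lit 28678) [nat_lit 95, nat_lit 76, nat_lit 95, nat_lit 57, nat_lit 95, nat_lit 76, nat_lit 95, nat_lit 57, nat_lit 95, nat_lit 76, nat_lit 95]) (.node (nat_lit 9) (.leaf (nat_lit 23556) [nat_lit 76, nat_lit 57, nat_lit 38]) (.node (nat_lit 10) r2 r3)))
noncomputable def w1 : WT := (.node (nat_lit 1) (.leaf (nat_lit 1024) [nat_lit 57]) (.node (nat_lit 4) (.node (nat_lit 2) (.leaf (nat_lit 25600) [nat_lit 171, nat_lit 57, nat_lit 190]) (.node (nat_lit 3) (.leaf (nat_lit 24576) [nat_lit 133, nat_lit 57, nat_lit 152]) (.leaf (nat_lit 26624) [nat_lit 114, nat_lit 57, nat_lit 114]))) (.node (nat_lit 6) (.node (nat_lit 5) (.leaf (nat_lit 23552) [nat_lit 38, nat_lit 57, nat_lit 76]) (.leaf (nat_lit 24580) [nat_lit 152, nat_lit 57, nat_lit 133])) (.node (nat_lit 7) (.leaf (nat_lit 25604) [nat_lit 190, nat_lit 57, nat_lit 171]) r4))))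
noncomputable def r5 : WT := (.node (nat_lit 6) (.leaf (nat_lit 9216) [nat_lit 114, nat_lit 76, nat_lit 114]) (.leaf (nat_lit 18438) [nat_lit 190, nat_lit 76, nat_lit 171]))
noncomputable def r6 : WT := (.node (nat_lit 11) (.leaf (nat_lit 8204) [nat_lit 95, nat_lit 76, nat_lit 38, nat_lit 95, nat_lit 76, nat_lit 95, nat_lit 76, nat_lit 95]) (.leaf (nat_lit 8208) [nat_lit 38, nat_lit 95, nat_lit 76, nat_lit 95, nat_lit 76, nat_lit 95, nat_lit 76, nat_lit 95]))
noncomputable def r7 : WT := (.leaf (nat_lit 22528) [nat_lit 95, nat_lit 152, nat_lit 114, nat_lit 76, nat_lit 95, nat_lit 152, nat_lit 114, nat_lit 76, nat_lit 95, nat_lit 152, nat_lit 114, nat_lit 76, nat_lit 95, nat_lit 152, nat_lit 114, nat_lit 76, nat_lit 95, nat_lit 152, nat_lit 114, nat_lit 76, nat_lit 95, nat_lit 152, nat_lit 114, nat_lit 76, nat_lit 95, nat_lit 152, nat_lit 114, nat_lit 76, nat_lit 95, nat_lit 152, nat_lit 114, nat_lit 76, nat_lit 95, nat_lit 152, nat_lit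 114])
noncomputable def r8 : WT := (.node (nat_lit 13) (.leaf (nat_lit 8197) [nat_lit 95, nat_lit 76, nat_lit 95, nat_lit 76, nat_lit 95, nat_lit 38, nat_lit 76, nat_lit 95]) r7)
noncomputable def r9 : WT := (.node (nat_lit 8) (.leaf (nat_lit 8196) [nat_lit 95, nat_lit 76, nat_lit 95, nat_lit 76, nat_lit 95, nat_lit 76, nat_lit 38, nat_lit 95]) (.node (nat_lit 9) (.leaf (nat_lit 8200) [nat_lit 95, nat_lit 76, nat_lit 95, nat_lit 76, nat_lit 38, nat_lit 95, nat_lit 76, nat_lit 95]) (.node (nat_lit 10) (.leaf (nat_lit 8193) [nat_lit 95, nat_lit 76, nat_lit 95, nat_lit 76, nat_lit 95, nat_lit 76, nat_lit 95, nat_lit 38]) (.node (nat_lit 12) r6 r8))))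
noncomputable def w2 : WT := (.node (nat_lit 1) (.leaf (nat_lit 2048) [nat_lit 76]) (.node (nat_lit 3) (.node (nat_lit 2) (.leaf (nat_lit 23558) [nat_lit 57, nat_lit 38, nat_lit 57]) (.leaf (nat_lit 18434) [nat_lit 171, nat_lit 76, nat_lit 190])) (.node (nat_lit 5) (.node (nat_lit 4) (.leaf (nat_lit 13314) [nat_lit 133, nat_lit 76, nat_lit 152]) (.leaf (nat_lit 13318) [nat_lit 152, nat_lit 76, nat_lit 133])) (.node (nat_lit 7) r5 r9))))
noncomputable def r10 : WT := (.node (nat_lit 7) (.leaf (nat_lit 8198) [nat_lit 76, nat_lit 95, nat_lit 76, nat_lit 95, nat_lit 76, nat_lit 38, nat_lit 95, nat_lit 76]) (.leaf (nat_lit 8194) [nat_lit 76, nat_lit 95, nat_lit 76, nat_lit 95, nat_lit 76, nat_lit 95, nat_lit 76, nat_lit 38]))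
noncomputable def r11 : WT := (.leaf (nat_lit 27660) [nat_lit 76, nat_lit 95, nat_lit 114, nat_lit 57, nat_lit 114, nat_lit 171, nat_lit 133, nat_lit 114, nat_lit 95, nat_lit 76, nat_lit 95, nat_lit 114, nat_lit 152, nat_lit 190, nat_lit 133, nat_lit 133, nat_lit 114, nat_lit 95, nat_lit 76, nat_lit 95, nat_lit 114, nat_lit 152, nat_lit 114, nat_lit 95, nat_lit 76, nat_lit 95, nat_lit 114, nat_lit 152, nat_lit 95, nat_lit 76, nat_lit 95, nat_lit 76, nat_lit 57, nat_lit 76, nat_lit 95, nat_lit 76, nat_lit 95, nat_lit 114])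
noncomputable def r12 : WT := (.node (nat_lit 15) (.leaf (nat_lit 8202) [nat_lit 76, nat_lit 95, nat_lit 76, nat_lit 38, nat_lit 95, nat_lit 76, nat_lit 95, nat_lit 76]) (.leaf (nat_lit 8203) [nat_lit 76, nat_lit 95, nat_lit 38, nat_lit 76, nat_lit 95, nat_lit 76, nat_lit 95, nat_lit 76]))
noncomputable def r13 : WT := (.leaf (nat_lit 22530) [nat_lit 152, nat_lit 114, nat_lit 76, nat_lit 95, nat_lit 152, nat_lit 114, nat_lit 76, nat_lit 95, nat_lit 152, nat_lit 114, nat_lit 76, nat_lit 95, nat_lit 152, nat_lit 114, nat_lit 76, nat_lit 95, nat_lit 152, nat_lit 114, nat_lit 76, nat_lit 95, nat_lit 152, nat_lit 114, nat_lit 76, nat_lit 95, nat_lit 152, nat_lit 114, nat_lit 76, nat_lit 95, nat_lit 152, nat_lit 114, nat_lit 76, nat_lit 95, nat_lit 152, nat_lit 114, nat_lit 76])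
noncomputable def r14 : WT := (.leaf (nat_lit 29696) [nat_lit 76, nat_lit 95, nat_lit 57, nat_lit 95, nat_lit 76, nat_lit 95, nat_lit 76, nat_lit 95, nat_lit 57, nat_lit 95, nat_lit 76, nat_lit 95, nat_lit 76, nat_lit 95, nat_lit 57, nat_lit 95, nat_lit 76, nat_lit 95, nat_lit 76, nat_lit 95, nat_lit 57, nat_lit 95, nat_lit 76, nat_lit 95, nat_lit 76, nat_lit 95, nat_lit 57, nat_lit 95, nat_lit 76, nat_lit 95, nat_lit 76, nat_lit 95, nat_lit 57, nat_lit 95, nat_lit 76])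
noncomputable def r15 : WT := (.leaf (nat_lit 27652) [nat_lit 76, nat_lit 95, nat_lit 114, nat_lit 95, nat_lit 76, nat_lit 95, nat_lit 114, nat_lit 57, nat_lit 114, nat_lit 171, nat_lit 133, nat_lit 114, nat_lit 95, nat_lit 76, nat_lit 95, nat_lit 114, nat_lit 152, nat_lit 190, nat_lit 133, nat_lit 133, nat_lit 114, nat_lit 95, nat_lit 76, nat_lit 95, nat_lit 114, nat_lit 152, nat_lit 114, nat_lit 95, nat_lit 76, nat_lit 95, nat_lit 114, nat_lit 152, nat_lit 95, nat_lit 76, nat_lit 95, nat_lit 76, nat_lit 57, nat_lit 76])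
noncomputable def r16 : WT := (.node (nat_lit 17) r13 (.node (nat_lit 18) r14 r15))
noncomputable def r17 : WT := (.leaf (nat_lit 27664) [nat_lit 114, nat_lit 57, nat_lit 114, nat_lit 171, nat_lit 133, nat_lit 114, nat_lit 95, nat_lit 76, nat_lit 95, nat_lit 114, nat_lit 152, nat_lit 190, nat_lit 133, nat_lit 133, nat_lit 114, nat_lit 95, nat_lit 76, nat_lit 95, nat_lit 114, nat_lit 152, nat_lit 114, nat_lit 95, nat_lit 76, nat_lit 95, nat_lit 114, nat_lit 152, nat_lit 95, nat_lit 76, nat_lit 95, nat_lit 76, nat_lit 57, nat_lit 76, nat_lit 95, nat_lit 76, nat_lit 95, nat_lit 114, nat_lit 95, nat_lit 76])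
noncomputable def r18 : WT := (.leaf (nat_lit 27655) [nat_lit 133, nat_lit 114, nat_lit 95, nat_lit 76, nat_lit 95, nat_lit 114, nat_lit 133, nat_lit 114, nat_lit 95, nat_lit 76, nat_lit 95, nat_lit 114, nat_lit 152, nat_lit 152, nat_lit 171, nat_lit 133, nat_lit 114, nat_lit 95, nat_lit 76, nat_lit 95, nat_lit 114, nat_lit 152, nat_lit 190, nat_lit 114, nat_lit 57, nat_lit 114, nat_lit 95, nat_lit 76, nat_lit 95, nat_lit 114, nat_lit 95, nat_lit 76, nat_lit 95, nat_lit 76, nat_lit 57, nat_lit 76, nat_lit 95, nat_lit 76])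
noncomputable def r19 : WT := (.node (nat_lit 20) r17 r18)
noncomputable def r20 : WT := (.leaf (nat_lit 27673) [nat_lit 76, nat_lit 95, nat_lit 114, nat_lit 152, nat_lit 152, nat_lit 171, nat_lit 133, nat_lit 114, nat_lit 95, nat_lit 76, nat_lit 95, nat_lit 114, nat_lit 152, nat_lit 190, nat_lit 114, nat_lit 57, nat_lit 114, nat_lit 95, nat_lit 76, nat_lit 95, nat_lit 114, nat_lit 95, nat_lit 76, nat_lit 95, nat_lit 76, nat_lit 57, nat_lit 76, nat_lit 95, nat_lit 76, nat_lit 95, nat_lit 133, nat_lit 114, nat_lit 95, nat_lit 76, nat_lit 95, nat_lit 114, nat_lit 133, nat_lit 114])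
noncomputable def r21 : WT := (.leaf (nat_lit 27677) [nat_lit 114, nat_lit 152, nat_lit 152, nat_lit 171, nat_lit 133, nat_lit 114, nat_lit 95, nat_lit 76, nat_lit 95, nat_lit 114, nat_lit 152, nat_lit 190, nat_lit 114, nat_lit 57, nat_lit 114, nat_lit 95, nat_lit 76, nat_lit 95, nat_lit 114, nat_lit 95, nat_lit 76, nat_lit 95, nat_lit 76, nat_lit 57, nat_lit 76, nat_lit 95, nat_lit 76, nat_lit 95, nat_lit 133, nat_lit 114, nat_lit 95, nat_lit 76, nat_lit 95, nat_lit 114, nat_lit 133, nat_lit 114, nat_lit 95, nat_lit 76])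
noncomputable def r22 : WT := (.leaf (nat_lit 27721) [nat_lit 76, nat_lit 57, nat_lit 76, nat_lit 95, nat_lit 76, nat_lit 95, nat_lit 133, nat_lit 114, nat_lit 95, nat_lit 76, nat_lit 95, nat_lit 114, nat_lit 133, nat_lit 114, nat_lit 95, nat_lit 76, nat_lit 95, nat_lit 114, nat_lit 152, nat_lit 152, nat_lit 171, nat_lit 133, nat_lit 114, nat_lit 95, nat_lit 76, nat_lit 95, nat_lit 114, nat_lit 152, nat_lit 190, nat_lit 114, nat_lit 57, nat_lit 114, nat_lit 95, nat_lit 76, nat_lit 95, nat_lit 114, nat_lit 95, nat_lit 76])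
noncomputable def r23 : WT := (.node (nat_lit 22) r20 (.node (nat_lit 23) r21 r22))
noncomputable def r24 : WT := (.node (nat_lit 11) (.node (nat_lit 9) (.leaf (nat_lit 28672) [nat_lit 76, nat_lit 95, nat_lit 57, nat_lit 95, nat_lit 76, nat_lit 95, nat_lit 57, nat_lit 95, nat_lit 76, nat_lit 95, nat_lit 57]) (.node (nat_lit 10) (.leaf (nat_lit 8206) [nat_lit 76, nat_lit 38, nat_lit 95, nat_lit 76, nat_lit 95, nat_lit 76, nat_lit 95, nat_lit 76]) (.leaf (nat_lit 8207) [nat_lit 38, nat_lit 76, nat_lit 95, nat_lit 76, nat_lit 95, nat_lit 76, nat_lit 95, nat_lit 76]))) (.node (nat_lit 14) (.node (nat_lit 12) (.leaf (nat_lit 28676) [nat_lit 57, nat_lit 95, nat_lit 76, nat_lit 95, nat_lit 57, nat_lit 95, nat_lit 76, nat_lit 95, nat_lit 57, nat_lit 95, nat_lit 76]) (.node (nat_lit 13) (.leaf (nat_lit 8195) [nat_lit 76, nat_lit 95, nat_lit 76, nat_lit 95, nat_lit 76, nat_lit 95, nat_lit 38, nat_lit 76]) r11)) (.node (nat_lit 19) (.node (nat_lit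 16) r12 r16) (.node (nat_lit 21) r19 r23))))
noncomputable def w3 : WT := (.node (nat_lit 1) (.leaf (nat_lit 3072) [nat_lit 95]) (.node (nat_lit 4) (.node (nat_lit 2) (.leaf (nat_lit 19458) [nat_lit 171, nat_lit 95, nat_lit 190]) (.node (nat_lit 3) (.leaf (nat_lit 14337) [nat_lit 152, nat_lit 95, nat_lit 152]) (.leaf (nat_lit 14338) [nat_lit 133, nat_lit 95, nat_lit 133]))) (.node (nat_lit 6) (.node (nat_lit 5) (.leaf (nat_lit 19462) [nat_lit 190, nat_lit 95, nat_lit 171]) (.leaf (nat_lit 10240) [nat_lit 114, nat_lit 95, nat_lit 114, nat_lit 95, nat_lit 114])) (.node (nat_lit 8) r10 r24))))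
noncomputable def r25 : WT := (.node (nat_lit 5) (.leaf (nat_lit 9218) [nat_lit 76, nat_lit 114, nat_lit 76]) (.leaf (nat_lit 15364) [nat_lit 152, nat_lit 152, nat_lit 114, nat_lit 133, nat_lit 133, nat_lit 133, nat_lit 114, nat_lit 152]))
noncomputable def r26 : WT := (.node (nat_lit 7) (.leaf (nat_lit 15360) [nat_lit 152, nat_lit 114, nat_lit 152, nat_lit 152, nat_lit 114, nat_lit 133, nat_lit 133, nat_lit 133]) (.node (nat_lit 8) (.leaf (nat_lit 7170) [nat_lit 38, nat_lit 114, nat_lit 38]) (.leaf (nat_lit 15370) [nat_lit 133, nat_lit 133, nat_lit 133, nat_lit 114, nat_lit 152, nat_lit 114, nat_lit 152, nat_lit 152])))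
noncomputable def r27 : WT := (.leaf (nat_lit 27658) [nat_lit 95, nat_lit 76, nat_lit 95, nat_lit 114, nat_lit 57, nat_lit 114, nat_lit 171, nat_lit 133, nat_lit 114, nat_lit 95, nat_lit 76, nat_lit 95, nat_lit 114, nat_lit 152, nat_lit 190, nat_lit 133, nat_lit 133, nat_lit 114, nat_lit 95, nat_lit 76, nat_lit 95, nat_lit 114, nat_lit 152, nat_lit 114, nat_lit 95, nat_lit 76, nat_lit 95, nat_lit 114, nat_lit 152, nat_lit 95, nat_lit 76, nat_lit 95, nat_lit 76, nat_lit 57, nat_lit 76, nat_lit 95, nat_lit 76, nat_lit 95])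
noncomputable def r28 : WT := (.leaf (nat_lit 22534) [nat_lit 76, nat_lit 95, nat_lit 152, nat_lit 114, nat_lit 76, nat_lit 95, nat_lit 152, nat_lit 114, nat_lit 76, nat_lit 95, nat_lit 152, nat_lit 114, nat_lit 76, nat_lit 95, nat_lit 152, nat_lit 114, nat_lit 76, nat_lit 95, nat_lit 152, nat_lit 114, nat_lit 76, nat_lit 95, nat_lit 152, nat_lit 114, nat_lit 76, nat_lit 95, nat_lit 152, nat_lit 114, nat_lit 76, nat_lit 95, nat_lit 152, nat_lit 114, nat_lit 76, nat_lit 95, nat_lit 152])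
noncomputable def r29 : WT := (.leaf (nat_lit 22529) [nat_lit 133, nat_lit 95, nat_lit 76, nat_lit 114, nat_lit 133, nat_lit 95, nat_lit 76, nat_lit 114, nat_lit 133, nat_lit 95, nat_lit 76, nat_lit 114, nat_lit 133, nat_lit 95, nat_lit 76, nat_lit 114, nat_lit 133, nat_lit 95, nat_lit 76, nat_lit 114, nat_lit 133, nat_lit 95, nat_lit 76, nat_lit 114, nat_lit 133, nat_lit 95, nat_lit 76, nat_lit 114, nat_lit 133, nat_lit 95, nat_lit 76, nat_lit 114, nat_lit 133, nat_lit 95, nat_lit 76])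
noncomputable def r30 : WT := (.node (nat_lit 15) r28 r29)
noncomputable def r31 : WT := (.leaf (nat_lit 27666) [nat_lit 57, nat_lit 114, nat_lit 171, nat_lit 133, nat_lit 114, nat_lit 95, nat_lit 76, nat_lit 95, nat_lit 114, nat_lit 152, nat_lit 190, nat_lit 133, nat_lit 133, nat_lit 114, nat_lit 95, nat_lit 76, nat_lit 95, nat_lit 114, nat_lit 152, nat_lit 114, nat_lit 95, nat_lit 76, nat_lit 95, nat_lit 114, nat_lit 152, nat_lit 95, nat_lit 76, nat_lit 95, nat_lit 76, nat_lit 57, nat_lit 76, nat_lit 95, nat_lit 76, nat_lit 95, nat_lit 114, nat_lit 95, nat_lit 76, nat_lit 95])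
noncomputable def r32 : WT := (.leaf (nat_lit 27676) [nat_lit 95, nat_lit 76, nat_lit 95, nat_lit 114, nat_lit 152, nat_lit 190, nat_lit 133, nat_lit 133, nat_lit 114, nat_lit 95, nat_lit 76, nat_lit 95, nat_lit 114, nat_lit 152, nat_lit 114, nat_lit 95, nat_lit 76, nat_lit 95, nat_lit 114, nat_lit 152, nat_lit 95, nat_lit 76, nat_lit 95, nat_lit 76, nat_lit 57, nat_lit 76, nat_lit 95, nat_lit 76, nat_lit 95, nat_lit 114, nat_lit 95, nat_lit 76, nat_lit 95, nat_lit 114, nat_lit 57, nat_lit 114, nat_lit 171, nat_lit 133])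
noncomputable def r33 : WT := (.leaf (nat_lit 27697) [nat_lit 152, nat_lit 190, nat_lit 114, nat_lit 57, nat_lit 114, nat_lit 95, nat_lit 76, nat_lit 95, nat_lit 114, nat_lit 95, nat_lit 76, nat_lit 95, nat_lit 76, nat_lit 57, nat_lit 76, nat_lit 95, nat_lit 76, nat_lit 95, nat_lit 133, nat_lit 114, nat_lit 95, nat_lit 76, nat_lit 95, nat_lit 114, nat_lit 133, nat_lit 114, nat_lit 95, nat_lit 76, nat_lit 95, nat_lit 114, nat_lit 152, nat_lit 152, nat_lit 171, nat_lit 133, nat_lit 114, nat_lit 95, nat_lit 76, nat_lit 95])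
noncomputable def r34 : WT := (.node (nat_lit 18) r32 r33)
noncomputable def r35 : WT := (.node (nat_lit 11) (.node (nat_lit 10) (.leaf (nat_lit 20486) [nat_lit 190, nat_lit 114, nat_lit 171]) (.leaf (nat_lit 15377) [nat_lit 152, nat_lit 152, nat_lit 152, nat_lit 114, nat_lit 133, nat_lit 133, nat_lit 114, nat_lit 133])) (.node (nat_lit 13) (.node (nat_lit 12) (.leaf (nat_lit 15373) [nat_lit 133, nat_lit 114, nat_lit 152, nat_lit 152, nat_lit 152, nat_lit 114, nat_lit 133, nat_lit 133]) r27) (.node (nat_lit 16) (.node (nat_lit 14) (.leaf (nat_lit 15367) [nat_lit 133, nat_lit 133, nat_lit 114, nat_lit 133, nat_lit 114, nat_lit 152, nat_lit 152, nat_lit 152]) r30) (.node (nat_lit 17) r31 r34))))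
noncomputable def w4 : WT := (.node (nat_lit 1) (.leaf (nat_lit 4096) [nat_lit 114]) (.node (nat_lit 3) (.node (nat_lit 2) (.leaf (nat_lit 26626) [nat_lit 57, nat_lit 114, nat_lit 57]) (.leaf (nat_lit 20482) [nat_lit 171, nat_lit 114, nat_lit 190])) (.node (nat_lit 6) (.node (nat_lit 4) (.leaf (nat_lit 10242) [nat_lit 95, nat_lit 114, nat_lit 95, nat_lit 114, nat_lit 95]) r25) (.node (nat_lit 9) r26 r35))))
noncomputable def r36 : WT := (.node (nat_lit 6) (.leaf (nat_lit 21505) [nat_lit 133, nat_lit 190, nat_lit 152, nat_lit 171]) (.leaf (nat_lit 14336) [nat_lit 95, nat_lit 133, nat_lit 95]))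
noncomputable def r37 : WT := (.node (nat_lit 8) (.leaf (nat_lit 15372) [nat_lit 133, nat_lit 133, nat_lit 114, nat_lit 152, nat_lit 114, nat_lit 152, nat_lit 152, nat_lit 114]) (.leaf (nat_lit 12292) [nat_lit 38, nat_lit 152, nat_lit 38]))
noncomputable def r38 : WT := (.leaf (nat_lit 22531) [nat_lit 95, nat_lit 76, nat_lit 114, nat_lit 133, nat_lit 95, nat_lit 76, nat_lit 114, nat_lit 133, nat_lit 95, nat_lit 76, nat_lit 114, nat_lit 133, nat_lit 95, nat_lit 76, nat_lit 114, nat_lit 133, nat_lit 95, nat_lit 76, nat_lit 114, nat_lit 133, nat_lit 95, nat_lit 76, nat_lit 114, nat_lit 133, nat_lit 95, nat_lit 76, nat_lit 114, nat_lit 133, nat_lit 95, nat_lit 76, nat_lit 114, nat_lit 133, nat_lit 95, nat_lit 76, nat_lit 114])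
noncomputable def r39 : WT := (.node (nat_lit 11) (.node (nat_lit 10) (.leaf (nat_lit 11264) [nat_lit 133, nat_lit 133, nat_lit 133, nat_lit 133, nat_lit 133, nat_lit 133]) (.leaf (nat_lit 15375) [nat_lit 114, nat_lit 152, nat_lit 152, nat_lit 152, nat_lit 114, nat_lit 133, nat_lit 133, nat_lit 114])) (.node (nat_lit 12) (.leaf (nat_lit 15369) [nat_lit 133, nat_lit 114, nat_lit 133, nat_lit 114, nat_lit 152, nat_lit 152, nat_lit 152, nat_lit 114]) (.node (nat_lit 14) (.node (nat_lit 13) (.leaf (nat_lit 15371) [nat_lit 114, nat_lit 133, nat_lit 114, nat_lit 152, nat_lit 152, nat_lit 152, nat_lit 114, nat_lit 133]) (.leaf (nat_lit 15374) [nat_lit 133, nat_lit 114, nat_lit 152, nat_lit 114, nat_lit 152, nat_lit 152, nat_lit 114, nat_lit 133])) (.node (nat_lit 15) (.leaf (nat_lit 15376) [nat_lit 114, nat_lit 152, nat_lit 114, nat_lit 152, nat_lit 152, nat_lit 114, nat_lit 133, nat_lit 133]) r38))))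
noncomputable def w5 : WT := (.node (nat_lit 1) (.leaf (nat_lit 5120) [nat_lit 152]) (.node (nat_lit 4) (.node (nat_lit 2) (.leaf (nat_lit 24578) [nat_lit 57, nat_lit 152, nat_lit 57]) (.node (nat_lit 3) (.leaf (nat_lit 13316) [nat_lit 76, nat_lit 152, nat_lit 76]) (.leaf (nat_lit 21506) [nat_lit 171, nat_lit 152, nat_lit 152, nat_lit 190]))) (.node (nat_lit 7) (.node (nat_lit 5) (.leaf (nat_lit 21507) [nat_lit 190, nat_lit 152, nat_lit 171, nat_lit 133]) r36) (.node (nat_lit 9) r37 r39))))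
noncomputable def r40 : WT := (.node (nat_lit 7) (.leaf (nat_lit 15362) [nat_lit 114, nat_lit 152, nat_lit 152, nat_lit 114, nat_lit 133, nat_lit 133, nat_lit 133, nat_lit 114]) (.leaf (nat_lit 11265) [nat_lit 152, nat_lit 152, nat_lit 152, nat_lit 152, nat_lit 152, nat_lit 152]))
noncomputable def r41 : WT := (.leaf (nat_lit 22532) [nat_lit 114, nat_lit 76, nat_lit 95, nat_lit 152, nat_lit 114, nat_lit 76, nat_lit 95, nat_lit 152, nat_lit 114, nat_lit 76, nat_lit 95, nat_lit 152, nat_lit 114, nat_lit 76, nat_lit 95, nat_lit 152, nat_lit 114, nat_lit 76, nat_lit 95, nat_lit 152, nat_lit 114, nat_lit 76, nat_lit 95, nat_lit 152, nat_lit 114, nat_lit 76, nat_lit 95, nat_lit 152, nat_lit 114, nat_lit 76, nat_lit 95, nat_lit 152, nat_lit 114, nat_lit 76, nat_lit 95])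
noncomputable def r42 : WT := (.leaf (nat_lit 27686) [nat_lit 190, nat_lit 133, nat_lit 133, nat_lit 114, nat_lit 95, nat_lit 76, nat_lit 95, nat_lit 114, nat_lit 152, nat_lit 114, nat_lit 95, nat_lit 76, nat_lit 95, nat_lit 114, nat_lit 152, nat_lit 95, nat_lit 76, nat_lit 95, nat_lit 76, nat_lit 57, nat_lit 76, nat_lit 95, nat_lit 76, nat_lit 95, nat_lit 114, nat_lit 95, nat_lit 76, nat_lit 95, nat_lit 114, nat_lit 57, nat_lit 114, nat_lit 171, nat_lit 133, nat_lit 114, nat_lit 95, nat_lit 76, nat_lit 95, nat_lit 114])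
noncomputable def r43 : WT := (.node (nat_lit 16) r41 r42)
noncomputable def r44 : WT := (.node (nat_lit 10) (.node (nat_lit 9) (.leaf (nat_lit 21510) [nat_lit 152, nat_lit 190, nat_lit 133, nat_lit 171]) (.leaf (nat_lit 12288) [nat_lit 38, nat_lit 133, nat_lit 38])) (.node (nat_lit 12) (.node (nat_lit 11) (.leaf (nat_lit 15366) [nat_lit 152, nat_lit 114, nat_lit 133, nat_lit 133, nat_lit 133, nat_lit 114, nat_lit 152, nat_lit 114]) (.leaf (nat_lit 15368) [nat_lit 114, nat_lit 133, nat_lit 133, nat_lit 133, nat_lit 114, nat_lit 152, nat_lit 114, nat_lit 152])) (.node (nat_lit 14) (.node (nat_lit 13) (.leaf (nat_lit 15361) [nat_lit 152, nat_lit 152, nat_lit 114, nat_lit 133, nat_lit 133, nat_lit 114, nat_lit 133, nat_lit 114]) (.leaf (nat_lit 15365) [nat_lit 114, nat_lit 133, nat_lit 133, nat_lit 114, nat_lit 133, nat_lit 114, nat_lit 152, nat_lit 152])) (.node (nat_lit 15) (.leaf (nat_lit 15363) [nat_lit 152, nat_lit 114, nat_lit 133, nat_lit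 133, nat_lit 114, nat_lit 133, nat_lit 114, nat_lit 152]) r43))))
noncomputable def w6 : WT := (.node (nat_lit 1) (.leaf (nat_lit 5122) [nat_lit 133]) (.node (nat_lit 4) (.node (nat_lit 2) (.leaf (nat_lit 24582) [nat_lit 57, nat_lit 133, nat_lit 57]) (.node (nat_lit 3) (.leaf (nat_lit 21512) [nat_lit 190, nat_lit 133, nat_lit 171, nat_lit 152]) (.leaf (nat_lit 21511) [nat_lit 171, nat_lit 133, nat_lit 133, nat_lit 190]))) (.node (nat_lit 6) (.node (nat_lit 5) (.leaf (nat_lit 14339) [nat_lit 95, nat_lit 152, nat_lit 95]) (.leaf (nat_lit 13312) [nat_lit 76, nat_lit 133, nat_lit 76])) (.node (nat_lit 8) r40 r44))))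
noncomputable def r45 : WT := (.leaf (nat_lit 27685) [nat_lit 133, nat_lit 114, nat_lit 95, nat_lit 76, nat_lit 95, nat_lit 114, nat_lit 152, nat_lit 190, nat_lit 114, nat_lit 57, nat_lit 114, nat_lit 95, nat_lit 76, nat_lit 95, nat_lit 114, nat_lit 95, nat_lit 76, nat_lit 95, nat_lit 76, nat_lit 57, nat_lit 76, nat_lit 95, nat_lit 76, nat_lit 95, nat_lit 133, nat_lit 114, nat_lit 95, nat_lit 76, nat_lit 95, nat_lit 114, nat_lit 133, nat_lit 114, nat_lit 95, nat_lit 76, nat_lit 95, nat_lit 114, nat_lit 152, nat_lit 152])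
noncomputable def r46 : WT := (.node (nat_lit 7) (.leaf (nat_lit 21513) [nat_lit 133, nat_lit 133, nat_lit 190, nat_lit 152]) (.node (nat_lit 8) (.leaf (nat_lit 21508) [nat_lit 152, nat_lit 152, nat_lit 190, nat_lit 133]) (.node (nat_lit 9) (.leaf (nat_lit 17412) [nat_lit 38, nat_lit 190, nat_lit 38]) r45)))
noncomputable def w7 : WT := (.node (nat_lit 1) (.leaf (nat_lit 6144) [nat_lit 190]) (.node (nat_lit 3) (.node (nat_lit 2) (.leaf (nat_lit 25602) [nat_lit 57, nat_lit 190, nat_lit 57]) (.leaf (nat_lit 19460) [nat_lit 95, nat_lit 190, nat_lit 95])) (.node (nat_lit 5) (.node (nat_lit 4) (.leaf (nat_lit 16384) [nat_lit 171, nat_lit 171]) (.leaf (nat_lit 20484) [nat_lit 114, nat_lit 190, nat_lit 114])) (.node (nat_lit 6) (.leaf (nat_lit 18436) [nat_lit 76, nat_lit 190, nat_lit 76]) r46))))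
noncomputable def r47 : WT := (.leaf (nat_lit 27701) [nat_lit 114, nat_lit 57, nat_lit 114, nat_lit 95, nat_lit 76, nat_lit 95, nat_lit 114, nat_lit 95, nat_lit 76, nat_lit 95, nat_lit 76, nat_lit 57, nat_lit 76, nat_lit 95, nat_lit 76, nat_lit 95, nat_lit 133, nat_lit 114, nat_lit 95, nat_lit 76, nat_lit 95, nat_lit 114, nat_lit 133, nat_lit 114, nat_lit 95, nat_lit 76, nat_lit 95, nat_lit 114, nat_lit 152, nat_lit 152, nat_lit 171, nat_lit 133, nat_lit 114, nat_lit 95, nat_lit 76, nat_lit 95, nat_lit 114, nat_lit 152])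
noncomputable def r48 : WT := (.node (nat_lit 7) (.leaf (nat_lit 19456) [nat_lit 95, nat_lit 171, nat_lit 95]) (.node (nat_lit 8) (.leaf (nat_lit 18432) [nat_lit 76, nat_lit 171, nat_lit 76]) (.node (nat_lit 9) (.leaf (nat_lit 17408) [nat_lit 38, nat_lit 171, nat_lit 38]) r47)))
noncomputable def w8 : WT := (.node (nat_lit 1) (.leaf (nat_lit 6146) [nat_lit 171]) (.node (nat_lit 3) (.node (nat_lit 2) (.leaf (nat_lit 16385) [nat_lit 190, nat_lit 190]) (.leaf (nat_lit 21509) [nat_lit 152, nat_lit 171, nat_lit 133, nat_lit 133])) (.node (nat_lit 5) (.node (nat_lit 4) (.leaf (nat_lit 25606) [nat_lit 57, nat_lit 171, nat_lit 57]) (.leaf (nat_lit 20480) [nat_lit 114, nat_lit 171, nat_lit 114])) (.node (nat_lit 6) (.leaf (nat_lit 21504) [nat_lit 133, nat_lit 171, nat_lit 152, nat_lit 152]) r48))))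
noncomputable def r49 : WT := (.leaf (nat_lit 27664) [nat_lit 95, nat_lit 114, nat_lit 57, nat_lit 114, nat_lit 171, nat_lit 133, nat_lit 114, nat_lit 95, nat_lit 76, nat_lit 95, nat_lit 114, nat_lit 152, nat_lit 190, nat_lit 133, nat_lit 133, nat_lit 114, nat_lit 95, nat_lit 76, nat_lit 95, nat_lit 114, nat_lit 152, nat_lit 114, nat_lit 95, nat_lit 76, nat_lit 95, nat_lit 114, nat_lit 152, nat_lit 95, nat_lit 76, nat_lit 95, nat_lit 76, nat_lit 57, nat_lit 76, nat_lit 95, nat_lit 76, nat_lit 95, nat_lit 114, nat_lit 95, nat_lit 76])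
noncomputable def r50 : WT := (.leaf (nat_lit 27714) [nat_lit 114, nat_lit 152, nat_lit 95, nat_lit 76, nat_lit 95, nat_lit 76, nat_lit 57, nat_lit 76, nat_lit 95, nat_lit 76, nat_lit 95, nat_lit 114, nat_lit 95, nat_lit 76, nat_lit 95, nat_lit 114, nat_lit 57, nat_lit 114, nat_lit 171, nat_lit 133, nat_lit 114, nat_lit 95, nat_lit 76, nat_lit 95, nat_lit 114, nat_lit 152, nat_lit 190, nat_lit 133, nat_lit 133, nat_lit 114, nat_lit 95, nat_lit 76, nat_lit 95, nat_lit 114, nat_lit 152, nat_lit 114, nat_lit 95, nat_lit 76, nat_lit 95])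
noncomputable def wP : WT := (.node (nat_lit 4) (.node (nat_lit 2) (.node (nat_lit 1) (.leaf (nat_lit 23554) [nat_lit 38, nat_lit 57, nat_lit 76, nat_lit 57]) (.leaf (nat_lit 10242) [nat_lit 114, nat_lit 95, nat_lit 114, nat_lit 95, nat_lit 114, nat_lit 95])) (.node (nat_lit 3) (.leaf (nat_lit 8194) [nat_lit 95, nat_lit 76, nat_lit 95, nat_lit 76, nat_lit 95, nat_lit 76, nat_lit 95, nat_lit 76, nat_lit 38]) (.leaf (nat_lit 8193) [nat_lit 76, nat_lit 95, nat_lit 76, nat_lit 95, nat_lit 76, nat_lit 95, nat_lit 76, nat_lit 95, nat_lit 38]))) (.node (nat_lit 5) (.leaf (nat_lit 8201) [nat_lit 76, nat_lit 95, nat_lit 76, nat_lit 95, nat_lit 38, nat_lit 76, nat_lit 95, nat_lit 76, nat_lit 95]) (.node (nat_lit 6) r49 r50)))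
noncomputable def P : Par := ⟨tb, nat_lit 209, nat_lit 0x1ffffffffffffffffffffffffffffffffffffffffffffffffffff, nat_lit 933, nat_lit 524287, nat_lit 1023, nat_lit 19, nat_lit 10, nat_lit 819,
  [nat_lit 38, nat_lit 57, nat_lit 76, nat_lit 95, nat_lit 114, nat_lit 133, nat_lit 152, nat_lit 171, nat_lit 190], [nat_lit 38, nat_lit 76, nat_lit 95, nat_lit 114, nat_lit 133, nat_lit 171], wP,
  (.cons (nat_lit 38) w0 (.cons (nat_lit 57) w1 (.cons (nat_lit 76) w2 (.cons (nat_lit 95) w3 (.cons (nat_lit 114) w4 (.cons (nat_lit 133) w5 (.cons (nat_lit 152) w6 (.cons (nat_lit 171) w7 (.cons (nat_lit 190) w8 .nil))))))))),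
  .nil⟩

end Cfsg.Agent.Lib.TCThS0
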