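import Cfsg.Agent.Lib.TCThS1D0

set_option autoImplicit false
set_option maxRecDepth 100000

namespace Cfsg.Agent.Lib.TCThS1
open Cfsg.Agent.Lib.TCCore

noncomputable def tb : T := (.node (nat_lit 204) (.node (nat_lit 102) l0 l1) (.node (nat_lit 306) l2 l3))
noncomputable def r0 : WT := (.node (nat_lit 6) (.leaf (nat_lit 12294) [nat_lit 136, nat_lit 34, nat_lit 119]) (.leaf (nat_lit 17414) [nat_lit 170, nat_lit 34, nat_lit 153]))
noncomputable def r1 : WT := (.node (nat_lit 8) (.leaf (nat_lit 12290) [nat_lit 119, nat_lit 34, nat_lit 136]) (.leaf (nat_lit 8192) [nat_lit 85, nat_lit 68, nat_lit 85, nat_lit 68, nat_lit 85, nat_lit 68, nat_lit 85, nat_lit 68]))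
noncomputable def w0 : WT := (.node (nat_lit 1) (.leaf (nat_lit 0) [nat_lit 34]) (.node (nat_lit 3) (.node (nat_lit 2) (.leaf (nat_lit 23554) [nat_lit 51, nat_lit 68, nat_lit 51]) (.leaf (nat_lit 17410) [nat_lit 153, nat_lit 34, nat_lit 170])) (.node (nat_lit 5) (.node (nat_lit 4) (.leaf (nat_lit 8209) [nat_lit 68, nat_lit 85, nat_lit 68, nat_lit 85, nat_lit 68, nat_lit 85, nat_lit 68, nat_lit 85]) (.leaf (nat_lit 7168) [nat_lit 102, nat_lit 34, nat_lit 102])) (.node (nat_lit 7) r0 r1))))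
noncomputable def r2 : WT := (.node (nat_lit 5) (.leaf (nat_lit 25604) [nat_lit 170, nat_lit 51, nat_lit 153]) (.leaf (nat_lit 24580) [nat_lit 136, nat_lit 51, nat_lit 119]))
noncomputable def r3 : WT := (.leaf (nat_lit 29714) [nat_lit 85, nat_lit 68, nat_lit 51, nat_lit 85, nat_lit 68, nat_lit 85, nat_lit 68, nat_lit 85, nat_lit 51, nat_lit 85, nat_lit 68, nat_lit 51, nat_lit 85, nat_lit 68, nat_lit 85, nat_lit 68, nat_lit 85, nat_lit 51, nat_lit 85, nat_lit 68, nat_lit 85, nat_lit 68, nat_lit 85, nat_lit 85, nat_lit 68, nat_lit 85, nat_lit 51, nat_lit 85, nat_lit 68, nat_lit 85, nat_lit 68, nat_lit 85])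
noncomputable def r4 : WT := (.node (nat_lit 7) (.leaf (nat_lit 23552) [nat_lit 34, nat_lit 51, nat_lit 68]) (.node (nat_lit 8) (.leaf (nat_lit 28678) [nat_lit 85, nat_lit 68, nat_lit 85, nat_lit 51, nat_lit 85, nat_lit 68, nat_lit 85, nat_lit 51, nat_lit 85, nat_lit 68, nat_lit 85]) (.node (nat_lit 9) (.leaf (nat_lit 23556) [nat_lit 68, nat_lit 51, nat_lit 34]) r3)))
noncomputable def w1 : WT := (.node (nat_lit 1) (.leaf (nat_lit 1024) [nat_lit 51]) (.node (nat_lit 3) (.node (nat_lit 2) (.leaf (nat_lit 25600) [nat_lit 153, nat_lit 51, nat_lit 170]) (.leaf (nat_lit 24576) [nat_lit 119, nat_lit 51, nat_lit 136])) (.node (nat_lit 4) (.leaf (nat_lit 26624) [nat_lit 102, nat_lit 51, nat_lit 102]) (.node (nat_lit 6) r2 r4))))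
noncomputable def r5 : WT := (.node (nat_lit 6) (.leaf (nat_lit 13318) [nat_lit 136, nat_lit 68, nat_lit 119]) (.leaf (nat_lit 18438) [nat_lit 170, nat_lit 68, nat_lit 153]))
noncomputable def r6 : WT := (.leaf (nat_lit 29736) [nat_lit 51, nat_lit 85, nat_lit 68, nat_lit 85, nat_lit 68, nat_lit 85, nat_lit 51, nat_lit 85, nat_lit 68, nat_lit 85, nat_lit 68, nat_lit 85, nat_lit 85, nat_lit 68, nat_lit 85, nat_lit 51, nat_lit 85, nat_lit 68, nat_lit 85, nat_lit 68, nat_lit 85, nat_lit 51, nat_lit 85, nat_lit 68, nat_lit 51, nat_lit 85, nat_lit 68, nat_lit 85, nat_lit 68, nat_lit 85, nat_lit 51, nat_lit 85])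
noncomputable def r7 : WT := (.node (nat_lit 9) (.node (nat_lit 8) (.leaf (nat_lit 8196) [nat_lit 85, nat_lit 68, nat_lit 85, nat_lit 68, nat_lit 85, nat_lit 68, nat_lit 34, nat_lit 85]) (.leaf (nat_lit 8200) [nat_lit 85, nat_lit 68, nat_lit 85, nat_lit 68, nat_lit 34, nat_lit 85, nat_lit 68, nat_lit 85])) (.node (nat_lit 10) (.leaf (nat_lit 8193) [nat_lit 85, nat_lit 68, nat_lit 85, nat_lit 68, nat_lit 85, nat_lit 68, nat_lit 85, nat_lit 34]) r6))
noncomputable def w2 : WT := (.node (nat_lit 1) (.leaf (nat_lit 2048) [nat_lit 68]) (.node (nat_lit 3) (.node (nat_lit 2) (.leaf (nat_lit 23558) [nat_lit 51, nat_lit 34, nat_lit 51]) (.leaf (nat_lit 18434) [nat_lit 153, nat_lit 68, nat_lit 170])) (.node (nat_lit 5) (.node (nat_lit 4) (.leaf (nat_lit 9216) [nat_lit 102, nat_lit 68, nat_lit 102]) (.leaf (nat_lit 13314) [nat_lit 119, nat_lit 68, nat_lit 136])) (.node (nat_lit 7) r5 r7))))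
noncomputable def r8 : WT := (.leaf (nat_lit 22530) [nat_lit 136, nat_lit 102, nat_lit 68, nat_lit 85, nat_lit 136, nat_lit 102, nat_lit 68, nat_lit 85, nat_lit 136, nat_lit 102, nat_lit 68, nat_lit 85, nat_lit 136, nat_lit 102, nat_lit 68, nat_lit 85, nat_lit 136, nat_lit 102, nat_lit 68, nat_lit 85, nat_lit 136, nat_lit 102, nat_lit 68, nat_lit 85, nat_lit 136, nat_lit 102, nat_lit 68, nat_lit 85, nat_lit 136, nat_lit 102, nat_lit 68, nat_lit 85, nat_lit 136, nat_lit 102, nat_lit 68])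
noncomputable def r9 : WT := (.leaf (nat_lit 27660) [nat_lit 68, nat_lit 85, nat_lit 102, nat_lit 51, nat_lit 102, nat_lit 153, nat_lit 119, nat_lit 102, nat_lit 85, nat_lit 68, nat_lit 85, nat_lit 102, nat_lit 136, nat_lit 170, nat_lit 119, nat_lit 119, nat_lit 102, nat_lit 85, nat_lit 68, nat_lit 85, nat_lit 102, nat_lit 136, nat_lit 102, nat_lit 85, nat_lit 68, nat_lit 85, nat_lit 102, nat_lit 136, nat_lit 85, nat_lit 68, nat_lit 85, nat_lit 68, nat_lit 51, nat_lit 68, nat_lit 85, nat_lit 68, nat_lit 85, nat_lit 102])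
noncomputable def r10 : WT := (.node (nat_lit 6) (.leaf (nat_lit 10240) [nat_lit 102, nat_lit 85, nat_lit 102, nat_lit 85, nat_lit 102]) (.node (nat_lit 8) (.node (nat_lit 7) (.leaf (nat_lit 8198) [nat_lit 68, nat_lit 85, nat_lit 68, nat_lit 85, nat_lit 68, nat_lit 34, nat_lit 85, nat_lit 68]) (.leaf (nat_lit 8206) [nat_lit 68, nat_lit 34, nat_lit 85, nat_lit 68, nat_lit 85, nat_lit 68, nat_lit 85, nat_lit 68])) (.node (nat_lit 9) r8 r9)))
noncomputable def w3 : WT := (.node (nat_lit 1) (.leaf (nat_lit 3072) [nat_lit 85]) (.node (nat_lit 3) (.node (nat_lit 2) (.leaf (nat_lit 19458) [nat_lit 153, nat_lit 85, nat_lit 170]) (.leaf (nat_lit 14338) [nat_lit 119, nat_lit 85, nat_lit 119])) (.node (nat_lit 4) (.leaf (nat_lit 14337) [nat_lit 136, nat_lit 85, nat_lit 136]) (.node (nat_lit 5) (.leaf (nat_lit 19462) [nat_lit 170, nat_lit 85, nat_lit 153]) r10))))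
noncomputable def r11 : WT := (.node (nat_lit 5) (.leaf (nat_lit 9218) [nat_lit 68, nat_lit 102, nat_lit 68]) (.leaf (nat_lit 15364) [nat_lit 136, nat_lit 136, nat_lit 102, nat_lit 119, nat_lit 119, nat_lit 119, nat_lit 102, nat_lit 136]))
noncomputable def r12 : WT := (.node (nat_lit 7) (.leaf (nat_lit 15360) [nat_lit 136, nat_lit 102, nat_lit 136, nat_lit 136, nat_lit 102, nat_lit 119, nat_lit 119, nat_lit 119]) (.leaf (nat_lit 7170) [nat_lit 34, nat_lit 102, nat_lit 34]))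
noncomputable def r13 : WT := (.leaf (nat_lit 27658) [nat_lit 85, nat_lit 68, nat_lit 85, nat_lit 102, nat_lit 51, nat_lit 102, nat_lit 153, nat_lit 119, nat_lit 102, nat_lit 85, nat_lit 68, nat_lit 85, nat_lit 102, nat_lit 136, nat_lit 170, nat_lit 119, nat_lit 119, nat_lit 102, nat_lit 85, nat_lit 68, nat_lit 85, nat_lit 102, nat_lit 136, nat_lit 102, nat_lit 85, nat_lit 68, nat_lit 85, nat_lit 102, nat_lit 136, nat_lit 85, nat_lit 68, nat_lit 85, nat_lit 68, nat_lit 51, nat_lit 68, nat_lit 85, nat_lit 68, nat_lit 85])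
noncomputable def r14 : WT := (.node (nat_lit 10) (.node (nat_lit 9) (.leaf (nat_lit 20486) [nat_lit 170, nat_lit 102, nat_lit 153]) r13) (.node (nat_lit 11) (.leaf (nat_lit 15377) [nat_lit 136, nat_lit 136, nat_lit 136, nat_lit 102, nat_lit 119, nat_lit 119, nat_lit 102, nat_lit 119]) (.leaf (nat_lit 15370) [nat_lit 119, nat_lit 119, nat_lit 119, nat_lit 102, nat_lit 136, nat_lit 102, nat_lit 136, nat_lit 136])))
noncomputable def w4 : WT := (.node (nat_lit 1) (.leaf (nat_lit 4096) [nat_lit 102]) (.node (nat_lit 3) (.node (nat_lit 2) (.leaf (nat_lit 26626) [nat_lit 51, nat_lit 102, nat_lit 51]) (.leaf (nat_lit 20482) [nat_lit 153, nat_lit 102, nat_lit 170])) (.node (nat_lit 6) (.node (nat_lit 4) (.leaf (nat_lit 10242) [nat_lit 85, nat_lit 102, nat_lit 85, nat_lit 102, nat_lit 85]) r11) (.node (nat_lit 8) r12 r14))))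
noncomputable def r15 : WT := (.node (nat_lit 7) (.leaf (nat_lit 12292) [nat_lit 34, nat_lit 136, nat_lit 34]) (.leaf (nat_lit 13316) [nat_lit 68, nat_lit 136, nat_lit 68]))
noncomputable def r16 : WT := (.node (nat_lit 9) (.leaf (nat_lit 11264) [nat_lit 119, nat_lit 119, nat_lit 119, nat_lit 119, nat_lit 119, nat_lit 119]) (.node (nat_lit 10) (.leaf (nat_lit 15372) [nat_lit 119, nat_lit 119, nat_lit 102, nat_lit 136, nat_lit 102, nat_lit 136, nat_lit 136, nat_lit 102]) (.leaf (nat_lit 15375) [nat_lit 102, nat_lit 136, nat_lit 136, nat_lit 136, nat_lit 102, nat_lit 119, nat_lit 119, nat_lit 102])))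
noncomputable def w5 : WT := (.node (nat_lit 1) (.leaf (nat_lit 5120) [nat_lit 136]) (.node (nat_lit 4) (.node (nat_lit 2) (.leaf (nat_lit 24578) [nat_lit 51, nat_lit 136, nat_lit 51]) (.node (nat_lit 3) (.leaf (nat_lit 21505) [nat_lit 119, nat_lit 170, nat_lit 136, nat_lit 153]) (.leaf (nat_lit 14336) [nat_lit 85, nat_lit 119, nat_lit 85]))) (.node (nat_lit 6) (.node (nat_lit 5) (.leaf (nat_lit 21506) [nat_lit 153, nat_lit 136, nat_lit 136, nat_lit 170]) (.leaf (nat_lit 21507) [nat_lit 170, nat_lit 136, nat_lit 153, nat_lit 119])) (.node (nat_lit 8) r15 r16))))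
noncomputable def r17 : WT := (.node (nat_lit 6) (.leaf (nat_lit 11265) [nat_lit 136, nat_lit 136, nat_lit 136, nat_lit 136, nat_lit 136, nat_lit 136]) (.leaf (nat_lit 14339) [nat_lit 85, nat_lit 136, nat_lit 85]))
noncomputable def r18 : WT := (.node (nat_lit 8) (.leaf (nat_lit 12288) [nat_lit 34, nat_lit 119, nat_lit 34]) (.node (nat_lit 9) (.leaf (nat_lit 15368) [nat_lit 102, nat_lit 119, nat_lit 119, nat_lit 119, nat_lit 102, nat_lit 136, nat_lit 102, nat_lit 136]) (.leaf (nat_lit 15362) [nat_lit 102, nat_lit 136, nat_lit 136, nat_lit 102, nat_lit 119, nat_lit 119, nat_lit 119, nat_lit 102])))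
noncomputable def w6 : WT := (.node (nat_lit 1) (.leaf (nat_lit 5122) [nat_lit 119]) (.node (nat_lit 3) (.node (nat_lit 2) (.leaf (nat_lit 21511) [nat_lit 153, nat_lit 119, nat_lit 119, nat_lit 170]) (.leaf (nat_lit 24582) [nat_lit 51, nat_lit 119, nat_lit 51])) (.node (nat_lit 5) (.node (nat_lit 4) (.leaf (nat_lit 21512) [nat_lit 170, nat_lit 119, nat_lit 153, nat_lit 136]) (.leaf (nat_lit 13312) [nat_lit 68, nat_lit 119, nat_lit 68])) (.node (nat_lit 7) r17 r18))))
noncomputable def r19 : WT := (.node (nat_lit 7) (.leaf (nat_lit 17412) [nat_lit 34, nat_lit 170, nat_lit 34]) (.node (nat_lit 8) (.leaf (nat_lit 21508) [nat_lit 136, nat_lit 136, nat_lit 170, nat_lit 119]) (.leaf (nat_lit 21513) [nat_lit 119, nat_lit 119, nat_lit 170, nat_lit 136])))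
noncomputable def w7 : WT := (.node (nat_lit 1) (.leaf (nat_lit 6144) [nat_lit 170]) (.node (nat_lit 3) (.node (nat_lit 2) (.leaf (nat_lit 25602) [nat_lit 51, nat_lit 170, nat_lit 51]) (.leaf (nat_lit 19460) [nat_lit 85, nat_lit 170, nat_lit 85])) (.node (nat_lit 5) (.node (nat_lit 4) (.leaf (nat_lit 16384) [nat_lit 153, nat_lit 153]) (.leaf (nat_lit 20484) [nat_lit 102, nat_lit 170, nat_lit 102])) (.node (nat_lit 6) (.leaf (nat_lit 18436) [nat_lit 68, nat_lit 170, nat_lit 68]) r19))))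
noncomputable def r20 : WT := (.node (nat_lit 4) (.leaf (nat_lit 25606) [nat_lit 51, nat_lit 153, nat_lit 51]) (.leaf (nat_lit 19456) [nat_lit 85, nat_lit 153, nat_lit 85]))
noncomputable def r21 : WT := (.node (nat_lit 7) (.node (nat_lit 6) (.leaf (nat_lit 20480) [nat_lit 102, nat_lit 153, nat_lit 102]) (.leaf (nat_lit 17408) [nat_lit 34, nat_lit 153, nat_lit 34])) (.node (nat_lit 8) (.leaf (nat_lit 21504) [nat_lit 119, nat_lit 153, nat_lit 136, nat_lit 136]) (.leaf (nat_lit 18432) [nat_lit 68, nat_lit 153, nat_lit 68])))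
noncomputable def w8 : WT := (.node (nat_lit 1) (.leaf (nat_lit 6146) [nat_lit 153]) (.node (nat_lit 2) (.leaf (nat_lit 16385) [nat_lit 170, nat_lit 170]) (.node (nat_lit 3) (.leaf (nat_lit 21509) [nat_lit 136, nat_lit 153, nat_lit 119, nat_lit 119]) (.node (nat_lit 5) r20 r21))))
noncomputable def r22 : WT := (.leaf (nat_lit 27664) [nat_lit 85, nat_lit 102, nat_lit 51, nat_lit 102, nat_lit 153, nat_lit 119, nat_lit 102, nat_lit 85, nat_lit 68, nat_lit 85, nat_lit 102, nat_lit 136, nat_lit 170, nat_lit 119, nat_lit 119, nat_lit 102, nat_lit 85, nat_lit 68, nat_lit 85, nat_lit 102, nat_lit 136, nat_lit 102, nat_lit 85, nat_lit 68, nat_lit 85, nat_lit 102, nat_lit 136, nat_lit 85, nat_lit 68, nat_lit 85, nat_lit 68, nat_lit 51, nat_lit 68, nat_lit 85, nat_lit 68, nat_lit 85, nat_lit 102, nat_lit 85, nat_lit 68])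
noncomputable def wP : WT := (.node (nat_lit 3) (.node (nat_lit 1) (.leaf (nat_lit 23552) [nat_lit 51, nat_lit 34, nat_lit 51, nat_lit 68]) (.node (nat_lit 2) (.leaf (nat_lit 23554) [nat_lit 34, nat_lit 51, nat_lit 68, nat_lit 51]) (.leaf (nat_lit 8193) [nat_lit 68, nat_lit 85, nat_lit 68, nat_lit 85, nat_lit 68, nat_lit 85, nat_lit 68, nat_lit 85, nat_lit 34]))) (.node (nat_lit 4) (.leaf (nat_lit 8201) [nat_lit 68, nat_lit 85, nat_lit 68, nat_lit 85, nat_lit 34, nat_lit 68, nat_lit 85, nat_lit 68, nat_lit 85]) r22))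
noncomputable def P : Par := ⟨tb, nat_lit 187, nat_lit 0x7ffffffffffffffffffffffffffffffffffffffffffffff, nat_lit 325, nat_lit 131071, nat_lit 511, nat_lit 17, nat_lit 9, nat_lit 1,
  [nat_lit 34, nat_lit 51, nat_lit 68, nat_lit 85, nat_lit 102, nat_lit 119, nat_lit 136, nat_lit 153, nat_lit 170], [nat_lit 34, nat_lit 68, nat_lit 85, nat_lit 102, nat_lit 119, nat_lit 153], wP,
  (.cons (nat_lit 34) w0 (.cons (nat_lit 51) w1 (.cons (nat_lit 68) w2 (.cons (nat_lit 85) w3 (.cons (nat_lit 102) w4 (.cons (nat_lit 119) w5 (.cons (nat_lit 136) w6 (.cons (nat_lit 153) w7 (.cons (nat_lit 170) w8 .nil))))))))),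
  .nil⟩

end Cfsg.Agent.Lib.TCThS1
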