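import Cfsg.Agent.Lib.TCThS2D0

set_option autoImplicit false
set_option maxRecDepth 100000

namespace Cfsg.Agent.Lib.TCThS2
open Cfsg.Agent.Lib.TCCore

noncomputable def n0 : T := (.node (nat_lit 72) l0 (.node (nat_lit 144) l1 l2))
noncomputable def n1 : T := (.node (nat_lit 288) l3 (.node (nat_lit 360) l4 l5))
noncomputable def n2 : T := (.node (nat_lit 504) l6 (.node (nat_lit 576) l7 l8))
noncomputable def n3 : T := (.node (nat_lit 792) (.node (nat_lit 720) l9 l10) (.node (nat_lit 864) l11 l12))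
noncomputable def n4 : T := (.node (nat_lit 1008) l13 (.node (nat_lit 1080) l14 l15))
noncomputable def n5 : T := (.node (nat_lit 1224) l16 (.node (nat_lit 1296) l17 l18))
noncomputable def n6 : T := (.node (nat_lit 1440) l19 (.node (nat_lit 1512) l20 l21))
noncomputable def n7 : T := (.node (nat_lit 1728) (.node (nat_lit 1656) l22 l23) (.node (nat_lit 1800) l24 l25))
noncomputable def n8 : T := (.node (nat_lit 1944) l26 (.node (nat_lit 2016) l27 l28))
noncomputable def n9 : T := (.node (nat_lit 2160) l29 (.node (nat_lit 2232) l30 l31))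
noncomputable def n10 : T := (.node (nat_lit 2376) l32 (.node (nat_lit 2448) l33 l34))
noncomputable def n11 : T := (.node (nat_lit 2664) (.node (nat_lit 2592) l35 l36) (.node (nat_lit 2736) l37 l38))
noncomputable def n12 : T := (.node (nat_lit 2880) l39 (.node (nat_lit 2952) l40 l41))
noncomputable def n13 : T := (.node (nat_lit 3096) l42 (.node (nat_lit 3168) l43 l44))
noncomputable def n14 : T := (.node (nat_lit 3312) l45 (.node (nat_lit 3384) l46 l47))
noncomputable def n15 : T := (.node (nat_lit 3600) (.node (nat_lit 3528) l48 l49) (.node (nat_lit 3672) l50 l51))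
noncomputable def n16 : T := (.node (nat_lit 3816) l52 (.node (nat_lit 3888) l53 l54))
noncomputable def n17 : T := (.node (nat_lit 4032) l55 (.node (nat_lit 4104) l56 l57))
noncomputable def n18 : T := (.node (nat_lit 4248) l58 (.node (nat_lit 4320) l59 l60))
noncomputable def n19 : T := (.node (nat_lit 4536) (.node (nat_lit 4464) l61 l62) (.node (nat_lit 4608) l63 l64))
noncomputable def n20 : T := (.node (nat_lit 4752) l65 (.node (nat_lit 4824) l66 l67))
noncomputable def n21 : T := (.node (nat_lit 4968) l68 (.node (nat_lit 5040) l69 l70))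
noncomputable def n22 : T := (.node (nat_lit 5184) l71 (.node (nat_lit 5256) l72 l73))
noncomputable def n23 : T := (.node (nat_lit 5472) (.node (nat_lit 5400) l74 l75) (.node (nat_lit 5544) l76 l77))
noncomputable def n24 : T := (.node (nat_lit 5688) l78 (.node (nat_lit 5760) l79 l80))
noncomputable def n25 : T := (.node (nat_lit 5904) l81 (.node (nat_lit 5976) l82 l83))
noncomputable def n26 : T := (.node (nat_lit 6120) l84 (.node (nat_lit 6192) l85 l86))
noncomputable def n27 : T := (.node (nat_lit 6408) (.node (nat_lit 6336) l87 l88) (.node (nat_lit 6480) l89 l90))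
noncomputable def n28 : T := (.node (nat_lit 6624) l91 (.node (nat_lit 6696) l92 l93))
noncomputable def n29 : T := (.node (nat_lit 6912) (.node (nat_lit 6840) l94 l95) (.node (nat_lit 6984) l96 l97))
noncomputable def n30 : T := (.node (nat_lit 7128) l98 (.node (nat_lit 7200) l99 l100))
noncomputable def n31 : T := (.node (nat_lit 7416) (.node (nat_lit 7344) l101 l102) (.node (nat_lit 7488) l103 l104))
noncomputable def tb : T := (.node (nat_lit 3744) (.node (nat_lit 1872) (.node (nat_lit 936) (.node (nat_lit 432) (.node (nat_lit 216) n0 n1) (.node (nat_lit 648) n2 n3)) (.node (nat_lit 1368) (.node (nat_lit 1152) n4 n5) (.node (nat_lit 1584) n6 n7))) (.node (nat_lit 2808) (.node (nat_lit 2304) (.node (nat_lit 2088) n8 n9) (.node (nat_lit 2520) n10 n11)) (.node (nat_lit 3240) (.node (nat_lit 3024) n12 n13) (.node (nat_lit 3456) n14 n15)))) (.node (nat_lit 5616) (.node (nat_lit 4680) (.node (nat_lit 4176) (.node (nat_lit 3960) n16 n17) (.node (nat_lit 4392) n18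 n19)) (.node (nat_lit 5112) (.node (nat_lit 4896) n20 n21) (.node (nat_lit 5328) n22 n23))) (.node (nat_lit 6552) (.node (nat_lit 6048) (.node (nat_lit 5832) n24 n25) (.node (nat_lit 6264) n26 n27)) (.node (nat_lit 7056) (.node (nat_lit 6768) n28 n29) (.node (nat_lit 7272) n30 n31)))))
noncomputable def r0 : WT := (.node (nat_lit 6) (.leaf (nat_lit 7168) [nat_lit 144, nat_lit 48, nat_lit 144]) (.leaf (nat_lit 17414) [nat_lit 240, nat_lit 48, nat_lit 216]))
noncomputable def r1 : WT := (.node (nat_lit 8) (.leaf (nat_lit 8209) [nat_lit 96, nat_lit 120, nat_lit 96, nat_lit 120, nat_lit 96, nat_lit 120, nat_lit 96, nat_lit 120]) (.leaf (nat_lit 8192) [nat_lit 120, nat_lit 96, nat_lit 120, nat_lit 96, nat_lit 120, nat_lit 96, nat_lit 120, nat_lit 96]))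
noncomputable def w0 : WT := (.node (nat_lit 1) (.leaf (nat_lit 0) [nat_lit 48]) (.node (nat_lit 3) (.node (nat_lit 2) (.leaf (nat_lit 17410) [nat_lit 216, nat_lit 48, nat_lit 240]) (.leaf (nat_lit 23554) [nat_lit 72, nat_lit 96, nat_lit 72])) (.node (nat_lit 5) (.node (nat_lit 4) (.leaf (nat_lit 12290) [nat_lit 168, nat_lit 48, nat_lit 192]) (.leaf (nat_lit 12294) [nat_lit 192, nat_lit 48, nat_lit 168])) (.node (nat_lit 7) r0 r1))))
noncomputable def r2 : WT := (.node (nat_lit 7) (.leaf (nat_lit 25604) [nat_lit 240, nat_lit 72, nat_lit 216]) (.node (nat_lit 8) (.leaf (nat_lit 23556) [nat_lit 96, nat_lit 72, nat_lit 48]) (.leaf (nat_lit 28678) [nat_lit 120, nat_lit 96, nat_lit 120, nat_lit 72, nat_lit 120, nat_lit 96, nat_lit 120, nat_lit 72, nat_lit 120, nat_lit 96, nat_lit 120])))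
noncomputable def w1 : WT := (.node (nat_lit 1) (.leaf (nat_lit 1024) [nat_lit 72]) (.node (nat_lit 3) (.node (nat_lit 2) (.leaf (nat_lit 25600) [nat_lit 216, nat_lit 72, nat_lit 240]) (.leaf (nat_lit 24576) [nat_lit 168, nat_lit 72, nat_lit 192])) (.node (nat_lit 5) (.node (nat_lit 4) (.leaf (nat_lit 24580) [nat_lit 192, nat_lit 72, nat_lit 168]) (.leaf (nat_lit 26624) [nat_lit 144, nat_lit 72, nat_lit 144])) (.node (nat_lit 6) (.leaf (nat_lit 23552) [nat_lit 48, nat_lit 72, nat_lit 96]) r2))))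
noncomputable def r3 : WT := (.node (nat_lit 6) (.leaf (nat_lit 9216) [nat_lit 144, nat_lit 96, nat_lit 144]) (.leaf (nat_lit 18438) [nat_lit 240, nat_lit 96, nat_lit 216]))
noncomputable def r4 : WT := (.leaf (nat_lit 27662) [nat_lit 120, nat_lit 144, nat_lit 72, nat_lit 144, nat_lit 216, nat_lit 168, nat_lit 144, nat_lit 120, nat_lit 96, nat_lit 120, nat_lit 144, nat_lit 192, nat_lit 240, nat_lit 168, nat_lit 168, nat_lit 144, nat_lit 120, nat_lit 96, nat_lit 120, nat_lit 144, nat_lit 192, nat_lit 144, nat_lit 120, nat_lit 96, nat_lit 120, nat_lit 144, nat_lit 192, nat_lit 120, nat_lit 96, nat_lit 120, nat_lit 96, nat_lit 72, nat_lit 96, nat_lit 120, nat_lit 96, nat_lit 120, nat_lit 144, nat_lit 120])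
noncomputable def r5 : WT := (.leaf (nat_lit 22528) [nat_lit 120, nat_lit 192, nat_lit 144, nat_lit 96, nat_lit 120, nat_lit 192, nat_lit 144, nat_lit 96, nat_lit 120, nat_lit 192, nat_lit 144, nat_lit 96, nat_lit 120, nat_lit 192, nat_lit 144, nat_lit 96, nat_lit 120, nat_lit 192, nat_lit 144, nat_lit 96, nat_lit 120, nat_lit 192, nat_lit 144, nat_lit 96, nat_lit 120, nat_lit 192, nat_lit 144, nat_lit 96, nat_lit 120, nat_lit 192, nat_lit 144, nat_lit 96, nat_lit 120, nat_lit 192, nat_lit 144])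
noncomputable def r6 : WT := (.leaf (nat_lit 22535) [nat_lit 144, nat_lit 168, nat_lit 120, nat_lit 96, nat_lit 144, nat_lit 168, nat_lit 120, nat_lit 96, nat_lit 144, nat_lit 168, nat_lit 120, nat_lit 96, nat_lit 144, nat_lit 168, nat_lit 120, nat_lit 96, nat_lit 144, nat_lit 168, nat_lit 120, nat_lit 96, nat_lit 144, nat_lit 168, nat_lit 120, nat_lit 96, nat_lit 144, nat_lit 168, nat_lit 120, nat_lit 96, nat_lit 144, nat_lit 168, nat_lit 120, nat_lit 96, nat_lit 144, nat_lit 168, nat_lit 120])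
noncomputable def r7 : WT := (.leaf (nat_lit 27649) [nat_lit 120, nat_lit 96, nat_lit 120, nat_lit 168, nat_lit 144, nat_lit 120, nat_lit 96, nat_lit 120, nat_lit 144, nat_lit 168, nat_lit 144, nat_lit 120, nat_lit 96, nat_lit 120, nat_lit 144, nat_lit 192, nat_lit 192, nat_lit 216, nat_lit 168, nat_lit 144, nat_lit 120, nat_lit 96, nat_lit 120, nat_lit 144, nat_lit 192, nat_lit 240, nat_lit 144, nat_lit 72, nat_lit 144, nat_lit 120, nat_lit 96, nat_lit 120, nat_lit 144, nat_lit 120, nat_lit 96, nat_lit 120, nat_lit 96, nat_lit 72])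
noncomputable def r8 : WT := (.node (nat_lit 14) (.node (nat_lit 13) (.leaf (nat_lit 8208) [nat_lit 48, nat_lit 120, nat_lit 96, nat_lit 120, nat_lit 96, nat_lit 120, nat_lit 96, nat_lit 120]) (.leaf (nat_lit 8205) [nat_lit 120, nat_lit 48, nat_lit 96, nat_lit 120, nat_lit 96, nat_lit 120, nat_lit 96, nat_lit 120])) (.node (nat_lit 16) (.node (nat_lit 15) (.leaf (nat_lit 8197) [nat_lit 120, nat_lit 96, nat_lit 120, nat_lit 96, nat_lit 120, nat_lit 48, nat_lit 96, nat_lit 120]) r4) (.node (nat_lit 18) (.node (nat_lit 17) (.leaf (nat_lit 8201) [nat_lit 120, nat_lit 96, nat_lit 120, nat_lit 48, nat_lit 96, nat_lit 120, nat_lit 96, nat_lit 120]) r5) (.node (nat_lit 19) r6 r7))))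
noncomputable def r9 : WT := (.node (nat_lit 9) (.node (nat_lit 8) (.leaf (nat_lit 8196) [nat_lit 120, nat_lit 96, nat_lit 120, nat_lit 96, nat_lit 120, nat_lit 96, nat_lit 48, nat_lit 120]) (.leaf (nat_lit 8200) [nat_lit 120, nat_lit 96, nat_lit 120, nat_lit 96, nat_lit 48, nat_lit 120, nat_lit 96, nat_lit 120])) (.node (nat_lit 10) (.leaf (nat_lit 8193) [nat_lit 120, nat_lit 96, nat_lit 120, nat_lit 96, nat_lit 120, nat_lit 96, nat_lit 120, nat_lit 48]) (.node (nat_lit 11) (.leaf (nat_lit 8204) [nat_lit 120, nat_lit 96, nat_lit 48, nat_lit 120, nat_lit 96, nat_lit 120, nat_lit 96, nat_lit 120]) (.node (nat_lit 12) (.leaf (nat_lit 28674) [nat_lit 120, nat_lit 72, nat_lit 120, nat_lit 96, nat_lit 120, nat_lit 72, nat_lit 120, nat_lit 96, nat_lit 120, nat_lit 72, nat_lit 120]) r8))))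
noncomputable def w2 : WT := (.node (nat_lit 1) (.leaf (nat_lit 2048) [nat_lit 96]) (.node (nat_lit 3) (.node (nat_lit 2) (.leaf (nat_lit 18434) [nat_lit 216, nat_lit 96, nat_lit 240]) (.leaf (nat_lit 23558) [nat_lit 72, nat_lit 48, nat_lit 72])) (.node (nat_lit 5) (.node (nat_lit 4) (.leaf (nat_lit 13318) [nat_lit 192, nat_lit 96, nat_lit 168]) (.leaf (nat_lit 13314) [nat_lit 168, nat_lit 96, nat_lit 192])) (.node (nat_lit 7) r3 r9))))
noncomputable def r10 : WT := (.leaf (nat_lit 27660) [nat_lit 96, nat_lit 120, nat_lit 144, nat_lit 72, nat_lit 144, nat_lit 216, nat_lit 168, nat_lit 144, nat_lit 120, nat_lit 96, nat_lit 120, nat_lit 144, nat_lit 192, nat_lit 240, nat_lit 168, nat_lit 168, nat_lit 144, nat_lit 120, nat_lit 96, nat_lit 120, nat_lit 144, nat_lit 192, nat_lit 144, nat_lit 120, nat_lit 96, nat_lit 120, nat_lit 144, nat_lit 192, nat_lit 120, nat_lit 96, nat_lit 120, nat_lit 96, nat_lit 72, nat_lit 96, nat_lit 120, nat_lit 96, nat_lit 120, nat_lit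 144])
noncomputable def r11 : WT := (.leaf (nat_lit 22533) [nat_lit 96, nat_lit 144, nat_lit 168, nat_lit 120, nat_lit 96, nat_lit 144, nat_lit 168, nat_lit 120, nat_lit 96, nat_lit 144, nat_lit 168, nat_lit 120, nat_lit 96, nat_lit 144, nat_lit 168, nat_lit 120, nat_lit 96, nat_lit 144, nat_lit 168, nat_lit 120, nat_lit 96, nat_lit 144, nat_lit 168, nat_lit 120, nat_lit 96, nat_lit 144, nat_lit 168, nat_lit 120, nat_lit 96, nat_lit 144, nat_lit 168, nat_lit 120, nat_lit 96, nat_lit 144, nat_lit 168])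
noncomputable def r12 : WT := (.node (nat_lit 13) (.leaf (nat_lit 28672) [nat_lit 96, nat_lit 120, nat_lit 72, nat_lit 120, nat_lit 96, nat_lit 120, nat_lit 72, nat_lit 120, nat_lit 96, nat_lit 120, nat_lit 72]) r11)
noncomputable def r13 : WT := (.node (nat_lit 15) (.leaf (nat_lit 8206) [nat_lit 96, nat_lit 48, nat_lit 120, nat_lit 96, nat_lit 120, nat_lit 96, nat_lit 120, nat_lit 96]) (.leaf (nat_lit 28676) [nat_lit 72, nat_lit 120, nat_lit 96, nat_lit 120, nat_lit 72, nat_lit 120, nat_lit 96, nat_lit 120, nat_lit 72, nat_lit 120, nat_lit 96]))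
noncomputable def r14 : WT := (.leaf (nat_lit 22530) [nat_lit 192, nat_lit 144, nat_lit 96, nat_lit 120, nat_lit 192, nat_lit 144, nat_lit 96, nat_lit 120, nat_lit 192, nat_lit 144, nat_lit 96, nat_lit 120, nat_lit 192, nat_lit 144, nat_lit 96, nat_lit 120, nat_lit 192, nat_lit 144, nat_lit 96, nat_lit 120, nat_lit 192, nat_lit 144, nat_lit 96, nat_lit 120, nat_lit 192, nat_lit 144, nat_lit 96, nat_lit 120, nat_lit 192, nat_lit 144, nat_lit 96, nat_lit 120, nat_lit 192, nat_lit 144, nat_lit 96])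
noncomputable def r15 : WT := (.leaf (nat_lit 27678) [nat_lit 96, nat_lit 120, nat_lit 144, nat_lit 192, nat_lit 240, nat_lit 168, nat_lit 168, nat_lit 144, nat_lit 120, nat_lit 96, nat_lit 120, nat_lit 144, nat_lit 192, nat_lit 144, nat_lit 120, nat_lit 96, nat_lit 120, nat_lit 144, nat_lit 192, nat_lit 120, nat_lit 96, nat_lit 120, nat_lit 96, nat_lit 72, nat_lit 96, nat_lit 120, nat_lit 96, nat_lit 120, nat_lit 144, nat_lit 120, nat_lit 96, nat_lit 120, nat_lit 144, nat_lit 72, nat_lit 144, nat_lit 216, nat_lit 168, nat_lit 144])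
noncomputable def r16 : WT := (.leaf (nat_lit 29728) [nat_lit 72, nat_lit 120, nat_lit 96, nat_lit 120, nat_lit 96, nat_lit 120, nat_lit 72, nat_lit 120, nat_lit 72, nat_lit 120, nat_lit 96, nat_lit 120, nat_lit 96, nat_lit 120, nat_lit 72, nat_lit 120, nat_lit 96, nat_lit 96, nat_lit 72, nat_lit 120, nat_lit 96, nat_lit 120, nat_lit 96, nat_lit 120, nat_lit 72, nat_lit 120, nat_lit 72, nat_lit 120, nat_lit 96, nat_lit 120, nat_lit 96, nat_lit 120, nat_lit 72])
noncomputable def r17 : WT := (.leaf (nat_lit 29744) [nat_lit 72, nat_lit 120, nat_lit 96, nat_lit 120, nat_lit 96, nat_lit 120, nat_lit 72, nat_lit 120, nat_lit 96, nat_lit 96, nat_lit 72, nat_lit 120, nat_lit 96, nat_lit 120, nat_lit 96, nat_lit 120, nat_lit 72, nat_lit 120, nat_lit 72, nat_lit 120, nat_lit 96, nat_lit 120, nat_lit 96, nat_lit 120, nat_lit 72, nat_lit 120, nat_lit 72, nat_lit 120, nat_lit 96, nat_lit 120, nat_lit 96, nat_lit 120, nat_lit 72])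
noncomputable def r18 : WT := (.leaf (nat_lit 27696) [nat_lit 96, nat_lit 120, nat_lit 144, nat_lit 192, nat_lit 144, nat_lit 120, nat_lit 96, nat_lit 120, nat_lit 144, nat_lit 192, nat_lit 120, nat_lit 96, nat_lit 120, nat_lit 96, nat_lit 72, nat_lit 96, nat_lit 120, nat_lit 96, nat_lit 120, nat_lit 144, nat_lit 120, nat_lit 96, nat_lit 120, nat_lit 144, nat_lit 72, nat_lit 144, nat_lit 216, nat_lit 168, nat_lit 144, nat_lit 120, nat_lit 96, nat_lit 120, nat_lit 144, nat_lit 192, nat_lit 240, nat_lit 168, nat_lit 168, nat_lit 144])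
noncomputable def r19 : WT := (.node (nat_lit 18) (.node (nat_lit 17) r14 r15) (.node (nat_lit 19) r16 (.node (nat_lit 20) r17 r18)))
noncomputable def r20 : WT := (.node (nat_lit 8) (.node (nat_lit 7) (.leaf (nat_lit 8198) [nat_lit 96, nat_lit 120, nat_lit 96, nat_lit 120, nat_lit 96, nat_lit 48, nat_lit 120, nat_lit 96]) (.leaf (nat_lit 8194) [nat_lit 96, nat_lit 120, nat_lit 96, nat_lit 120, nat_lit 96, nat_lit 120, nat_lit 96, nat_lit 48])) (.node (nat_lit 11) (.node (nat_lit 9) (.leaf (nat_lit 8202) [nat_lit 96, nat_lit 120, nat_lit 96, nat_lit 48, nat_lit 120, nat_lit 96, nat_lit 120, nat_lit 96]) (.node (nat_lit 10) (.leaf (nat_lit 8207) [nat_lit 48, nat_lit 96, nat_lit 120, nat_lit 96, nat_lit 120, nat_lit 96, nat_lit 120, nat_lit 96]) (.leaf (nat_lit 8195) [nat_lit 96, nat_lit 120, nat_lit 96, nat_lit 120, nat_lit 96, nat_lit 120, nat_lit 48, nat_lit 96]))) (.node (nat_lit 14) (.node (nat_lit 12) r10 r12) (.node (nat_lit 16) r13 r19))))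
noncomputable def w3 : WT := (.node (nat_lit 1) (.leaf (nat_lit 3072) [nat_lit 120]) (.node (nat_lit 3) (.node (nat_lit 2) (.leaf (nat_lit 19458) [nat_lit 216, nat_lit 120, nat_lit 240]) (.leaf (nat_lit 14338) [nat_lit 168, nat_lit 120, nat_lit 168])) (.node (nat_lit 5) (.node (nat_lit 4) (.leaf (nat_lit 14337) [nat_lit 192, nat_lit 120, nat_lit 192]) (.leaf (nat_lit 19462) [nat_lit 240, nat_lit 120, nat_lit 216])) (.node (nat_lit 6) (.leaf (nat_lit 10240) [nat_lit 144, nat_lit 120, nat_lit 144, nat_lit 120, nat_lit 144]) r20))))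
noncomputable def r21 : WT := (.node (nat_lit 5) (.leaf (nat_lit 9218) [nat_lit 96, nat_lit 144, nat_lit 96]) (.leaf (nat_lit 7170) [nat_lit 48, nat_lit 144, nat_lit 48]))
noncomputable def r22 : WT := (.node (nat_lit 7) (.leaf (nat_lit 15364) [nat_lit 192, nat_lit 192, nat_lit 144, nat_lit 168, nat_lit 168, nat_lit 168, nat_lit 144, nat_lit 192]) (.node (nat_lit 8) (.leaf (nat_lit 15360) [nat_lit 192, nat_lit 144, nat_lit 192, nat_lit 192, nat_lit 144, nat_lit 168, nat_lit 168, nat_lit 168]) (.leaf (nat_lit 20486) [nat_lit 240, nat_lit 144, nat_lit 216])))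
noncomputable def r23 : WT := (.leaf (nat_lit 27658) [nat_lit 120, nat_lit 96, nat_lit 120, nat_lit 144, nat_lit 72, nat_lit 144, nat_lit 216, nat_lit 168, nat_lit 144, nat_lit 120, nat_lit 96, nat_lit 120, nat_lit 144, nat_lit 192, nat_lit 240, nat_lit 168, nat_lit 168, nat_lit 144, nat_lit 120, nat_lit 96, nat_lit 120, nat_lit 144, nat_lit 192, nat_lit 144, nat_lit 120, nat_lit 96, nat_lit 120, nat_lit 144, nat_lit 192, nat_lit 120, nat_lit 96, nat_lit 120, nat_lit 96, nat_lit 72, nat_lit 96, nat_lit 120, nat_lit 96, nat_lit 120])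
noncomputable def r24 : WT := (.leaf (nat_lit 27659) [nat_lit 120, nat_lit 96, nat_lit 120, nat_lit 144, nat_lit 168, nat_lit 144, nat_lit 120, nat_lit 96, nat_lit 120, nat_lit 144, nat_lit 192, nat_lit 192, nat_lit 216, nat_lit 168, nat_lit 144, nat_lit 120, nat_lit 96, nat_lit 120, nat_lit 144, nat_lit 192, nat_lit 240, nat_lit 144, nat_lit 72, nat_lit 144, nat_lit 120, nat_lit 96, nat_lit 120, nat_lit 144, nat_lit 120, nat_lit 96, nat_lit 120, nat_lit 96, nat_lit 72, nat_lit 96, nat_lit 120, nat_lit 96, nat_lit 120, nat_lit 168])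
noncomputable def r25 : WT := (.node (nat_lit 11) (.node (nat_lit 10) (.leaf (nat_lit 15377) [nat_lit 192, nat_lit 192, nat_lit 192, nat_lit 144, nat_lit 168, nat_lit 168, nat_lit 144, nat_lit 168]) (.leaf (nat_lit 15370) [nat_lit 168, nat_lit 168, nat_lit 168, nat_lit 144, nat_lit 192, nat_lit 144, nat_lit 192, nat_lit 192])) (.node (nat_lit 12) (.leaf (nat_lit 15373) [nat_lit 168, nat_lit 144, nat_lit 192, nat_lit 192, nat_lit 192, nat_lit 144, nat_lit 168, nat_lit 168]) (.node (nat_lit 13) r23 (.node (nat_lit 14) (.leaf (nat_lit 15367) [nat_lit 168, nat_lit 168, nat_lit 144, nat_lit 168, nat_lit 144, nat_lit 192, nat_lit 192, nat_lit 192]) r24))))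
noncomputable def w4 : WT := (.node (nat_lit 1) (.leaf (nat_lit 4096) [nat_lit 144]) (.node (nat_lit 3) (.node (nat_lit 2) (.leaf (nat_lit 20482) [nat_lit 216, nat_lit 144, nat_lit 240]) (.leaf (nat_lit 26626) [nat_lit 72, nat_lit 144, nat_lit 72])) (.node (nat_lit 6) (.node (nat_lit 4) (.leaf (nat_lit 10242) [nat_lit 120, nat_lit 144, nat_lit 120, nat_lit 144, nat_lit 120]) r21) (.node (nat_lit 9) r22 r25))))
noncomputable def r26 : WT := (.node (nat_lit 7) (.leaf (nat_lit 13316) [nat_lit 96, nat_lit 192, nat_lit 96]) (.leaf (nat_lit 12292) [nat_lit 48, nat_lit 192, nat_lit 48]))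
noncomputable def r27 : WT := (.leaf (nat_lit 22531) [nat_lit 120, nat_lit 96, nat_lit 144, nat_lit 168, nat_lit 120, nat_lit 96, nat_lit 144, nat_lit 168, nat_lit 120, nat_lit 96, nat_lit 144, nat_lit 168, nat_lit 120, nat_lit 96, nat_lit 144, nat_lit 168, nat_lit 120, nat_lit 96, nat_lit 144, nat_lit 168, nat_lit 120, nat_lit 96, nat_lit 144, nat_lit 168, nat_lit 120, nat_lit 96, nat_lit 144, nat_lit 168, nat_lit 120, nat_lit 96, nat_lit 144, nat_lit 168, nat_lit 120, nat_lit 96, nat_lit 144])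
noncomputable def r28 : WT := (.leaf (nat_lit 27690) [nat_lit 168, nat_lit 144, nat_lit 120, nat_lit 96, nat_lit 120, nat_lit 144, nat_lit 192, nat_lit 144, nat_lit 120, nat_lit 96, nat_lit 120, nat_lit 144, nat_lit 192, nat_lit 120, nat_lit 96, nat_lit 120, nat_lit 96, nat_lit 72, nat_lit 96, nat_lit 120, nat_lit 96, nat_lit 120, nat_lit 144, nat_lit 120, nat_lit 96, nat_lit 120, nat_lit 144, nat_lit 72, nat_lit 144, nat_lit 216, nat_lit 168, nat_lit 144, nat_lit 120, nat_lit 96, nat_lit 120, nat_lit 144, nat_lit 192, nat_lit 240])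
noncomputable def r29 : WT := (.leaf (nat_lit 27669) [nat_lit 144, nat_lit 120, nat_lit 96, nat_lit 120, nat_lit 144, nat_lit 192, nat_lit 192, nat_lit 216, nat_lit 168, nat_lit 144, nat_lit 120, nat_lit 96, nat_lit 120, nat_lit 144, nat_lit 192, nat_lit 240, nat_lit 144, nat_lit 72, nat_lit 144, nat_lit 120, nat_lit 96, nat_lit 120, nat_lit 144, nat_lit 120, nat_lit 96, nat_lit 120, nat_lit 96, nat_lit 72, nat_lit 96, nat_lit 120, nat_lit 96, nat_lit 120, nat_lit 168, nat_lit 144, nat_lit 120, nat_lit 96, nat_lit 120, nat_lit 144])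
noncomputable def r30 : WT := (.node (nat_lit 14) (.leaf (nat_lit 15376) [nat_lit 144, nat_lit 192, nat_lit 144, nat_lit 192, nat_lit 192, nat_lit 144, nat_lit 168, nat_lit 168]) (.node (nat_lit 15) (.leaf (nat_lit 15374) [nat_lit 168, nat_lit 144, nat_lit 192, nat_lit 144, nat_lit 192, nat_lit 192, nat_lit 144, nat_lit 168]) (.node (nat_lit 16) r27 (.node (nat_lit 17) r28 r29))))
noncomputable def r31 : WT := (.node (nat_lit 10) (.node (nat_lit 9) (.leaf (nat_lit 11264) [nat_lit 168, nat_lit 168, nat_lit 168, nat_lit 168, nat_lit 168, nat_lit 168]) (.leaf (nat_lit 15375) [nat_lit 144, nat_lit 192, nat_lit 192, nat_lit 192, nat_lit 144, nat_lit 168, nat_lit 168, nat_lit 144])) (.node (nat_lit 11) (.leaf (nat_lit 15372) [nat_lit 168, nat_lit 168, nat_lit 144, nat_lit 192, nat_lit 144, nat_lit 192, nat_lit 192, nat_lit 144]) (.node (nat_lit 12) (.leaf (nat_lit 15369) [nat_lit 168, nat_lit 144, nat_lit 168, nat_lit 144, nat_lit 192, nat_lit 192, nat_lit 192, nat_lit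 144]) (.node (nat_lit 13) (.leaf (nat_lit 15371) [nat_lit 144, nat_lit 168, nat_lit 144, nat_lit 192, nat_lit 192, nat_lit 192, nat_lit 144, nat_lit 168]) r30))))
noncomputable def w5 : WT := (.node (nat_lit 1) (.leaf (nat_lit 5120) [nat_lit 192]) (.node (nat_lit 4) (.node (nat_lit 2) (.leaf (nat_lit 21507) [nat_lit 240, nat_lit 192, nat_lit 216, nat_lit 168]) (.node (nat_lit 3) (.leaf (nat_lit 24578) [nat_lit 72, nat_lit 192, nat_lit 72]) (.leaf (nat_lit 21506) [nat_lit 216, nat_lit 192, nat_lit 192, nat_lit 240]))) (.node (nat_lit 6) (.node (nat_lit 5) (.leaf (nat_lit 14336) [nat_lit 120, nat_lit 168, nat_lit 120]) (.leaf (nat_lit 21505) [nat_lit 168, nat_lit 240, nat_lit 192, nat_lit 216])) (.node (nat_lit 8) r26 r31))))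
noncomputable def r32 : WT := (.node (nat_lit 7) (.leaf (nat_lit 21510) [nat_lit 192, nat_lit 240, nat_lit 168, nat_lit 216]) (.leaf (nat_lit 11265) [nat_lit 192, nat_lit 192, nat_lit 192, nat_lit 192, nat_lit 192, nat_lit 192]))
noncomputable def r33 : WT := (.leaf (nat_lit 22532) [nat_lit 144, nat_lit 96, nat_lit 120, nat_lit 192, nat_lit 144, nat_lit 96, nat_lit 120, nat_lit 192, nat_lit 144, nat_lit 96, nat_lit 120, nat_lit 192, nat_lit 144, nat_lit 96, nat_lit 120, nat_lit 192, nat_lit 144, nat_lit 96, nat_lit 120, nat_lit 192, nat_lit 144, nat_lit 96, nat_lit 120, nat_lit 192, nat_lit 144, nat_lit 96, nat_lit 120, nat_lit 192, nat_lit 144, nat_lit 96, nat_lit 120, nat_lit 192, nat_lit 144, nat_lit 96, nat_lit 120])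
noncomputable def r34 : WT := (.leaf (nat_lit 27716) [nat_lit 120, nat_lit 96, nat_lit 120, nat_lit 96, nat_lit 72, nat_lit 96, nat_lit 120, nat_lit 96, nat_lit 120, nat_lit 144, nat_lit 120, nat_lit 96, nat_lit 120, nat_lit 144, nat_lit 72, nat_lit 144, nat_lit 216, nat_lit 168, nat_lit 144, nat_lit 120, nat_lit 96, nat_lit 120, nat_lit 144, nat_lit 192, nat_lit 240, nat_lit 168, nat_lit 168, nat_lit 144, nat_lit 120, nat_lit 96, nat_lit 120, nat_lit 144, nat_lit 192, nat_lit 144, nat_lit 120, nat_lit 96, nat_lit 120, nat_lit 144])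
noncomputable def r35 : WT := (.node (nat_lit 13) (.leaf (nat_lit 15361) [nat_lit 192, nat_lit 192, nat_lit 144, nat_lit 168, nat_lit 168, nat_lit 144, nat_lit 168, nat_lit 144]) (.node (nat_lit 14) (.leaf (nat_lit 15365) [nat_lit 144, nat_lit 168, nat_lit 168, nat_lit 144, nat_lit 168, nat_lit 144, nat_lit 192, nat_lit 192]) (.node (nat_lit 15) (.leaf (nat_lit 15363) [nat_lit 192, nat_lit 144, nat_lit 168, nat_lit 168, nat_lit 144, nat_lit 168, nat_lit 144, nat_lit 192]) (.node (nat_lit 16) r33 r34))))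
noncomputable def r36 : WT := (.node (nat_lit 9) (.leaf (nat_lit 15362) [nat_lit 144, nat_lit 192, nat_lit 192, nat_lit 144, nat_lit 168, nat_lit 168, nat_lit 168, nat_lit 144]) (.node (nat_lit 10) (.leaf (nat_lit 12288) [nat_lit 48, nat_lit 168, nat_lit 48]) (.node (nat_lit 11) (.leaf (nat_lit 15366) [nat_lit 192, nat_lit 144, nat_lit 168, nat_lit 168, nat_lit 168, nat_lit 144, nat_lit 192, nat_lit 144]) (.node (nat_lit 12) (.leaf (nat_lit 15368) [nat_lit 144, nat_lit 168, nat_lit 168, nat_lit 168, nat_lit 144, nat_lit 192, nat_lit 144, nat_lit 192]) r35))))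
noncomputable def w6 : WT := (.node (nat_lit 1) (.leaf (nat_lit 5122) [nat_lit 168]) (.node (nat_lit 4) (.node (nat_lit 2) (.leaf (nat_lit 21511) [nat_lit 216, nat_lit 168, nat_lit 168, nat_lit 240]) (.node (nat_lit 3) (.leaf (nat_lit 21512) [nat_lit 240, nat_lit 168, nat_lit 216, nat_lit 192]) (.leaf (nat_lit 24582) [nat_lit 72, nat_lit 168, nat_lit 72]))) (.node (nat_lit 6) (.node (nat_lit 5) (.leaf (nat_lit 14339) [nat_lit 120, nat_lit 192, nat_lit 120]) (.leaf (nat_lit 13312) [nat_lit 96, nat_lit 168, nat_lit 96])) (.node (nat_lit 8) r32 r36))))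
noncomputable def r37 : WT := (.node (nat_lit 6) (.leaf (nat_lit 21508) [nat_lit 192, nat_lit 192, nat_lit 240, nat_lit 168]) (.leaf (nat_lit 21513) [nat_lit 168, nat_lit 168, nat_lit 240, nat_lit 192]))
noncomputable def r38 : WT := (.node (nat_lit 8) (.leaf (nat_lit 18436) [nat_lit 96, nat_lit 240, nat_lit 96]) (.leaf (nat_lit 17412) [nat_lit 48, nat_lit 240, nat_lit 48]))
noncomputable def w7 : WT := (.node (nat_lit 1) (.leaf (nat_lit 6144) [nat_lit 240]) (.node (nat_lit 3) (.node (nat_lit 2) (.leaf (nat_lit 25602) [nat_lit 72, nat_lit 240, nat_lit 72]) (.leaf (nat_lit 19460) [nat_lit 120, nat_lit 240, nat_lit 120])) (.node (nat_lit 5) (.node (nat_lit 4) (.leaf (nat_lit 16384) [nat_lit 216, nat_lit 216]) (.leaf (nat_lit 20484) [nat_lit 144, nat_lit 240, nat_lit 144])) (.node (nat_lit 7) r37 r38))))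
noncomputable def r39 : WT := (.node (nat_lit 5) (.leaf (nat_lit 21504) [nat_lit 168, nat_lit 216, nat_lit 192, nat_lit 192]) (.leaf (nat_lit 19456) [nat_lit 120, nat_lit 216, nat_lit 120]))
noncomputable def r40 : WT := (.node (nat_lit 7) (.leaf (nat_lit 20480) [nat_lit 144, nat_lit 216, nat_lit 144]) (.node (nat_lit 8) (.leaf (nat_lit 18432) [nat_lit 96, nat_lit 216, nat_lit 96]) (.leaf (nat_lit 17408) [nat_lit 48, nat_lit 216, nat_lit 48])))
noncomputable def w8 : WT := (.node (nat_lit 1) (.leaf (nat_lit 6146) [nat_lit 216]) (.node (nat_lit 2) (.leaf (nat_lit 16385) [nat_lit 240, nat_lit 240]) (.node (nat_lit 4) (.node (nat_lit 3) (.leaf (nat_lit 21509) [nat_lit 192, nat_lit 216, nat_lit 168, nat_lit 168]) (.leaf (nat_lit 25606) [nat_lit 72, nat_lit 216, nat_lit 72])) (.node (nat_lit 6) r39 r40))))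
noncomputable def r41 : WT := (.node (nat_lit 6) (.leaf (nat_lit 8196) [nat_lit 96, nat_lit 120, nat_lit 96, nat_lit 120, nat_lit 96, nat_lit 120, nat_lit 96, nat_lit 48, nat_lit 120]) (.leaf (nat_lit 8201) [nat_lit 96, nat_lit 120, nat_lit 96, nat_lit 120, nat_lit 48, nat_lit 96, nat_lit 120, nat_lit 96, nat_lit 120]))
noncomputable def r42 : WT := (.leaf (nat_lit 29704) [nat_lit 120, nat_lit 96, nat_lit 120, nat_lit 72, nat_lit 120, nat_lit 72, nat_lit 120, nat_lit 96, nat_lit 120, nat_lit 96, nat_lit 120, nat_lit 72, nat_lit 120, nat_lit 72, nat_lit 120, nat_lit 96, nat_lit 120, nat_lit 96, nat_lit 120, nat_lit 72, nat_lit 120, nat_lit 72, nat_lit 120, nat_lit 96, nat_lit 120, nat_lit 96, nat_lit 120, nat_lit 72, nat_lit 120, nat_lit 96, nat_lit 96, nat_lit 72, nat_lit 120, nat_lit 96])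
noncomputable def r43 : WT := (.leaf (nat_lit 29732) [nat_lit 120, nat_lit 96, nat_lit 120, nat_lit 96, nat_lit 120, nat_lit 72, nat_lit 120, nat_lit 72, nat_lit 120, nat_lit 96, nat_lit 120, nat_lit 96, nat_lit 120, nat_lit 72, nat_lit 120, nat_lit 96, nat_lit 96, nat_lit 72, nat_lit 120, nat_lit 96, nat_lit 120, nat_lit 96, nat_lit 120, nat_lit 72, nat_lit 120, nat_lit 72, nat_lit 120, nat_lit 96, nat_lit 120, nat_lit 96, nat_lit 120, nat_lit 72, nat_lit 120, nat_lit 72])
noncomputable def r44 : WT := (.leaf (nat_lit 29755) [nat_lit 120, nat_lit 96, nat_lit 120, nat_lit 72, nat_lit 96, nat_lit 96, nat_lit 120, nat_lit 72, nat_lit 120, nat_lit 96, nat_lit 120, nat_lit 96, nat_lit 120, nat_lit 72, nat_lit 120, nat_lit 72, nat_lit 120, nat_lit 96, nat_lit 120, nat_lit 96, nat_lit 120, nat_lit 72, nat_lit 120, nat_lit 72, nat_lit 120, nat_lit 96, nat_lit 120, nat_lit 96, nat_lit 120, nat_lit 72, nat_lit 120, nat_lit 72, nat_lit 120, nat_lit 96])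
noncomputable def r45 : WT := (.node (nat_lit 10) r43 r44)
noncomputable def r46 : WT := (.leaf (nat_lit 27654) [nat_lit 96, nat_lit 120, nat_lit 144, nat_lit 120, nat_lit 96, nat_lit 120, nat_lit 144, nat_lit 72, nat_lit 144, nat_lit 216, nat_lit 168, nat_lit 144, nat_lit 120, nat_lit 96, nat_lit 120, nat_lit 144, nat_lit 192, nat_lit 240, nat_lit 168, nat_lit 168, nat_lit 144, nat_lit 120, nat_lit 96, nat_lit 120, nat_lit 144, nat_lit 192, nat_lit 144, nat_lit 120, nat_lit 96, nat_lit 120, nat_lit 144, nat_lit 192, nat_lit 120, nat_lit 96, nat_lit 120, nat_lit 96, nat_lit 72, nat_lit 96, nat_lit 120])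
noncomputable def r47 : WT := (.leaf (nat_lit 27664) [nat_lit 120, nat_lit 144, nat_lit 72, nat_lit 144, nat_lit 216, nat_lit 168, nat_lit 144, nat_lit 120, nat_lit 96, nat_lit 120, nat_lit 144, nat_lit 192, nat_lit 240, nat_lit 168, nat_lit 168, nat_lit 144, nat_lit 120, nat_lit 96, nat_lit 120, nat_lit 144, nat_lit 192, nat_lit 144, nat_lit 120, nat_lit 96, nat_lit 120, nat_lit 144, nat_lit 192, nat_lit 120, nat_lit 96, nat_lit 120, nat_lit 96, nat_lit 72, nat_lit 96, nat_lit 120, nat_lit 96, nat_lit 120, nat_lit 144, nat_lit 120, nat_lit 96])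
noncomputable def r48 : WT := (.leaf (nat_lit 27709) [nat_lit 120, nat_lit 96, nat_lit 120, nat_lit 144, nat_lit 120, nat_lit 96, nat_lit 120, nat_lit 96, nat_lit 72, nat_lit 96, nat_lit 120, nat_lit 96, nat_lit 120, nat_lit 168, nat_lit 144, nat_lit 120, nat_lit 96, nat_lit 120, nat_lit 144, nat_lit 168, nat_lit 144, nat_lit 120, nat_lit 96, nat_lit 120, nat_lit 144, nat_lit 192, nat_lit 192, nat_lit 216, nat_lit 168, nat_lit 144, nat_lit 120, nat_lit 96, nat_lit 120, nat_lit 144, nat_lit 192, nat_lit 240, nat_lit 144, nat_lit 72, nat_lit 144])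
noncomputable def r49 : WT := (.node (nat_lit 13) r47 r48)
noncomputable def wP : WT := (.node (nat_lit 3) (.node (nat_lit 1) (.leaf (nat_lit 8194) [nat_lit 120, nat_lit 96, nat_lit 120, nat_lit 96, nat_lit 120, nat_lit 96, nat_lit 120, nat_lit 96, nat_lit 48]) (.node (nat_lit 2) (.leaf (nat_lit 8193) [nat_lit 96, nat_lit 120, nat_lit 96, nat_lit 120, nat_lit 96, nat_lit 120, nat_lit 96, nat_lit 120, nat_lit 48]) (.leaf (nat_lit 10240) [nat_lit 120, nat_lit 144, nat_lit 120, nat_lit 144, nat_lit 120, nat_lit 144]))) (.node (nat_lit 8) (.node (nat_lit 5) (.node (nat_lit 4) (.leaf (nat_lit 8200) [nat_lit 96, nat_lit 120, nat_lit 96, nat_lit 120, nat_lit 96, nat_lit 48, nat_lit 120, nat_lit 96, nat_lit 120]) (.leaf (nat_lit 23554) [nat_lit 48, nat_lit 72, nat_lit 96, nat_lit 72])) (.node (nat_lit 7) r41 (.leaf (nat_lit 28672) [nat_lit 120, nat_lit 96, nat_lit 120, nat_lit 72, nat_lit 120, nat_lit 96, nat_lit 120, nat_lit 72, nat_lit 120, nat_lit 96, nat_lit 120,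 nat_lit 72]))) (.node (nat_lit 11) (.node (nat_lit 9) r42 r45) (.node (nat_lit 12) r46 r49))))
noncomputable def P : Par := ⟨tb, nat_lit 264, nat_lit 0xffffffffffffffffffffffffffffffffffffffffffffffffffffffffffffffffff, nat_lit 7495, nat_lit 16777215, nat_lit 8191, nat_lit 24, nat_lit 13, nat_lit 1,
  [nat_lit 48, nat_lit 72, nat_lit 96, nat_lit 120, nat_lit 144, nat_lit 168, nat_lit 192, nat_lit 216, nat_lit 240], [nat_lit 48, nat_lit 96, nat_lit 120, nat_lit 144, nat_lit 168, nat_lit 216], wP,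
  (.cons (nat_lit 48) w0 (.cons (nat_lit 72) w1 (.cons (nat_lit 96) w2 (.cons (nat_lit 120) w3 (.cons (nat_lit 144) w4 (.cons (nat_lit 168) w5 (.cons (nat_lit 192) w6 (.cons (nat_lit 216) w7 (.cons (nat_lit 240) w8 .nil))))))))),
  .nil⟩

end Cfsg.Agent.Lib.TCThS2
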