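import Cfsg.Agent.Lib.TCThS3D0

set_option autoImplicit false
set_option maxRecDepth 100000

namespace Cfsg.Agent.Lib.TCThS3
open Cfsg.Agent.Lib.TCCore

noncomputable def tb : T := (.node (nat_lit 1060) (.node (nat_lit 530) (.node (nat_lit 212) (.node (nat_lit 106) l0 l1) (.node (nat_lit 318) l2 (.node (nat_lit 424) l3 l4))) (.node (nat_lit 742) (.node (nat_lit 636) l5 l6) (.node (nat_lit 848) l7 (.node (nat_lit 954) l8 l9)))) (.node (nat_lit 1590) (.node (nat_lit 1272) (.node (nat_lit 1166) l10 l11) (.node (nat_lit 1378) l12 (.node (nat_lit 1484) l13 l14))) (.node (nat_lit 1802) (.node (nat_lit 1696) l15 l16) (.node (nat_lit 1908) l17 (.node (nat_lit 2014) l18 l19)))))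
noncomputable def r0 : WT := (.node (nat_lit 6) (.leaf (nat_lit 20486) [nat_lit 60, nat_lit 140, nat_lit 60, nat_lit 40, nat_lit 80, nat_lit 60, nat_lit 120, nat_lit 160, nat_lit 60, nat_lit 80]) (.leaf (nat_lit 6144) [nat_lit 60, nat_lit 40, nat_lit 60, nat_lit 40, nat_lit 60]))
noncomputable def r1 : WT := (.node (nat_lit 8) (.leaf (nat_lit 11264) [nat_lit 100, nat_lit 80, nat_lit 100, nat_lit 80, nat_lit 100, nat_lit 80, nat_lit 100, nat_lit 80]) (.node (nat_lit 9) (.leaf (nat_lit 16386) [nat_lit 140, nat_lit 40, nat_lit 160]) (.node (nat_lit 10) (.leaf (nat_lit 11281) [nat_lit 80, nat_lit 100, nat_lit 80, nat_lit 100, nat_lit 80, nat_lit 100, nat_lit 80, nat_lit 100]) (.node (nat_lit 11) (.leaf (nat_lit 20494) [nat_lit 80, nat_lit 60, nat_lit 120, nat_lit 160, nat_lit 60, nat_lit 80, nat_lit 40, nat_lit 60, nat_lit 140, nat_lit 60]) (.leaf (nat_lit 20487) [nat_lit 60, nat_lit 160, nat_lit 60, nat_lit 40, nat_lit 80, nat_lit 60, nat_lit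 140, nat_lit 120, nat_lit 60, nat_lit 80])))))
noncomputable def w0 : WT := (.node (nat_lit 1) (.leaf (nat_lit 0) [nat_lit 40]) (.node (nat_lit 3) (.node (nat_lit 2) (.leaf (nat_lit 15361) [nat_lit 80, nat_lit 160, nat_lit 160]) (.leaf (nat_lit 7168) [nat_lit 120, nat_lit 40, nat_lit 120])) (.node (nat_lit 5) (.node (nat_lit 4) (.leaf (nat_lit 16390) [nat_lit 160, nat_lit 40, nat_lit 140]) (.leaf (nat_lit 15366) [nat_lit 140, nat_lit 140, nat_lit 80])) (.node (nat_lit 7) r0 r1))))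
noncomputable def r2 : WT := (.leaf (nat_lit 21521) [nat_lit 80, nat_lit 100, nat_lit 160, nat_lit 100, nat_lit 160, nat_lit 60, nat_lit 80, nat_lit 40, nat_lit 60, nat_lit 80, nat_lit 100, nat_lit 160, nat_lit 100, nat_lit 160, nat_lit 60, nat_lit 80, nat_lit 40, nat_lit 60, nat_lit 80, nat_lit 100, nat_lit 160, nat_lit 100, nat_lit 160, nat_lit 60, nat_lit 80, nat_lit 40])
noncomputable def r3 : WT := (.node (nat_lit 10) r2 (.leaf (nat_lit 20492) [nat_lit 40, nat_lit 80, nat_lit 60, nat_lit 120, nat_lit 160, nat_lit 60, nat_lit 80, nat_lit 40, nat_lit 60, nat_lit 140]))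
noncomputable def r4 : WT := (.leaf (nat_lit 21515) [nat_lit 80, nat_lit 40, nat_lit 60, nat_lit 80, nat_lit 100, nat_lit 160, nat_lit 100, nat_lit 160, nat_lit 60, nat_lit 80, nat_lit 40, nat_lit 60, nat_lit 80, nat_lit 100, nat_lit 160, nat_lit 100, nat_lit 160, nat_lit 60, nat_lit 80, nat_lit 40, nat_lit 60, nat_lit 80, nat_lit 100, nat_lit 160, nat_lit 100, nat_lit 160])
noncomputable def r5 : WT := (.leaf (nat_lit 14336) [nat_lit 80, nat_lit 100, nat_lit 120, nat_lit 60, nat_lit 80, nat_lit 100, nat_lit 120, nat_lit 60, nat_lit 80, nat_lit 100, nat_lit 120, nat_lit 60, nat_lit 80, nat_lit 100, nat_lit 120, nat_lit 60, nat_lit 80, nat_lit 100, nat_lit 120, nat_lit 60, nat_lit 80, nat_lit 100, nat_lit 120, nat_lit 60, nat_lit 80, nat_lit 100, nat_lit 120, nat_lit 60, nat_lit 80, nat_lit 100, nat_lit 120])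
noncomputable def r6 : WT := (.node (nat_lit 12) r4 r5)
noncomputable def r7 : WT := (.leaf (nat_lit 14343) [nat_lit 120, nat_lit 100, nat_lit 80, nat_lit 60, nat_lit 120, nat_lit 100, nat_lit 80, nat_lit 60, nat_lit 120, nat_lit 100, nat_lit 80, nat_lit 60, nat_lit 120, nat_lit 100, nat_lit 80, nat_lit 60, nat_lit 120, nat_lit 100, nat_lit 80, nat_lit 60, nat_lit 120, nat_lit 100, nat_lit 80, nat_lit 60, nat_lit 120, nat_lit 100, nat_lit 80, nat_lit 60, nat_lit 120, nat_lit 100, nat_lit 80])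
noncomputable def r8 : WT := (.leaf (nat_lit 21504) [nat_lit 40, nat_lit 80, nat_lit 60, nat_lit 140, nat_lit 100, nat_lit 140, nat_lit 100, nat_lit 80, nat_lit 60, nat_lit 40, nat_lit 80, nat_lit 60, nat_lit 140, nat_lit 100, nat_lit 140, nat_lit 100, nat_lit 80, nat_lit 60, nat_lit 40, nat_lit 80, nat_lit 60, nat_lit 140, nat_lit 100, nat_lit 140, nat_lit 100, nat_lit 80])
noncomputable def r9 : WT := (.node (nat_lit 14) r7 (.node (nat_lit 15) (.leaf (nat_lit 20483) [nat_lit 80, nat_lit 40, nat_lit 60, nat_lit 160, nat_lit 60, nat_lit 40, nat_lit 80, nat_lit 60, nat_lit 140, nat_lit 120]) r8))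
noncomputable def r10 : WT := (.node (nat_lit 5) (.leaf (nat_lit 8192) [nat_lit 80, nat_lit 60, nat_lit 80, nat_lit 60, nat_lit 80]) (.node (nat_lit 8) (.node (nat_lit 6) (.leaf (nat_lit 20498) [nat_lit 120, nat_lit 160, nat_lit 60, nat_lit 80, nat_lit 40, nat_lit 60, nat_lit 140, nat_lit 60, nat_lit 40, nat_lit 80]) (.node (nat_lit 7) (.leaf (nat_lit 20488) [nat_lit 140, nat_lit 60, nat_lit 40, nat_lit 80, nat_lit 60, nat_lit 120, nat_lit 160, nat_lit 60, nat_lit 80, nat_lit 40]) (.leaf (nat_lit 20493) [nat_lit 40, nat_lit 80, nat_lit 60, nat_lit 140, nat_lit 120, nat_lit 60, nat_lit 80, nat_lit 40, nat_lit 60, nat_lit 160]))) (.node (nat_lit 11) (.node (nat_lit 9) (.leaf (nat_lit 20482) [nat_lit 80, nat_lit 40, nat_lit 60, nat_lit 140, nat_lit 60, nat_lit 40, nat_lit 80, nat_lit 60, nat_lit 120, nat_lit 160]) r3) (.node (nat_lit 13) r6 r9))))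
noncomputable def w1 : WT := (.node (nat_lit 1) (.leaf (nat_lit 1024) [nat_lit 60]) (.node (nat_lit 2) (.leaf (nat_lit 9216) [nat_lit 100, nat_lit 60, nat_lit 100]) (.node (nat_lit 3) (.leaf (nat_lit 10240) [nat_lit 120, nat_lit 60, nat_lit 120]) (.node (nat_lit 4) (.leaf (nat_lit 6146) [nat_lit 40, nat_lit 60, nat_lit 40, nat_lit 60, nat_lit 40]) r10))))
noncomputable def r11 : WT := (.node (nat_lit 11) (.leaf (nat_lit 11269) [nat_lit 100, nat_lit 80, nat_lit 100, nat_lit 80, nat_lit 100, nat_lit 40, nat_lit 80, nat_lit 100]) (.leaf (nat_lit 17414) [nat_lit 160, nat_lit 80, nat_lit 140]))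
noncomputable def r12 : WT := (.leaf (nat_lit 14338) [nat_lit 100, nat_lit 120, nat_lit 60, nat_lit 80, nat_lit 100, nat_lit 120, nat_lit 60, nat_lit 80, nat_lit 100, nat_lit 120, nat_lit 60, nat_lit 80, nat_lit 100, nat_lit 120, nat_lit 60, nat_lit 80, nat_lit 100, nat_lit 120, nat_lit 60, nat_lit 80, nat_lit 100, nat_lit 120, nat_lit 60, nat_lit 80, nat_lit 100, nat_lit 120, nat_lit 60, nat_lit 80, nat_lit 100, nat_lit 120, nat_lit 60])
noncomputable def r13 : WT := (.node (nat_lit 14) (.node (nat_lit 13) (.leaf (nat_lit 11276) [nat_lit 100, nat_lit 80, nat_lit 40, nat_lit 100, nat_lit 80, nat_lit 100, nat_lit 80, nat_lit 100]) (.leaf (nat_lit 11280) [nat_lit 40, nat_lit 100, nat_lit 80, nat_lit 100, nat_lit 80, nat_lit 100, nat_lit 80, nat_lit 100])) (.node (nat_lit 15) (.leaf (nat_lit 20484) [nat_lit 40, nat_lit 60, nat_lit 140, nat_lit 60, nat_lit 40, nat_lit 80, nat_lit 60, nat_lit 120, nat_lit 160, nat_lit 60]) r12))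
noncomputable def r14 : WT := (.node (nat_lit 7) (.leaf (nat_lit 20496) [nat_lit 60, nat_lit 120, nat_lit 160, nat_lit 60, nat_lit 80, nat_lit 40, nat_lit 60, nat_lit 140, nat_lit 60, nat_lit 40]) (.node (nat_lit 8) (.leaf (nat_lit 11268) [nat_lit 100, nat_lit 80, nat_lit 100, nat_lit 80, nat_lit 100, nat_lit 80, nat_lit 40, nat_lit 100]) (.node (nat_lit 10) (.node (nat_lit 9) (.leaf (nat_lit 11272) [nat_lit 100, nat_lit 80, nat_lit 100, nat_lit 80, nat_lit 40, nat_lit 100, nat_lit 80, nat_lit 100]) (.leaf (nat_lit 11265) [nat_lit 100, nat_lit 80, nat_lit 100, nat_lit 80, nat_lit 100, nat_lit 80, nat_lit 100, nat_lit 40])) (.node (nat_lit 12) r11 r13))))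
noncomputable def w2 : WT := (.node (nat_lit 1) (.leaf (nat_lit 2048) [nat_lit 80]) (.node (nat_lit 3) (.node (nat_lit 2) (.leaf (nat_lit 17410) [nat_lit 140, nat_lit 80, nat_lit 160]) (.leaf (nat_lit 12288) [nat_lit 120, nat_lit 80, nat_lit 120])) (.node (nat_lit 5) (.node (nat_lit 4) (.leaf (nat_lit 15364) [nat_lit 40, nat_lit 140, nat_lit 140]) (.leaf (nat_lit 8194) [nat_lit 60, nat_lit 80, nat_lit 60, nat_lit 80, nat_lit 60])) (.node (nat_lit 6) (.leaf (nat_lit 15363) [nat_lit 160, nat_lit 160, nat_lit 40]) r14))))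
noncomputable def r15 : WT := (.node (nat_lit 5) (.leaf (nat_lit 19462) [nat_lit 140, nat_lit 100, nat_lit 120, nat_lit 160, nat_lit 100, nat_lit 140, nat_lit 100, nat_lit 120, nat_lit 160]) (.leaf (nat_lit 11266) [nat_lit 80, nat_lit 100, nat_lit 80, nat_lit 100, nat_lit 80, nat_lit 100, nat_lit 80, nat_lit 40]))
noncomputable def r16 : WT := (.node (nat_lit 7) (.leaf (nat_lit 19465) [nat_lit 160, nat_lit 100, nat_lit 140, nat_lit 120, nat_lit 100, nat_lit 160, nat_lit 100, nat_lit 140, nat_lit 120]) (.leaf (nat_lit 19456) [nat_lit 120, nat_lit 160, nat_lit 100, nat_lit 140, nat_lit 100, nat_lit 120, nat_lit 160, nat_lit 100, nat_lit 140]))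
noncomputable def r17 : WT := (.leaf (nat_lit 21514) [nat_lit 140, nat_lit 100, nat_lit 80, nat_lit 60, nat_lit 40, nat_lit 80, nat_lit 60, nat_lit 140, nat_lit 100, nat_lit 140, nat_lit 100, nat_lit 80, nat_lit 60, nat_lit 40, nat_lit 80, nat_lit 60, nat_lit 140, nat_lit 100, nat_lit 140, nat_lit 100, nat_lit 80, nat_lit 60, nat_lit 40, nat_lit 80, nat_lit 60, nat_lit 140])
noncomputable def r18 : WT := (.leaf (nat_lit 21511) [nat_lit 160, nat_lit 60, nat_lit 80, nat_lit 40, nat_lit 60, nat_lit 80, nat_lit 100, nat_lit 160, nat_lit 100, nat_lit 160, nat_lit 60, nat_lit 80, nat_lit 40, nat_lit 60, nat_lit 80, nat_lit 100, nat_lit 160, nat_lit 100, nat_lit 160, nat_lit 60, nat_lit 80, nat_lit 40, nat_lit 60, nat_lit 80, nat_lit 100, nat_lit 160])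
noncomputable def r19 : WT := (.leaf (nat_lit 21518) [nat_lit 80, nat_lit 60, nat_lit 40, nat_lit 80, nat_lit 60, nat_lit 140, nat_lit 100, nat_lit 140, nat_lit 100, nat_lit 80, nat_lit 60, nat_lit 40, nat_lit 80, nat_lit 60, nat_lit 140, nat_lit 100, nat_lit 140, nat_lit 100, nat_lit 80, nat_lit 60, nat_lit 40, nat_lit 80, nat_lit 60, nat_lit 140, nat_lit 100, nat_lit 140])
noncomputable def r20 : WT := (.leaf (nat_lit 21507) [nat_lit 160, nat_lit 100, nat_lit 160, nat_lit 60, nat_lit 80, nat_lit 40, nat_lit 60, nat_lit 80, nat_lit 100, nat_lit 160, nat_lit 100, nat_lit 160, nat_lit 60, nat_lit 80, nat_lit 40, nat_lit 60, nat_lit 80, nat_lit 100, nat_lit 160, nat_lit 100, nat_lit 160, nat_lit 60, nat_lit 80, nat_lit 40, nat_lit 60, nat_lit 80])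
noncomputable def r21 : WT := (.node (nat_lit 11) (.node (nat_lit 9) (.leaf (nat_lit 19459) [nat_lit 140, nat_lit 120, nat_lit 100, nat_lit 160, nat_lit 100, nat_lit 140, nat_lit 120, nat_lit 100, nat_lit 160]) (.node (nat_lit 10) r17 (.leaf (nat_lit 11274) [nat_lit 80, nat_lit 100, nat_lit 80, nat_lit 40, nat_lit 100, nat_lit 80, nat_lit 100, nat_lit 80]))) (.node (nat_lit 13) (.node (nat_lit 12) (.leaf (nat_lit 11279) [nat_lit 40, nat_lit 80, nat_lit 100, nat_lit 80, nat_lit 100, nat_lit 80, nat_lit 100, nat_lit 80]) r18) (.node (nat_lit 14) r19 (.node (nat_lit 15) (.leaf (nat_lit 11275) [nat_lit 80, nat_lit 100, nat_lit 40, nat_lit 80, nat_lit 100, nat_lit 80, nat_lit 100, nat_lit 80]) r20))))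
noncomputable def w3 : WT := (.node (nat_lit 1) (.leaf (nat_lit 3072) [nat_lit 100]) (.node (nat_lit 3) (.node (nat_lit 2) (.leaf (nat_lit 13312) [nat_lit 120, nat_lit 100, nat_lit 120, nat_lit 100, nat_lit 120]) (.leaf (nat_lit 9218) [nat_lit 60, nat_lit 100, nat_lit 60])) (.node (nat_lit 6) (.node (nat_lit 4) (.leaf (nat_lit 11270) [nat_lit 80, nat_lit 100, nat_lit 80, nat_lit 100, nat_lit 80, nat_lit 40, nat_lit 100, nat_lit 80]) r15) (.node (nat_lit 8) r16 r21))))
noncomputable def r22 : WT := (.node (nat_lit 7) (.leaf (nat_lit 18438) [nat_lit 160, nat_lit 120, nat_lit 140]) (.node (nat_lit 8) (.leaf (nat_lit 19463) [nat_lit 100, nat_lit 160, nat_lit 100, nat_lit 140, nat_lit 120, nat_lit 100, nat_lit 160, nat_lit 100, nat_lit 140]) (.leaf (nat_lit 19458) [nat_lit 160, nat_lit 100, nat_lit 140, nat_lit 100, nat_lit 120, nat_lit 160, nat_lit 100, nat_lit 140, nat_lit 100])))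
noncomputable def w4 : WT := (.node (nat_lit 1) (.leaf (nat_lit 4096) [nat_lit 120]) (.node (nat_lit 3) (.node (nat_lit 2) (.leaf (nat_lit 18434) [nat_lit 140, nat_lit 120, nat_lit 160]) (.leaf (nat_lit 10242) [nat_lit 60, nat_lit 120, nat_lit 60])) (.node (nat_lit 5) (.node (nat_lit 4) (.leaf (nat_lit 12290) [nat_lit 80, nat_lit 120, nat_lit 80]) (.leaf (nat_lit 7170) [nat_lit 40, nat_lit 120, nat_lit 40])) (.node (nat_lit 6) (.leaf (nat_lit 13314) [nat_lit 100, nat_lit 120, nat_lit 100, nat_lit 120, nat_lit 100]) r22))))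
noncomputable def r23 : WT := (.leaf (nat_lit 21512) [nat_lit 100, nat_lit 140, nat_lit 100, nat_lit 80, nat_lit 60, nat_lit 40, nat_lit 80, nat_lit 60, nat_lit 140, nat_lit 100, nat_lit 140, nat_lit 100, nat_lit 80, nat_lit 60, nat_lit 40, nat_lit 80, nat_lit 60, nat_lit 140, nat_lit 100, nat_lit 140, nat_lit 100, nat_lit 80, nat_lit 60, nat_lit 40, nat_lit 80, nat_lit 60])
noncomputable def r24 : WT := (.node (nat_lit 6) (.leaf (nat_lit 19464) [nat_lit 100, nat_lit 120, nat_lit 160, nat_lit 100, nat_lit 140, nat_lit 100, nat_lit 120, nat_lit 160, nat_lit 100]) (.node (nat_lit 7) (.leaf (nat_lit 16388) [nat_lit 40, nat_lit 160, nat_lit 40]) (.node (nat_lit 8) (.leaf (nat_lit 19461) [nat_lit 120, nat_lit 100, nat_lit 160, nat_lit 100, nat_lit 140, nat_lit 120, nat_lit 100, nat_lit 160, nat_lit 100]) (.node (nat_lit 9) r23 (.leaf (nat_lit 20490) [nat_lit 60, nat_lit 40, nat_lit 80, nat_lit 60, nat_lit 120, nat_lit 160, nat_lit 60, nat_lit 80,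 nat_lit 40, nat_lit 60])))))
noncomputable def w5 : WT := (.node (nat_lit 1) (.leaf (nat_lit 5120) [nat_lit 160]) (.node (nat_lit 3) (.node (nat_lit 2) (.leaf (nat_lit 18436) [nat_lit 120, nat_lit 160, nat_lit 120]) (.leaf (nat_lit 17412) [nat_lit 80, nat_lit 160, nat_lit 80])) (.node (nat_lit 4) (.leaf (nat_lit 15362) [nat_lit 80, nat_lit 40, nat_lit 140]) (.node (nat_lit 5) (.leaf (nat_lit 15360) [nat_lit 140, nat_lit 80, nat_lit 40]) r24))))
noncomputable def r25 : WT := (.leaf (nat_lit 21513) [nat_lit 60, nat_lit 80, nat_lit 40, nat_lit 60, nat_lit 80, nat_lit 100, nat_lit 160, nat_lit 100, nat_lit 160, nat_lit 60, nat_lit 80, nat_lit 40, nat_lit 60, nat_lit 80, nat_lit 100, nat_lit 160, nat_lit 100, nat_lit 160, nat_lit 60, nat_lit 80, nat_lit 40, nat_lit 60, nat_lit 80, nat_lit 100, nat_lit 160, nat_lit 100])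
noncomputable def r26 : WT := (.leaf (nat_lit 21509) [nat_lit 100, nat_lit 160, nat_lit 60, nat_lit 80, nat_lit 40, nat_lit 60, nat_lit 80, nat_lit 100, nat_lit 160, nat_lit 100, nat_lit 160, nat_lit 60, nat_lit 80, nat_lit 40, nat_lit 60, nat_lit 80, nat_lit 100, nat_lit 160, nat_lit 100, nat_lit 160, nat_lit 60, nat_lit 80, nat_lit 40, nat_lit 60, nat_lit 80, nat_lit 100])
noncomputable def r27 : WT := (.node (nat_lit 6) (.leaf (nat_lit 17408) [nat_lit 80, nat_lit 140, nat_lit 80]) (.node (nat_lit 7) (.leaf (nat_lit 19457) [nat_lit 100, nat_lit 140, nat_lit 120, nat_lit 100, nat_lit 160, nat_lit 100, nat_lit 140, nat_lit 120, nat_lit 100]) (.node (nat_lit 8) (.leaf (nat_lit 19460) [nat_lit 100, nat_lit 140, nat_lit 100, nat_lit 120, nat_lit 160, nat_lit 100, nat_lit 140, nat_lit 100, nat_lit 120]) (.node (nat_lit 9) r25 r26))))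
noncomputable def w6 : WT := (.node (nat_lit 1) (.leaf (nat_lit 5122) [nat_lit 140]) (.node (nat_lit 3) (.node (nat_lit 2) (.leaf (nat_lit 18432) [nat_lit 120, nat_lit 140, nat_lit 120]) (.leaf (nat_lit 15367) [nat_lit 40, nat_lit 80, nat_lit 160])) (.node (nat_lit 4) (.leaf (nat_lit 15365) [nat_lit 160, nat_lit 40, nat_lit 80]) (.node (nat_lit 5) (.leaf (nat_lit 16384) [nat_lit 40, nat_lit 140, nat_lit 40]) r27))))
noncomputable def r28 : WT := (.node (nat_lit 6) (.leaf (nat_lit 19464) [nat_lit 140, nat_lit 100, nat_lit 120, nat_lit 160, nat_lit 100, nat_lit 140, nat_lit 100, nat_lit 120, nat_lit 160, nat_lit 100]) (.leaf (nat_lit 6144) [nat_lit 40, nat_lit 60, nat_lit 40, nat_lit 60, nat_lit 40, nat_lit 60]))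
noncomputable def r29 : WT := (.leaf (nat_lit 14339) [nat_lit 100, nat_lit 80, nat_lit 60, nat_lit 120, nat_lit 100, nat_lit 80, nat_lit 60, nat_lit 120, nat_lit 100, nat_lit 80, nat_lit 60, nat_lit 120, nat_lit 100, nat_lit 80, nat_lit 60, nat_lit 120, nat_lit 100, nat_lit 80, nat_lit 60, nat_lit 120, nat_lit 100, nat_lit 80, nat_lit 60, nat_lit 120, nat_lit 100, nat_lit 80, nat_lit 60, nat_lit 120, nat_lit 100, nat_lit 80, nat_lit 60, nat_lit 120])
noncomputable def r30 : WT := (.node (nat_lit 8) r29 (.leaf (nat_lit 19461) [nat_lit 140, nat_lit 120, nat_lit 100, nat_lit 160, nat_lit 100, nat_lit 140, nat_lit 120, nat_lit 100, nat_lit 160, nat_lit 100]))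
noncomputable def r31 : WT := (.node (nat_lit 10) (.leaf (nat_lit 11281) [nat_lit 40, nat_lit 80, nat_lit 100, nat_lit 80, nat_lit 100, nat_lit 80, nat_lit 100, nat_lit 80, nat_lit 100]) (.leaf (nat_lit 11279) [nat_lit 100, nat_lit 40, nat_lit 80, nat_lit 100, nat_lit 80, nat_lit 100, nat_lit 80, nat_lit 100, nat_lit 80]))
noncomputable def r32 : WT := (.node (nat_lit 12) (.leaf (nat_lit 11280) [nat_lit 80, nat_lit 40, nat_lit 100, nat_lit 80, nat_lit 100, nat_lit 80, nat_lit 100, nat_lit 80, nat_lit 100]) (.leaf (nat_lit 11272) [nat_lit 80, nat_lit 100, nat_lit 80, nat_lit 100, nat_lit 80, nat_lit 40, nat_lit 100, nat_lit 80, nat_lit 100]))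
noncomputable def r33 : WT := (.leaf (nat_lit 14340) [nat_lit 100, nat_lit 120, nat_lit 60, nat_lit 80, nat_lit 100, nat_lit 120, nat_lit 60, nat_lit 80, nat_lit 100, nat_lit 120, nat_lit 60, nat_lit 80, nat_lit 100, nat_lit 120, nat_lit 60, nat_lit 80, nat_lit 100, nat_lit 120, nat_lit 60, nat_lit 80, nat_lit 100, nat_lit 120, nat_lit 60, nat_lit 80, nat_lit 100, nat_lit 120, nat_lit 60, nat_lit 80, nat_lit 100, nat_lit 120, nat_lit 60, nat_lit 80])
noncomputable def r34 : WT := (.node (nat_lit 15) (.node (nat_lit 14) (.leaf (nat_lit 13314) [nat_lit 120, nat_lit 100, nat_lit 120, nat_lit 100, nat_lit 120, nat_lit 100]) (.leaf (nat_lit 20482) [nat_lit 60, nat_lit 80, nat_lit 40, nat_lit 60, nat_lit 140, nat_lit 60, nat_lit 40, nat_lit 80, nat_lit 60, nat_lit 120, nat_lit 160])) (.node (nat_lit 16) (.leaf (nat_lit 7170) [nat_lit 120, nat_lit 40, nat_lit 120, nat_lit 40]) r33))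
noncomputable def r35 : WT := (.leaf (nat_lit 21517) [nat_lit 80, nat_lit 40, nat_lit 60, nat_lit 80, nat_lit 100, nat_lit 160, nat_lit 100, nat_lit 160, nat_lit 60, nat_lit 80, nat_lit 40, nat_lit 60, nat_lit 80, nat_lit 100, nat_lit 160, nat_lit 100, nat_lit 160, nat_lit 60, nat_lit 80, nat_lit 40, nat_lit 60, nat_lit 80, nat_lit 100, nat_lit 160, nat_lit 100, nat_lit 160, nat_lit 60])
noncomputable def r36 : WT := (.leaf (nat_lit 21515) [nat_lit 60, nat_lit 80, nat_lit 40, nat_lit 60, nat_lit 80, nat_lit 100, nat_lit 160, nat_lit 100, nat_lit 160, nat_lit 60, nat_lit 80, nat_lit 40, nat_lit 60, nat_lit 80, nat_lit 100, nat_lit 160, nat_lit 100, nat_lit 160, nat_lit 60, nat_lit 80, nat_lit 40, nat_lit 60, nat_lit 80, nat_lit 100, nat_lit 160, nat_lit 100, nat_lit 160])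
noncomputable def r37 : WT := (.leaf (nat_lit 21518) [nat_lit 100, nat_lit 80, nat_lit 60, nat_lit 40, nat_lit 80, nat_lit 60, nat_lit 140, nat_lit 100, nat_lit 140, nat_lit 100, nat_lit 80, nat_lit 60, nat_lit 40, nat_lit 80, nat_lit 60, nat_lit 140, nat_lit 100, nat_lit 140, nat_lit 100, nat_lit 80, nat_lit 60, nat_lit 40, nat_lit 80, nat_lit 60, nat_lit 140, nat_lit 100, nat_lit 140])
noncomputable def r38 : WT := (.leaf (nat_lit 21514) [nat_lit 100, nat_lit 140, nat_lit 100, nat_lit 80, nat_lit 60, nat_lit 40, nat_lit 80, nat_lit 60, nat_lit 140, nat_lit 100, nat_lit 140, nat_lit 100, nat_lit 80, nat_lit 60, nat_lit 40, nat_lit 80, nat_lit 60, nat_lit 140, nat_lit 100, nat_lit 140, nat_lit 100, nat_lit 80, nat_lit 60, nat_lit 40, nat_lit 80, nat_lit 60, nat_lit 140])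
noncomputable def r39 : WT := (.node (nat_lit 19) (.node (nat_lit 18) r35 r36) (.node (nat_lit 20) r37 r38))
noncomputable def r40 : WT := (.leaf (nat_lit 21506) [nat_lit 40, nat_lit 80, nat_lit 60, nat_lit 140, nat_lit 100, nat_lit 140, nat_lit 100, nat_lit 80, nat_lit 60, nat_lit 40, nat_lit 80, nat_lit 60, nat_lit 140, nat_lit 100, nat_lit 140, nat_lit 100, nat_lit 80, nat_lit 60, nat_lit 40, nat_lit 80, nat_lit 60, nat_lit 140, nat_lit 100, nat_lit 140, nat_lit 100, nat_lit 80, nat_lit 60])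
noncomputable def r41 : WT := (.leaf (nat_lit 21504) [nat_lit 60, nat_lit 40, nat_lit 80, nat_lit 60, nat_lit 140, nat_lit 100, nat_lit 140, nat_lit 100, nat_lit 80, nat_lit 60, nat_lit 40, nat_lit 80, nat_lit 60, nat_lit 140, nat_lit 100, nat_lit 140, nat_lit 100, nat_lit 80, nat_lit 60, nat_lit 40, nat_lit 80, nat_lit 60, nat_lit 140, nat_lit 100, nat_lit 140, nat_lit 100, nat_lit 80])
noncomputable def r42 : WT := (.node (nat_lit 23) (.node (nat_lit 22) r40 r41) (.node (nat_lit 24) (.leaf (nat_lit 20499) [nat_lit 60, nat_lit 140, nat_lit 120, nat_lit 60, nat_lit 80, nat_lit 40, nat_lit 60, nat_lit 160, nat_lit 60, nat_lit 40, nat_lit 80]) (.leaf (nat_lit 20493) [nat_lit 60, nat_lit 40, nat_lit 80, nat_lit 60, nat_lit 140, nat_lit 120, nat_lit 60, nat_lit 80, nat_lit 40, nat_lit 60, nat_lit 160])))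
noncomputable def r43 : WT := (.node (nat_lit 27) (.node (nat_lit 26) (.leaf (nat_lit 20485) [nat_lit 80, nat_lit 40, nat_lit 60, nat_lit 160, nat_lit 60, nat_lit 40, nat_lit 80, nat_lit 60, nat_lit 140, nat_lit 120, nat_lit 60]) (.leaf (nat_lit 20494) [nat_lit 40, nat_lit 80, nat_lit 60, nat_lit 120, nat_lit 160, nat_lit 60, nat_lit 80, nat_lit 40, nat_lit 60, nat_lit 140, nat_lit 60])) (.node (nat_lit 28) (.leaf (nat_lit 20492) [nat_lit 60, nat_lit 40, nat_lit 80, nat_lit 60, nat_lit 120, nat_lit 160, nat_lit 60, nat_lit 80, nat_lit 40, nat_lit 60, nat_lit 140]) (.leaf (nat_lit 20484) [nat_lit 80, nat_lit 40, nat_lit 60, nat_lit 140, nat_lit 60, nat_lit 40, nat_lit 80, nat_lit 60, nat_lit 120, nat_lit 160, nat_lit 60])))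
noncomputable def r44 : WT := (.node (nat_lit 31) (.node (nat_lit 30) (.leaf (nat_lit 11276) [nat_lit 80, nat_lit 100, nat_lit 80, nat_lit 40, nat_lit 100, nat_lit 80, nat_lit 100, nat_lit 80, nat_lit 100]) (.leaf (nat_lit 20480) [nat_lit 160, nat_lit 60, nat_lit 80, nat_lit 40, nat_lit 60, nat_lit 140, nat_lit 60, nat_lit 40, nat_lit 80, nat_lit 60, nat_lit 120])) (.node (nat_lit 32) (.leaf (nat_lit 19465) [nat_lit 100, nat_lit 160, nat_lit 100, nat_lit 140, nat_lit 120, nat_lit 100, nat_lit 160, nat_lit 100, nat_lit 140, nat_lit 120]) (.leaf (nat_lit 8192) [nat_lit 60, nat_lit 80, nat_lit 60, nat_lit 80, nat_lit 60, nat_lit 80])))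
noncomputable def r45 : WT := (.node (nat_lit 35) (.node (nat_lit 34) (.leaf (nat_lit 19457) [nat_lit 160, nat_lit 100, nat_lit 140, nat_lit 120, nat_lit 100, nat_lit 160, nat_lit 100, nat_lit 140, nat_lit 120, nat_lit 100]) (.leaf (nat_lit 13312) [nat_lit 100, nat_lit 120, nat_lit 100, nat_lit 120, nat_lit 100, nat_lit 120])) (.node (nat_lit 36) (.leaf (nat_lit 19462) [nat_lit 100, nat_lit 140, nat_lit 100, nat_lit 120, nat_lit 160, nat_lit 100, nat_lit 140, nat_lit 100, nat_lit 120, nat_lit 160]) (.leaf (nat_lit 19456) [nat_lit 100, nat_lit 120, nat_lit 160, nat_lit 100, nat_lit 140, nat_lit 100, nat_lit 120, nat_lit 160, nat_lit 100, nat_lit 140])))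
noncomputable def r46 : WT := (.node (nat_lit 39) (.node (nat_lit 38) (.leaf (nat_lit 11277) [nat_lit 80, nat_lit 100, nat_lit 40, nat_lit 80, nat_lit 100, nat_lit 80, nat_lit 100, nat_lit 80, nat_lit 100]) (.leaf (nat_lit 11275) [nat_lit 100, nat_lit 80, nat_lit 100, nat_lit 40, nat_lit 80, nat_lit 100, nat_lit 80, nat_lit 100, nat_lit 80])) (.node (nat_lit 40) (.leaf (nat_lit 11273) [nat_lit 80, nat_lit 100, nat_lit 80, nat_lit 100, nat_lit 40, nat_lit 80, nat_lit 100, nat_lit 80, nat_lit 100]) (.leaf (nat_lit 11274) [nat_lit 100, nat_lit 80, nat_lit 100, nat_lit 80, nat_lit 40, nat_lit 100, nat_lit 80, nat_lit 100, nat_lit 80])))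
noncomputable def wP : WT := (.node (nat_lit 11) (.node (nat_lit 4) (.node (nat_lit 2) (.node (nat_lit 1) (.leaf (nat_lit 11268) [nat_lit 80, nat_lit 100, nat_lit 80, nat_lit 100, nat_lit 80, nat_lit 100, nat_lit 80, nat_lit 40, nat_lit 100]) (.leaf (nat_lit 11266) [nat_lit 100, nat_lit 80, nat_lit 100, nat_lit 80, nat_lit 100, nat_lit 80, nat_lit 100, nat_lit 80, nat_lit 40])) (.node (nat_lit 3) (.leaf (nat_lit 11278) [nat_lit 100, nat_lit 80, nat_lit 40, nat_lit 100, nat_lit 80, nat_lit 100, nat_lit 80, nat_lit 100, nat_lit 80]) (.leaf (nat_lit 6146) [nat_lit 60, nat_lit 40, nat_lit 60, nat_lit 40, nat_lit 60, nat_lit 40]))) (.node (nat_lit 7) (.node (nat_lit 5) (.leaf (nat_lit 8194) [nat_lit 80, nat_lit 60, nat_lit 80, nat_lit 60, nat_lit 80, nat_lit 60]) r28) (.node (nat_lit 9) r30 r31))) (.node (nat_lit 25) (.node (nat_lit 17) (.node (nat_lit 13) r32 r34) (.node (nat_lit 21) r39 r42)) (.node (nat_lit 33) (.node (nat_lit 29) r43 r44) (.node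 (nat_lit 37) r45 r46))))
noncomputable def P : Par := ⟨tb, nat_lit 180, nat_lit 0xfffffffffffffffffffffffffffffffffffffffffffff, nat_lit 2016, nat_lit 1048575, nat_lit 2047, nat_lit 20, nat_lit 11, nat_lit 702,
  [nat_lit 40, nat_lit 60, nat_lit 80, nat_lit 100, nat_lit 120, nat_lit 140, nat_lit 160], [nat_lit 40, nat_lit 60, nat_lit 80, nat_lit 100, nat_lit 120], wP,
  (.cons (nat_lit 40) w0 (.cons (nat_lit 60) w1 (.cons (nat_lit 80) w2 (.cons (nat_lit 100) w3 (.cons (nat_lit 120) w4 (.cons (nat_lit 140) w5 (.cons (nat_lit 160) w6 .nil))))))),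
  .nil⟩

end Cfsg.Agent.Lib.TCThS3
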