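import Cfsg.Agent.Lib.TCThS4D0

set_option autoImplicit false
set_option maxRecDepth 100000

namespace Cfsg.Agent.Lib.TCThS4
open Cfsg.Agent.Lib.TCCore

noncomputable def tb : T := (.node (nat_lit 354) (.node (nat_lit 118) l0 (.node (nat_lit 236) l1 l2)) (.node (nat_lit 472) l3 (.node (nat_lit 590) l4 l5)))
noncomputable def r0 : WT := (.node (nat_lit 8) (.leaf (nat_lit 6144) [nat_lit 54, nat_lit 36, nat_lit 54, nat_lit 36, nat_lit 54]) (.node (nat_lit 9) (.leaf (nat_lit 16386) [nat_lit 126, nat_lit 36, nat_lit 144]) (.leaf (nat_lit 20486) [nat_lit 54, nat_lit 126, nat_lit 54, nat_lit 36, nat_lit 72, nat_lit 54, nat_lit 108, nat_lit 144, nat_lit 54, nat_lit 72])))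
noncomputable def w0 : WT := (.node (nat_lit 1) (.leaf (nat_lit 0) [nat_lit 36]) (.node (nat_lit 4) (.node (nat_lit 2) (.leaf (nat_lit 15361) [nat_lit 72, nat_lit 144, nat_lit 144]) (.node (nat_lit 3) (.leaf (nat_lit 7168) [nat_lit 108, nat_lit 36, nat_lit 108]) (.leaf (nat_lit 16390) [nat_lit 144, nat_lit 36, nat_lit 126]))) (.node (nat_lit 6) (.node (nat_lit 5) (.leaf (nat_lit 15366) [nat_lit 126, nat_lit 126, nat_lit 72]) (.leaf (nat_lit 11281) [nat_lit 72, nat_lit 90, nat_lit 72, nat_lit 90, nat_lit 72, nat_lit 90, nat_lit 72, nat_lit 90])) (.node (nat_lit 7) (.leaf (nat_lit 11264) [nat_lit 90, nat_lit 72, nat_lit 90, nat_lit 72, nat_lit 90, nat_lit 72, nat_lit 90, nat_lit 72]) r0))))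
noncomputable def w1 : WT := (.node (nat_lit 1) (.leaf (nat_lit 1024) [nat_lit 54]) (.node (nat_lit 2) (.leaf (nat_lit 9216) [nat_lit 90, nat_lit 54, nat_lit 90]) (.node (nat_lit 3) (.leaf (nat_lit 10240) [nat_lit 108, nat_lit 54, nat_lit 108]) (.node (nat_lit 4) (.leaf (nat_lit 8192) [nat_lit 72, nat_lit 54, nat_lit 72, nat_lit 54, nat_lit 72]) (.leaf (nat_lit 6146) [nat_lit 36, nat_lit 54, nat_lit 36, nat_lit 54, nat_lit 36])))))
noncomputable def r1 : WT := (.node (nat_lit 6) (.leaf (nat_lit 11268) [nat_lit 90, nat_lit 72, nat_lit 90, nat_lit 72, nat_lit 90, nat_lit 72, nat_lit 36, nat_lit 90]) (.leaf (nat_lit 8194) [nat_lit 54, nat_lit 72, nat_lit 54, nat_lit 72, nat_lit 54]))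
noncomputable def r2 : WT := (.leaf (nat_lit 21526) [nat_lit 54, nat_lit 126, nat_lit 90, nat_lit 126, nat_lit 90, nat_lit 72, nat_lit 54, nat_lit 36, nat_lit 72, nat_lit 54, nat_lit 126, nat_lit 90, nat_lit 126, nat_lit 90, nat_lit 72, nat_lit 90, nat_lit 144, nat_lit 90, nat_lit 72, nat_lit 90, nat_lit 126, nat_lit 90, nat_lit 72, nat_lit 36, nat_lit 54, nat_lit 36, nat_lit 72, nat_lit 54, nat_lit 126, nat_lit 90, nat_lit 126, nat_lit 90, nat_lit 72, nat_lit 54, nat_lit 36])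
noncomputable def r3 : WT := (.leaf (nat_lit 21538) [nat_lit 54, nat_lit 36, nat_lit 72, nat_lit 54, nat_lit 126, nat_lit 90, nat_lit 126, nat_lit 90, nat_lit 72, nat_lit 90, nat_lit 144, nat_lit 90, nat_lit 72, nat_lit 90, nat_lit 126, nat_lit 90, nat_lit 72, nat_lit 36, nat_lit 54, nat_lit 36, nat_lit 72, nat_lit 54, nat_lit 126, nat_lit 90, nat_lit 126, nat_lit 90, nat_lit 72, nat_lit 54, nat_lit 36, nat_lit 72, nat_lit 54, nat_lit 126, nat_lit 90, nat_lit 126, nat_lit 90])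
noncomputable def r4 : WT := (.leaf (nat_lit 21564) [nat_lit 90, nat_lit 126, nat_lit 90, nat_lit 72, nat_lit 36, nat_lit 54, nat_lit 36, nat_lit 72, nat_lit 54, nat_lit 126, nat_lit 90, nat_lit 126, nat_lit 90, nat_lit 72, nat_lit 54, nat_lit 36, nat_lit 72, nat_lit 54, nat_lit 126, nat_lit 90, nat_lit 126, nat_lit 90, nat_lit 72, nat_lit 54, nat_lit 36, nat_lit 72, nat_lit 54, nat_lit 126, nat_lit 90, nat_lit 126, nat_lit 90, nat_lit 72, nat_lit 90, nat_lit 144, nat_lit 90])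
noncomputable def r5 : WT := (.node (nat_lit 9) (.node (nat_lit 8) (.leaf (nat_lit 20496) [nat_lit 54, nat_lit 108, nat_lit 144, nat_lit 54, nat_lit 72, nat_lit 36, nat_lit 54, nat_lit 126, nat_lit 54, nat_lit 36]) (.leaf (nat_lit 11272) [nat_lit 90, nat_lit 72, nat_lit 90, nat_lit 72, nat_lit 36, nat_lit 90, nat_lit 72, nat_lit 90])) (.node (nat_lit 12) (.node (nat_lit 10) (.leaf (nat_lit 17414) [nat_lit 144, nat_lit 72, nat_lit 126]) (.node (nat_lit 11) (.leaf (nat_lit 11265) [nat_lit 90, nat_lit 72, nat_lit 90, nat_lit 72, nat_lit 90, nat_lit 72, nat_lit 90, nat_lit 36]) (.leaf (nat_lit 11269) [nat_lit 90, nat_lit 72, nat_lit 90, nat_lit 72, nat_lit 90, nat_lit 36, nat_lit 72, nat_lit 90]))) (.node (nat_lit 14) (.node (nat_lit 13) (.leaf (nat_lit 20484) [nat_lit 36, nat_lit 54, nat_lit 126, nat_lit 54, nat_lit 36, nat_lit 72, nat_lit 54, nat_lit 108, nat_lit 144, nat_lit 54]) r2) (.node (nat_lit 15) r3 r4))))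
noncomputable def w2 : WT := (.node (nat_lit 1) (.leaf (nat_lit 2048) [nat_lit 72]) (.node (nat_lit 3) (.node (nat_lit 2) (.leaf (nat_lit 17410) [nat_lit 126, nat_lit 72, nat_lit 144]) (.leaf (nat_lit 12288) [nat_lit 108, nat_lit 72, nat_lit 108])) (.node (nat_lit 5) (.node (nat_lit 4) (.leaf (nat_lit 15363) [nat_lit 144, nat_lit 144, nat_lit 36]) (.leaf (nat_lit 15364) [nat_lit 36, nat_lit 126, nat_lit 126])) (.node (nat_lit 7) r1 r5))))
noncomputable def r6 : WT := (.node (nat_lit 6) (.leaf (nat_lit 11270) [nat_lit 72, nat_lit 90, nat_lit 72, nat_lit 90, nat_lit 72, nat_lit 36, nat_lit 90, nat_lit 72]) (.leaf (nat_lit 11266) [nat_lit 72, nat_lit 90, nat_lit 72, nat_lit 90, nat_lit 72, nat_lit 90, nat_lit 72, nat_lit 36]))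
noncomputable def r7 : WT := (.leaf (nat_lit 14340) [nat_lit 108, nat_lit 54, nat_lit 72, nat_lit 90, nat_lit 108, nat_lit 54, nat_lit 72, nat_lit 90, nat_lit 108, nat_lit 54, nat_lit 72, nat_lit 90, nat_lit 108, nat_lit 54, nat_lit 72, nat_lit 90, nat_lit 108, nat_lit 54, nat_lit 72, nat_lit 90, nat_lit 108, nat_lit 54, nat_lit 72, nat_lit 90, nat_lit 108, nat_lit 54, nat_lit 72, nat_lit 90, nat_lit 108, nat_lit 54, nat_lit 72])
noncomputable def r8 : WT := (.node (nat_lit 9) (.node (nat_lit 8) (.leaf (nat_lit 11274) [nat_lit 72, nat_lit 90, nat_lit 72, nat_lit 36, nat_lit 90, nat_lit 72, nat_lit 90, nat_lit 72]) (.leaf (nat_lit 19465) [nat_lit 144, nat_lit 90, nat_lit 126, nat_lit 108, nat_lit 90, nat_lit 144, nat_lit 90, nat_lit 126, nat_lit 108])) (.node (nat_lit 10) (.leaf (nat_lit 19459) [nat_lit 126, nat_lit 108, nat_lit 90, nat_lit 144, nat_lit 90, nat_lit 126, nat_lit 108, nat_lit 90, nat_lit 144]) r7))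
noncomputable def w3 : WT := (.node (nat_lit 1) (.leaf (nat_lit 3072) [nat_lit 90]) (.node (nat_lit 3) (.node (nat_lit 2) (.leaf (nat_lit 13312) [nat_lit 108, nat_lit 90, nat_lit 108, nat_lit 90, nat_lit 108]) (.leaf (nat_lit 19462) [nat_lit 126, nat_lit 90, nat_lit 108, nat_lit 144, nat_lit 90, nat_lit 126, nat_lit 90, nat_lit 108, nat_lit 144])) (.node (nat_lit 5) (.node (nat_lit 4) (.leaf (nat_lit 9218) [nat_lit 54, nat_lit 90, nat_lit 54]) (.leaf (nat_lit 19456) [nat_lit 108, nat_lit 144, nat_lit 90, nat_lit 126, nat_lit 90, nat_lit 108, nat_lit 144, nat_lit 90, nat_lit 126])) (.node (nat_lit 7) r6 r8))))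
noncomputable def r9 : WT := (.leaf (nat_lit 14342) [nat_lit 54, nat_lit 72, nat_lit 90, nat_lit 108, nat_lit 54, nat_lit 72, nat_lit 90, nat_lit 108, nat_lit 54, nat_lit 72, nat_lit 90, nat_lit 108, nat_lit 54, nat_lit 72, nat_lit 90, nat_lit 108, nat_lit 54, nat_lit 72, nat_lit 90, nat_lit 108, nat_lit 54, nat_lit 72, nat_lit 90, nat_lit 108, nat_lit 54, nat_lit 72, nat_lit 90, nat_lit 108, nat_lit 54, nat_lit 72, nat_lit 90])
noncomputable def r10 : WT := (.node (nat_lit 7) (.leaf (nat_lit 18438) [nat_lit 144, nat_lit 108, nat_lit 126]) (.node (nat_lit 8) (.leaf (nat_lit 19458) [nat_lit 144, nat_lit 90, nat_lit 126, nat_lit 90, nat_lit 108, nat_lit 144, nat_lit 90, nat_lit 126, nat_lit 90]) (.node (nat_lit 9) (.leaf (nat_lit 20481) [nat_lit 54, nat_lit 72, nat_lit 36, nat_lit 54, nat_lit 144, nat_lit 54, nat_lit 36, nat_lit 72, nat_lit 54, nat_lit 126]) r9)))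
noncomputable def w4 : WT := (.node (nat_lit 1) (.leaf (nat_lit 4096) [nat_lit 108]) (.node (nat_lit 3) (.node (nat_lit 2) (.leaf (nat_lit 18434) [nat_lit 126, nat_lit 108, nat_lit 144]) (.leaf (nat_lit 12290) [nat_lit 72, nat_lit 108, nat_lit 72])) (.node (nat_lit 5) (.node (nat_lit 4) (.leaf (nat_lit 7170) [nat_lit 36, nat_lit 108, nat_lit 36]) (.leaf (nat_lit 10242) [nat_lit 54, nat_lit 108, nat_lit 54])) (.node (nat_lit 6) (.leaf (nat_lit 13314) [nat_lit 90, nat_lit 108, nat_lit 90, nat_lit 108, nat_lit 90]) r10))))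
noncomputable def r11 : WT := (.leaf (nat_lit 21534) [nat_lit 90, nat_lit 72, nat_lit 54, nat_lit 36, nat_lit 72, nat_lit 54, nat_lit 126, nat_lit 90, nat_lit 126, nat_lit 90, nat_lit 72, nat_lit 90, nat_lit 144, nat_lit 90, nat_lit 72, nat_lit 90, nat_lit 126, nat_lit 90, nat_lit 72, nat_lit 36, nat_lit 54, nat_lit 36, nat_lit 72, nat_lit 54, nat_lit 126, nat_lit 90, nat_lit 126, nat_lit 90, nat_lit 72, nat_lit 54, nat_lit 36, nat_lit 72, nat_lit 54, nat_lit 126, nat_lit 90])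
noncomputable def r12 : WT := (.node (nat_lit 6) (.leaf (nat_lit 19464) [nat_lit 90, nat_lit 108, nat_lit 144, nat_lit 90, nat_lit 126, nat_lit 90, nat_lit 108, nat_lit 144, nat_lit 90]) (.node (nat_lit 7) (.leaf (nat_lit 16388) [nat_lit 36, nat_lit 144, nat_lit 36]) (.node (nat_lit 8) (.leaf (nat_lit 19461) [nat_lit 108, nat_lit 90, nat_lit 144, nat_lit 90, nat_lit 126, nat_lit 108, nat_lit 90, nat_lit 144, nat_lit 90]) (.node (nat_lit 9) (.leaf (nat_lit 20490) [nat_lit 54, nat_lit 36, nat_lit 72, nat_lit 54, nat_lit 108, nat_lit 144, nat_lit 54, nat_lit 72, nat_lit 36, nat_lit 54]) r11))))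
noncomputable def w5 : WT := (.node (nat_lit 1) (.leaf (nat_lit 5120) [nat_lit 144]) (.node (nat_lit 3) (.node (nat_lit 2) (.leaf (nat_lit 18436) [nat_lit 108, nat_lit 144, nat_lit 108]) (.leaf (nat_lit 17412) [nat_lit 72, nat_lit 144, nat_lit 72])) (.node (nat_lit 4) (.leaf (nat_lit 15362) [nat_lit 72, nat_lit 36, nat_lit 126]) (.node (nat_lit 5) (.leaf (nat_lit 15360) [nat_lit 126, nat_lit 72, nat_lit 36]) r12))))
noncomputable def r13 : WT := (.node (nat_lit 6) (.leaf (nat_lit 17408) [nat_lit 72, nat_lit 126, nat_lit 72]) (.node (nat_lit 7) (.leaf (nat_lit 19457) [nat_lit 90, nat_lit 126, nat_lit 108, nat_lit 90, nat_lit 144, nat_lit 90, nat_lit 126, nat_lit 108, nat_lit 90]) (.leaf (nat_lit 19460) [nat_lit 90, nat_lit 126, nat_lit 90, nat_lit 108, nat_lit 144, nat_lit 90, nat_lit 126, nat_lit 90, nat_lit 108])))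
noncomputable def w6 : WT := (.node (nat_lit 1) (.leaf (nat_lit 5122) [nat_lit 126]) (.node (nat_lit 3) (.node (nat_lit 2) (.leaf (nat_lit 15367) [nat_lit 36, nat_lit 72, nat_lit 144]) (.leaf (nat_lit 18432) [nat_lit 108, nat_lit 126, nat_lit 108])) (.node (nat_lit 4) (.leaf (nat_lit 15365) [nat_lit 144, nat_lit 36, nat_lit 72]) (.node (nat_lit 5) (.leaf (nat_lit 16384) [nat_lit 36, nat_lit 126, nat_lit 36]) r13))))
noncomputable def r14 : WT := (.leaf (nat_lit 21571) [nat_lit 72, nat_lit 36, nat_lit 54, nat_lit 36, nat_lit 72, nat_lit 90, nat_lit 144, nat_lit 90, nat_lit 72, nat_lit 90, nat_lit 126, nat_lit 90, nat_lit 72, nat_lit 90, nat_lit 144, nat_lit 90, nat_lit 144, nat_lit 54, nat_lit 72, nat_lit 36, nat_lit 54, nat_lit 72, nat_lit 90, nat_lit 144, nat_lit 90, nat_lit 144, nat_lit 54, nat_lit 72, nat_lit 36, nat_lit 54, nat_lit 72, nat_lit 90, nat_lit 144, nat_lit 90, nat_lit 144, nat_lit 54])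
noncomputable def r15 : WT := (.node (nat_lit 5) (.leaf (nat_lit 11278) [nat_lit 90, nat_lit 72, nat_lit 36, nat_lit 90, nat_lit 72, nat_lit 90, nat_lit 72, nat_lit 90, nat_lit 72]) r14)
noncomputable def r16 : WT := (.leaf (nat_lit 21570) [nat_lit 90, nat_lit 72, nat_lit 36, nat_lit 54, nat_lit 36, nat_lit 72, nat_lit 54, nat_lit 126, nat_lit 90, nat_lit 126, nat_lit 90, nat_lit 72, nat_lit 54, nat_lit 36, nat_lit 72, nat_lit 54, nat_lit 126, nat_lit 90, nat_lit 126, nat_lit 90, nat_lit 72, nat_lit 54, nat_lit 36, nat_lit 72, nat_lit 54, nat_lit 126, nat_lit 90, nat_lit 126, nat_lit 90, nat_lit 72, nat_lit 90, nat_lit 144, nat_lit 90, nat_lit 72, nat_lit 90, nat_lit 126])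
noncomputable def r17 : WT := (.leaf (nat_lit 21558) [nat_lit 90, nat_lit 144, nat_lit 90, nat_lit 72, nat_lit 90, nat_lit 126, nat_lit 90, nat_lit 72, nat_lit 36, nat_lit 54, nat_lit 36, nat_lit 72, nat_lit 54, nat_lit 126, nat_lit 90, nat_lit 126, nat_lit 90, nat_lit 72, nat_lit 54, nat_lit 36, nat_lit 72, nat_lit 54, nat_lit 126, nat_lit 90, nat_lit 126, nat_lit 90, nat_lit 72, nat_lit 54, nat_lit 36, nat_lit 72, nat_lit 54, nat_lit 126, nat_lit 90, nat_lit 126, nat_lit 90, nat_lit 72])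
noncomputable def r18 : WT := (.node (nat_lit 7) r16 r17)
noncomputable def r19 : WT := (.leaf (nat_lit 14340) [nat_lit 90, nat_lit 108, nat_lit 54, nat_lit 72, nat_lit 90, nat_lit 108, nat_lit 54, nat_lit 72, nat_lit 90, nat_lit 108, nat_lit 54, nat_lit 72, nat_lit 90, nat_lit 108, nat_lit 54, nat_lit 72, nat_lit 90, nat_lit 108, nat_lit 54, nat_lit 72, nat_lit 90, nat_lit 108, nat_lit 54, nat_lit 72, nat_lit 90, nat_lit 108, nat_lit 54, nat_lit 72, nat_lit 90, nat_lit 108, nat_lit 54, nat_lit 72])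
noncomputable def r20 : WT := (.node (nat_lit 10) (.leaf (nat_lit 20485) [nat_lit 72, nat_lit 36, nat_lit 54, nat_lit 144, nat_lit 54, nat_lit 36, nat_lit 72, nat_lit 54, nat_lit 126, nat_lit 108, nat_lit 54]) (.leaf (nat_lit 20494) [nat_lit 36, nat_lit 72, nat_lit 54, nat_lit 108, nat_lit 144, nat_lit 54, nat_lit 72, nat_lit 36, nat_lit 54, nat_lit 126, nat_lit 54]))
noncomputable def r21 : WT := (.node (nat_lit 12) (.leaf (nat_lit 19458) [nat_lit 108, nat_lit 144, nat_lit 90, nat_lit 126, nat_lit 90, nat_lit 108, nat_lit 144, nat_lit 90, nat_lit 126, nat_lit 90]) (.leaf (nat_lit 11275) [nat_lit 90, nat_lit 72, nat_lit 90, nat_lit 36, nat_lit 72, nat_lit 90, nat_lit 72, nat_lit 90, nat_lit 72]))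
noncomputable def r22 : WT := (.node (nat_lit 14) (.leaf (nat_lit 11271) [nat_lit 90, nat_lit 72, nat_lit 90, nat_lit 72, nat_lit 90, nat_lit 36, nat_lit 72, nat_lit 90, nat_lit 72]) (.leaf (nat_lit 11280) [nat_lit 72, nat_lit 36, nat_lit 90, nat_lit 72, nat_lit 90, nat_lit 72, nat_lit 90, nat_lit 72, nat_lit 90]))
noncomputable def r23 : WT := (.node (nat_lit 16) (.leaf (nat_lit 9218) [nat_lit 90, nat_lit 54, nat_lit 90, nat_lit 54]) (.leaf (nat_lit 6146) [nat_lit 54, nat_lit 36, nat_lit 54, nat_lit 36, nat_lit 54, nat_lit 36]))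
noncomputable def r24 : WT := (.node (nat_lit 18) (.leaf (nat_lit 6144) [nat_lit 36, nat_lit 54, nat_lit 36, nat_lit 54, nat_lit 36, nat_lit 54]) (.leaf (nat_lit 16390) [nat_lit 36, nat_lit 144, nat_lit 36, nat_lit 126]))
noncomputable def r25 : WT := (.node (nat_lit 20) (.leaf (nat_lit 15360) [nat_lit 126, nat_lit 126, nat_lit 72, nat_lit 36]) (.leaf (nat_lit 12288) [nat_lit 72, nat_lit 108, nat_lit 72, nat_lit 108]))
noncomputable def r26 : WT := (.node (nat_lit 22) (.leaf (nat_lit 10242) [nat_lit 108, nat_lit 54, nat_lit 108, nat_lit 54]) (.leaf (nat_lit 10240) [nat_lit 54, nat_lit 108, nat_lit 54, nat_lit 108]))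
noncomputable def wP : WT := (.node (nat_lit 8) (.node (nat_lit 2) (.node (nat_lit 1) (.leaf (nat_lit 11266) [nat_lit 90, nat_lit 72, nat_lit 90, nat_lit 72, nat_lit 90, nat_lit 72, nat_lit 90, nat_lit 72, nat_lit 36]) (.leaf (nat_lit 11270) [nat_lit 90, nat_lit 72, nat_lit 90, nat_lit 72, nat_lit 90, nat_lit 72, nat_lit 36, nat_lit 90, nat_lit 72])) (.node (nat_lit 4) (.node (nat_lit 3) (.leaf (nat_lit 19457) [nat_lit 144, nat_lit 90, nat_lit 126, nat_lit 108, nat_lit 90, nat_lit 144, nat_lit 90, nat_lit 126, nat_lit 108, nat_lit 90]) (.leaf (nat_lit 11268) [nat_lit 72, nat_lit 90, nat_lit 72, nat_lit 90, nat_lit 72, nat_lit 90, nat_lit 72, nat_lit 36, nat_lit 90])) (.node (nat_lit 6) r15 r18))) (.node (nat_lit 15) (.node (nat_lit 11) (.node (nat_lit 9) r19 r20) (.node (nat_lit 13) r21 r22)) (.node (nat_lit 19) (.node (nat_lit 17) r23 r24) (.node (nat_lit 21) r25 r26))))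
noncomputable def P : Par := ⟨tb, nat_lit 162, nat_lit 0x3ffffffffffffffffffffffffffffffffffffffff, nat_lit 654, nat_lit 262143, nat_lit 1023, nat_lit 18, nat_lit 10, nat_lit 1,
  [nat_lit 36, nat_lit 54, nat_lit 72, nat_lit 90, nat_lit 108, nat_lit 126, nat_lit 144], [nat_lit 36, nat_lit 72, nat_lit 90, nat_lit 108, nat_lit 126], wP,
  (.cons (nat_lit 36) w0 (.cons (nat_lit 54) w1 (.cons (nat_lit 72) w2 (.cons (nat_lit 90) w3 (.cons (nat_lit 108) w4 (.cons (nat_lit 126) w5 (.cons (nat_lit 144) w6 .nil))))))),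
  .nil⟩

end Cfsg.Agent.Lib.TCThS4
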