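import Cfsg.Agent.Lib.TCU62aD0

set_option autoImplicit false
set_option maxRecDepth 100000

namespace Cfsg.Agent.Lib.TCU62a
open Cfsg.Agent.Lib.TCCore

noncomputable def n0 : T := (.node (nat_lit 72) l0 l1)
noncomputable def n1 : T := (.node (nat_lit 216) l2 (.node (nat_lit 288) l3 l4))
noncomputable def n2 : T := (.node (nat_lit 432) l5 (.node (nat_lit 504) l6 l7))
noncomputable def n3 : T := (.node (nat_lit 648) l8 (.node (nat_lit 720) l9 l10))
noncomputable def n4 : T := (.node (nat_lit 864) l11 l12)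
noncomputable def n5 : T := (.node (nat_lit 1008) l13 (.node (nat_lit 1080) l14 l15))
noncomputable def n6 : T := (.node (nat_lit 1224) l16 (.node (nat_lit 1296) l17 l18))
noncomputable def n7 : T := (.node (nat_lit 1440) l19 (.node (nat_lit 1512) l20 l21))
noncomputable def n8 : T := (.node (nat_lit 1656) l22 l23)
noncomputable def n9 : T := (.node (nat_lit 1800) l24 (.node (nat_lit 1872) l25 l26))
noncomputable def n10 : T := (.node (nat_lit 2016) l27 (.node (nat_lit 2088) l28 l29))
noncomputable def n11 : T := (.node (nat_lit 2232) l30 (.node (nat_lit 2304) l31 l32))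
noncomputable def n12 : T := (.node (nat_lit 2448) l33 l34)
noncomputable def n13 : T := (.node (nat_lit 2592) l35 (.node (nat_lit 2664) l36 l37))
noncomputable def n14 : T := (.node (nat_lit 2808) l38 (.node (nat_lit 2880) l39 l40))
noncomputable def n15 : T := (.node (nat_lit 3024) l41 (.node (nat_lit 3096) l42 l43))
noncomputable def n16 : T := (.node (nat_lit 3240) l44 l45)
noncomputable def n17 : T := (.node (nat_lit 3384) l46 (.node (nat_lit 3456) l47 l48))
noncomputable def n18 : T := (.node (nat_lit 3600) l49 (.node (nat_lit 3672) l50 l51))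
noncomputable def n19 : T := (.node (nat_lit 3816) l52 (.node (nat_lit 3888) l53 l54))
noncomputable def n20 : T := (.node (nat_lit 4032) l55 l56)
noncomputable def n21 : T := (.node (nat_lit 4176) l57 (.node (nat_lit 4248) l58 l59))
noncomputable def n22 : T := (.node (nat_lit 4392) l60 (.node (nat_lit 4464) l61 l62))
noncomputable def n23 : T := (.node (nat_lit 4608) l63 (.node (nat_lit 4680) l64 l65))
noncomputable def n24 : T := (.node (nat_lit 4824) l66 l67)
noncomputable def n25 : T := (.node (nat_lit 4968) l68 (.node (nat_lit 5040) l69 l70))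
noncomputable def n26 : T := (.node (nat_lit 5184) l71 (.node (nat_lit 5256) l72 l73))
noncomputable def n27 : T := (.node (nat_lit 5400) l74 (.node (nat_lit 5472) l75 l76))
noncomputable def n28 : T := (.node (nat_lit 5616) l77 (.node (nat_lit 5688) l78 l79))
noncomputable def n29 : T := (.node (nat_lit 5832) l80 (.node (nat_lit 5904) l81 l82))
noncomputable def n30 : T := (.node (nat_lit 6048) l83 (.node (nat_lit 6120) l84 l85))
noncomputable def n31 : T := (.node (nat_lit 6264) l86 (.node (nat_lit 6336) l87 l88))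
noncomputable def tb : T := (.node (nat_lit 3168) (.node (nat_lit 1584) (.node (nat_lit 792) (.node (nat_lit 360) (.node (nat_lit 144) n0 n1) (.node (nat_lit 576) n2 n3)) (.node (nat_lit 1152) (.node (nat_lit 936) n4 n5) (.node (nat_lit 1368) n6 n7))) (.node (nat_lit 2376) (.node (nat_lit 1944) (.node (nat_lit 1728) n8 n9) (.node (nat_lit 2160) n10 n11)) (.node (nat_lit 2736) (.node (nat_lit 2520) n12 n13) (.node (nat_lit 2952) n14 n15)))) (.node (nat_lit 4752) (.node (nat_lit 3960) (.node (nat_lit 3528) (.node (nat_lit 3312) n16 n17) (.node (nat_lit 3744) n18 n19)) (.node (nat_lit 4320) (.node (nat_lit 4104) n20 n21) (.node (nat_lit 4536) n22 n23))) (.node (nat_lit 5544) (.node (nat_lit 5112) (.node (nat_lit 4896) n24 n25) (.node (nat_lit 5328) n26 n27)) (.node (nat_lit 5976) (.node (nat_lit 5760) n28 n29) (.node (nat_lit 6192) n30 n31)))))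
noncomputable def w0 : WT := (.node (nat_lit 3) (.node (nat_lit 1) (.leaf (nat_lit 16384) [nat_lit 240, nat_lit 48, nat_lit 240]) (.node (nat_lit 2) (.leaf (nat_lit 15360) [nat_lit 216, nat_lit 48, nat_lit 216]) (.leaf (nat_lit 12288) [nat_lit 144, nat_lit 48, nat_lit 144]))) (.node (nat_lit 5) (.node (nat_lit 4) (.leaf (nat_lit 14336) [nat_lit 192, nat_lit 48, nat_lit 192]) (.leaf (nat_lit 10240) [nat_lit 96, nat_lit 48, nat_lit 96])) (.node (nat_lit 6) (.leaf (nat_lit 13312) [nat_lit 168, nat_lit 48, nat_lit 168]) (.node (nat_lit 7) (.leaf (nat_lit 11264) [nat_lit 120, nat_lit 48, nat_lit 120]) (.leaf (nat_lit 9216) [nat_lit 72, nat_lit 48, nat_lit 72])))))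
noncomputable def r0 : WT := (.leaf (nat_lit 49186) [nat_lit 120, nat_lit 96, nat_lit 144, nat_lit 120, nat_lit 168, nat_lit 144, nat_lit 192, nat_lit 96, nat_lit 72, nat_lit 120, nat_lit 96, nat_lit 192, nat_lit 240, nat_lit 144, nat_lit 120, nat_lit 96, nat_lit 168, nat_lit 144, nat_lit 240, nat_lit 72, nat_lit 120, nat_lit 144, nat_lit 168, nat_lit 96, nat_lit 120, nat_lit 144, nat_lit 240, nat_lit 192, nat_lit 96])
noncomputable def r1 : WT := (.leaf (nat_lit 49166) [nat_lit 120, nat_lit 144, nat_lit 168, nat_lit 96, nat_lit 120, nat_lit 144, nat_lit 240, nat_lit 192, nat_lit 96, nat_lit 72, nat_lit 120, nat_lit 96, nat_lit 144, nat_lit 120, nat_lit 168, nat_lit 144, nat_lit 192, nat_lit 96, nat_lit 72, nat_lit 120, nat_lit 96, nat_lit 192, nat_lit 240, nat_lit 144, nat_lit 120, nat_lit 96, nat_lit 168, nat_lit 144, nat_lit 240])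
noncomputable def r2 : WT := (.leaf (nat_lit 49204) [nat_lit 120, nat_lit 96, nat_lit 192, nat_lit 240, nat_lit 144, nat_lit 120, nat_lit 96, nat_lit 168, nat_lit 144, nat_lit 240, nat_lit 72, nat_lit 120, nat_lit 144, nat_lit 168, nat_lit 96, nat_lit 120, nat_lit 144, nat_lit 240, nat_lit 192, nat_lit 96, nat_lit 72, nat_lit 120, nat_lit 96, nat_lit 144, nat_lit 120, nat_lit 168, nat_lit 144, nat_lit 192, nat_lit 96])
noncomputable def r3 : WT := (.leaf (nat_lit 49159) [nat_lit 96, nat_lit 192, nat_lit 144, nat_lit 168, nat_lit 120, nat_lit 144, nat_lit 96, nat_lit 120, nat_lit 72, nat_lit 96, nat_lit 192, nat_lit 240, nat_lit 144, nat_lit 120, nat_lit 96, nat_lit 168, nat_lit 144, nat_lit 120, nat_lit 72, nat_lit 240, nat_lit 144, nat_lit 168, nat_lit 96, nat_lit 120, nat_lit 144, nat_lit 240, nat_lit 192, nat_lit 96, nat_lit 120])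
noncomputable def r4 : WT := (.leaf (nat_lit 49177) [nat_lit 96, nat_lit 192, nat_lit 240, nat_lit 144, nat_lit 120, nat_lit 96, nat_lit 168, nat_lit 144, nat_lit 120, nat_lit 72, nat_lit 240, nat_lit 144, nat_lit 168, nat_lit 96, nat_lit 120, nat_lit 144, nat_lit 240, nat_lit 192, nat_lit 96, nat_lit 120, nat_lit 72, nat_lit 96, nat_lit 192, nat_lit 144, nat_lit 168, nat_lit 120, nat_lit 144, nat_lit 96, nat_lit 120])
noncomputable def r5 : WT := (.leaf (nat_lit 49197) [nat_lit 240, nat_lit 144, nat_lit 168, nat_lit 96, nat_lit 120, nat_lit 144, nat_lit 240, nat_lit 192, nat_lit 96, nat_lit 120, nat_lit 72, nat_lit 96, nat_lit 192, nat_lit 144, nat_lit 168, nat_lit 120, nat_lit 144, nat_lit 96, nat_lit 120, nat_lit 72, nat_lit 96, nat_lit 192, nat_lit 240, nat_lit 144, nat_lit 120, nat_lit 96, nat_lit 168, nat_lit 144, nat_lit 120])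
noncomputable def r6 : WT := (.node (nat_lit 13) r4 r5)
noncomputable def r7 : WT := (.leaf (nat_lit 46092) [nat_lit 216, nat_lit 192, nat_lit 96, nat_lit 120, nat_lit 144, nat_lit 168, nat_lit 72, nat_lit 216, nat_lit 192, nat_lit 96, nat_lit 120, nat_lit 144, nat_lit 168, nat_lit 72, nat_lit 216, nat_lit 192, nat_lit 96, nat_lit 120, nat_lit 144, nat_lit 168, nat_lit 72, nat_lit 216, nat_lit 192, nat_lit 96, nat_lit 120, nat_lit 144, nat_lit 168, nat_lit 72, nat_lit 216, nat_lit 192, nat_lit 96, nat_lit 120, nat_lit 144, nat_lit 168, nat_lit 72, nat_lit 216, nat_lit 192, nat_lit 96, nat_lit 120, nat_lit 144, nat_lit 168, nat_lit 72, nat_lit 216, nat_lit 192, nat_lit 96, nat_lit 120, nat_lit 144, nat_lit 168, nat_lit 72, nat_lit 216, nat_lit 192, nat_lit 96, nat_lit 120, nat_lit 144, nat_lit 168, nat_lit 72, nat_lit 216, nat_lit 192, nat_lit 96, nat_lit 120, nat_lit 144, nat_lit 168])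
noncomputable def r8 : WT := (.leaf (nat_lit 46081) [nat_lit 168, nat_lit 144, nat_lit 120, nat_lit 96, nat_lit 192, nat_lit 216, nat_lit 72, nat_lit 168, nat_lit 144, nat_lit 120, nat_lit 96, nat_lit 192, nat_lit 216, nat_lit 72, nat_lit 168, nat_lit 144, nat_lit 120, nat_lit 96, nat_lit 192, nat_lit 216, nat_lit 72, nat_lit 168, nat_lit 144, nat_lit 120, nat_lit 96, nat_lit 192, nat_lit 216, nat_lit 72, nat_lit 168, nat_lit 144, nat_lit 120, nat_lit 96, nat_lit 192, nat_lit 216, nat_lit 72, nat_lit 168, nat_lit 144, nat_lit 120, nat_lit 96, nat_lit 192, nat_lit 216, nat_lit 72, nat_lit 168, nat_lit 144, nat_lit 120, nat_lit 96, nat_lit 192, nat_lit 216, nat_lit 72, nat_lit 168, nat_lit 144, nat_lit 120, nat_lit 96, nat_lit 192, nat_lit 216, nat_lit 72, nat_lit 168, nat_lit 144, nat_lit 120, nat_lit 96, nat_lit 192, nat_lit 216])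
noncomputable def r9 : WT := (.node (nat_lit 15) r7 r8)
noncomputable def r10 : WT := (.node (nat_lit 8) (.leaf (nat_lit 17408) [nat_lit 96, nat_lit 72, nat_lit 96, nat_lit 72, nat_lit 96]) (.node (nat_lit 10) (.node (nat_lit 9) r0 r1) (.node (nat_lit 12) (.node (nat_lit 11) r2 r3) (.node (nat_lit 14) r6 r9))))
noncomputable def w1 : WT := (.node (nat_lit 1) (.leaf (nat_lit 1024) [nat_lit 72]) (.node (nat_lit 4) (.node (nat_lit 2) (.leaf (nat_lit 23552) [nat_lit 240, nat_lit 72, nat_lit 240]) (.node (nat_lit 3) (.leaf (nat_lit 22528) [nat_lit 216, nat_lit 72, nat_lit 216]) (.leaf (nat_lit 19456) [nat_lit 144, nat_lit 72, nat_lit 144]))) (.node (nat_lit 6) (.node (nat_lit 5) (.leaf (nat_lit 21504) [nat_lit 192, nat_lit 72, nat_lit 192]) (.leaf (nat_lit 20480) [nat_lit 168, nat_lit 72, nat_lit 168])) (.node (nat_lit 7) (.leaf (nat_lit 18432) [nat_lit 120, nat_lit 72, nat_lit 120]) r10))))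
noncomputable def r11 : WT := (.leaf (nat_lit 50184) [nat_lit 240, nat_lit 216, nat_lit 120, nat_lit 144, nat_lit 240, nat_lit 192, nat_lit 216, nat_lit 96, nat_lit 120, nat_lit 144, nat_lit 240, nat_lit 192, nat_lit 96, nat_lit 120, nat_lit 144, nat_lit 216, nat_lit 192, nat_lit 96, nat_lit 120, nat_lit 240, nat_lit 144, nat_lit 216, nat_lit 192])
noncomputable def r12 : WT := (.leaf (nat_lit 50189) [nat_lit 192, nat_lit 240, nat_lit 144, nat_lit 120, nat_lit 96, nat_lit 216, nat_lit 192, nat_lit 240, nat_lit 144, nat_lit 120, nat_lit 216, nat_lit 240, nat_lit 96, nat_lit 192, nat_lit 216, nat_lit 144, nat_lit 240, nat_lit 120, nat_lit 96, nat_lit 192, nat_lit 216, nat_lit 144, nat_lit 120])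
noncomputable def r13 : WT := (.leaf (nat_lit 50179) [nat_lit 192, nat_lit 216, nat_lit 144, nat_lit 120, nat_lit 96, nat_lit 192, nat_lit 240, nat_lit 144, nat_lit 120, nat_lit 96, nat_lit 216, nat_lit 192, nat_lit 240, nat_lit 144, nat_lit 120, nat_lit 216, nat_lit 240, nat_lit 96, nat_lit 192, nat_lit 216, nat_lit 144, nat_lit 240, nat_lit 120])
noncomputable def r14 : WT := (.leaf (nat_lit 50199) [nat_lit 216, nat_lit 192, nat_lit 240, nat_lit 144, nat_lit 120, nat_lit 216, nat_lit 240, nat_lit 96, nat_lit 192, nat_lit 216, nat_lit 144, nat_lit 240, nat_lit 120, nat_lit 96, nat_lit 192, nat_lit 216, nat_lit 144, nat_lit 120, nat_lit 96, nat_lit 192, nat_lit 240, nat_lit 144, nat_lit 120])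
noncomputable def r15 : WT := (.leaf (nat_lit 50210) [nat_lit 120, nat_lit 144, nat_lit 216, nat_lit 192, nat_lit 96, nat_lit 120, nat_lit 240, nat_lit 144, nat_lit 216, nat_lit 192, nat_lit 96, nat_lit 240, nat_lit 216, nat_lit 120, nat_lit 144, nat_lit 240, nat_lit 192, nat_lit 216, nat_lit 96, nat_lit 120, nat_lit 144, nat_lit 240, nat_lit 192])
noncomputable def r16 : WT := (.leaf (nat_lit 49161) [nat_lit 192, nat_lit 144, nat_lit 168, nat_lit 120, nat_lit 144, nat_lit 96, nat_lit 120, nat_lit 72, nat_lit 96, nat_lit 192, nat_lit 240, nat_lit 144, nat_lit 120, nat_lit 96, nat_lit 168, nat_lit 144, nat_lit 120, nat_lit 72, nat_lit 240, nat_lit 144, nat_lit 168, nat_lit 96, nat_lit 120, nat_lit 144, nat_lit 240, nat_lit 192, nat_lit 96, nat_lit 120, nat_lit 72])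
noncomputable def r17 : WT := (.node (nat_lit 13) r15 r16)
noncomputable def r18 : WT := (.leaf (nat_lit 49190) [nat_lit 144, nat_lit 120, nat_lit 168, nat_lit 144, nat_lit 192, nat_lit 96, nat_lit 72, nat_lit 120, nat_lit 96, nat_lit 192, nat_lit 240, nat_lit 144, nat_lit 120, nat_lit 96, nat_lit 168, nat_lit 144, nat_lit 240, nat_lit 72, nat_lit 120, nat_lit 144, nat_lit 168, nat_lit 96, nat_lit 120, nat_lit 144, nat_lit 240, nat_lit 192, nat_lit 96, nat_lit 72, nat_lit 120])
noncomputable def r19 : WT := (.leaf (nat_lit 49184) [nat_lit 72, nat_lit 120, nat_lit 96, nat_lit 144, nat_lit 120, nat_lit 168, nat_lit 144, nat_lit 192, nat_lit 96, nat_lit 72, nat_lit 120, nat_lit 96, nat_lit 192, nat_lit 240, nat_lit 144, nat_lit 120, nat_lit 96, nat_lit 168, nat_lit 144, nat_lit 240, nat_lit 72, nat_lit 120, nat_lit 144, nat_lit 168, nat_lit 96, nat_lit 120, nat_lit 144, nat_lit 240, nat_lit 192])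
noncomputable def r20 : WT := (.node (nat_lit 15) r18 r19)
noncomputable def r21 : WT := (.leaf (nat_lit 49202) [nat_lit 72, nat_lit 120, nat_lit 96, nat_lit 192, nat_lit 240, nat_lit 144, nat_lit 120, nat_lit 96, nat_lit 168, nat_lit 144, nat_lit 240, nat_lit 72, nat_lit 120, nat_lit 144, nat_lit 168, nat_lit 96, nat_lit 120, nat_lit 144, nat_lit 240, nat_lit 192, nat_lit 96, nat_lit 72, nat_lit 120, nat_lit 96, nat_lit 144, nat_lit 120, nat_lit 168, nat_lit 144, nat_lit 192])
noncomputable def r22 : WT := (.leaf (nat_lit 49179) [nat_lit 192, nat_lit 240, nat_lit 144, nat_lit 120, nat_lit 96, nat_lit 168, nat_lit 144, nat_lit 120, nat_lit 72, nat_lit 240, nat_lit 144, nat_lit 168, nat_lit 96, nat_lit 120, nat_lit 144, nat_lit 240, nat_lit 192, nat_lit 96, nat_lit 120, nat_lit 72, nat_lit 96, nat_lit 192, nat_lit 144, nat_lit 168, nat_lit 120, nat_lit 144, nat_lit 96, nat_lit 120, nat_lit 72])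
noncomputable def r23 : WT := (.leaf (nat_lit 50200) [nat_lit 120, nat_lit 144, nat_lit 240, nat_lit 192, nat_lit 96, nat_lit 120, nat_lit 144, nat_lit 216, nat_lit 192, nat_lit 96, nat_lit 120, nat_lit 240, nat_lit 144, nat_lit 216, nat_lit 192, nat_lit 96, nat_lit 240, nat_lit 216, nat_lit 120, nat_lit 144, nat_lit 240, nat_lit 192, nat_lit 216])
noncomputable def r24 : WT := (.leaf (nat_lit 46084) [nat_lit 120, nat_lit 144, nat_lit 168, nat_lit 72, nat_lit 216, nat_lit 192, nat_lit 96, nat_lit 120, nat_lit 144, nat_lit 168, nat_lit 72, nat_lit 216, nat_lit 192, nat_lit 96, nat_lit 120, nat_lit 144, nat_lit 168, nat_lit 72, nat_lit 216, nat_lit 192, nat_lit 96, nat_lit 120, nat_lit 144, nat_lit 168, nat_lit 72, nat_lit 216, nat_lit 192, nat_lit 96, nat_lit 120, nat_lit 144, nat_lit 168, nat_lit 72, nat_lit 216, nat_lit 192, nat_lit 96, nat_lit 120, nat_lit 144, nat_lit 168, nat_lit 72, nat_lit 216, nat_lit 192, nat_lit 96, nat_lit 120, nat_lit 144, nat_lit 168, nat_lit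 72, nat_lit 216, nat_lit 192, nat_lit 96, nat_lit 120, nat_lit 144, nat_lit 168, nat_lit 72, nat_lit 216, nat_lit 192, nat_lit 96, nat_lit 120, nat_lit 144, nat_lit 168, nat_lit 72, nat_lit 216, nat_lit 192])
noncomputable def r25 : WT := (.node (nat_lit 18) (.node (nat_lit 17) r21 r22) (.node (nat_lit 19) r23 r24))
noncomputable def r26 : WT := (.leaf (nat_lit 49158) [nat_lit 168, nat_lit 144, nat_lit 240, nat_lit 72, nat_lit 120, nat_lit 144, nat_lit 168, nat_lit 96, nat_lit 120, nat_lit 144, nat_lit 240, nat_lit 192, nat_lit 96, nat_lit 72, nat_lit 120, nat_lit 96, nat_lit 144, nat_lit 120, nat_lit 168, nat_lit 144, nat_lit 192, nat_lit 96, nat_lit 72, nat_lit 120, nat_lit 96, nat_lit 192, nat_lit 240, nat_lit 144, nat_lit 120])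
noncomputable def r27 : WT := (.leaf (nat_lit 50220) [nat_lit 120, nat_lit 240, nat_lit 144, nat_lit 216, nat_lit 192, nat_lit 96, nat_lit 240, nat_lit 216, nat_lit 120, nat_lit 144, nat_lit 240, nat_lit 192, nat_lit 216, nat_lit 96, nat_lit 120, nat_lit 144, nat_lit 240, nat_lit 192, nat_lit 96, nat_lit 120, nat_lit 144, nat_lit 216, nat_lit 192])
noncomputable def r28 : WT := (.leaf (nat_lit 46089) [nat_lit 192, nat_lit 216, nat_lit 72, nat_lit 168, nat_lit 144, nat_lit 120, nat_lit 96, nat_lit 192, nat_lit 216, nat_lit 72, nat_lit 168, nat_lit 144, nat_lit 120, nat_lit 96, nat_lit 192, nat_lit 216, nat_lit 72, nat_lit 168, nat_lit 144, nat_lit 120, nat_lit 96, nat_lit 192, nat_lit 216, nat_lit 72, nat_lit 168, nat_lit 144, nat_lit 120, nat_lit 96, nat_lit 192, nat_lit 216, nat_lit 72, nat_lit 168, nat_lit 144, nat_lit 120, nat_lit 96, nat_lit 192, nat_lit 216, nat_lit 72, nat_lit 168, nat_lit 144, nat_lit 120, nat_lit 96, nat_lit 192, nat_lit 216, nat_lit 72, nat_lit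 168, nat_lit 144, nat_lit 120, nat_lit 96, nat_lit 192, nat_lit 216, nat_lit 72, nat_lit 168, nat_lit 144, nat_lit 120, nat_lit 96, nat_lit 192, nat_lit 216, nat_lit 72, nat_lit 168, nat_lit 144, nat_lit 120])
noncomputable def r29 : WT := (.leaf (nat_lit 47104) [nat_lit 120, nat_lit 144, nat_lit 240, nat_lit 216, nat_lit 192, nat_lit 216, nat_lit 240, nat_lit 144, nat_lit 120, nat_lit 96, nat_lit 120, nat_lit 144, nat_lit 240, nat_lit 216, nat_lit 192, nat_lit 216, nat_lit 240, nat_lit 144, nat_lit 120, nat_lit 96, nat_lit 120, nat_lit 144, nat_lit 240, nat_lit 216, nat_lit 192, nat_lit 216, nat_lit 240, nat_lit 144, nat_lit 120])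
noncomputable def r30 : WT := (.leaf (nat_lit 49208) [nat_lit 192, nat_lit 240, nat_lit 144, nat_lit 120, nat_lit 96, nat_lit 168, nat_lit 144, nat_lit 240, nat_lit 72, nat_lit 120, nat_lit 144, nat_lit 168, nat_lit 96, nat_lit 120, nat_lit 144, nat_lit 240, nat_lit 192, nat_lit 96, nat_lit 72, nat_lit 120, nat_lit 96, nat_lit 144, nat_lit 120, nat_lit 168, nat_lit 144, nat_lit 192, nat_lit 96, nat_lit 72, nat_lit 120])
noncomputable def r31 : WT := (.leaf (nat_lit 50215) [nat_lit 192, nat_lit 216, nat_lit 144, nat_lit 240, nat_lit 120, nat_lit 96, nat_lit 192, nat_lit 216, nat_lit 144, nat_lit 120, nat_lit 96, nat_lit 192, nat_lit 240, nat_lit 144, nat_lit 120, nat_lit 96, nat_lit 216, nat_lit 192, nat_lit 240, nat_lit 144, nat_lit 120, nat_lit 216, nat_lit 240])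
noncomputable def r32 : WT := (.leaf (nat_lit 49155) [nat_lit 120, nat_lit 72, nat_lit 96, nat_lit 192, nat_lit 144, nat_lit 168, nat_lit 120, nat_lit 144, nat_lit 96, nat_lit 120, nat_lit 72, nat_lit 96, nat_lit 192, nat_lit 240, nat_lit 144, nat_lit 120, nat_lit 96, nat_lit 168, nat_lit 144, nat_lit 120, nat_lit 72, nat_lit 240, nat_lit 144, nat_lit 168, nat_lit 96, nat_lit 120, nat_lit 144, nat_lit 240, nat_lit 192])
noncomputable def r33 : WT := (.leaf (nat_lit 49173) [nat_lit 120, nat_lit 72, nat_lit 96, nat_lit 192, nat_lit 240, nat_lit 144, nat_lit 120, nat_lit 96, nat_lit 168, nat_lit 144, nat_lit 120, nat_lit 72, nat_lit 240, nat_lit 144, nat_lit 168, nat_lit 96, nat_lit 120, nat_lit 144, nat_lit 240, nat_lit 192, nat_lit 96, nat_lit 120, nat_lit 72, nat_lit 96, nat_lit 192, nat_lit 144, nat_lit 168, nat_lit 120, nat_lit 144])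
noncomputable def r34 : WT := (.leaf (nat_lit 49205) [nat_lit 120, nat_lit 144, nat_lit 240, nat_lit 192, nat_lit 96, nat_lit 120, nat_lit 72, nat_lit 96, nat_lit 192, nat_lit 144, nat_lit 168, nat_lit 120, nat_lit 144, nat_lit 96, nat_lit 120, nat_lit 72, nat_lit 96, nat_lit 192, nat_lit 240, nat_lit 144, nat_lit 120, nat_lit 96, nat_lit 168, nat_lit 144, nat_lit 120, nat_lit 72, nat_lit 240, nat_lit 144, nat_lit 168])
noncomputable def r35 : WT := (.node (nat_lit 23) (.node (nat_lit 21) r26 (.node (nat_lit 22) r27 r28)) (.node (nat_lit 25) (.node (nat_lit 24) r29 r30) (.node (nat_lit 27) (.node (nat_lit 26) r31 r32) (.node (nat_lit 28) r33 r34))))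
noncomputable def r36 : WT := (.node (nat_lit 8) (.leaf (nat_lit 17410) [nat_lit 72, nat_lit 96, nat_lit 72, nat_lit 96, nat_lit 72]) (.node (nat_lit 12) (.node (nat_lit 10) (.node (nat_lit 9) r11 r12) (.node (nat_lit 11) r13 r14)) (.node (nat_lit 16) (.node (nat_lit 14) r17 r20) (.node (nat_lit 20) r25 r35))))
noncomputable def w2 : WT := (.node (nat_lit 1) (.leaf (nat_lit 2048) [nat_lit 96]) (.node (nat_lit 4) (.node (nat_lit 2) (.leaf (nat_lit 29696) [nat_lit 240, nat_lit 96, nat_lit 240]) (.node (nat_lit 3) (.leaf (nat_lit 28672) [nat_lit 216, nat_lit 96, nat_lit 216]) (.leaf (nat_lit 25600) [nat_lit 144, nat_lit 96, nat_lit 144]))) (.node (nat_lit 6) (.node (nat_lit 5) (.leaf (nat_lit 26624) [nat_lit 168, nat_lit 96, nat_lit 168]) (.leaf (nat_lit 27648) [nat_lit 192, nat_lit 96, nat_lit 192, nat_lit 96, nat_lit 192])) (.node (nat_lit 7) (.leaf (nat_lit 24576) [nat_lit 120, nat_lit 96, nat_lit 120, nat_lit 96, nat_lit 120]) r36))))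
noncomputable def r37 : WT := (.leaf (nat_lit 50187) [nat_lit 96, nat_lit 192, nat_lit 240, nat_lit 144, nat_lit 120, nat_lit 96, nat_lit 216, nat_lit 192, nat_lit 240, nat_lit 144, nat_lit 120, nat_lit 216, nat_lit 240, nat_lit 96, nat_lit 192, nat_lit 216, nat_lit 144, nat_lit 240, nat_lit 120, nat_lit 96, nat_lit 192, nat_lit 216, nat_lit 144])
noncomputable def r38 : WT := (.leaf (nat_lit 50212) [nat_lit 144, nat_lit 216, nat_lit 192, nat_lit 96, nat_lit 120, nat_lit 240, nat_lit 144, nat_lit 216, nat_lit 192, nat_lit 96, nat_lit 240, nat_lit 216, nat_lit 120, nat_lit 144, nat_lit 240, nat_lit 192, nat_lit 216, nat_lit 96, nat_lit 120, nat_lit 144, nat_lit 240, nat_lit 192, nat_lit 96])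
noncomputable def r39 : WT := (.leaf (nat_lit 50202) [nat_lit 144, nat_lit 240, nat_lit 192, nat_lit 96, nat_lit 120, nat_lit 144, nat_lit 216, nat_lit 192, nat_lit 96, nat_lit 120, nat_lit 240, nat_lit 144, nat_lit 216, nat_lit 192, nat_lit 96, nat_lit 240, nat_lit 216, nat_lit 120, nat_lit 144, nat_lit 240, nat_lit 192, nat_lit 216, nat_lit 96])
noncomputable def r40 : WT := (.leaf (nat_lit 49195) [nat_lit 72, nat_lit 240, nat_lit 144, nat_lit 168, nat_lit 96, nat_lit 120, nat_lit 144, nat_lit 240, nat_lit 192, nat_lit 96, nat_lit 120, nat_lit 72, nat_lit 96, nat_lit 192, nat_lit 144, nat_lit 168, nat_lit 120, nat_lit 144, nat_lit 96, nat_lit 120, nat_lit 72, nat_lit 96, nat_lit 192, nat_lit 240, nat_lit 144, nat_lit 120, nat_lit 96, nat_lit 168, nat_lit 144])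
noncomputable def r41 : WT := (.leaf (nat_lit 50197) [nat_lit 96, nat_lit 216, nat_lit 192, nat_lit 240, nat_lit 144, nat_lit 120, nat_lit 216, nat_lit 240, nat_lit 96, nat_lit 192, nat_lit 216, nat_lit 144, nat_lit 240, nat_lit 120, nat_lit 96, nat_lit 192, nat_lit 216, nat_lit 144, nat_lit 120, nat_lit 96, nat_lit 192, nat_lit 240, nat_lit 144])
noncomputable def r42 : WT := (.node (nat_lit 12) r40 r41)
noncomputable def r43 : WT := (.leaf (nat_lit 49194) [nat_lit 168, nat_lit 144, nat_lit 192, nat_lit 96, nat_lit 72, nat_lit 120, nat_lit 96, nat_lit 192, nat_lit 240, nat_lit 144, nat_lit 120, nat_lit 96, nat_lit 168, nat_lit 144, nat_lit 240, nat_lit 72, nat_lit 120, nat_lit 144, nat_lit 168, nat_lit 96, nat_lit 120, nat_lit 144, nat_lit 240, nat_lit 192, nat_lit 96, nat_lit 72, nat_lit 120, nat_lit 96, nat_lit 144])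
noncomputable def r44 : WT := (.leaf (nat_lit 50222) [nat_lit 240, nat_lit 144, nat_lit 216, nat_lit 192, nat_lit 96, nat_lit 240, nat_lit 216, nat_lit 120, nat_lit 144, nat_lit 240, nat_lit 192, nat_lit 216, nat_lit 96, nat_lit 120, nat_lit 144, nat_lit 240, nat_lit 192, nat_lit 96, nat_lit 120, nat_lit 144, nat_lit 216, nat_lit 192, nat_lit 96])
noncomputable def r45 : WT := (.node (nat_lit 14) r43 r44)
noncomputable def r46 : WT := (.leaf (nat_lit 49157) [nat_lit 72, nat_lit 96, nat_lit 192, nat_lit 144, nat_lit 168, nat_lit 120, nat_lit 144, nat_lit 96, nat_lit 120, nat_lit 72, nat_lit 96, nat_lit 192, nat_lit 240, nat_lit 144, nat_lit 120, nat_lit 96, nat_lit 168, nat_lit 144, nat_lit 120, nat_lit 72, nat_lit 240, nat_lit 144, nat_lit 168, nat_lit 96, nat_lit 120, nat_lit 144, nat_lit 240, nat_lit 192, nat_lit 96])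
noncomputable def r47 : WT := (.leaf (nat_lit 48182) [nat_lit 192, nat_lit 216, nat_lit 192, nat_lit 240, nat_lit 144, nat_lit 120, nat_lit 168, nat_lit 144, nat_lit 216, nat_lit 240, nat_lit 144, nat_lit 120, nat_lit 216, nat_lit 168, nat_lit 192, nat_lit 216, nat_lit 144, nat_lit 240, nat_lit 216, nat_lit 144, nat_lit 168, nat_lit 120, nat_lit 144, nat_lit 240, nat_lit 48, nat_lit 120, nat_lit 144, nat_lit 120, nat_lit 168, nat_lit 144])
noncomputable def r48 : WT := (.leaf (nat_lit 49156) [nat_lit 96, nat_lit 168, nat_lit 144, nat_lit 240, nat_lit 72, nat_lit 120, nat_lit 144, nat_lit 168, nat_lit 96, nat_lit 120, nat_lit 144, nat_lit 240, nat_lit 192, nat_lit 96, nat_lit 72, nat_lit 120, nat_lit 96, nat_lit 144, nat_lit 120, nat_lit 168, nat_lit 144, nat_lit 192, nat_lit 96, nat_lit 72, nat_lit 120, nat_lit 96, nat_lit 192, nat_lit 240, nat_lit 144])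
noncomputable def r49 : WT := (.node (nat_lit 16) r46 (.node (nat_lit 17) r47 r48))
noncomputable def r50 : WT := (.leaf (nat_lit 50177) [nat_lit 96, nat_lit 192, nat_lit 216, nat_lit 144, nat_lit 120, nat_lit 96, nat_lit 192, nat_lit 240, nat_lit 144, nat_lit 120, nat_lit 96, nat_lit 216, nat_lit 192, nat_lit 240, nat_lit 144, nat_lit 120, nat_lit 216, nat_lit 240, nat_lit 96, nat_lit 192, nat_lit 216, nat_lit 144, nat_lit 240])
noncomputable def r51 : WT := (.leaf (nat_lit 48144) [nat_lit 216, nat_lit 168, nat_lit 192, nat_lit 216, nat_lit 144, nat_lit 240, nat_lit 216, nat_lit 144, nat_lit 168, nat_lit 120, nat_lit 144, nat_lit 240, nat_lit 48, nat_lit 120, nat_lit 144, nat_lit 120, nat_lit 168, nat_lit 144, nat_lit 120, nat_lit 192, nat_lit 216, nat_lit 192, nat_lit 240, nat_lit 144, nat_lit 120, nat_lit 168, nat_lit 144, nat_lit 216, nat_lit 240, nat_lit 144])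
noncomputable def r52 : WT := (.leaf (nat_lit 46087) [nat_lit 96, nat_lit 192, nat_lit 216, nat_lit 72, nat_lit 168, nat_lit 144, nat_lit 120, nat_lit 96, nat_lit 192, nat_lit 216, nat_lit 72, nat_lit 168, nat_lit 144, nat_lit 120, nat_lit 96, nat_lit 192, nat_lit 216, nat_lit 72, nat_lit 168, nat_lit 144, nat_lit 120, nat_lit 96, nat_lit 192, nat_lit 216, nat_lit 72, nat_lit 168, nat_lit 144, nat_lit 120, nat_lit 96, nat_lit 192, nat_lit 216, nat_lit 72, nat_lit 168, nat_lit 144, nat_lit 120, nat_lit 96, nat_lit 192, nat_lit 216, nat_lit 72, nat_lit 168, nat_lit 144, nat_lit 120, nat_lit 96, nat_lit 192, nat_lit 216, nat_lit 72, nat_lit 168, nat_lit 144, nat_lit 120, nat_lit 96, nat_lit 192, nat_lit 216, nat_lit 72, nat_lit 168, nat_lit 144, nat_lit 120, nat_lit 96, nat_lit 192, nat_lit 216, nat_lit 72, nat_lit 168, nat_lit 144])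
noncomputable def r53 : WT := (.leaf (nat_lit 46086) [nat_lit 144, nat_lit 168, nat_lit 72, nat_lit 216, nat_lit 192, nat_lit 96, nat_lit 120, nat_lit 144, nat_lit 168, nat_lit 72, nat_lit 216, nat_lit 192, nat_lit 96, nat_lit 120, nat_lit 144, nat_lit 168, nat_lit 72, nat_lit 216, nat_lit 192, nat_lit 96, nat_lit 120, nat_lit 144, nat_lit 168, nat_lit 72, nat_lit 216, nat_lit 192, nat_lit 96, nat_lit 120, nat_lit 144, nat_lit 168, nat_lit 72, nat_lit 216, nat_lit 192, nat_lit 96, nat_lit 120, nat_lit 144, nat_lit 168, nat_lit 72, nat_lit 216, nat_lit 192, nat_lit 96, nat_lit 120, nat_lit 144, nat_lit 168, nat_lit 72, nat_lit 216, nat_lit 192, nat_lit 96, nat_lit 120, nat_lit 144, nat_lit 168, nat_lit 72, nat_lit 216, nat_lit 192, nat_lit 96, nat_lit 120, nat_lit 144, nat_lit 168, nat_lit 72, nat_lit 216, nat_lit 192, nat_lit 96])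
noncomputable def r54 : WT := (.leaf (nat_lit 49175) [nat_lit 72, nat_lit 96, nat_lit 192, nat_lit 240, nat_lit 144, nat_lit 120, nat_lit 96, nat_lit 168, nat_lit 144, nat_lit 120, nat_lit 72, nat_lit 240, nat_lit 144, nat_lit 168, nat_lit 96, nat_lit 120, nat_lit 144, nat_lit 240, nat_lit 192, nat_lit 96, nat_lit 120, nat_lit 72, nat_lit 96, nat_lit 192, nat_lit 144, nat_lit 168, nat_lit 120, nat_lit 144, nat_lit 96])
noncomputable def r55 : WT := (.leaf (nat_lit 47122) [nat_lit 96, nat_lit 120, nat_lit 144, nat_lit 240, nat_lit 216, nat_lit 192, nat_lit 216, nat_lit 240, nat_lit 144, nat_lit 120, nat_lit 96, nat_lit 120, nat_lit 144, nat_lit 240, nat_lit 216, nat_lit 192, nat_lit 216, nat_lit 240, nat_lit 144, nat_lit 120, nat_lit 96, nat_lit 120, nat_lit 144, nat_lit 240, nat_lit 216, nat_lit 192, nat_lit 216, nat_lit 240, nat_lit 144])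
noncomputable def r56 : WT := (.node (nat_lit 21) (.node (nat_lit 19) r50 (.node (nat_lit 20) r51 r52)) (.node (nat_lit 22) r53 (.node (nat_lit 23) r54 r55)))
noncomputable def r57 : WT := (.leaf (nat_lit 49169) [nat_lit 144, nat_lit 96, nat_lit 120, nat_lit 72, nat_lit 96, nat_lit 192, nat_lit 240, nat_lit 144, nat_lit 120, nat_lit 96, nat_lit 168, nat_lit 144, nat_lit 120, nat_lit 72, nat_lit 240, nat_lit 144, nat_lit 168, nat_lit 96, nat_lit 120, nat_lit 144, nat_lit 240, nat_lit 192, nat_lit 96, nat_lit 120, nat_lit 72, nat_lit 96, nat_lit 192, nat_lit 144, nat_lit 168])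
noncomputable def r58 : WT := (.leaf (nat_lit 50209) [nat_lit 216, nat_lit 240, nat_lit 96, nat_lit 192, nat_lit 216, nat_lit 144, nat_lit 240, nat_lit 120, nat_lit 96, nat_lit 192, nat_lit 216, nat_lit 144, nat_lit 120, nat_lit 96, nat_lit 192, nat_lit 240, nat_lit 144, nat_lit 120, nat_lit 96, nat_lit 216, nat_lit 192, nat_lit 240, nat_lit 144])
noncomputable def r59 : WT := (.leaf (nat_lit 49168) [nat_lit 144, nat_lit 168, nat_lit 96, nat_lit 120, nat_lit 144, nat_lit 240, nat_lit 192, nat_lit 96, nat_lit 72, nat_lit 120, nat_lit 96, nat_lit 144, nat_lit 120, nat_lit 168, nat_lit 144, nat_lit 192, nat_lit 96, nat_lit 72, nat_lit 120, nat_lit 96, nat_lit 192, nat_lit 240, nat_lit 144, nat_lit 120, nat_lit 96, nat_lit 168, nat_lit 144, nat_lit 240, nat_lit 72])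
noncomputable def r60 : WT := (.leaf (nat_lit 50190) [nat_lit 144, nat_lit 240, nat_lit 192, nat_lit 216, nat_lit 96, nat_lit 120, nat_lit 144, nat_lit 240, nat_lit 192, nat_lit 96, nat_lit 120, nat_lit 144, nat_lit 216, nat_lit 192, nat_lit 96, nat_lit 120, nat_lit 240, nat_lit 144, nat_lit 216, nat_lit 192, nat_lit 96, nat_lit 240, nat_lit 216])
noncomputable def r61 : WT := (.leaf (nat_lit 48135) [nat_lit 144, nat_lit 168, nat_lit 120, nat_lit 144, nat_lit 120, nat_lit 48, nat_lit 240, nat_lit 144, nat_lit 120, nat_lit 168, nat_lit 144, nat_lit 216, nat_lit 240, nat_lit 144, nat_lit 216, nat_lit 192, nat_lit 168, nat_lit 216, nat_lit 120, nat_lit 144, nat_lit 240, nat_lit 216, nat_lit 144, nat_lit 168, nat_lit 120, nat_lit 144, nat_lit 240, nat_lit 192, nat_lit 216, nat_lit 192])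
noncomputable def r62 : WT := (.leaf (nat_lit 48145) [nat_lit 48, nat_lit 240, nat_lit 144, nat_lit 120, nat_lit 168, nat_lit 144, nat_lit 216, nat_lit 240, nat_lit 144, nat_lit 216, nat_lit 192, nat_lit 168, nat_lit 216, nat_lit 120, nat_lit 144, nat_lit 240, nat_lit 216, nat_lit 144, nat_lit 168, nat_lit 120, nat_lit 144, nat_lit 240, nat_lit 192, nat_lit 216, nat_lit 192, nat_lit 120, nat_lit 144, nat_lit 168, nat_lit 120, nat_lit 144])
noncomputable def r63 : WT := (.leaf (nat_lit 48173) [nat_lit 144, nat_lit 240, nat_lit 216, nat_lit 144, nat_lit 168, nat_lit 120, nat_lit 144, nat_lit 240, nat_lit 192, nat_lit 216, nat_lit 192, nat_lit 120, nat_lit 144, nat_lit 168, nat_lit 120, nat_lit 144, nat_lit 120, nat_lit 48, nat_lit 240, nat_lit 144, nat_lit 120, nat_lit 168, nat_lit 144, nat_lit 216, nat_lit 240, nat_lit 144, nat_lit 216, nat_lit 192, nat_lit 168, nat_lit 216])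
noncomputable def r64 : WT := (.leaf (nat_lit 48185) [nat_lit 144, nat_lit 240, nat_lit 192, nat_lit 216, nat_lit 192, nat_lit 120, nat_lit 144, nat_lit 168, nat_lit 120, nat_lit 144, nat_lit 120, nat_lit 48, nat_lit 240, nat_lit 144, nat_lit 120, nat_lit 168, nat_lit 144, nat_lit 216, nat_lit 240, nat_lit 144, nat_lit 216, nat_lit 192, nat_lit 168, nat_lit 216, nat_lit 120, nat_lit 144, nat_lit 240, nat_lit 216, nat_lit 144, nat_lit 168])
noncomputable def r65 : WT := (.leaf (nat_lit 49176) [nat_lit 144, nat_lit 240, nat_lit 192, nat_lit 96, nat_lit 72, nat_lit 120, nat_lit 96, nat_lit 144, nat_lit 120, nat_lit 168, nat_lit 144, nat_lit 192, nat_lit 96, nat_lit 72, nat_lit 120, nat_lit 96, nat_lit 192, nat_lit 240, nat_lit 144, nat_lit 120, nat_lit 96, nat_lit 168, nat_lit 144, nat_lit 240, nat_lit 72, nat_lit 120, nat_lit 144, nat_lit 168, nat_lit 96])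
noncomputable def r66 : WT := (.leaf (nat_lit 48132) [nat_lit 168, nat_lit 144, nat_lit 216, nat_lit 240, nat_lit 144, nat_lit 120, nat_lit 216, nat_lit 168, nat_lit 192, nat_lit 216, nat_lit 144, nat_lit 240, nat_lit 216, nat_lit 144, nat_lit 168, nat_lit 120, nat_lit 144, nat_lit 240, nat_lit 48, nat_lit 120, nat_lit 144, nat_lit 120, nat_lit 168, nat_lit 144, nat_lit 120, nat_lit 192, nat_lit 216, nat_lit 192, nat_lit 240, nat_lit 144])
noncomputable def r67 : WT := (.leaf (nat_lit 48164) [nat_lit 144, nat_lit 240, nat_lit 48, nat_lit 120, nat_lit 144, nat_lit 120, nat_lit 168, nat_lit 144, nat_lit 120, nat_lit 192, nat_lit 216, nat_lit 192, nat_lit 240, nat_lit 144, nat_lit 120, nat_lit 168, nat_lit 144, nat_lit 216, nat_lit 240, nat_lit 144, nat_lit 120, nat_lit 216, nat_lit 168, nat_lit 192, nat_lit 216, nat_lit 144, nat_lit 240, nat_lit 216, nat_lit 144, nat_lit 168])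
noncomputable def r68 : WT := (.node (nat_lit 29) (.node (nat_lit 26) (.node (nat_lit 25) r57 r58) (.node (nat_lit 27) r59 (.node (nat_lit 28) r60 r61))) (.node (nat_lit 32) (.node (nat_lit 30) r62 (.node (nat_lit 31) r63 r64)) (.node (nat_lit 33) r65 (.node (nat_lit 34) r66 r67))))
noncomputable def r69 : WT := (.node (nat_lit 8) (.leaf (nat_lit 18434) [nat_lit 72, nat_lit 120, nat_lit 72]) (.node (nat_lit 13) (.node (nat_lit 10) (.node (nat_lit 9) r37 r38) (.node (nat_lit 11) r39 r42)) (.node (nat_lit 18) (.node (nat_lit 15) r45 r49) (.node (nat_lit 24) r56 r68))))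
noncomputable def w3 : WT := (.node (nat_lit 1) (.leaf (nat_lit 3072) [nat_lit 120]) (.node (nat_lit 4) (.node (nat_lit 2) (.leaf (nat_lit 34816) [nat_lit 240, nat_lit 120, nat_lit 240]) (.node (nat_lit 3) (.leaf (nat_lit 33792) [nat_lit 216, nat_lit 120, nat_lit 216]) (.leaf (nat_lit 30720) [nat_lit 144, nat_lit 120, nat_lit 144, nat_lit 120, nat_lit 144]))) (.node (nat_lit 6) (.node (nat_lit 5) (.leaf (nat_lit 32768) [nat_lit 192, nat_lit 120, nat_lit 192]) (.leaf (nat_lit 31744) [nat_lit 168, nat_lit 120, nat_lit 168])) (.node (nat_lit 7) (.leaf (nat_lit 24578) [nat_lit 96, nat_lit 120, nat_lit 96, nat_lit 120, nat_lit 96]) r69))))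
noncomputable def r70 : WT := (.leaf (nat_lit 50178) [nat_lit 216, nat_lit 192, nat_lit 96, nat_lit 240, nat_lit 216, nat_lit 120, nat_lit 144, nat_lit 240, nat_lit 192, nat_lit 216, nat_lit 96, nat_lit 120, nat_lit 144, nat_lit 240, nat_lit 192, nat_lit 96, nat_lit 120, nat_lit 144, nat_lit 216, nat_lit 192, nat_lit 96, nat_lit 120, nat_lit 240])
noncomputable def r71 : WT := (.leaf (nat_lit 50192) [nat_lit 240, nat_lit 192, nat_lit 216, nat_lit 96, nat_lit 120, nat_lit 144, nat_lit 240, nat_lit 192, nat_lit 96, nat_lit 120, nat_lit 144, nat_lit 216, nat_lit 192, nat_lit 96, nat_lit 120, nat_lit 240, nat_lit 144, nat_lit 216, nat_lit 192, nat_lit 96, nat_lit 240, nat_lit 216, nat_lit 120])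
noncomputable def r72 : WT := (.leaf (nat_lit 50195) [nat_lit 120, nat_lit 96, nat_lit 216, nat_lit 192, nat_lit 240, nat_lit 144, nat_lit 120, nat_lit 216, nat_lit 240, nat_lit 96, nat_lit 192, nat_lit 216, nat_lit 144, nat_lit 240, nat_lit 120, nat_lit 96, nat_lit 192, nat_lit 216, nat_lit 144, nat_lit 120, nat_lit 96, nat_lit 192, nat_lit 240])
noncomputable def r73 : WT := (.leaf (nat_lit 50204) [nat_lit 240, nat_lit 192, nat_lit 96, nat_lit 120, nat_lit 144, nat_lit 216, nat_lit 192, nat_lit 96, nat_lit 120, nat_lit 240, nat_lit 144, nat_lit 216, nat_lit 192, nat_lit 96, nat_lit 240, nat_lit 216, nat_lit 120, nat_lit 144, nat_lit 240, nat_lit 192, nat_lit 216, nat_lit 96, nat_lit 120])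
noncomputable def r74 : WT := (.node (nat_lit 11) r72 r73)
noncomputable def r75 : WT := (.leaf (nat_lit 50214) [nat_lit 216, nat_lit 192, nat_lit 96, nat_lit 120, nat_lit 240, nat_lit 144, nat_lit 216, nat_lit 192, nat_lit 96, nat_lit 240, nat_lit 216, nat_lit 120, nat_lit 144, nat_lit 240, nat_lit 192, nat_lit 216, nat_lit 96, nat_lit 120, nat_lit 144, nat_lit 240, nat_lit 192, nat_lit 96, nat_lit 120])
noncomputable def r76 : WT := (.leaf (nat_lit 48136) [nat_lit 216, nat_lit 240, nat_lit 144, nat_lit 120, nat_lit 216, nat_lit 168, nat_lit 192, nat_lit 216, nat_lit 144, nat_lit 240, nat_lit 216, nat_lit 144, nat_lit 168, nat_lit 120, nat_lit 144, nat_lit 240, nat_lit 48, nat_lit 120, nat_lit 144, nat_lit 120, nat_lit 168, nat_lit 144, nat_lit 120, nat_lit 192, nat_lit 216, nat_lit 192, nat_lit 240, nat_lit 144, nat_lit 120, nat_lit 168])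
noncomputable def r77 : WT := (.node (nat_lit 13) r75 r76)
noncomputable def r78 : WT := (.leaf (nat_lit 49201) [nat_lit 168, nat_lit 96, nat_lit 120, nat_lit 144, nat_lit 240, nat_lit 192, nat_lit 96, nat_lit 120, nat_lit 72, nat_lit 96, nat_lit 192, nat_lit 144, nat_lit 168, nat_lit 120, nat_lit 144, nat_lit 96, nat_lit 120, nat_lit 72, nat_lit 96, nat_lit 192, nat_lit 240, nat_lit 144, nat_lit 120, nat_lit 96, nat_lit 168, nat_lit 144, nat_lit 120, nat_lit 72, nat_lit 240])
noncomputable def r79 : WT := (.leaf (nat_lit 49170) [nat_lit 168, nat_lit 96, nat_lit 120, nat_lit 144, nat_lit 240, nat_lit 192, nat_lit 96, nat_lit 72, nat_lit 120, nat_lit 96, nat_lit 144, nat_lit 120, nat_lit 168, nat_lit 144, nat_lit 192, nat_lit 96, nat_lit 72, nat_lit 120, nat_lit 96, nat_lit 192, nat_lit 240, nat_lit 144, nat_lit 120, nat_lit 96, nat_lit 168, nat_lit 144, nat_lit 240, nat_lit 72, nat_lit 120])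
noncomputable def r80 : WT := (.leaf (nat_lit 49162) [nat_lit 240, nat_lit 72, nat_lit 120, nat_lit 144, nat_lit 168, nat_lit 96, nat_lit 120, nat_lit 144, nat_lit 240, nat_lit 192, nat_lit 96, nat_lit 72, nat_lit 120, nat_lit 96, nat_lit 144, nat_lit 120, nat_lit 168, nat_lit 144, nat_lit 192, nat_lit 96, nat_lit 72, nat_lit 120, nat_lit 96, nat_lit 192, nat_lit 240, nat_lit 144, nat_lit 120, nat_lit 96, nat_lit 168])
noncomputable def r81 : WT := (.leaf (nat_lit 49198) [nat_lit 192, nat_lit 96, nat_lit 72, nat_lit 120, nat_lit 96, nat_lit 192, nat_lit 240, nat_lit 144, nat_lit 120, nat_lit 96, nat_lit 168, nat_lit 144, nat_lit 240, nat_lit 72, nat_lit 120, nat_lit 144, nat_lit 168, nat_lit 96, nat_lit 120, nat_lit 144, nat_lit 240, nat_lit 192, nat_lit 96, nat_lit 72, nat_lit 120, nat_lit 96, nat_lit 144, nat_lit 120, nat_lit 168])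
noncomputable def r82 : WT := (.node (nat_lit 16) (.node (nat_lit 15) r78 r79) (.node (nat_lit 17) r80 r81))
noncomputable def r83 : WT := (.leaf (nat_lit 49192) [nat_lit 120, nat_lit 168, nat_lit 144, nat_lit 192, nat_lit 96, nat_lit 72, nat_lit 120, nat_lit 96, nat_lit 192, nat_lit 240, nat_lit 144, nat_lit 120, nat_lit 96, nat_lit 168, nat_lit 144, nat_lit 240, nat_lit 72, nat_lit 120, nat_lit 144, nat_lit 168, nat_lit 96, nat_lit 120, nat_lit 144, nat_lit 240, nat_lit 192, nat_lit 96, nat_lit 72, nat_lit 120, nat_lit 96])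
noncomputable def r84 : WT := (.leaf (nat_lit 48174) [nat_lit 120, nat_lit 168, nat_lit 144, nat_lit 120, nat_lit 192, nat_lit 216, nat_lit 192, nat_lit 240, nat_lit 144, nat_lit 120, nat_lit 168, nat_lit 144, nat_lit 216, nat_lit 240, nat_lit 144, nat_lit 120, nat_lit 216, nat_lit 168, nat_lit 192, nat_lit 216, nat_lit 144, nat_lit 240, nat_lit 216, nat_lit 144, nat_lit 168, nat_lit 120, nat_lit 144, nat_lit 240, nat_lit 48, nat_lit 120])
noncomputable def r85 : WT := (.leaf (nat_lit 48142) [nat_lit 120, nat_lit 216, nat_lit 168, nat_lit 192, nat_lit 216, nat_lit 144, nat_lit 240, nat_lit 216, nat_lit 144, nat_lit 168, nat_lit 120, nat_lit 144, nat_lit 240, nat_lit 48, nat_lit 120, nat_lit 144, nat_lit 120, nat_lit 168, nat_lit 144, nat_lit 120, nat_lit 192, nat_lit 216, nat_lit 192, nat_lit 240, nat_lit 144, nat_lit 120, nat_lit 168, nat_lit 144, nat_lit 216, nat_lit 240])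
noncomputable def r86 : WT := (.leaf (nat_lit 48166) [nat_lit 240, nat_lit 48, nat_lit 120, nat_lit 144, nat_lit 120, nat_lit 168, nat_lit 144, nat_lit 120, nat_lit 192, nat_lit 216, nat_lit 192, nat_lit 240, nat_lit 144, nat_lit 120, nat_lit 168, nat_lit 144, nat_lit 216, nat_lit 240, nat_lit 144, nat_lit 120, nat_lit 216, nat_lit 168, nat_lit 192, nat_lit 216, nat_lit 144, nat_lit 240, nat_lit 216, nat_lit 144, nat_lit 168, nat_lit 120])
noncomputable def r87 : WT := (.node (nat_lit 20) (.node (nat_lit 19) r83 r84) (.node (nat_lit 21) r85 r86))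
noncomputable def r88 : WT := (.leaf (nat_lit 49178) [nat_lit 240, nat_lit 192, nat_lit 96, nat_lit 72, nat_lit 120, nat_lit 96, nat_lit 144, nat_lit 120, nat_lit 168, nat_lit 144, nat_lit 192, nat_lit 96, nat_lit 72, nat_lit 120, nat_lit 96, nat_lit 192, nat_lit 240, nat_lit 144, nat_lit 120, nat_lit 96, nat_lit 168, nat_lit 144, nat_lit 240, nat_lit 72, nat_lit 120, nat_lit 144, nat_lit 168, nat_lit 96, nat_lit 120])
noncomputable def r89 : WT := (.leaf (nat_lit 49171) [nat_lit 96, nat_lit 120, nat_lit 72, nat_lit 96, nat_lit 192, nat_lit 240, nat_lit 144, nat_lit 120, nat_lit 96, nat_lit 168, nat_lit 144, nat_lit 120, nat_lit 72, nat_lit 240, nat_lit 144, nat_lit 168, nat_lit 96, nat_lit 120, nat_lit 144, nat_lit 240, nat_lit 192, nat_lit 96, nat_lit 120, nat_lit 72, nat_lit 96, nat_lit 192, nat_lit 144, nat_lit 168, nat_lit 120])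
noncomputable def r90 : WT := (.leaf (nat_lit 49193) [nat_lit 120, nat_lit 72, nat_lit 240, nat_lit 144, nat_lit 168, nat_lit 96, nat_lit 120, nat_lit 144, nat_lit 240, nat_lit 192, nat_lit 96, nat_lit 120, nat_lit 72, nat_lit 96, nat_lit 192, nat_lit 144, nat_lit 168, nat_lit 120, nat_lit 144, nat_lit 96, nat_lit 120, nat_lit 72, nat_lit 96, nat_lit 192, nat_lit 240, nat_lit 144, nat_lit 120, nat_lit 96, nat_lit 168])
noncomputable def r91 : WT := (.leaf (nat_lit 48163) [nat_lit 216, nat_lit 192, nat_lit 168, nat_lit 216, nat_lit 120, nat_lit 144, nat_lit 240, nat_lit 216, nat_lit 144, nat_lit 168, nat_lit 120, nat_lit 144, nat_lit 240, nat_lit 192, nat_lit 216, nat_lit 192, nat_lit 120, nat_lit 144, nat_lit 168, nat_lit 120, nat_lit 144, nat_lit 120, nat_lit 48, nat_lit 240, nat_lit 144, nat_lit 120, nat_lit 168, nat_lit 144, nat_lit 216, nat_lit 240])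
noncomputable def r92 : WT := (.leaf (nat_lit 48180) [nat_lit 120, nat_lit 192, nat_lit 216, nat_lit 192, nat_lit 240, nat_lit 144, nat_lit 120, nat_lit 168, nat_lit 144, nat_lit 216, nat_lit 240, nat_lit 144, nat_lit 120, nat_lit 216, nat_lit 168, nat_lit 192, nat_lit 216, nat_lit 144, nat_lit 240, nat_lit 216, nat_lit 144, nat_lit 168, nat_lit 120, nat_lit 144, nat_lit 240, nat_lit 48, nat_lit 120, nat_lit 144, nat_lit 120, nat_lit 168])
noncomputable def r93 : WT := (.leaf (nat_lit 50185) [nat_lit 120, nat_lit 96, nat_lit 192, nat_lit 240, nat_lit 144, nat_lit 120, nat_lit 96, nat_lit 216, nat_lit 192, nat_lit 240, nat_lit 144, nat_lit 120, nat_lit 216, nat_lit 240, nat_lit 96, nat_lit 192, nat_lit 216, nat_lit 144, nat_lit 240, nat_lit 120, nat_lit 96, nat_lit 192, nat_lit 216])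
noncomputable def r94 : WT := (.leaf (nat_lit 47120) [nat_lit 120, nat_lit 96, nat_lit 120, nat_lit 144, nat_lit 240, nat_lit 216, nat_lit 192, nat_lit 216, nat_lit 240, nat_lit 144, nat_lit 120, nat_lit 96, nat_lit 120, nat_lit 144, nat_lit 240, nat_lit 216, nat_lit 192, nat_lit 216, nat_lit 240, nat_lit 144, nat_lit 120, nat_lit 96, nat_lit 120, nat_lit 144, nat_lit 240, nat_lit 216, nat_lit 192, nat_lit 216, nat_lit 240])
noncomputable def r95 : WT := (.node (nat_lit 25) (.node (nat_lit 23) r88 (.node (nat_lit 24) r89 r90)) (.node (nat_lit 27) (.node (nat_lit 26) r91 r92) (.node (nat_lit 28) r93 r94)))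
noncomputable def r96 : WT := (.leaf (nat_lit 49165) [nat_lit 168, nat_lit 120, nat_lit 144, nat_lit 96, nat_lit 120, nat_lit 72, nat_lit 96, nat_lit 192, nat_lit 240, nat_lit 144, nat_lit 120, nat_lit 96, nat_lit 168, nat_lit 144, nat_lit 120, nat_lit 72, nat_lit 240, nat_lit 144, nat_lit 168, nat_lit 96, nat_lit 120, nat_lit 144, nat_lit 240, nat_lit 192, nat_lit 96, nat_lit 120, nat_lit 72, nat_lit 96, nat_lit 192])
noncomputable def r97 : WT := (.leaf (nat_lit 50207) [nat_lit 120, nat_lit 216, nat_lit 240, nat_lit 96, nat_lit 192, nat_lit 216, nat_lit 144, nat_lit 240, nat_lit 120, nat_lit 96, nat_lit 192, nat_lit 216, nat_lit 144, nat_lit 120, nat_lit 96, nat_lit 192, nat_lit 240, nat_lit 144, nat_lit 120, nat_lit 96, nat_lit 216, nat_lit 192, nat_lit 240])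
noncomputable def r98 : WT := (.leaf (nat_lit 48130) [nat_lit 120, nat_lit 168, nat_lit 144, nat_lit 216, nat_lit 240, nat_lit 144, nat_lit 120, nat_lit 216, nat_lit 168, nat_lit 192, nat_lit 216, nat_lit 144, nat_lit 240, nat_lit 216, nat_lit 144, nat_lit 168, nat_lit 120, nat_lit 144, nat_lit 240, nat_lit 48, nat_lit 120, nat_lit 144, nat_lit 120, nat_lit 168, nat_lit 144, nat_lit 120, nat_lit 192, nat_lit 216, nat_lit 192, nat_lit 240])
noncomputable def r99 : WT := (.leaf (nat_lit 49154) [nat_lit 120, nat_lit 96, nat_lit 168, nat_lit 144, nat_lit 240, nat_lit 72, nat_lit 120, nat_lit 144, nat_lit 168, nat_lit 96, nat_lit 120, nat_lit 144, nat_lit 240, nat_lit 192, nat_lit 96, nat_lit 72, nat_lit 120, nat_lit 96, nat_lit 144, nat_lit 120, nat_lit 168, nat_lit 144, nat_lit 192, nat_lit 96, nat_lit 72, nat_lit 120, nat_lit 96, nat_lit 192, nat_lit 240])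
noncomputable def r100 : WT := (.leaf (nat_lit 48151) [nat_lit 120, nat_lit 168, nat_lit 144, nat_lit 216, nat_lit 240, nat_lit 144, nat_lit 216, nat_lit 192, nat_lit 168, nat_lit 216, nat_lit 120, nat_lit 144, nat_lit 240, nat_lit 216, nat_lit 144, nat_lit 168, nat_lit 120, nat_lit 144, nat_lit 240, nat_lit 192, nat_lit 216, nat_lit 192, nat_lit 120, nat_lit 144, nat_lit 168, nat_lit 120, nat_lit 144, nat_lit 120, nat_lit 48, nat_lit 240])
noncomputable def r101 : WT := (.leaf (nat_lit 48181) [nat_lit 168, nat_lit 120, nat_lit 144, nat_lit 240, nat_lit 192, nat_lit 216, nat_lit 192, nat_lit 120, nat_lit 144, nat_lit 168, nat_lit 120, nat_lit 144, nat_lit 120, nat_lit 48, nat_lit 240, nat_lit 144, nat_lit 120, nat_lit 168, nat_lit 144, nat_lit 216, nat_lit 240, nat_lit 144, nat_lit 216, nat_lit 192, nat_lit 168, nat_lit 216, nat_lit 120, nat_lit 144, nat_lit 240, nat_lit 216])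
noncomputable def r102 : WT := (.leaf (nat_lit 46085) [nat_lit 120, nat_lit 96, nat_lit 192, nat_lit 216, nat_lit 72, nat_lit 168, nat_lit 144, nat_lit 120, nat_lit 96, nat_lit 192, nat_lit 216, nat_lit 72, nat_lit 168, nat_lit 144, nat_lit 120, nat_lit 96, nat_lit 192, nat_lit 216, nat_lit 72, nat_lit 168, nat_lit 144, nat_lit 120, nat_lit 96, nat_lit 192, nat_lit 216, nat_lit 72, nat_lit 168, nat_lit 144, nat_lit 120, nat_lit 96, nat_lit 192, nat_lit 216, nat_lit 72, nat_lit 168, nat_lit 144, nat_lit 120, nat_lit 96, nat_lit 192, nat_lit 216, nat_lit 72, nat_lit 168, nat_lit 144, nat_lit 120, nat_lit 96, nat_lit 192, nat_lit 216, nat_lit 72, nat_lit 168, nat_lit 144, nat_lit 120, nat_lit 96, nat_lit 192, nat_lit 216, nat_lit 72, nat_lit 168, nat_lit 144, nat_lit 120, nat_lit 96, nat_lit 192, nat_lit 216, nat_lit 72, nat_lit 168])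
noncomputable def r103 : WT := (.leaf (nat_lit 47108) [nat_lit 240, nat_lit 216, nat_lit 192, nat_lit 216, nat_lit 240, nat_lit 144, nat_lit 120, nat_lit 96, nat_lit 120, nat_lit 144, nat_lit 240, nat_lit 216, nat_lit 192, nat_lit 216, nat_lit 240, nat_lit 144, nat_lit 120, nat_lit 96, nat_lit 120, nat_lit 144, nat_lit 240, nat_lit 216, nat_lit 192, nat_lit 216, nat_lit 240, nat_lit 144, nat_lit 120, nat_lit 96, nat_lit 120])
noncomputable def r104 : WT := (.leaf (nat_lit 48160) [nat_lit 168, nat_lit 120, nat_lit 144, nat_lit 240, nat_lit 48, nat_lit 120, nat_lit 144, nat_lit 120, nat_lit 168, nat_lit 144, nat_lit 120, nat_lit 192, nat_lit 216, nat_lit 192, nat_lit 240, nat_lit 144, nat_lit 120, nat_lit 168, nat_lit 144, nat_lit 216, nat_lit 240, nat_lit 144, nat_lit 120, nat_lit 216, nat_lit 168, nat_lit 192, nat_lit 216, nat_lit 144, nat_lit 240, nat_lit 216])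
noncomputable def r105 : WT := (.leaf (nat_lit 48137) [nat_lit 168, nat_lit 120, nat_lit 144, nat_lit 120, nat_lit 48, nat_lit 240, nat_lit 144, nat_lit 120, nat_lit 168, nat_lit 144, nat_lit 216, nat_lit 240, nat_lit 144, nat_lit 216, nat_lit 192, nat_lit 168, nat_lit 216, nat_lit 120, nat_lit 144, nat_lit 240, nat_lit 216, nat_lit 144, nat_lit 168, nat_lit 120, nat_lit 144, nat_lit 240, nat_lit 192, nat_lit 216, nat_lit 192, nat_lit 120])
noncomputable def r106 : WT := (.leaf (nat_lit 48143) [nat_lit 120, nat_lit 48, nat_lit 240, nat_lit 144, nat_lit 120, nat_lit 168, nat_lit 144, nat_lit 216, nat_lit 240, nat_lit 144, nat_lit 216, nat_lit 192, nat_lit 168, nat_lit 216, nat_lit 120, nat_lit 144, nat_lit 240, nat_lit 216, nat_lit 144, nat_lit 168, nat_lit 120, nat_lit 144, nat_lit 240, nat_lit 192, nat_lit 216, nat_lit 192, nat_lit 120, nat_lit 144, nat_lit 168, nat_lit 120])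
noncomputable def r107 : WT := (.leaf (nat_lit 48175) [nat_lit 240, nat_lit 216, nat_lit 144, nat_lit 168, nat_lit 120, nat_lit 144, nat_lit 240, nat_lit 192, nat_lit 216, nat_lit 192, nat_lit 120, nat_lit 144, nat_lit 168, nat_lit 120, nat_lit 144, nat_lit 120, nat_lit 48, nat_lit 240, nat_lit 144, nat_lit 120, nat_lit 168, nat_lit 144, nat_lit 216, nat_lit 240, nat_lit 144, nat_lit 216, nat_lit 192, nat_lit 168, nat_lit 216, nat_lit 120])
noncomputable def r108 : WT := (.node (nat_lit 34) (.node (nat_lit 31) (.node (nat_lit 30) r96 r97) (.node (nat_lit 32) r98 (.node (nat_lit 33) r99 r100))) (.node (nat_lit 37) (.node (nat_lit 35) r101 (.node (nat_lit 36) r102 r103)) (.node (nat_lit 39) (.node (nat_lit 38) r104 r105) (.node (nat_lit 40) r106 r107))))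
noncomputable def r109 : WT := (.node (nat_lit 8) (.leaf (nat_lit 19458) [nat_lit 72, nat_lit 144, nat_lit 72]) (.node (nat_lit 14) (.node (nat_lit 10) (.node (nat_lit 9) r70 r71) (.node (nat_lit 12) r74 r77)) (.node (nat_lit 22) (.node (nat_lit 18) r82 r87) (.node (nat_lit 29) r95 r108))))
noncomputable def w4 : WT := (.node (nat_lit 1) (.leaf (nat_lit 4096) [nat_lit 144]) (.node (nat_lit 4) (.node (nat_lit 2) (.leaf (nat_lit 38912) [nat_lit 240, nat_lit 144, nat_lit 240, nat_lit 144, nat_lit 240]) (.node (nat_lit 3) (.leaf (nat_lit 37888) [nat_lit 216, nat_lit 144, nat_lit 216]) (.leaf (nat_lit 36864) [nat_lit 192, nat_lit 144, nat_lit 192]))) (.node (nat_lit 6) (.node (nat_lit 5) (.leaf (nat_lit 25602) [nat_lit 96, nat_lit 144, nat_lit 96]) (.leaf (nat_lit 30722) [nat_lit 120, nat_lit 144, nat_lit 120, nat_lit 144, nat_lit 120])) (.node (nat_lit 7) (.leaf (nat_lit 35840) [nat_lit 168, nat_lit 144, nat_lit 168, nat_lit 144, nat_lit 168]) r109))))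
noncomputable def r110 : WT := (.leaf (nat_lit 49172) [nat_lit 96, nat_lit 120, nat_lit 144, nat_lit 240, nat_lit 192, nat_lit 96, nat_lit 72, nat_lit 120, nat_lit 96, nat_lit 144, nat_lit 120, nat_lit 168, nat_lit 144, nat_lit 192, nat_lit 96, nat_lit 72, nat_lit 120, nat_lit 96, nat_lit 192, nat_lit 240, nat_lit 144, nat_lit 120, nat_lit 96, nat_lit 168, nat_lit 144, nat_lit 240, nat_lit 72, nat_lit 120, nat_lit 144])
noncomputable def r111 : WT := (.leaf (nat_lit 49167) [nat_lit 120, nat_lit 144, nat_lit 96, nat_lit 120, nat_lit 72, nat_lit 96, nat_lit 192, nat_lit 240, nat_lit 144, nat_lit 120, nat_lit 96, nat_lit 168, nat_lit 144, nat_lit 120, nat_lit 72, nat_lit 240, nat_lit 144, nat_lit 168, nat_lit 96, nat_lit 120, nat_lit 144, nat_lit 240, nat_lit 192, nat_lit 96, nat_lit 120, nat_lit 72, nat_lit 96, nat_lit 192, nat_lit 144])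
noncomputable def r112 : WT := (.leaf (nat_lit 48139) [nat_lit 120, nat_lit 144, nat_lit 120, nat_lit 48, nat_lit 240, nat_lit 144, nat_lit 120, nat_lit 168, nat_lit 144, nat_lit 216, nat_lit 240, nat_lit 144, nat_lit 216, nat_lit 192, nat_lit 168, nat_lit 216, nat_lit 120, nat_lit 144, nat_lit 240, nat_lit 216, nat_lit 144, nat_lit 168, nat_lit 120, nat_lit 144, nat_lit 240, nat_lit 192, nat_lit 216, nat_lit 192, nat_lit 120, nat_lit 144])
noncomputable def r113 : WT := (.leaf (nat_lit 48148) [nat_lit 192, nat_lit 216, nat_lit 144, nat_lit 240, nat_lit 216, nat_lit 144, nat_lit 168, nat_lit 120, nat_lit 144, nat_lit 240, nat_lit 48, nat_lit 120, nat_lit 144, nat_lit 120, nat_lit 168, nat_lit 144, nat_lit 120, nat_lit 192, nat_lit 216, nat_lit 192, nat_lit 240, nat_lit 144, nat_lit 120, nat_lit 168, nat_lit 144, nat_lit 216, nat_lit 240, nat_lit 144, nat_lit 120, nat_lit 216])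
noncomputable def r114 : WT := (.leaf (nat_lit 48183) [nat_lit 120, nat_lit 144, nat_lit 240, nat_lit 192, nat_lit 216, nat_lit 192, nat_lit 120, nat_lit 144, nat_lit 168, nat_lit 120, nat_lit 144, nat_lit 120, nat_lit 48, nat_lit 240, nat_lit 144, nat_lit 120, nat_lit 168, nat_lit 144, nat_lit 216, nat_lit 240, nat_lit 144, nat_lit 216, nat_lit 192, nat_lit 168, nat_lit 216, nat_lit 120, nat_lit 144, nat_lit 240, nat_lit 216, nat_lit 144])
noncomputable def r115 : WT := (.node (nat_lit 12) r113 r114)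
noncomputable def r116 : WT := (.leaf (nat_lit 48162) [nat_lit 120, nat_lit 144, nat_lit 240, nat_lit 48, nat_lit 120, nat_lit 144, nat_lit 120, nat_lit 168, nat_lit 144, nat_lit 120, nat_lit 192, nat_lit 216, nat_lit 192, nat_lit 240, nat_lit 144, nat_lit 120, nat_lit 168, nat_lit 144, nat_lit 216, nat_lit 240, nat_lit 144, nat_lit 120, nat_lit 216, nat_lit 168, nat_lit 192, nat_lit 216, nat_lit 144, nat_lit 240, nat_lit 216, nat_lit 144])
noncomputable def r117 : WT := (.leaf (nat_lit 48178) [nat_lit 144, nat_lit 120, nat_lit 192, nat_lit 216, nat_lit 192, nat_lit 240, nat_lit 144, nat_lit 120, nat_lit 168, nat_lit 144, nat_lit 216, nat_lit 240, nat_lit 144, nat_lit 120, nat_lit 216, nat_lit 168, nat_lit 192, nat_lit 216, nat_lit 144, nat_lit 240, nat_lit 216, nat_lit 144, nat_lit 168, nat_lit 120, nat_lit 144, nat_lit 240, nat_lit 48, nat_lit 120, nat_lit 144, nat_lit 120])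
noncomputable def r118 : WT := (.leaf (nat_lit 46083) [nat_lit 144, nat_lit 120, nat_lit 96, nat_lit 192, nat_lit 216, nat_lit 72, nat_lit 168, nat_lit 144, nat_lit 120, nat_lit 96, nat_lit 192, nat_lit 216, nat_lit 72, nat_lit 168, nat_lit 144, nat_lit 120, nat_lit 96, nat_lit 192, nat_lit 216, nat_lit 72, nat_lit 168, nat_lit 144, nat_lit 120, nat_lit 96, nat_lit 192, nat_lit 216, nat_lit 72, nat_lit 168, nat_lit 144, nat_lit 120, nat_lit 96, nat_lit 192, nat_lit 216, nat_lit 72, nat_lit 168, nat_lit 144, nat_lit 120, nat_lit 96, nat_lit 192, nat_lit 216, nat_lit 72, nat_lit 168, nat_lit 144, nat_lit 120, nat_lit 96, nat_lit 192, nat_lit 216, nat_lit 72, nat_lit 168, nat_lit 144, nat_lit 120, nat_lit 96, nat_lit 192, nat_lit 216, nat_lit 72, nat_lit 168, nat_lit 144, nat_lit 120, nat_lit 96, nat_lit 192, nat_lit 216, nat_lit 72])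
noncomputable def r119 : WT := (.node (nat_lit 14) r116 (.node (nat_lit 15) r117 r118))
noncomputable def r120 : WT := (.leaf (nat_lit 48134) [nat_lit 144, nat_lit 216, nat_lit 240, nat_lit 144, nat_lit 120, nat_lit 216, nat_lit 168, nat_lit 192, nat_lit 216, nat_lit 144, nat_lit 240, nat_lit 216, nat_lit 144, nat_lit 168, nat_lit 120, nat_lit 144, nat_lit 240, nat_lit 48, nat_lit 120, nat_lit 144, nat_lit 120, nat_lit 168, nat_lit 144, nat_lit 120, nat_lit 192, nat_lit 216, nat_lit 192, nat_lit 240, nat_lit 144, nat_lit 120])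
noncomputable def r121 : WT := (.leaf (nat_lit 48169) [nat_lit 216, nat_lit 120, nat_lit 144, nat_lit 240, nat_lit 216, nat_lit 144, nat_lit 168, nat_lit 120, nat_lit 144, nat_lit 240, nat_lit 192, nat_lit 216, nat_lit 192, nat_lit 120, nat_lit 144, nat_lit 168, nat_lit 120, nat_lit 144, nat_lit 120, nat_lit 48, nat_lit 240, nat_lit 144, nat_lit 120, nat_lit 168, nat_lit 144, nat_lit 216, nat_lit 240, nat_lit 144, nat_lit 216, nat_lit 192])
noncomputable def r122 : WT := (.leaf (nat_lit 49196) [nat_lit 144, nat_lit 192, nat_lit 96, nat_lit 72, nat_lit 120, nat_lit 96, nat_lit 192, nat_lit 240, nat_lit 144, nat_lit 120, nat_lit 96, nat_lit 168, nat_lit 144, nat_lit 240, nat_lit 72, nat_lit 120, nat_lit 144, nat_lit 168, nat_lit 96, nat_lit 120, nat_lit 144, nat_lit 240, nat_lit 192, nat_lit 96, nat_lit 72, nat_lit 120, nat_lit 96, nat_lit 144, nat_lit 120])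
noncomputable def r123 : WT := (.leaf (nat_lit 46090) [nat_lit 72, nat_lit 216, nat_lit 192, nat_lit 96, nat_lit 120, nat_lit 144, nat_lit 168, nat_lit 72, nat_lit 216, nat_lit 192, nat_lit 96, nat_lit 120, nat_lit 144, nat_lit 168, nat_lit 72, nat_lit 216, nat_lit 192, nat_lit 96, nat_lit 120, nat_lit 144, nat_lit 168, nat_lit 72, nat_lit 216, nat_lit 192, nat_lit 96, nat_lit 120, nat_lit 144, nat_lit 168, nat_lit 72, nat_lit 216, nat_lit 192, nat_lit 96, nat_lit 120, nat_lit 144, nat_lit 168, nat_lit 72, nat_lit 216, nat_lit 192, nat_lit 96, nat_lit 120, nat_lit 144, nat_lit 168, nat_lit 72, nat_lit 216, nat_lit 192, nat_lit 96, nat_lit 120, nat_lit 144, nat_lit 168, nat_lit 72, nat_lit 216, nat_lit 192, nat_lit 96, nat_lit 120, nat_lit 144, nat_lit 168, nat_lit 72, nat_lit 216, nat_lit 192, nat_lit 96, nat_lit 120, nat_lit 144])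
noncomputable def r124 : WT := (.leaf (nat_lit 49160) [nat_lit 144, nat_lit 240, nat_lit 72, nat_lit 120, nat_lit 144, nat_lit 168, nat_lit 96, nat_lit 120, nat_lit 144, nat_lit 240, nat_lit 192, nat_lit 96, nat_lit 72, nat_lit 120, nat_lit 96, nat_lit 144, nat_lit 120, nat_lit 168, nat_lit 144, nat_lit 192, nat_lit 96, nat_lit 72, nat_lit 120, nat_lit 96, nat_lit 192, nat_lit 240, nat_lit 144, nat_lit 120, nat_lit 96])
noncomputable def r125 : WT := (.node (nat_lit 18) (.node (nat_lit 17) r120 r121) (.node (nat_lit 19) r122 (.node (nat_lit 20) r123 r124)))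
noncomputable def r126 : WT := (.node (nat_lit 8) (.leaf (nat_lit 20482) [nat_lit 72, nat_lit 168, nat_lit 72]) (.node (nat_lit 10) (.node (nat_lit 9) r110 r111) (.node (nat_lit 13) (.node (nat_lit 11) r112 r115) (.node (nat_lit 16) r119 r125))))
noncomputable def w5 : WT := (.node (nat_lit 1) (.leaf (nat_lit 5120) [nat_lit 168]) (.node (nat_lit 4) (.node (nat_lit 2) (.leaf (nat_lit 41984) [nat_lit 240, nat_lit 168, nat_lit 240]) (.node (nat_lit 3) (.leaf (nat_lit 40960) [nat_lit 216, nat_lit 168, nat_lit 216]) (.leaf (nat_lit 39936) [nat_lit 192, nat_lit 168, nat_lit 192]))) (.node (nat_lit 6) (.node (nat_lit 5) (.leaf (nat_lit 35842) [nat_lit 144, nat_lit 168, nat_lit 144, nat_lit 168, nat_lit 144]) (.leaf (nat_lit 26626) [nat_lit 96, nat_lit 168, nat_lit 96])) (.node (nat_lit 7) (.leaf (nat_lit 31746) [nat_lit 120, nat_lit 168, nat_lit 120]) r126))))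
noncomputable def r127 : WT := (.leaf (nat_lit 50182) [nat_lit 96, nat_lit 240, nat_lit 216, nat_lit 120, nat_lit 144, nat_lit 240, nat_lit 192, nat_lit 216, nat_lit 96, nat_lit 120, nat_lit 144, nat_lit 240, nat_lit 192, nat_lit 96, nat_lit 120, nat_lit 144, nat_lit 216, nat_lit 192, nat_lit 96, nat_lit 120, nat_lit 240, nat_lit 144, nat_lit 216])
noncomputable def r128 : WT := (.leaf (nat_lit 50181) [nat_lit 216, nat_lit 144, nat_lit 120, nat_lit 96, nat_lit 192, nat_lit 240, nat_lit 144, nat_lit 120, nat_lit 96, nat_lit 216, nat_lit 192, nat_lit 240, nat_lit 144, nat_lit 120, nat_lit 216, nat_lit 240, nat_lit 96, nat_lit 192, nat_lit 216, nat_lit 144, nat_lit 240, nat_lit 120, nat_lit 96])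
noncomputable def r129 : WT := (.leaf (nat_lit 49163) [nat_lit 144, nat_lit 168, nat_lit 120, nat_lit 144, nat_lit 96, nat_lit 120, nat_lit 72, nat_lit 96, nat_lit 192, nat_lit 240, nat_lit 144, nat_lit 120, nat_lit 96, nat_lit 168, nat_lit 144, nat_lit 120, nat_lit 72, nat_lit 240, nat_lit 144, nat_lit 168, nat_lit 96, nat_lit 120, nat_lit 144, nat_lit 240, nat_lit 192, nat_lit 96, nat_lit 120, nat_lit 72, nat_lit 96])
noncomputable def r130 : WT := (.leaf (nat_lit 50191) [nat_lit 240, nat_lit 144, nat_lit 120, nat_lit 96, nat_lit 216, nat_lit 192, nat_lit 240, nat_lit 144, nat_lit 120, nat_lit 216, nat_lit 240, nat_lit 96, nat_lit 192, nat_lit 216, nat_lit 144, nat_lit 240, nat_lit 120, nat_lit 96, nat_lit 192, nat_lit 216, nat_lit 144, nat_lit 120, nat_lit 96])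
noncomputable def r131 : WT := (.leaf (nat_lit 49210) [nat_lit 240, nat_lit 144, nat_lit 120, nat_lit 96, nat_lit 168, nat_lit 144, nat_lit 240, nat_lit 72, nat_lit 120, nat_lit 144, nat_lit 168, nat_lit 96, nat_lit 120, nat_lit 144, nat_lit 240, nat_lit 192, nat_lit 96, nat_lit 72, nat_lit 120, nat_lit 96, nat_lit 144, nat_lit 120, nat_lit 168, nat_lit 144, nat_lit 192, nat_lit 96, nat_lit 72, nat_lit 120, nat_lit 96])
noncomputable def r132 : WT := (.leaf (nat_lit 47114) [nat_lit 216, nat_lit 240, nat_lit 144, nat_lit 120, nat_lit 96, nat_lit 120, nat_lit 144, nat_lit 240, nat_lit 216, nat_lit 192, nat_lit 216, nat_lit 240, nat_lit 144, nat_lit 120, nat_lit 96, nat_lit 120, nat_lit 144, nat_lit 240, nat_lit 216, nat_lit 192, nat_lit 216, nat_lit 240, nat_lit 144, nat_lit 120, nat_lit 96, nat_lit 120, nat_lit 144, nat_lit 240, nat_lit 216])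
noncomputable def r133 : WT := (.node (nat_lit 13) r131 r132)
noncomputable def r134 : WT := (.leaf (nat_lit 50203) [nat_lit 240, nat_lit 144, nat_lit 120, nat_lit 216, nat_lit 240, nat_lit 96, nat_lit 192, nat_lit 216, nat_lit 144, nat_lit 240, nat_lit 120, nat_lit 96, nat_lit 192, nat_lit 216, nat_lit 144, nat_lit 120, nat_lit 96, nat_lit 192, nat_lit 240, nat_lit 144, nat_lit 120, nat_lit 96, nat_lit 216])
noncomputable def r135 : WT := (.leaf (nat_lit 50196) [nat_lit 216, nat_lit 96, nat_lit 120, nat_lit 144, nat_lit 240, nat_lit 192, nat_lit 96, nat_lit 120, nat_lit 144, nat_lit 216, nat_lit 192, nat_lit 96, nat_lit 120, nat_lit 240, nat_lit 144, nat_lit 216, nat_lit 192, nat_lit 96, nat_lit 240, nat_lit 216, nat_lit 120, nat_lit 144, nat_lit 240])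
noncomputable def r136 : WT := (.leaf (nat_lit 49182) [nat_lit 96, nat_lit 72, nat_lit 120, nat_lit 96, nat_lit 144, nat_lit 120, nat_lit 168, nat_lit 144, nat_lit 192, nat_lit 96, nat_lit 72, nat_lit 120, nat_lit 96, nat_lit 192, nat_lit 240, nat_lit 144, nat_lit 120, nat_lit 96, nat_lit 168, nat_lit 144, nat_lit 240, nat_lit 72, nat_lit 120, nat_lit 144, nat_lit 168, nat_lit 96, nat_lit 120, nat_lit 144, nat_lit 240])
noncomputable def r137 : WT := (.leaf (nat_lit 48150) [nat_lit 216, nat_lit 144, nat_lit 240, nat_lit 216, nat_lit 144, nat_lit 168, nat_lit 120, nat_lit 144, nat_lit 240, nat_lit 48, nat_lit 120, nat_lit 144, nat_lit 120, nat_lit 168, nat_lit 144, nat_lit 120, nat_lit 192, nat_lit 216, nat_lit 192, nat_lit 240, nat_lit 144, nat_lit 120, nat_lit 168, nat_lit 144, nat_lit 216, nat_lit 240, nat_lit 144, nat_lit 120, nat_lit 216, nat_lit 168])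
noncomputable def r138 : WT := (.node (nat_lit 16) (.node (nat_lit 15) r134 r135) (.node (nat_lit 17) r136 r137))
noncomputable def r139 : WT := (.leaf (nat_lit 48133) [nat_lit 120, nat_lit 144, nat_lit 168, nat_lit 120, nat_lit 144, nat_lit 120, nat_lit 48, nat_lit 240, nat_lit 144, nat_lit 120, nat_lit 168, nat_lit 144, nat_lit 216, nat_lit 240, nat_lit 144, nat_lit 216, nat_lit 192, nat_lit 168, nat_lit 216, nat_lit 120, nat_lit 144, nat_lit 240, nat_lit 216, nat_lit 144, nat_lit 168, nat_lit 120, nat_lit 144, nat_lit 240, nat_lit 192, nat_lit 216])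
noncomputable def r140 : WT := (.leaf (nat_lit 48167) [nat_lit 168, nat_lit 216, nat_lit 120, nat_lit 144, nat_lit 240, nat_lit 216, nat_lit 144, nat_lit 168, nat_lit 120, nat_lit 144, nat_lit 240, nat_lit 192, nat_lit 216, nat_lit 192, nat_lit 120, nat_lit 144, nat_lit 168, nat_lit 120, nat_lit 144, nat_lit 120, nat_lit 48, nat_lit 240, nat_lit 144, nat_lit 120, nat_lit 168, nat_lit 144, nat_lit 216, nat_lit 240, nat_lit 144, nat_lit 216])
noncomputable def r141 : WT := (.leaf (nat_lit 46091) [nat_lit 216, nat_lit 72, nat_lit 168, nat_lit 144, nat_lit 120, nat_lit 96, nat_lit 192, nat_lit 216, nat_lit 72, nat_lit 168, nat_lit 144, nat_lit 120, nat_lit 96, nat_lit 192, nat_lit 216, nat_lit 72, nat_lit 168, nat_lit 144, nat_lit 120, nat_lit 96, nat_lit 192, nat_lit 216, nat_lit 72, nat_lit 168, nat_lit 144, nat_lit 120, nat_lit 96, nat_lit 192, nat_lit 216, nat_lit 72, nat_lit 168, nat_lit 144, nat_lit 120, nat_lit 96, nat_lit 192, nat_lit 216, nat_lit 72, nat_lit 168,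 nat_lit 144, nat_lit 120, nat_lit 96, nat_lit 192, nat_lit 216, nat_lit 72, nat_lit 168, nat_lit 144, nat_lit 120, nat_lit 96, nat_lit 192, nat_lit 216, nat_lit 72, nat_lit 168, nat_lit 144, nat_lit 120, nat_lit 96, nat_lit 192, nat_lit 216, nat_lit 72, nat_lit 168, nat_lit 144, nat_lit 120, nat_lit 96])
noncomputable def r142 : WT := (.leaf (nat_lit 50217) [nat_lit 216, nat_lit 144, nat_lit 240, nat_lit 120, nat_lit 96, nat_lit 192, nat_lit 216, nat_lit 144, nat_lit 120, nat_lit 96, nat_lit 192, nat_lit 240, nat_lit 144, nat_lit 120, nat_lit 96, nat_lit 216, nat_lit 192, nat_lit 240, nat_lit 144, nat_lit 120, nat_lit 216, nat_lit 240, nat_lit 96])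
noncomputable def r143 : WT := (.leaf (nat_lit 46082) [nat_lit 96, nat_lit 120, nat_lit 144, nat_lit 168, nat_lit 72, nat_lit 216, nat_lit 192, nat_lit 96, nat_lit 120, nat_lit 144, nat_lit 168, nat_lit 72, nat_lit 216, nat_lit 192, nat_lit 96, nat_lit 120, nat_lit 144, nat_lit 168, nat_lit 72, nat_lit 216, nat_lit 192, nat_lit 96, nat_lit 120, nat_lit 144, nat_lit 168, nat_lit 72, nat_lit 216, nat_lit 192, nat_lit 96, nat_lit 120, nat_lit 144, nat_lit 168, nat_lit 72, nat_lit 216, nat_lit 192, nat_lit 96, nat_lit 120, nat_lit 144, nat_lit 168, nat_lit 72, nat_lit 216, nat_lit 192, nat_lit 96, nat_lit 120, nat_lit 144, nat_lit 168, nat_lit 72, nat_lit 216, nat_lit 192, nat_lit 96, nat_lit 120, nat_lit 144, nat_lit 168, nat_lit 72, nat_lit 216, nat_lit 192, nat_lit 96, nat_lit 120, nat_lit 144, nat_lit 168, nat_lit 72, nat_lit 216])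
noncomputable def r144 : WT := (.leaf (nat_lit 49200) [nat_lit 96, nat_lit 72, nat_lit 120, nat_lit 96, nat_lit 192, nat_lit 240, nat_lit 144, nat_lit 120, nat_lit 96, nat_lit 168, nat_lit 144, nat_lit 240, nat_lit 72, nat_lit 120, nat_lit 144, nat_lit 168, nat_lit 96, nat_lit 120, nat_lit 144, nat_lit 240, nat_lit 192, nat_lit 96, nat_lit 72, nat_lit 120, nat_lit 96, nat_lit 144, nat_lit 120, nat_lit 168, nat_lit 144])
noncomputable def r145 : WT := (.leaf (nat_lit 50208) [nat_lit 96, nat_lit 120, nat_lit 144, nat_lit 216, nat_lit 192, nat_lit 96, nat_lit 120, nat_lit 240, nat_lit 144, nat_lit 216, nat_lit 192, nat_lit 96, nat_lit 240, nat_lit 216, nat_lit 120, nat_lit 144, nat_lit 240, nat_lit 192, nat_lit 216, nat_lit 96, nat_lit 120, nat_lit 144, nat_lit 240])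
noncomputable def r146 : WT := (.leaf (nat_lit 48184) [nat_lit 216, nat_lit 192, nat_lit 240, nat_lit 144, nat_lit 120, nat_lit 168, nat_lit 144, nat_lit 216, nat_lit 240, nat_lit 144, nat_lit 120, nat_lit 216, nat_lit 168, nat_lit 192, nat_lit 216, nat_lit 144, nat_lit 240, nat_lit 216, nat_lit 144, nat_lit 168, nat_lit 120, nat_lit 144, nat_lit 240, nat_lit 48, nat_lit 120, nat_lit 144, nat_lit 120, nat_lit 168, nat_lit 144, nat_lit 120])
noncomputable def r147 : WT := (.leaf (nat_lit 48129) [nat_lit 216, nat_lit 192, nat_lit 120, nat_lit 144, nat_lit 168, nat_lit 120, nat_lit 144, nat_lit 120, nat_lit 48, nat_lit 240, nat_lit 144, nat_lit 120, nat_lit 168, nat_lit 144, nat_lit 216, nat_lit 240, nat_lit 144, nat_lit 216, nat_lit 192, nat_lit 168, nat_lit 216, nat_lit 120, nat_lit 144, nat_lit 240, nat_lit 216, nat_lit 144, nat_lit 168, nat_lit 120, nat_lit 144, nat_lit 240])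
noncomputable def r148 : WT := (.node (nat_lit 21) (.node (nat_lit 19) r139 (.node (nat_lit 20) r140 r141)) (.node (nat_lit 23) (.node (nat_lit 22) r142 r143) (.node (nat_lit 25) (.node (nat_lit 24) r144 r145) (.node (nat_lit 26) r146 r147))))
noncomputable def r149 : WT := (.node (nat_lit 8) (.leaf (nat_lit 21506) [nat_lit 72, nat_lit 192, nat_lit 72]) (.node (nat_lit 11) (.node (nat_lit 9) r127 (.node (nat_lit 10) r128 r129)) (.node (nat_lit 14) (.node (nat_lit 12) r130 r133) (.node (nat_lit 18) r138 r148))))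
noncomputable def w6 : WT := (.node (nat_lit 1) (.leaf (nat_lit 6144) [nat_lit 192]) (.node (nat_lit 4) (.node (nat_lit 2) (.leaf (nat_lit 44032) [nat_lit 240, nat_lit 192, nat_lit 240]) (.node (nat_lit 3) (.leaf (nat_lit 36866) [nat_lit 144, nat_lit 192, nat_lit 144]) (.leaf (nat_lit 39938) [nat_lit 168, nat_lit 192, nat_lit 168]))) (.node (nat_lit 6) (.node (nat_lit 5) (.leaf (nat_lit 43008) [nat_lit 216, nat_lit 192, nat_lit 216, nat_lit 192, nat_lit 216]) (.leaf (nat_lit 32770) [nat_lit 120, nat_lit 192, nat_lit 120])) (.node (nat_lit 7) (.leaf (nat_lit 27650) [nat_lit 96, nat_lit 192, nat_lit 96, nat_lit 192, nat_lit 96]) r149))))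
noncomputable def r150 : WT := (.leaf (nat_lit 50198) [nat_lit 96, nat_lit 120, nat_lit 144, nat_lit 240, nat_lit 192, nat_lit 96, nat_lit 120, nat_lit 144, nat_lit 216, nat_lit 192, nat_lit 96, nat_lit 120, nat_lit 240, nat_lit 144, nat_lit 216, nat_lit 192, nat_lit 96, nat_lit 240, nat_lit 216, nat_lit 120, nat_lit 144, nat_lit 240, nat_lit 192])
noncomputable def r151 : WT := (.leaf (nat_lit 48158) [nat_lit 144, nat_lit 168, nat_lit 120, nat_lit 144, nat_lit 240, nat_lit 48, nat_lit 120, nat_lit 144, nat_lit 120, nat_lit 168, nat_lit 144, nat_lit 120, nat_lit 192, nat_lit 216, nat_lit 192, nat_lit 240, nat_lit 144, nat_lit 120, nat_lit 168, nat_lit 144, nat_lit 216, nat_lit 240, nat_lit 144, nat_lit 120, nat_lit 216, nat_lit 168, nat_lit 192, nat_lit 216, nat_lit 144, nat_lit 240])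
noncomputable def r152 : WT := (.leaf (nat_lit 50188) [nat_lit 120, nat_lit 144, nat_lit 240, nat_lit 192, nat_lit 216, nat_lit 96, nat_lit 120, nat_lit 144, nat_lit 240, nat_lit 192, nat_lit 96, nat_lit 120, nat_lit 144, nat_lit 216, nat_lit 192, nat_lit 96, nat_lit 120, nat_lit 240, nat_lit 144, nat_lit 216, nat_lit 192, nat_lit 96, nat_lit 240])
noncomputable def r153 : WT := (.leaf (nat_lit 50201) [nat_lit 192, nat_lit 240, nat_lit 144, nat_lit 120, nat_lit 216, nat_lit 240, nat_lit 96, nat_lit 192, nat_lit 216, nat_lit 144, nat_lit 240, nat_lit 120, nat_lit 96, nat_lit 192, nat_lit 216, nat_lit 144, nat_lit 120, nat_lit 96, nat_lit 192, nat_lit 240, nat_lit 144, nat_lit 120, nat_lit 96])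
noncomputable def r154 : WT := (.leaf (nat_lit 50183) [nat_lit 144, nat_lit 120, nat_lit 96, nat_lit 192, nat_lit 240, nat_lit 144, nat_lit 120, nat_lit 96, nat_lit 216, nat_lit 192, nat_lit 240, nat_lit 144, nat_lit 120, nat_lit 216, nat_lit 240, nat_lit 96, nat_lit 192, nat_lit 216, nat_lit 144, nat_lit 240, nat_lit 120, nat_lit 96, nat_lit 192])
noncomputable def r155 : WT := (.leaf (nat_lit 47112) [nat_lit 192, nat_lit 216, nat_lit 240, nat_lit 144, nat_lit 120, nat_lit 96, nat_lit 120, nat_lit 144, nat_lit 240, nat_lit 216, nat_lit 192, nat_lit 216, nat_lit 240, nat_lit 144, nat_lit 120, nat_lit 96, nat_lit 120, nat_lit 144, nat_lit 240, nat_lit 216, nat_lit 192, nat_lit 216, nat_lit 240, nat_lit 144, nat_lit 120, nat_lit 96, nat_lit 120, nat_lit 144, nat_lit 240])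
noncomputable def r156 : WT := (.node (nat_lit 13) r154 r155)
noncomputable def r157 : WT := (.leaf (nat_lit 46080) [nat_lit 192, nat_lit 96, nat_lit 120, nat_lit 144, nat_lit 168, nat_lit 72, nat_lit 216, nat_lit 192, nat_lit 96, nat_lit 120, nat_lit 144, nat_lit 168, nat_lit 72, nat_lit 216, nat_lit 192, nat_lit 96, nat_lit 120, nat_lit 144, nat_lit 168, nat_lit 72, nat_lit 216, nat_lit 192, nat_lit 96, nat_lit 120, nat_lit 144, nat_lit 168, nat_lit 72, nat_lit 216, nat_lit 192, nat_lit 96, nat_lit 120, nat_lit 144, nat_lit 168, nat_lit 72, nat_lit 216, nat_lit 192, nat_lit 96, nat_lit 120, nat_lit 144, nat_lit 168, nat_lit 72, nat_lit 216, nat_lit 192, nat_lit 96, nat_lit 120, nat_lit 144, nat_lit 168, nat_lit 72, nat_lit 216, nat_lit 192, nat_lit 96, nat_lit 120, nat_lit 144, nat_lit 168, nat_lit 72, nat_lit 216, nat_lit 192, nat_lit 96, nat_lit 120, nat_lit 144, nat_lit 168, nat_lit 72])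
noncomputable def r158 : WT := (.leaf (nat_lit 48138) [nat_lit 240, nat_lit 144, nat_lit 120, nat_lit 216, nat_lit 168, nat_lit 192, nat_lit 216, nat_lit 144, nat_lit 240, nat_lit 216, nat_lit 144, nat_lit 168, nat_lit 120, nat_lit 144, nat_lit 240, nat_lit 48, nat_lit 120, nat_lit 144, nat_lit 120, nat_lit 168, nat_lit 144, nat_lit 120, nat_lit 192, nat_lit 216, nat_lit 192, nat_lit 240, nat_lit 144, nat_lit 120, nat_lit 168, nat_lit 144])
noncomputable def r159 : WT := (.node (nat_lit 15) r157 r158)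
noncomputable def r160 : WT := (.leaf (nat_lit 48152) [nat_lit 144, nat_lit 240, nat_lit 216, nat_lit 144, nat_lit 168, nat_lit 120, nat_lit 144, nat_lit 240, nat_lit 48, nat_lit 120, nat_lit 144, nat_lit 120, nat_lit 168, nat_lit 144, nat_lit 120, nat_lit 192, nat_lit 216, nat_lit 192, nat_lit 240, nat_lit 144, nat_lit 120, nat_lit 168, nat_lit 144, nat_lit 216, nat_lit 240, nat_lit 144, nat_lit 120, nat_lit 216, nat_lit 168, nat_lit 192])
noncomputable def r161 : WT := (.leaf (nat_lit 50216) [nat_lit 192, nat_lit 96, nat_lit 120, nat_lit 240, nat_lit 144, nat_lit 216, nat_lit 192, nat_lit 96, nat_lit 240, nat_lit 216, nat_lit 120, nat_lit 144, nat_lit 240, nat_lit 192, nat_lit 216, nat_lit 96, nat_lit 120, nat_lit 144, nat_lit 240, nat_lit 192, nat_lit 96, nat_lit 120, nat_lit 144])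
noncomputable def r162 : WT := (.leaf (nat_lit 48186) [nat_lit 192, nat_lit 240, nat_lit 144, nat_lit 120, nat_lit 168, nat_lit 144, nat_lit 216, nat_lit 240, nat_lit 144, nat_lit 120, nat_lit 216, nat_lit 168, nat_lit 192, nat_lit 216, nat_lit 144, nat_lit 240, nat_lit 216, nat_lit 144, nat_lit 168, nat_lit 120, nat_lit 144, nat_lit 240, nat_lit 48, nat_lit 120, nat_lit 144, nat_lit 120, nat_lit 168, nat_lit 144, nat_lit 120, nat_lit 192])
noncomputable def r163 : WT := (.leaf (nat_lit 50211) [nat_lit 240, nat_lit 96, nat_lit 192, nat_lit 216, nat_lit 144, nat_lit 240, nat_lit 120, nat_lit 96, nat_lit 192, nat_lit 216, nat_lit 144, nat_lit 120, nat_lit 96, nat_lit 192, nat_lit 240, nat_lit 144, nat_lit 120, nat_lit 96, nat_lit 216, nat_lit 192, nat_lit 240, nat_lit 144, nat_lit 120])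
noncomputable def r164 : WT := (.node (nat_lit 18) (.node (nat_lit 17) r160 r161) (.node (nat_lit 19) r162 r163))
noncomputable def r165 : WT := (.leaf (nat_lit 48179) [nat_lit 144, nat_lit 168, nat_lit 120, nat_lit 144, nat_lit 240, nat_lit 192, nat_lit 216, nat_lit 192, nat_lit 120, nat_lit 144, nat_lit 168, nat_lit 120, nat_lit 144, nat_lit 120, nat_lit 48, nat_lit 240, nat_lit 144, nat_lit 120, nat_lit 168, nat_lit 144, nat_lit 216, nat_lit 240, nat_lit 144, nat_lit 216, nat_lit 192, nat_lit 168, nat_lit 216, nat_lit 120, nat_lit 144, nat_lit 240])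
noncomputable def r166 : WT := (.leaf (nat_lit 47116) [nat_lit 240, nat_lit 144, nat_lit 120, nat_lit 96, nat_lit 120, nat_lit 144, nat_lit 240, nat_lit 216, nat_lit 192, nat_lit 216, nat_lit 240, nat_lit 144, nat_lit 120, nat_lit 96, nat_lit 120, nat_lit 144, nat_lit 240, nat_lit 216, nat_lit 192, nat_lit 216, nat_lit 240, nat_lit 144, nat_lit 120, nat_lit 96, nat_lit 120, nat_lit 144, nat_lit 240, nat_lit 216, nat_lit 192])
noncomputable def r167 : WT := (.leaf (nat_lit 50180) [nat_lit 192, nat_lit 96, nat_lit 240, nat_lit 216, nat_lit 120, nat_lit 144, nat_lit 240, nat_lit 192, nat_lit 216, nat_lit 96, nat_lit 120, nat_lit 144, nat_lit 240, nat_lit 192, nat_lit 96, nat_lit 120, nat_lit 144, nat_lit 216, nat_lit 192, nat_lit 96, nat_lit 120, nat_lit 240, nat_lit 144])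
noncomputable def r168 : WT := (.leaf (nat_lit 48146) [nat_lit 168, nat_lit 192, nat_lit 216, nat_lit 144, nat_lit 240, nat_lit 216, nat_lit 144, nat_lit 168, nat_lit 120, nat_lit 144, nat_lit 240, nat_lit 48, nat_lit 120, nat_lit 144, nat_lit 120, nat_lit 168, nat_lit 144, nat_lit 120, nat_lit 192, nat_lit 216, nat_lit 192, nat_lit 240, nat_lit 144, nat_lit 120, nat_lit 168, nat_lit 144, nat_lit 216, nat_lit 240, nat_lit 144, nat_lit 120])
noncomputable def r169 : WT := (.leaf (nat_lit 48131) [nat_lit 192, nat_lit 120, nat_lit 144, nat_lit 168, nat_lit 120, nat_lit 144, nat_lit 120, nat_lit 48, nat_lit 240, nat_lit 144, nat_lit 120, nat_lit 168, nat_lit 144, nat_lit 216, nat_lit 240, nat_lit 144, nat_lit 216, nat_lit 192, nat_lit 168, nat_lit 216, nat_lit 120, nat_lit 144, nat_lit 240, nat_lit 216, nat_lit 144, nat_lit 168, nat_lit 120, nat_lit 144, nat_lit 240, nat_lit 192])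
noncomputable def r170 : WT := (.leaf (nat_lit 48165) [nat_lit 192, nat_lit 168, nat_lit 216, nat_lit 120, nat_lit 144, nat_lit 240, nat_lit 216, nat_lit 144, nat_lit 168, nat_lit 120, nat_lit 144, nat_lit 240, nat_lit 192, nat_lit 216, nat_lit 192, nat_lit 120, nat_lit 144, nat_lit 168, nat_lit 120, nat_lit 144, nat_lit 120, nat_lit 48, nat_lit 240, nat_lit 144, nat_lit 120, nat_lit 168, nat_lit 144, nat_lit 216, nat_lit 240, nat_lit 144])
noncomputable def r171 : WT := (.leaf (nat_lit 50219) [nat_lit 144, nat_lit 240, nat_lit 120, nat_lit 96, nat_lit 192, nat_lit 216, nat_lit 144, nat_lit 120, nat_lit 96, nat_lit 192, nat_lit 240, nat_lit 144, nat_lit 120, nat_lit 96, nat_lit 216, nat_lit 192, nat_lit 240, nat_lit 144, nat_lit 120, nat_lit 216, nat_lit 240, nat_lit 96, nat_lit 192])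
noncomputable def r172 : WT := (.leaf (nat_lit 46093) [nat_lit 72, nat_lit 168, nat_lit 144, nat_lit 120, nat_lit 96, nat_lit 192, nat_lit 216, nat_lit 72, nat_lit 168, nat_lit 144, nat_lit 120, nat_lit 96, nat_lit 192, nat_lit 216, nat_lit 72, nat_lit 168, nat_lit 144, nat_lit 120, nat_lit 96, nat_lit 192, nat_lit 216, nat_lit 72, nat_lit 168, nat_lit 144, nat_lit 120, nat_lit 96, nat_lit 192, nat_lit 216, nat_lit 72, nat_lit 168, nat_lit 144, nat_lit 120, nat_lit 96, nat_lit 192, nat_lit 216, nat_lit 72, nat_lit 168, nat_lit 144, nat_lit 120, nat_lit 96, nat_lit 192, nat_lit 216, nat_lit 72, nat_lit 168, nat_lit 144, nat_lit 120, nat_lit 96, nat_lit 192, nat_lit 216, nat_lit 72, nat_lit 168, nat_lit 144, nat_lit 120, nat_lit 96, nat_lit 192, nat_lit 216, nat_lit 72, nat_lit 168, nat_lit 144, nat_lit 120, nat_lit 96, nat_lit 192])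
noncomputable def r173 : WT := (.node (nat_lit 23) (.node (nat_lit 21) r165 (.node (nat_lit 22) r166 r167)) (.node (nat_lit 25) (.node (nat_lit 24) r168 r169) (.node (nat_lit 26) r170 (.node (nat_lit 27) r171 r172))))
noncomputable def r174 : WT := (.node (nat_lit 8) (.leaf (nat_lit 22530) [nat_lit 72, nat_lit 216, nat_lit 72]) (.node (nat_lit 12) (.node (nat_lit 10) (.node (nat_lit 9) r150 r151) (.node (nat_lit 11) r152 r153)) (.node (nat_lit 16) (.node (nat_lit 14) r156 r159) (.node (nat_lit 20) r164 r173))))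
noncomputable def w7 : WT := (.node (nat_lit 1) (.leaf (nat_lit 7168) [nat_lit 216]) (.node (nat_lit 4) (.node (nat_lit 2) (.leaf (nat_lit 37890) [nat_lit 144, nat_lit 216, nat_lit 144]) (.node (nat_lit 3) (.leaf (nat_lit 45056) [nat_lit 240, nat_lit 216, nat_lit 240, nat_lit 216, nat_lit 240]) (.leaf (nat_lit 40962) [nat_lit 168, nat_lit 216, nat_lit 168]))) (.node (nat_lit 6) (.node (nat_lit 5) (.leaf (nat_lit 28674) [nat_lit 96, nat_lit 216, nat_lit 96]) (.leaf (nat_lit 33794) [nat_lit 120, nat_lit 216, nat_lit 120])) (.node (nat_lit 7) (.leaf (nat_lit 43010) [nat_lit 192, nat_lit 216, nat_lit 192, nat_lit 216, nat_lit 192]) r174))))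
noncomputable def r175 : WT := (.leaf (nat_lit 49164) [nat_lit 72, nat_lit 120, nat_lit 144, nat_lit 168, nat_lit 96, nat_lit 120, nat_lit 144, nat_lit 240, nat_lit 192, nat_lit 96, nat_lit 72, nat_lit 120, nat_lit 96, nat_lit 144, nat_lit 120, nat_lit 168, nat_lit 144, nat_lit 192, nat_lit 96, nat_lit 72, nat_lit 120, nat_lit 96, nat_lit 192, nat_lit 240, nat_lit 144, nat_lit 120, nat_lit 96, nat_lit 168, nat_lit 144])
noncomputable def r176 : WT := (.leaf (nat_lit 50194) [nat_lit 192, nat_lit 216, nat_lit 96, nat_lit 120, nat_lit 144, nat_lit 240, nat_lit 192, nat_lit 96, nat_lit 120, nat_lit 144, nat_lit 216, nat_lit 192, nat_lit 96, nat_lit 120, nat_lit 240, nat_lit 144, nat_lit 216, nat_lit 192, nat_lit 96, nat_lit 240, nat_lit 216, nat_lit 120, nat_lit 144])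
noncomputable def r177 : WT := (.leaf (nat_lit 48140) [nat_lit 144, nat_lit 120, nat_lit 216, nat_lit 168, nat_lit 192, nat_lit 216, nat_lit 144, nat_lit 240, nat_lit 216, nat_lit 144, nat_lit 168, nat_lit 120, nat_lit 144, nat_lit 240, nat_lit 48, nat_lit 120, nat_lit 144, nat_lit 120, nat_lit 168, nat_lit 144, nat_lit 120, nat_lit 192, nat_lit 216, nat_lit 192, nat_lit 240, nat_lit 144, nat_lit 120, nat_lit 168, nat_lit 144, nat_lit 216])
noncomputable def r178 : WT := (.leaf (nat_lit 50213) [nat_lit 96, nat_lit 192, nat_lit 216, nat_lit 144, nat_lit 240, nat_lit 120, nat_lit 96, nat_lit 192, nat_lit 216, nat_lit 144, nat_lit 120, nat_lit 96, nat_lit 192, nat_lit 240, nat_lit 144, nat_lit 120, nat_lit 96, nat_lit 216, nat_lit 192, nat_lit 240, nat_lit 144, nat_lit 120, nat_lit 216])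
noncomputable def r179 : WT := (.leaf (nat_lit 48156) [nat_lit 216, nat_lit 144, nat_lit 168, nat_lit 120, nat_lit 144, nat_lit 240, nat_lit 48, nat_lit 120, nat_lit 144, nat_lit 120, nat_lit 168, nat_lit 144, nat_lit 120, nat_lit 192, nat_lit 216, nat_lit 192, nat_lit 240, nat_lit 144, nat_lit 120, nat_lit 168, nat_lit 144, nat_lit 216, nat_lit 240, nat_lit 144, nat_lit 120, nat_lit 216, nat_lit 168, nat_lit 192, nat_lit 216, nat_lit 144])
noncomputable def r180 : WT := (.leaf (nat_lit 50223) [nat_lit 120, nat_lit 96, nat_lit 192, nat_lit 216, nat_lit 144, nat_lit 120, nat_lit 96, nat_lit 192, nat_lit 240, nat_lit 144, nat_lit 120, nat_lit 96, nat_lit 216, nat_lit 192, nat_lit 240, nat_lit 144, nat_lit 120, nat_lit 216, nat_lit 240, nat_lit 96, nat_lit 192, nat_lit 216, nat_lit 144])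
noncomputable def r181 : WT := (.node (nat_lit 13) r179 r180)
noncomputable def r182 : WT := (.leaf (nat_lit 50193) [nat_lit 144, nat_lit 120, nat_lit 96, nat_lit 216, nat_lit 192, nat_lit 240, nat_lit 144, nat_lit 120, nat_lit 216, nat_lit 240, nat_lit 96, nat_lit 192, nat_lit 216, nat_lit 144, nat_lit 240, nat_lit 120, nat_lit 96, nat_lit 192, nat_lit 216, nat_lit 144, nat_lit 120, nat_lit 96, nat_lit 192])
noncomputable def r183 : WT := (.leaf (nat_lit 48177) [nat_lit 216, nat_lit 144, nat_lit 168, nat_lit 120, nat_lit 144, nat_lit 240, nat_lit 192, nat_lit 216, nat_lit 192, nat_lit 120, nat_lit 144, nat_lit 168, nat_lit 120, nat_lit 144, nat_lit 120, nat_lit 48, nat_lit 240, nat_lit 144, nat_lit 120, nat_lit 168, nat_lit 144, nat_lit 216, nat_lit 240, nat_lit 144, nat_lit 216, nat_lit 192, nat_lit 168, nat_lit 216, nat_lit 120, nat_lit 144])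
noncomputable def r184 : WT := (.node (nat_lit 15) r182 r183)
noncomputable def r185 : WT := (.leaf (nat_lit 47118) [nat_lit 144, nat_lit 120, nat_lit 96, nat_lit 120, nat_lit 144, nat_lit 240, nat_lit 216, nat_lit 192, nat_lit 216, nat_lit 240, nat_lit 144, nat_lit 120, nat_lit 96, nat_lit 120, nat_lit 144, nat_lit 240, nat_lit 216, nat_lit 192, nat_lit 216, nat_lit 240, nat_lit 144, nat_lit 120, nat_lit 96, nat_lit 120, nat_lit 144, nat_lit 240, nat_lit 216, nat_lit 192, nat_lit 216])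
noncomputable def r186 : WT := (.leaf (nat_lit 50176) [nat_lit 144, nat_lit 216, nat_lit 192, nat_lit 96, nat_lit 240, nat_lit 216, nat_lit 120, nat_lit 144, nat_lit 240, nat_lit 192, nat_lit 216, nat_lit 96, nat_lit 120, nat_lit 144, nat_lit 240, nat_lit 192, nat_lit 96, nat_lit 120, nat_lit 144, nat_lit 216, nat_lit 192, nat_lit 96, nat_lit 120])
noncomputable def r187 : WT := (.leaf (nat_lit 49199) [nat_lit 144, nat_lit 168, nat_lit 96, nat_lit 120, nat_lit 144, nat_lit 240, nat_lit 192, nat_lit 96, nat_lit 120, nat_lit 72, nat_lit 96, nat_lit 192, nat_lit 144, nat_lit 168, nat_lit 120, nat_lit 144, nat_lit 96, nat_lit 120, nat_lit 72, nat_lit 96, nat_lit 192, nat_lit 240, nat_lit 144, nat_lit 120, nat_lit 96, nat_lit 168, nat_lit 144, nat_lit 120, nat_lit 72])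
noncomputable def r188 : WT := (.node (nat_lit 17) r185 (.node (nat_lit 18) r186 r187))
noncomputable def r189 : WT := (.leaf (nat_lit 48168) [nat_lit 48, nat_lit 120, nat_lit 144, nat_lit 120, nat_lit 168, nat_lit 144, nat_lit 120, nat_lit 192, nat_lit 216, nat_lit 192, nat_lit 240, nat_lit 144, nat_lit 120, nat_lit 168, nat_lit 144, nat_lit 216, nat_lit 240, nat_lit 144, nat_lit 120, nat_lit 216, nat_lit 168, nat_lit 192, nat_lit 216, nat_lit 144, nat_lit 240, nat_lit 216, nat_lit 144, nat_lit 168, nat_lit 120, nat_lit 144])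
noncomputable def r190 : WT := (.leaf (nat_lit 48149) [nat_lit 144, nat_lit 120, nat_lit 168, nat_lit 144, nat_lit 216, nat_lit 240, nat_lit 144, nat_lit 216, nat_lit 192, nat_lit 168, nat_lit 216, nat_lit 120, nat_lit 144, nat_lit 240, nat_lit 216, nat_lit 144, nat_lit 168, nat_lit 120, nat_lit 144, nat_lit 240, nat_lit 192, nat_lit 216, nat_lit 192, nat_lit 120, nat_lit 144, nat_lit 168, nat_lit 120, nat_lit 144, nat_lit 120, nat_lit 48])
noncomputable def r191 : WT := (.leaf (nat_lit 48128) [nat_lit 144, nat_lit 120, nat_lit 168, nat_lit 144, nat_lit 216, nat_lit 240, nat_lit 144, nat_lit 120, nat_lit 216, nat_lit 168, nat_lit 192, nat_lit 216, nat_lit 144, nat_lit 240, nat_lit 216, nat_lit 144, nat_lit 168, nat_lit 120, nat_lit 144, nat_lit 240, nat_lit 48, nat_lit 120, nat_lit 144, nat_lit 120, nat_lit 168, nat_lit 144, nat_lit 120, nat_lit 192, nat_lit 216, nat_lit 192])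
noncomputable def r192 : WT := (.leaf (nat_lit 47110) [nat_lit 216, nat_lit 192, nat_lit 216, nat_lit 240, nat_lit 144, nat_lit 120, nat_lit 96, nat_lit 120, nat_lit 144, nat_lit 240, nat_lit 216, nat_lit 192, nat_lit 216, nat_lit 240, nat_lit 144, nat_lit 120, nat_lit 96, nat_lit 120, nat_lit 144, nat_lit 240, nat_lit 216, nat_lit 192, nat_lit 216, nat_lit 240, nat_lit 144, nat_lit 120, nat_lit 96, nat_lit 120, nat_lit 144])
noncomputable def r193 : WT := (.leaf (nat_lit 50205) [nat_lit 144, nat_lit 120, nat_lit 216, nat_lit 240, nat_lit 96, nat_lit 192, nat_lit 216, nat_lit 144, nat_lit 240, nat_lit 120, nat_lit 96, nat_lit 192, nat_lit 216, nat_lit 144, nat_lit 120, nat_lit 96, nat_lit 192, nat_lit 240, nat_lit 144, nat_lit 120, nat_lit 96, nat_lit 216, nat_lit 192])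
noncomputable def r194 : WT := (.leaf (nat_lit 50206) [nat_lit 192, nat_lit 96, nat_lit 120, nat_lit 144, nat_lit 216, nat_lit 192, nat_lit 96, nat_lit 120, nat_lit 240, nat_lit 144, nat_lit 216, nat_lit 192, nat_lit 96, nat_lit 240, nat_lit 216, nat_lit 120, nat_lit 144, nat_lit 240, nat_lit 192, nat_lit 216, nat_lit 96, nat_lit 120, nat_lit 144])
noncomputable def r195 : WT := (.leaf (nat_lit 50186) [nat_lit 216, nat_lit 120, nat_lit 144, nat_lit 240, nat_lit 192, nat_lit 216, nat_lit 96, nat_lit 120, nat_lit 144, nat_lit 240, nat_lit 192, nat_lit 96, nat_lit 120, nat_lit 144, nat_lit 216, nat_lit 192, nat_lit 96, nat_lit 120, nat_lit 240, nat_lit 144, nat_lit 216, nat_lit 192, nat_lit 96])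
noncomputable def r196 : WT := (.node (nat_lit 21) (.node (nat_lit 20) r189 r190) (.node (nat_lit 23) (.node (nat_lit 22) r191 r192) (.node (nat_lit 24) r193 (.node (nat_lit 25) r194 r195))))
noncomputable def r197 : WT := (.node (nat_lit 8) (.leaf (nat_lit 23554) [nat_lit 72, nat_lit 240, nat_lit 72]) (.node (nat_lit 12) (.node (nat_lit 10) (.node (nat_lit 9) r175 r176) (.node (nat_lit 11) r177 r178)) (.node (nat_lit 16) (.node (nat_lit 14) r181 r184) (.node (nat_lit 19) r188 r196))))
noncomputable def w8 : WT := (.node (nat_lit 1) (.leaf (nat_lit 8192) [nat_lit 240]) (.node (nat_lit 4) (.node (nat_lit 2) (.leaf (nat_lit 44034) [nat_lit 192, nat_lit 240, nat_lit 192]) (.node (nat_lit 3) (.leaf (nat_lit 29698) [nat_lit 96, nat_lit 240, nat_lit 96]) (.leaf (nat_lit 41986) [nat_lit 168, nat_lit 240, nat_lit 168]))) (.node (nat_lit 6) (.node (nat_lit 5) (.leaf (nat_lit 34818) [nat_lit 120, nat_lit 240, nat_lit 120]) (.leaf (nat_lit 45058) [nat_lit 216, nat_lit 240, nat_lit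 216, nat_lit 240, nat_lit 216])) (.node (nat_lit 7) (.leaf (nat_lit 38914) [nat_lit 144, nat_lit 240, nat_lit 144, nat_lit 240, nat_lit 144]) r197))))
noncomputable def r198 : WT := (.leaf (nat_lit 48186) [nat_lit 216, nat_lit 192, nat_lit 240, nat_lit 144, nat_lit 120, nat_lit 168, nat_lit 144, nat_lit 216, nat_lit 240, nat_lit 144, nat_lit 120, nat_lit 216, nat_lit 168, nat_lit 192, nat_lit 216, nat_lit 144, nat_lit 240, nat_lit 216, nat_lit 144, nat_lit 168, nat_lit 120, nat_lit 144, nat_lit 240, nat_lit 48, nat_lit 120, nat_lit 144, nat_lit 120, nat_lit 168, nat_lit 144, nat_lit 120, nat_lit 192])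
noncomputable def wP : WT := r198
noncomputable def P : Par := ⟨tb, nat_lit 264, nat_lit 0xffffffffffffffffffffffffffffffffffffffffffffffffffffffffffffffffff, nat_lit 6342, nat_lit 16777215, nat_lit 8191, nat_lit 24, nat_lit 13, nat_lit 6336,
  [nat_lit 48, nat_lit 72, nat_lit 96, nat_lit 120, nat_lit 144, nat_lit 168, nat_lit 192, nat_lit 216, nat_lit 240], [nat_lit 48, nat_lit 72, nat_lit 96, nat_lit 120, nat_lit 144, nat_lit 168, nat_lit 192, nat_lit 216], wP,
  (.cons (nat_lit 48) w0 (.cons (nat_lit 72) w1 (.cons (nat_lit 96) w2 (.cons (nat_lit 120) w3 (.cons (nat_lit 144) w4 (.cons (nat_lit 168) w5 (.cons (nat_lit 192) w6 (.cons (nat_lit 216) w7 (.cons (nat_lit 240) w8 .nil))))))))),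
  .nil⟩

end Cfsg.Agent.Lib.TCU62a
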