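import Cfsg.Agent.Lib.DCEDefs

set_option autoImplicit false
set_option maxRecDepth 100000

namespace Cfsg.Agent.Lib.ThD
open Cfsg.Agent.Lib.PermNet Cfsg.Agent.Lib.DCE

noncomputable def f1600 : FT := (.node (nat_lit 1616) (.node (nat_lit 1608) (.node (nat_lit 1604) (.node (nat_lit 1602) (.node (nat_lit 1601) (.leaf ⟨6, 6, true, [19, 14, 8, 19, 19, 14, 8, 6], [18, 8, 18, 8, 19, 19, 2, 11, 4, 6, 8, 11, 4, 6, 8, 4, 6, 4, 12, 8, 10, 6, 8, 10]⟩)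
  (.leaf ⟨6, 6, true, [18, 18, 13, 18, 8, 6, 18], [14, 10, 8, 19, 0, 2, 8, 11, 6, 8, 11, 4, 6, 8, 11, 4, 6, 8, 4, 6, 4, 0, 10, 10, 13]⟩))
  (.node (nat_lit 1603) (.leaf ⟨6, 6, true, [0, 15, 18, 8, 6, 0, 18, 8, 6], [19, 6, 8, 19, 8, 19, 2, 10, 12, 4, 6, 8, 10, 4, 6, 8, 4, 6, 4, 8, 11, 13, 6, 8, 11]⟩)
  (.leaf ⟨6, 5, true, [2, 18, 8, 18, 8, 15, 18, 8, 18, 11], [12, 19, 8, 0, 19, 2, 11, 13, 6, 8, 11, 4, 6, 8, 4, 6, 4, 10, 8, 10, 23]⟩)))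
  (.node (nat_lit 1606) (.node (nat_lit 1605) (.leaf ⟨5, 6, true, [14, 8, 19, 6, 8, 19, 8, 16, 10], [18, 18, 12, 8, 19, 8, 19, 2, 8, 10, 8, 4, 6, 4, 0, 10, 6, 12]⟩)
  (.leaf ⟨6, 6, true, [0, 18, 13, 18, 8, 16, 8, 19, 16], [8, 2, 19, 8, 19, 2, 8, 11, 13, 4, 6, 8, 11, 4, 6, 8, 4, 6, 4, 12, 8, 11, 6, 24]⟩))
  (.node (nat_lit 1607) (.leaf ⟨6, 6, true, [15, 12, 8, 18, 8, 19, 6, 2], [0, 15, 12, 18, 8, 0, 18, 18, 6, 8, 10, 4, 6, 8, 10, 4, 6, 8, 4, 6, 4, 0, 8, 11, 8, 11, 20]⟩)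
  (.leaf ⟨6, 6, true, [12, 14, 8, 19, 0, 14, 8, 6], [14, 8, 4, 6, 18, 8, 19, 2, 10, 10, 8, 4, 6, 4, 0, 12, 6, 8, 10, 12]⟩))))
  (.node (nat_lit 1612) (.node (nat_lit 1610) (.node (nat_lit 1609) (.leaf ⟨6, 6, true, [18, 6, 8, 19, 8, 19, 14, 8, 6], [14, 18, 8, 0, 19, 8, 19, 2, 10, 10, 8, 6, 4, 0, 13, 10, 8, 11, 6, 8, 10, 6, 24]⟩)
  (.leaf ⟨6, 6, true, [13, 18, 10, 8, 6, 18, 8, 18], [19, 0, 19, 12, 10, 8, 19, 2, 0, 11, 8, 11, 12, 6, 8, 11]⟩))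
  (.node (nat_lit 1611) (.leaf ⟨6, 6, true, [4, 14, 8, 6], [8, 0, 2, 18, 8, 0, 18, 18, 10, 8, 11, 4, 6, 8, 4, 6, 4, 10, 8, 11, 6, 8, 11]⟩)
  (.leaf ⟨6, 6, true, [19, 13, 8, 16, 8, 19, 6, 2], [6, 18, 18, 8, 19, 2, 6, 4, 6, 8, 10, 6, 8, 11, 4, 6, 8, 4, 6, 4, 0, 11, 8, 10, 6, 8, 10, 6, 20]⟩)))
  (.node (nat_lit 1614) (.node (nat_lit 1613) (.leaf ⟨6, 6, true, [12, 16, 8, 0, 19, 16], [15, 18, 8, 19, 10, 8, 19, 2, 10, 10, 6, 8, 11, 4, 6, 8, 11, 4, 6, 8, 4, 6, 4, 12, 11, 8, 10, 6, 8, 10, 22]⟩)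
  (.leaf ⟨6, 6, true, [18, 18, 8, 18, 8, 18, 8, 6, 18], [18, 8, 15, 19, 8, 19, 2, 6, 4, 13, 10, 8, 10, 6, 8, 10, 13]⟩))
  (.node (nat_lit 1615) (.leaf ⟨6, 6, true, [14, 10, 8, 18, 10, 8, 0, 18], [15, 19, 8, 19, 8, 19, 2, 4, 6, 8, 11, 8, 11, 4, 6, 8, 10, 4, 6, 8, 4, 6, 4, 8, 11, 12, 6, 8, 11, 6]⟩)
  (.leaf ⟨4, 6, true, [19, 10, 6, 8, 19, 8, 16, 10], [15, 8, 18, 8, 19, 8, 19, 2, 10, 8, 11, 13, 4, 6, 8, 10, 4, 6, 8, 4, 6, 4, 10, 12, 6, 8, 10, 20]⟩)))))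
  (.node (nat_lit 1624) (.node (nat_lit 1620) (.node (nat_lit 1618) (.node (nat_lit 1617) (.leaf ⟨6, 4, true, [0, 2, 18, 13, 8, 18, 8, 18, 10], [16, 8, 14, 18, 18, 8, 19, 2, 12, 8, 10, 6, 8, 4, 6, 4, 0, 8, 10, 12]⟩)
  (.leaf ⟨6, 5, true, [6, 18, 8, 15, 18, 8, 6, 18], [8, 19, 6, 8, 19, 19, 2, 10, 4, 6, 8, 11, 6, 4, 6, 8, 10, 4, 6, 8, 4, 6, 4, 11, 8, 10, 6, 8, 11, 6, 24]⟩))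
  (.node (nat_lit 1619) (.leaf ⟨5, 6, true, [8, 16, 8, 19, 8, 6, 2], [13, 18, 8, 19, 6, 8, 18, 18, 11, 4, 6, 8, 10, 4, 6, 8, 4, 6, 4, 13, 10, 6, 8, 11, 12]⟩)
  (.leaf ⟨6, 5, true, [6, 8, 19, 10, 6, 8, 18], [12, 19, 8, 2, 19, 8, 19, 2, 13, 8, 11, 4, 6, 8, 4, 6, 4, 13, 11, 8, 11, 23]⟩)))
  (.node (nat_lit 1622) (.node (nat_lit 1621) (.leaf ⟨5, 6, true, [12, 0, 19, 8, 14, 6], [8, 14, 0, 19, 11, 8, 19, 2, 13, 10, 8, 11, 6, 8, 10, 4, 6, 8, 4, 6, 4, 10, 6, 8, 10, 6, 8, 11, 20]⟩)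
  (.leaf ⟨6, 6, true, [8, 18, 12, 18, 8, 19, 14, 6], [6, 18, 10, 8, 18, 18, 11, 13, 8, 10, 4, 6, 8, 4, 6, 4, 11, 6, 8, 10, 20]⟩))
  (.node (nat_lit 1623) (.leaf ⟨6, 6, true, [13, 18, 14, 8, 19, 8, 0, 14, 6], [15, 19, 6, 18, 8, 19, 2, 10, 6, 8, 10, 4, 6, 8, 11, 4, 6, 8, 4, 6, 4, 0, 8, 10, 6, 8, 11, 6]⟩)
  (.leaf ⟨6, 5, true, [19, 10, 10, 8, 19, 8, 19, 8, 16], [19, 16, 8, 0, 19, 8, 19, 2, 12, 11, 4, 6, 8, 4, 6, 4, 0, 12, 10, 6, 12]⟩))))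
  (.node (nat_lit 1628) (.node (nat_lit 1626) (.node (nat_lit 1625) (.leaf ⟨5, 6, true, [18, 11, 8, 19, 19, 15, 8, 10, 6], [16, 8, 19, 19, 2, 8, 10, 6, 8, 10, 4, 6, 8, 11, 4, 6, 8, 4, 6, 4, 8, 10, 6, 8, 11, 20]⟩)
  (.leaf ⟨6, 6, true, [8, 19, 6, 8, 18, 8, 18, 10], [2, 19, 12, 19, 8, 19, 2, 6, 8, 10, 10, 4, 6, 8, 10, 4, 6, 8, 4, 6, 4, 8, 10, 8, 10, 6, 8, 10, 22]⟩))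
  (.node (nat_lit 1627) (.leaf ⟨6, 6, true, [12, 16, 8, 6, 0, 18, 10], [0, 15, 18, 14, 8, 18, 18, 11, 8, 10, 6, 8, 10, 4, 6, 8, 4, 6, 4, 0, 11, 6, 8, 11, 20]⟩)
  (.leaf ⟨6, 6, true, [2, 19, 6, 8, 19, 6, 2], [19, 8, 15, 18, 8, 18, 18, 10, 4, 6, 8, 11, 6, 8, 10, 4, 6, 8, 4, 6, 4, 12, 8, 10, 6, 21]⟩)))
  (.node (nat_lit 1630) (.node (nat_lit 1629) (.leaf ⟨6, 6, true, [18, 18, 8, 16, 8, 19, 16], [14, 0, 19, 11, 8, 19, 2, 11, 11, 8, 11, 6, 8, 4, 6, 4, 6, 8, 11, 6, 8, 10, 25]⟩)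
  (.leaf ⟨6, 6, true, [10, 6, 8, 19, 19, 16, 8, 6, 18], [15, 0, 15, 18, 8, 0, 18, 18, 12, 10, 8, 6, 4, 10, 8, 10, 6, 8, 10, 22]⟩))
  (.node (nat_lit 1631) (.leaf ⟨6, 6, true, [13, 6, 18, 8, 18, 8, 6, 18], [10, 6, 8, 0, 19, 8, 19, 2, 11, 6, 8, 10, 4, 6, 8, 4, 6, 4, 11, 13, 6, 8, 11, 24]⟩)
  (.leaf ⟨6, 6, true, [2, 18, 8, 2, 18, 8, 19, 6, 2], [19, 19, 0, 19, 8, 19, 2, 11, 11, 8, 10, 4, 6, 8, 11, 4, 6, 8, 4, 6, 4, 11, 8, 10, 6, 20]⟩))))))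

noncomputable def f1632 : FT := (.node (nat_lit 1648) (.node (nat_lit 1640) (.node (nat_lit 1636) (.node (nat_lit 1634) (.node (nat_lit 1633) (.leaf ⟨6, 6, true, [19, 14, 8, 19, 8, 10, 8, 19, 2], [13, 18, 14, 8, 19, 8, 19, 2, 12, 8, 10, 4, 6, 8, 10, 4, 6, 8, 4, 6, 4, 13, 8, 10, 25]⟩)
  (.leaf ⟨6, 6, true, [6, 8, 19, 8, 6, 18, 8, 19, 16], [11, 8, 0, 19, 19, 2, 11, 6, 8, 10, 4, 6, 8, 10, 4, 6, 8, 4, 6, 4, 0, 13, 10, 8, 10, 6, 8, 10, 24]⟩))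
  (.node (nat_lit 1635) (.leaf ⟨6, 6, true, [12, 8, 19, 6, 8, 6, 18, 10], [19, 16, 8, 15, 19, 8, 19, 2, 4, 6, 8, 10, 12, 4, 6, 8, 10, 4, 6, 8, 4, 6, 4, 11, 8, 11, 12, 6, 8, 11]⟩)
  (.leaf ⟨6, 6, true, [8, 0, 18, 18, 18, 8, 6], [18, 8, 18, 8, 19, 2, 8, 11, 8, 11, 6, 8, 4, 6, 4, 0, 13, 11, 8, 10, 6, 8, 10, 25]⟩)))
  (.node (nat_lit 1638) (.node (nat_lit 1637) (.leaf ⟨6, 6, true, [10, 8, 0, 19, 6, 8, 18, 10], [8, 18, 8, 18, 8, 19, 2, 8, 10, 4, 6, 8, 10, 4, 6, 8, 4, 6, 4, 11, 13, 8, 10, 12]⟩)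
  (.leaf ⟨6, 6, true, [0, 15, 18, 8, 19, 19, 14], [18, 18, 18, 8, 19, 2, 11, 8, 11, 6, 8, 4, 6, 4, 0, 10, 8, 10, 6, 8, 10, 21]⟩))
  (.node (nat_lit 1639) (.leaf ⟨6, 6, true, [19, 19, 16, 8, 19, 8, 19, 8, 16], [0, 19, 15, 19, 10, 8, 19, 2, 11, 6, 8, 11, 4, 6, 8, 11, 4, 6, 8, 4, 6, 4, 6, 8, 11, 8, 11, 21]⟩)
  (.leaf ⟨6, 6, true, [19, 15, 12, 19, 8, 19, 8, 6, 2], [0, 19, 12, 8, 19, 8, 19, 2, 11, 6, 8, 10, 6, 4, 6, 8, 11, 4, 6, 8, 4, 6, 4, 11, 11, 8, 10, 6, 8, 11, 20]⟩))))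
  (.node (nat_lit 1644) (.node (nat_lit 1642) (.node (nat_lit 1641) (.leaf ⟨6, 6, true, [8, 0, 18, 8, 18, 8, 0, 18], [14, 8, 6, 18, 8, 19, 2, 0, 11, 11, 8, 11, 6, 8, 11]⟩)
  (.leaf ⟨6, 6, true, [15, 18, 14, 8, 19, 8, 19, 8, 14, 6], [6, 18, 8, 19, 10, 8, 19, 2, 10, 8, 11, 6, 8, 11, 4, 6, 8, 4, 6, 4, 13, 8, 10, 6, 12]⟩))
  (.node (nat_lit 1643) (.leaf ⟨6, 6, true, [16, 0, 19, 8, 19, 8, 19, 8, 6, 2], [10, 8, 19, 10, 8, 19, 2, 10, 4, 6, 8, 4, 6, 4, 10, 6, 8, 11, 21]⟩)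
  (.leaf ⟨6, 6, true, [18, 14, 8, 18, 12, 10, 8, 18], [8, 6, 18, 8, 19, 0, 2, 13, 8, 10, 6, 8, 11, 4, 6, 8, 4, 6, 4, 13, 6, 8, 11, 6, 24]⟩)))
  (.node (nat_lit 1646) (.node (nat_lit 1645) (.leaf ⟨6, 6, true, [13, 10, 8, 19, 8, 19, 14, 8, 6], [14, 18, 18, 8, 19, 2, 8, 11, 4, 6, 8, 11, 4, 6, 8, 4, 6, 4, 0, 10, 10, 6, 22]⟩)
  (.leaf ⟨6, 6, true, [14, 6, 8, 18, 8, 18, 11], [15, 19, 8, 0, 19, 2, 10, 10, 6, 8, 11, 4, 6, 8, 11, 4, 6, 8, 4, 6, 4, 8, 11, 11, 6, 8, 11, 22]⟩))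
  (.node (nat_lit 1647) (.leaf ⟨6, 6, true, [15, 18, 8, 18, 12, 8, 18], [14, 12, 8, 0, 19, 8, 19, 2, 11, 6, 8, 10, 6, 4, 6, 8, 11, 4, 6, 8, 4, 6, 4, 8, 10, 6, 8, 10, 22]⟩)
  (.leaf ⟨6, 6, true, [19, 8, 15, 8, 19, 12, 8, 19, 2], [12, 18, 8, 19, 6, 8, 18, 18, 11, 8, 6, 4, 0, 6, 8, 11, 6, 13]⟩)))))
  (.node (nat_lit 1656) (.node (nat_lit 1652) (.node (nat_lit 1650) (.node (nat_lit 1649) (.leaf ⟨6, 6, true, [10, 10, 10, 8, 18, 8, 18], [8, 19, 19, 12, 19, 8, 19, 2, 4, 6, 8, 10, 4, 6, 8, 11, 4, 6, 8, 4, 6, 4, 13, 8, 10, 6, 8, 11, 13]⟩)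
  (.leaf ⟨6, 6, true, [18, 0, 18, 8, 18, 10, 8, 18], [12, 8, 16, 8, 19, 19, 2, 8, 10, 8, 4, 6, 4, 0, 10, 8, 10, 10, 6, 8, 11, 22]⟩))
  (.node (nat_lit 1651) (.leaf ⟨6, 6, true, [8, 16, 13, 8, 19, 8, 19, 2], [0, 19, 12, 19, 8, 0, 19, 2, 12, 8, 10, 4, 6, 8, 10, 4, 6, 8, 4, 6, 4, 11, 11, 8, 10, 13]⟩)
  (.leaf ⟨6, 6, true, [10, 8, 18, 12, 8, 18, 8, 18], [18, 8, 19, 2, 10, 8, 11, 6, 8, 4, 6, 4, 11, 8, 10, 6, 8, 11, 6, 23]⟩)))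
  (.node (nat_lit 1654) (.node (nat_lit 1653) (.leaf ⟨6, 6, true, [6, 18, 8, 18, 8, 18, 8, 6], [4, 6, 8, 18, 18, 11, 6, 4, 6, 8, 10, 4, 6, 8, 11, 4, 6, 8, 4, 6, 4, 13, 6, 8, 10, 24]⟩)
  (.leaf ⟨6, 6, true, [15, 18, 8, 18, 8, 19, 8, 16], [8, 2, 18, 8, 18, 18, 12, 10, 8, 10, 4, 6, 8, 4, 6, 4, 6, 8, 10, 8, 10, 20]⟩))
  (.node (nat_lit 1655) (.leaf ⟨6, 6, true, [10, 8, 18, 8, 6, 18, 8, 18], [18, 14, 12, 8, 19, 8, 19, 2, 12, 10, 4, 6, 8, 4, 6, 4, 11, 12, 6, 8, 11, 6, 22]⟩)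
  (.leaf ⟨6, 6, true, [12, 18, 8, 15, 18, 18, 8, 10, 6], [8, 19, 19, 12, 19, 8, 19, 2, 11, 6, 8, 10, 4, 6, 8, 4, 6, 4, 0, 11, 8, 11, 6, 25]⟩))))
  (.node (nat_lit 1660) (.node (nat_lit 1658) (.node (nat_lit 1657) (.leaf ⟨6, 6, true, [14, 8, 19, 12, 19, 8, 16], [11, 8, 19, 2, 8, 10, 12, 4, 6, 8, 10, 4, 6, 8, 4, 6, 4, 10, 10, 12]⟩)
  (.leaf ⟨6, 6, true, [0, 19, 6, 8, 16, 8, 19, 16], [18, 8, 15, 18, 8, 0, 18, 18, 13, 8, 11, 6, 8, 4, 6, 4, 0, 13, 8, 10, 21]⟩))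
  (.node (nat_lit 1659) (.leaf ⟨6, 6, true, [8, 0, 18, 13, 8, 18, 8, 18], [18, 8, 0, 18, 18, 4, 6, 8, 11, 6, 8, 10, 4, 6, 8, 4, 6, 4, 10, 8, 11, 6, 8, 10, 6]⟩)
  (.leaf ⟨6, 6, true, [4, 6, 8, 18, 12, 18, 8, 6], [12, 15, 8, 19, 0, 2, 8, 11, 6, 8, 11, 6, 4, 6, 8, 11, 4, 6, 8, 4, 6, 4, 10, 10, 6]⟩)))
  (.node (nat_lit 1662) (.node (nat_lit 1661) (.leaf ⟨6, 6, true, [18, 8, 2, 18, 8, 15, 18, 18, 8, 6], [0, 14, 8, 18, 8, 18, 18, 12, 8, 10, 4, 6, 8, 10, 4, 6, 8, 4, 6, 4, 11, 13, 6, 8, 10, 6]⟩)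
  (.leaf ⟨6, 6, true, [15, 18, 18, 8, 18, 8, 6, 18, 10], [8, 18, 8, 19, 8, 19, 2, 13, 11, 6, 8, 10, 4, 6, 8, 4, 6, 4, 10, 8, 11, 21]⟩))
  (.node (nat_lit 1663) (.leaf ⟨6, 6, true, [0, 19, 13, 11, 8, 19, 8, 16], [16, 8, 19, 10, 8, 19, 2, 4, 6, 8, 11, 13, 4, 6, 8, 11, 4, 6, 8, 4, 6, 4, 12, 11, 6, 8, 10, 25]⟩)
  (.leaf ⟨6, 6, true, [0, 2, 18, 8, 18, 12, 18, 8, 6], [12, 6, 8, 18, 8, 0, 18, 18, 8, 10, 6, 8, 4, 6, 4, 0, 10, 10, 6, 8, 11, 23]⟩))))))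

noncomputable def f1664 : FT := (.node (nat_lit 1680) (.node (nat_lit 1672) (.node (nat_lit 1668) (.node (nat_lit 1666) (.node (nat_lit 1665) (.leaf ⟨6, 6, true, [14, 18, 18, 12, 8, 6, 18], [13, 6, 18, 8, 19, 8, 19, 2, 12, 10, 6, 8, 11, 4, 6, 8, 4, 6, 4, 13, 11, 6, 8, 11, 22]⟩)
  (.leaf ⟨6, 6, true, [0, 18, 8, 18, 13, 10, 8, 18], [0, 19, 12, 19, 8, 19, 2, 10, 10, 8, 11, 4, 6, 8, 4, 6, 4, 13, 10, 8, 11, 6, 8, 11, 20]⟩))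
  (.node (nat_lit 1667) (.leaf ⟨6, 6, true, [6, 18, 8, 15, 18, 8, 18, 12, 10], [13, 19, 8, 19, 8, 0, 19, 2, 8, 10, 8, 6, 4, 0, 11, 12, 8, 10, 13]⟩)
  (.leaf ⟨6, 6, true, [10, 8, 0, 18, 18, 18, 8, 6], [19, 0, 19, 8, 19, 2, 4, 6, 4, 0, 10, 8, 11, 6, 8, 11, 6, 20]⟩)))
  (.node (nat_lit 1670) (.node (nat_lit 1669) (.leaf ⟨6, 6, true, [18, 18, 8, 2, 18, 8, 6, 18, 10], [10, 8, 18, 0, 14, 8, 18, 18, 6, 4, 6, 8, 11, 4, 6, 8, 4, 6, 4, 8, 10, 6]⟩)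
  (.leaf ⟨6, 6, true, [8, 15, 8, 18, 8, 19, 14, 6], [19, 12, 19, 8, 19, 2, 13, 8, 11, 6, 8, 11, 4, 6, 8, 11, 4, 6, 8, 4, 6, 4, 12, 8, 10, 13]⟩))
  (.node (nat_lit 1671) (.leaf ⟨6, 6, true, [11, 11, 8, 19, 8, 19, 14], [8, 10, 8, 19, 0, 2, 4, 6, 8, 10, 12, 4, 6, 8, 10, 4, 6, 8, 4, 6, 4, 12]⟩)
  (.leaf ⟨6, 6, true, [11, 11, 8, 19, 8, 10, 8, 19, 2], [18, 14, 18, 18, 8, 19, 2, 10, 6, 8, 11, 6, 4, 6, 8, 10, 4, 6, 8, 4, 6, 4, 11, 8, 11, 23]⟩))))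
  (.node (nat_lit 1676) (.node (nat_lit 1674) (.node (nat_lit 1673) (.leaf ⟨6, 6, true, [14, 8, 19, 8, 16, 8, 19, 12, 19, 2], [12, 19, 8, 0, 19, 2, 11, 6, 4, 6, 8, 11, 4, 6, 8, 10, 4, 6, 8, 4, 6, 4, 11, 21]⟩)
  (.leaf ⟨6, 6, true, [8, 19, 8, 19, 8, 19, 14, 10], [6, 18, 18, 8, 19, 8, 19, 2, 12, 11, 8, 10, 4, 6, 8, 10, 4, 6, 8, 4, 6, 4, 12, 8, 10, 6, 8, 10, 25]⟩))
  (.node (nat_lit 1675) (.leaf ⟨6, 6, true, [18, 0, 19, 13, 19, 8, 16, 8, 19, 16], [2, 18, 8, 19, 8, 0, 19, 2, 10, 8, 11, 4, 6, 8, 10, 4, 6, 8, 4, 6, 4, 0, 11, 8, 11, 21]⟩)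
  (.leaf ⟨6, 6, true, [12, 6, 8, 0, 18, 8, 18], [18, 18, 12, 8, 19, 8, 19, 2, 10, 6, 8, 10, 4, 6, 8, 4, 6, 4, 0, 6, 8, 10, 6, 8, 11, 6, 25]⟩)))
  (.node (nat_lit 1678) (.node (nat_lit 1677) (.leaf ⟨6, 6, true, [19, 11, 8, 16, 8, 19, 8, 16], [18, 8, 18, 14, 8, 19, 19, 2, 10, 10, 8, 4, 6, 4, 0, 12, 8, 10, 21]⟩)
  (.leaf ⟨6, 6, true, [16, 10, 8, 19, 8, 6, 2], [10, 8, 19, 6, 18, 8, 19, 2, 6, 8, 10, 4, 6, 8, 10, 4, 6, 8, 4, 6, 4, 0, 13, 11, 8, 10, 6, 8, 10, 24]⟩))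
  (.node (nat_lit 1679) (.leaf ⟨6, 6, true, [8, 18, 8, 6, 18, 8, 18], [6, 18, 18, 8, 19, 10, 8, 19, 2, 13, 6, 8, 10, 4, 6, 8, 4, 6, 4, 13, 10, 8, 11, 6, 8, 10, 6, 21]⟩)
  (.leaf ⟨6, 6, true, [19, 12, 10, 8, 19, 8, 19, 14, 8, 6], [10, 6, 8, 19, 19, 2, 8, 10, 4, 6, 8, 10, 4, 6, 8, 4, 6, 4, 13, 11, 6, 8, 11, 21]⟩)))))
  (.node (nat_lit 1688) (.node (nat_lit 1684) (.node (nat_lit 1682) (.node (nat_lit 1681) (.leaf ⟨6, 6, true, [0, 14, 8, 6, 18, 10, 8, 6, 18], [8, 0, 18, 10, 10, 8, 18, 18, 8, 10, 8, 6, 4, 0, 13, 6, 8, 11, 24]⟩)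
  (.leaf ⟨6, 6, true, [13, 15, 18, 8, 6, 18, 8, 18, 10], [0, 15, 12, 18, 8, 18, 18, 10, 12, 4, 6, 8, 10, 4, 6, 8, 4, 6, 4, 10, 8, 11, 6, 25]⟩))
  (.node (nat_lit 1683) (.leaf ⟨6, 6, true, [12, 11, 8, 19, 19, 15, 8, 6], [19, 10, 8, 19, 8, 19, 2, 4, 6, 8, 10, 13, 4, 6, 8, 10, 4, 6, 8, 4, 6, 4, 11, 11, 8, 10, 6, 8, 11, 25]⟩)
  (.leaf ⟨6, 6, true, [6, 18, 14, 8, 18, 8, 18], [6, 18, 8, 19, 2, 10, 13, 8, 11, 4, 6, 8, 4, 6, 4, 0, 10, 10, 8, 11, 21]⟩)))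
  (.node (nat_lit 1686) (.node (nat_lit 1685) (.leaf ⟨6, 6, true, [11, 8, 16, 8, 19, 6, 2], [15, 0, 19, 8, 19, 10, 8, 19, 2, 4, 6, 8, 11, 8, 11, 4, 6, 8, 4, 6, 4, 12, 11, 8, 10, 13]⟩)
  (.leaf ⟨6, 6, true, [0, 18, 13, 8, 18, 10, 8, 18], [16, 8, 2, 19, 8, 19, 2, 13, 8, 11, 6, 8, 4, 6, 4, 10, 8, 11, 11, 6, 8, 11]⟩))
  (.node (nat_lit 1687) (.leaf ⟨6, 6, true, [12, 8, 18, 8, 11, 8, 18], [18, 8, 18, 10, 8, 19, 19, 2, 11, 6, 8, 11, 4, 6, 8, 11, 4, 6, 8, 4, 6, 4, 0, 10, 10, 6, 8, 10, 25]⟩)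
  (.leaf ⟨6, 6, true, [0, 18, 18, 8, 15, 18, 8, 19, 16], [2, 18, 8, 0, 18, 18, 10, 13, 8, 10, 4, 6, 8, 4, 6, 4, 0, 8, 11, 6, 8, 11, 25]⟩))))
  (.node (nat_lit 1692) (.node (nat_lit 1690) (.node (nat_lit 1689) (.leaf ⟨6, 5, true, [0, 15, 18, 8, 19, 10, 8, 19, 2], [19, 6, 8, 0, 18, 18, 10, 13, 8, 11, 6, 8, 4, 6, 4, 0, 11, 11, 8, 10, 22]⟩)
  (.leaf ⟨5, 6, true, [8, 11, 8, 18, 8, 19, 12, 16], [0, 18, 8, 18, 18, 10, 8, 19, 2, 4, 6, 8, 11, 4, 6, 8, 10, 4, 6, 8, 4, 6, 4, 6, 8, 10, 6, 12]⟩))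
  (.node (nat_lit 1691) (.leaf ⟨6, 5, true, [13, 0, 18, 8, 18, 8, 6], [6, 8, 6, 18, 8, 0, 18, 18, 13, 8, 11, 6, 8, 4, 6, 4, 8, 10, 8, 10, 6, 8, 10, 12]⟩)
  (.leaf ⟨5, 6, true, [13, 8, 15, 18, 18, 8, 6, 18, 10], [8, 19, 8, 0, 19, 2, 8, 11, 8, 11, 6, 8, 4, 6, 4, 0, 13, 11, 8, 11, 25]⟩)))
  (.node (nat_lit 1694) (.node (nat_lit 1693) (.leaf ⟨6, 5, true, [16, 14, 10, 8, 19, 19, 15], [8, 18, 10, 10, 8, 18, 18, 12, 6, 8, 10, 4, 6, 8, 4, 6, 4, 12, 8, 10, 6, 8, 11, 23]⟩)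
  (.leaf ⟨5, 6, true, [8, 0, 19, 16, 10, 8, 19, 16], [15, 18, 8, 19, 2, 10, 6, 8, 4, 6, 4, 0, 11, 8, 11, 12, 6, 8, 11]⟩))
  (.node (nat_lit 1695) (.leaf ⟨6, 6, true, [2, 18, 8, 11, 8, 18], [18, 8, 15, 18, 14, 8, 18, 18, 13, 6, 8, 10, 4, 6, 8, 4, 6, 4, 10, 8, 11, 6, 8, 10, 23]⟩)
  (.leaf ⟨6, 6, true, [15, 8, 19, 12, 8, 19, 8, 16], [19, 19, 2, 12, 6, 8, 11, 4, 6, 8, 10, 4, 6, 8, 4, 6, 4, 10, 12, 6, 8, 10, 20]⟩))))))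

noncomputable def f1696 : FT := (.node (nat_lit 1712) (.node (nat_lit 1704) (.node (nat_lit 1700) (.node (nat_lit 1698) (.node (nat_lit 1697) (.leaf ⟨6, 6, true, [12, 19, 8, 16, 8, 19, 19, 15], [12, 15, 8, 19, 8, 19, 2, 10, 8, 11, 13, 4, 6, 8, 10, 4, 6, 8, 4, 6, 4, 12, 6, 8, 10, 6, 25]⟩)
  (.leaf ⟨6, 6, true, [12, 19, 8, 10, 6, 8, 18, 10], [19, 0, 19, 11, 8, 19, 2, 6, 8, 4, 6, 4, 13, 10, 8, 11, 6, 8, 10, 20]⟩))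
  (.node (nat_lit 1699) (.leaf ⟨6, 5, true, [13, 6, 18, 8, 19, 8, 16], [13, 11, 8, 19, 8, 19, 2, 12, 11, 8, 10, 4, 6, 8, 10, 4, 6, 8, 4, 6, 4, 8, 10, 8, 10, 6, 8, 10, 6, 25]⟩)
  (.leaf ⟨5, 6, true, [16, 10, 8, 19, 10, 6, 8, 6, 18], [18, 2, 18, 8, 19, 8, 19, 2, 11, 13, 4, 6, 8, 11, 4, 6, 8, 4, 6, 4, 0, 8, 10, 6, 8, 11, 21]⟩)))
  (.node (nat_lit 1702) (.node (nat_lit 1701) (.leaf ⟨6, 6, true, [8, 6, 18, 12, 18, 8, 19, 19, 14], [13, 18, 8, 0, 19, 8, 19, 2, 4, 0, 8, 11, 6, 13]⟩)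
  (.leaf ⟨6, 6, true, [0, 19, 12, 16, 8, 19, 8, 19, 14], [8, 0, 18, 10, 8, 18, 18, 6, 8, 4, 6, 4, 13, 8, 10, 23]⟩))
  (.node (nat_lit 1703) (.leaf ⟨6, 6, true, [12, 10, 8, 18, 8, 18, 8, 19, 2], [8, 2, 18, 18, 11, 6, 4, 6, 8, 10, 4, 6, 8, 4, 6, 4, 10, 6, 8, 11, 6, 8, 10, 23]⟩)
  (.leaf ⟨6, 6, true, [8, 18, 8, 15, 19, 8, 19, 2], [0, 14, 8, 18, 18, 6, 8, 10, 10, 4, 6, 8, 11, 4, 6, 8, 4, 6, 4, 13, 6, 8, 10, 23]⟩))))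
  (.node (nat_lit 1708) (.node (nat_lit 1706) (.node (nat_lit 1705) (.leaf ⟨6, 6, true, [19, 6, 18, 13, 8, 19, 8, 16], [10, 8, 19, 14, 8, 19, 0, 2, 10, 4, 6, 8, 4, 6, 4, 0, 13, 10, 6, 8, 11, 21]⟩)
  (.leaf ⟨6, 6, true, [13, 14, 6, 8, 18, 8, 18, 10], [18, 8, 4, 6, 18, 8, 19, 2, 13, 10, 8, 11, 4, 6, 8, 10, 4, 6, 8, 4, 6, 4, 0, 10, 6, 8, 11, 6, 8, 10, 6, 20]⟩))
  (.node (nat_lit 1707) (.leaf ⟨6, 6, true, [8, 0, 18, 18, 8, 18, 10, 8, 6], [12, 10, 8, 19, 2, 10, 10, 8, 4, 6, 4, 0, 8, 11, 12, 6, 8, 11, 6, 20]⟩)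
  (.leaf ⟨6, 6, true, [13, 15, 8, 19, 19, 15], [19, 8, 6, 18, 8, 19, 2, 8, 10, 12, 4, 6, 8, 10, 4, 6, 8, 4, 6, 4, 11, 8, 11, 6, 8, 10]⟩)))
  (.node (nat_lit 1710) (.node (nat_lit 1709) (.leaf ⟨5, 6, true, [13, 15, 19, 8, 19, 8, 16, 10], [14, 6, 18, 8, 0, 18, 18, 8, 10, 8, 10, 6, 8, 10, 4, 6, 8, 4, 6, 4, 8, 11, 6, 8, 11, 6, 13]⟩)
  (.leaf ⟨6, 5, true, [15, 19, 6, 8, 18, 10, 8, 18], [18, 8, 19, 10, 8, 19, 2, 6, 4, 11, 8, 10, 21]⟩))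
  (.node (nat_lit 1711) (.leaf ⟨6, 6, true, [4, 6, 8, 6, 18, 10, 8, 18], [15, 19, 6, 18, 8, 19, 2, 11, 6, 8, 11, 4, 6, 8, 10, 4, 6, 8, 4, 6, 4, 0, 8, 10, 8, 10, 24]⟩)
  (.leaf ⟨6, 6, true, [6, 18, 10, 8, 19, 8, 19, 8, 16], [16, 8, 14, 18, 18, 8, 19, 2, 6, 8, 10, 6, 8, 4, 6, 4, 0, 13, 8, 10]⟩)))))
  (.node (nat_lit 1720) (.node (nat_lit 1716) (.node (nat_lit 1714) (.node (nat_lit 1713) (.leaf ⟨6, 6, true, [11, 8, 19, 12, 6, 8, 6, 18], [10, 12, 8, 0, 19, 8, 19, 2, 4, 6, 8, 10, 8, 10, 4, 6, 8, 10, 4, 6, 8, 4, 6, 4, 12, 8, 11, 6, 13]⟩)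
  (.leaf ⟨6, 6, true, [0, 2, 18, 8, 15, 18, 8, 18], [0, 14, 4, 6, 18, 8, 19, 2, 10, 10, 4, 6, 8, 11, 4, 6, 8, 4, 6, 4, 8, 10, 6, 20]⟩))
  (.node (nat_lit 1715) (.leaf ⟨5, 6, true, [10, 8, 18, 8, 18, 8, 4, 14, 6], [13, 19, 8, 0, 19, 8, 19, 2, 6, 8, 11, 13]⟩)
  (.leaf ⟨6, 5, true, [13, 4, 6, 8, 19, 6, 8, 18], [14, 8, 18, 18, 10, 8, 19, 2, 6, 4, 0, 11, 12, 8, 10, 6, 8, 11, 23]⟩)))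
  (.node (nat_lit 1718) (.node (nat_lit 1717) (.leaf ⟨6, 6, true, [13, 18, 8, 15, 18, 8, 19, 19, 15], [10, 10, 8, 19, 0, 2, 8, 11, 8, 11, 6, 8, 4, 6, 4, 8, 10, 8, 10, 6, 8, 10, 6, 23]⟩)
  (.leaf ⟨6, 6, true, [11, 8, 11, 8, 19, 19, 2], [8, 16, 8, 0, 19, 8, 0, 19, 2, 10, 8, 10, 6, 8, 11, 4, 6, 8, 10, 4, 6, 8, 4, 6, 4, 12, 11, 8, 11, 13]⟩))
  (.node (nat_lit 1719) (.leaf ⟨6, 6, true, [12, 14, 8, 18, 8, 18, 10], [8, 19, 19, 12, 19, 8, 19, 2, 11, 8, 10, 6, 8, 11, 4, 6, 8, 4, 6, 4, 0, 12, 6, 8, 11, 20]⟩)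
  (.leaf ⟨6, 6, true, [8, 18, 14, 18, 8, 19, 6, 2], [14, 8, 19, 19, 2, 11, 8, 11, 4, 6, 8, 11, 4, 6, 8, 4, 6, 4, 0, 12, 10, 8, 10, 6, 21]⟩))))
  (.node (nat_lit 1724) (.node (nat_lit 1722) (.node (nat_lit 1721) (.leaf ⟨6, 6, true, [8, 18, 18, 10, 8, 10, 6, 8, 18], [8, 18, 18, 14, 8, 18, 18, 4, 6, 8, 10, 4, 6, 8, 4, 6, 4, 8, 11, 13, 6, 8, 10, 6, 24]⟩)
  (.leaf ⟨6, 6, true, [18, 8, 18, 14, 8, 18, 8, 18, 10], [14, 8, 19, 14, 8, 19, 0, 2, 6, 8, 11, 8, 11, 4, 6, 8, 10, 4, 6, 8, 4, 6, 4, 11, 13, 8, 10, 6, 8, 11, 23]⟩))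
  (.node (nat_lit 1723) (.leaf ⟨6, 6, true, [19, 19, 8, 19, 12, 6, 8, 6, 18], [19, 11, 8, 19, 2, 10, 4, 6, 8, 10, 4, 6, 8, 11, 4, 6, 8, 4, 6, 4, 12, 8, 10, 12]⟩)
  (.leaf ⟨6, 6, true, [8, 18, 8, 19, 6, 8, 18], [0, 15, 12, 18, 8, 18, 18, 8, 10, 4, 6, 8, 11, 4, 6, 8, 4, 6, 4, 0, 10, 13, 8, 11, 6, 8, 10, 12]⟩)))
  (.node (nat_lit 1726) (.node (nat_lit 1725) (.leaf ⟨6, 6, true, [0, 2, 18, 8, 0, 18, 8, 18, 12, 10], [19, 8, 6, 18, 10, 8, 19, 2, 10, 4, 6, 8, 10, 4, 6, 8, 11, 4, 6, 8, 4, 6, 4, 10, 13, 8, 10, 6, 20]⟩)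
  (.leaf ⟨6, 6, true, [8, 18, 12, 2, 18, 8, 19, 16], [8, 18, 18, 18, 8, 18, 18, 6, 8, 10, 8, 10, 4, 6, 8, 4, 6, 4, 0, 12, 11, 8, 11, 12]⟩))
  (.node (nat_lit 1727) (.leaf ⟨6, 6, true, [18, 14, 18, 8, 18, 8, 18], [14, 0, 18, 18, 8, 19, 2, 13, 11, 8, 10, 6, 8, 11, 4, 6, 8, 4, 6, 4, 6, 8, 10, 8, 10, 21]⟩)
  (.leaf ⟨6, 6, true, [8, 19, 10, 6, 8, 10, 6, 8, 18], [19, 8, 14, 6, 8, 18, 18, 12, 10, 8, 10, 4, 6, 8, 4, 6, 4, 0, 8, 11, 12, 6, 8, 11, 6]⟩))))))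

noncomputable def f1728 : FT := (.node (nat_lit 1744) (.node (nat_lit 1736) (.node (nat_lit 1732) (.node (nat_lit 1730) (.node (nat_lit 1729) (.leaf ⟨6, 6, true, [15, 8, 6, 18, 8, 18], [15, 0, 15, 18, 8, 19, 2, 10, 8, 11, 6, 8, 11, 4, 6, 8, 4, 6, 4, 12, 6, 8, 10, 6, 21]⟩)
  (.leaf ⟨6, 6, true, [19, 0, 19, 15, 19, 8, 19, 8, 6, 2], [13, 18, 8, 19, 10, 8, 19, 2, 8, 11, 4, 6, 8, 11, 4, 6, 8, 4, 6, 4, 0, 11, 11, 8, 11, 23]⟩))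
  (.node (nat_lit 1731) (.leaf ⟨6, 6, true, [19, 8, 15, 19, 12, 8, 19, 8, 16], [18, 11, 8, 18, 8, 19, 19, 2, 12, 6, 8, 10, 4, 6, 8, 4, 6, 4, 11, 8, 10, 24]⟩)
  (.leaf ⟨6, 6, true, [19, 12, 19, 8, 6, 18, 8, 18], [6, 18, 8, 0, 19, 8, 19, 2, 11, 6, 4, 6, 8, 11, 6, 8, 10, 4, 6, 8, 4, 6, 4, 8, 11, 6, 8, 11, 6]⟩)))
  (.node (nat_lit 1734) (.node (nat_lit 1733) (.leaf ⟨6, 6, true, [19, 2, 19, 8, 19, 8, 6, 2], [19, 6, 18, 10, 8, 19, 2, 12, 11, 8, 10, 6, 8, 4, 6, 4, 8, 10, 13, 6, 8, 10, 20]⟩)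
  (.leaf ⟨6, 6, true, [8, 0, 19, 19, 14, 8, 10, 6], [11, 8, 18, 18, 10, 8, 19, 2, 10, 6, 8, 11, 4, 6, 8, 11, 4, 6, 8, 4, 6, 4, 0, 10, 10, 20]⟩))
  (.node (nat_lit 1735) (.leaf ⟨6, 6, true, [19, 19, 13, 16, 8, 19, 8, 19, 15], [12, 8, 2, 18, 8, 18, 18, 4, 6, 8, 11, 12, 4, 6, 8, 11, 4, 6, 8, 4, 6, 4, 12, 6, 8, 10, 6, 22]⟩)
  (.leaf ⟨6, 6, true, [13, 18, 8, 18, 18, 18, 8, 19, 14, 6], [8, 18, 8, 6, 18, 8, 19, 2, 4, 6, 8, 10, 8, 10, 4, 6, 8, 4, 6, 4, 12, 8, 10, 6, 20]⟩))))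
  (.node (nat_lit 1740) (.node (nat_lit 1738) (.node (nat_lit 1737) (.leaf ⟨6, 6, true, [2, 18, 8, 15, 18, 8, 18], [8, 18, 18, 10, 8, 19, 0, 2, 8, 11, 4, 6, 8, 4, 6, 4, 13, 6, 8, 10, 22]⟩)
  (.leaf ⟨6, 6, true, [8, 6, 18, 13, 18, 8, 19, 6, 2], [18, 18, 14, 8, 18, 18, 10, 10, 8, 4, 6, 4, 0, 11, 6, 8, 11, 6, 23]⟩))
  (.node (nat_lit 1739) (.leaf ⟨6, 6, true, [18, 8, 19, 13, 19, 8, 14, 6], [14, 0, 19, 8, 19, 2, 6, 8, 10, 6, 8, 11, 4, 6, 8, 4, 6, 4, 0, 11, 8, 11, 6, 20]⟩)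
  (.leaf ⟨6, 6, true, [6, 8, 15, 18, 8, 18, 10], [18, 18, 18, 10, 8, 19, 2, 12, 10, 6, 8, 10, 4, 6, 8, 10, 4, 6, 8, 4, 6, 4, 10, 8, 10, 6, 20]⟩)))
  (.node (nat_lit 1742) (.node (nat_lit 1741) (.leaf ⟨6, 6, true, [18, 8, 19, 19, 14, 10, 8, 6], [12, 18, 8, 19, 19, 2, 8, 6, 4, 0, 13, 10, 8, 11, 6, 8, 10, 6, 20]⟩)
  (.leaf ⟨6, 6, true, [8, 11, 8, 16, 8, 19, 12, 19, 2], [19, 13, 10, 8, 19, 8, 19, 2, 8, 10, 8, 10, 6, 8, 4, 6, 4, 13, 10, 8, 11, 6, 8, 11, 20]⟩))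
  (.node (nat_lit 1743) (.leaf ⟨6, 6, true, [15, 8, 6, 18, 8, 6, 18, 8, 6], [18, 12, 8, 18, 8, 18, 18, 10, 6, 8, 4, 6, 4, 13, 6, 8, 10, 6, 24]⟩)
  (.leaf ⟨6, 6, true, [0, 18, 4, 6, 8, 18, 8, 19, 6, 2], [11, 8, 19, 19, 2, 6, 8, 10, 13, 4, 6, 8, 10, 4, 6, 8, 4, 6, 4, 11, 11, 8, 10, 20]⟩)))))
  (.node (nat_lit 1752) (.node (nat_lit 1748) (.node (nat_lit 1746) (.node (nat_lit 1745) (.leaf ⟨6, 6, true, [19, 6, 8, 0, 18, 12, 18, 8, 6], [19, 14, 8, 18, 8, 18, 18, 11, 6, 4, 6, 8, 11, 6, 8, 10, 4, 6, 8, 4, 6, 4, 8, 10, 8, 10, 6, 8, 10, 6, 21]⟩)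
  (.leaf ⟨6, 6, true, [2, 18, 8, 19, 6, 18, 8, 6], [11, 8, 6, 18, 8, 19, 2, 10, 6, 8, 11, 4, 6, 8, 4, 6, 4, 0, 12, 8, 10, 6, 8, 11, 25]⟩))
  (.node (nat_lit 1747) (.leaf ⟨6, 6, true, [11, 8, 16, 8, 19, 8, 16], [14, 12, 8, 0, 19, 8, 19, 2, 8, 10, 8, 4, 6, 4, 11, 12, 6, 8, 11, 6, 22]⟩)
  (.leaf ⟨6, 6, true, [16, 0, 19, 19, 8, 19, 8, 6, 2], [14, 18, 8, 0, 18, 18, 8, 11, 13, 6, 8, 11, 4, 6, 8, 10, 4, 6, 8, 4, 6, 4, 12, 8, 10, 20]⟩)))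
  (.node (nat_lit 1750) (.node (nat_lit 1749) (.leaf ⟨6, 6, true, [14, 4, 6, 8, 18, 18, 10, 8, 6], [8, 18, 18, 8, 10, 8, 10, 6, 8, 4, 6, 4, 13, 6, 8, 10, 13]⟩)
  (.leaf ⟨6, 6, true, [0, 19, 8, 19, 13, 10, 8, 16], [13, 18, 8, 19, 6, 8, 18, 18, 10, 12, 6, 8, 10, 4, 6, 8, 4, 6, 4, 11, 8, 11, 6, 8, 10, 21]⟩))
  (.node (nat_lit 1751) (.leaf ⟨6, 6, true, [16, 12, 10, 8, 19, 19, 14], [0, 14, 8, 18, 18, 4, 6, 8, 11, 13, 4, 6, 8, 11, 4, 6, 8, 4, 6, 4, 0, 13, 11, 6, 8, 11, 12]⟩)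
  (.leaf ⟨6, 6, true, [13, 11, 8, 19, 8, 19, 2], [18, 8, 18, 8, 19, 0, 2, 13, 4, 6, 8, 11, 4, 6, 8, 10, 4, 6, 8, 4, 6, 4, 12, 10, 6, 8, 10, 21]⟩))))
  (.node (nat_lit 1756) (.node (nat_lit 1754) (.node (nat_lit 1753) (.leaf ⟨6, 6, true, [19, 8, 16, 10, 8, 19, 6, 2], [8, 0, 18, 8, 18, 8, 19, 2, 6, 4, 6, 8, 10, 6, 8, 11, 4, 6, 8, 4, 6, 4, 0, 12, 6, 8, 10, 6, 23]⟩)
  (.leaf ⟨6, 6, true, [13, 15, 0, 19, 8, 19, 10, 8, 16], [10, 8, 19, 8, 19, 2, 12, 10, 8, 10, 6, 8, 4, 6, 4, 0, 8, 11, 12, 6, 8, 11, 21]⟩))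
  (.node (nat_lit 1755) (.leaf ⟨6, 6, true, [6, 18, 13, 18, 8, 6, 18], [14, 6, 8, 18, 8, 19, 19, 2, 11, 6, 8, 11, 13, 4, 6, 8, 10, 4, 6, 8, 4, 6, 4, 13, 11, 6, 8, 11, 23]⟩)
  (.leaf ⟨6, 6, true, [8, 18, 18, 12, 10, 8, 6, 18], [12, 15, 8, 19, 0, 2, 8, 11, 13, 4, 6, 8, 11, 4, 6, 8, 4, 6, 4, 0, 10, 8, 11, 6, 8, 11, 13]⟩)))
  (.node (nat_lit 1758) (.node (nat_lit 1757) (.leaf ⟨6, 6, true, [8, 19, 8, 6, 18, 8, 19, 12, 16], [12, 0, 19, 6, 8, 18, 18, 10, 13, 6, 8, 10, 4, 6, 8, 11, 4, 6, 8, 4, 6, 4, 12, 6, 8, 11, 13]⟩)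
  (.leaf ⟨6, 6, true, [6, 18, 12, 8, 19, 8, 19, 14], [14, 8, 19, 10, 8, 19, 2, 11, 4, 6, 8, 11, 6, 4, 6, 8, 11, 4, 6, 8, 4, 6, 4, 10, 8, 11, 6, 8, 11, 21]⟩))
  (.node (nat_lit 1759) (.leaf ⟨6, 6, true, [18, 8, 2, 19, 8, 19, 12, 8, 16], [15, 19, 6, 18, 8, 19, 2, 11, 6, 8, 10, 13, 4, 6, 8, 10, 4, 6, 8, 4, 6, 4, 6, 8, 10, 8, 10, 21]⟩)
  (.leaf ⟨6, 6, true, [14, 8, 6, 18, 8, 15, 18, 8, 18], [8, 18, 8, 19, 19, 2, 4, 6, 8, 10, 6, 8, 11, 4, 6, 8, 4, 6, 4, 0, 10, 8, 11, 6, 8, 11, 6, 12]⟩))))))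

noncomputable def f1760 : FT := (.node (nat_lit 1776) (.node (nat_lit 1768) (.node (nat_lit 1764) (.node (nat_lit 1762) (.node (nat_lit 1761) (.leaf ⟨6, 6, true, [12, 18, 8, 19, 12, 19, 8, 16, 10], [0, 18, 8, 6, 18, 8, 19, 2, 11, 4, 6, 8, 10, 4, 6, 8, 4, 6, 4, 0, 11, 11, 23]⟩)
  (.leaf ⟨6, 6, true, [2, 18, 12, 8, 18, 8, 19, 19, 2], [12, 8, 18, 8, 18, 18, 10, 8, 10, 13, 4, 6, 8, 10, 4, 6, 8, 4, 6, 4, 11, 6, 8, 11, 22]⟩))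
  (.node (nat_lit 1763) (.leaf ⟨6, 6, true, [18, 11, 8, 19, 19, 15, 8, 6], [15, 19, 19, 19, 8, 19, 2, 8, 10, 8, 10, 4, 6, 8, 4, 6, 4, 12, 11, 8, 10, 6, 8, 10, 22]⟩)
  (.leaf ⟨6, 6, true, [15, 18, 8, 18, 8, 15, 18, 8, 18], [19, 0, 19, 12, 10, 8, 19, 2, 12, 11, 8, 11, 6, 8, 4, 6, 4, 12, 10, 13]⟩)))
  (.node (nat_lit 1766) (.node (nat_lit 1765) (.leaf ⟨6, 6, true, [19, 16, 8, 19, 19, 14], [0, 14, 8, 18, 8, 18, 18, 12, 8, 11, 4, 6, 8, 10, 4, 6, 8, 4, 6, 4, 11, 8, 11, 6, 8, 10, 12]⟩)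
  (.leaf ⟨6, 6, true, [0, 19, 12, 6, 8, 19, 8, 19, 8, 16], [10, 8, 18, 14, 8, 18, 18, 6, 8, 10, 6, 8, 11, 4, 6, 8, 4, 6, 4, 8, 11, 6, 8, 10, 6, 21]⟩))
  (.node (nat_lit 1767) (.leaf ⟨6, 6, true, [8, 14, 0, 14, 18, 8, 19, 16], [0, 18, 10, 10, 8, 18, 18, 11, 12, 8, 10, 4, 6, 8, 11, 4, 6, 8, 4, 6, 4, 12, 6, 8, 11, 6, 21]⟩)
  (.leaf ⟨6, 6, true, [0, 19, 2, 19, 8, 19, 12, 8, 16], [12, 8, 2, 18, 8, 0, 18, 18, 4, 6, 8, 11, 6, 8, 10, 4, 6, 8, 4, 6, 4, 0, 12, 11, 6, 8, 10, 6, 22]⟩))))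
  (.node (nat_lit 1772) (.node (nat_lit 1770) (.node (nat_lit 1769) (.leaf ⟨6, 6, true, [8, 14, 6, 8, 19, 19, 15], [19, 12, 10, 8, 19, 2, 10, 8, 6, 4, 0, 8, 10, 10, 6, 8, 10, 23]⟩)
  (.leaf ⟨6, 6, true, [18, 4, 6, 8, 19, 8, 19, 14, 8, 6], [12, 8, 0, 18, 8, 18, 18, 10, 12, 6, 8, 10, 4, 6, 8, 4, 6, 4, 12, 8, 11, 21]⟩))
  (.node (nat_lit 1771) (.leaf ⟨6, 6, true, [18, 11, 8, 19, 19, 14, 8, 6], [12, 6, 18, 8, 0, 18, 18, 10, 13, 4, 6, 8, 10, 4, 6, 8, 11, 4, 6, 8, 4, 6, 4, 10, 8, 10, 10, 6, 8, 11]⟩)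
  (.leaf ⟨6, 6, true, [14, 8, 18, 13, 8, 18, 8, 18, 10], [8, 16, 8, 19, 8, 19, 2, 13, 11, 8, 10, 6, 8, 10, 4, 6, 8, 4, 6, 4, 6, 8, 10, 6, 21]⟩)))
  (.node (nat_lit 1774) (.node (nat_lit 1773) (.leaf ⟨6, 6, true, [6, 0, 18, 18, 8, 19, 14, 10, 8, 6], [18, 8, 19, 8, 0, 19, 2, 13, 8, 11, 6, 8, 10, 4, 6, 8, 10, 4, 6, 8, 4, 6, 4, 11, 8, 11, 6, 8, 10, 13]⟩)
  (.leaf ⟨6, 6, true, [0, 19, 10, 6, 8, 19, 8, 16], [14, 10, 8, 19, 0, 2, 10, 8, 11, 4, 6, 8, 11, 4, 6, 8, 4, 6, 4, 0, 11, 8, 10, 6, 22]⟩))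
  (.node (nat_lit 1775) (.leaf ⟨6, 6, true, [16, 8, 14, 18, 18, 12, 8, 6, 18], [12, 18, 8, 19, 19, 2, 10, 4, 6, 8, 11, 6, 8, 10, 4, 6, 8, 4, 6, 4, 12, 10, 8, 10, 13]⟩)
  (.leaf ⟨6, 6, true, [8, 15, 0, 19, 8, 19, 14, 8, 6], [10, 8, 6, 18, 8, 19, 2, 4, 6, 8, 10, 4, 6, 8, 11, 4, 6, 8, 4, 6, 4, 10, 8, 11, 6, 8, 10, 6]⟩)))))
  (.node (nat_lit 1784) (.node (nat_lit 1780) (.node (nat_lit 1778) (.node (nat_lit 1777) (.leaf ⟨6, 6, true, [12, 15, 8, 18, 8, 6, 18], [14, 18, 18, 8, 19, 2, 8, 10, 8, 6, 4, 6, 8, 10]⟩)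
  (.leaf ⟨6, 6, true, [18, 8, 0, 19, 6, 8, 19, 6, 2], [19, 6, 8, 19, 8, 19, 2, 4, 6, 8, 11, 8, 11, 4, 6, 8, 4, 6, 4, 0, 12, 6, 8, 10, 6, 22]⟩))
  (.node (nat_lit 1779) (.leaf ⟨6, 6, true, [8, 11, 8, 19, 6, 8, 19, 16], [19, 12, 8, 19, 8, 0, 19, 2, 12, 6, 8, 11, 4, 6, 8, 4, 6, 4, 0, 8, 11, 6, 8, 11, 6, 24]⟩)
  (.leaf ⟨6, 6, true, [18, 10, 12, 8, 18, 8, 18, 10], [6, 8, 18, 8, 19, 19, 2, 10, 8, 10, 6, 8, 4, 6, 4, 0, 10, 8, 11, 24]⟩)))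
  (.node (nat_lit 1782) (.node (nat_lit 1781) (.leaf ⟨6, 6, true, [6, 8, 19, 8, 10, 6, 8, 18], [12, 19, 8, 16, 8, 19, 19, 2, 11, 6, 8, 10, 10, 4, 6, 8, 11, 4, 6, 8, 4, 6, 4, 12, 10, 6, 8, 11, 24]⟩)
  (.leaf ⟨6, 6, true, [11, 8, 19, 8, 6, 2], [13, 11, 8, 18, 8, 18, 18, 8, 10, 8, 4, 6, 4, 13, 10, 8, 11, 6, 8, 10, 21]⟩))
  (.node (nat_lit 1783) (.leaf ⟨6, 6, true, [10, 10, 8, 19, 8, 6, 18, 8, 6], [8, 19, 6, 8, 0, 18, 18, 12, 10, 8, 6, 4, 0, 12, 8, 10, 23]⟩)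
  (.leaf ⟨6, 6, true, [0, 15, 18, 8, 18, 8, 19, 16], [19, 10, 8, 19, 8, 0, 19, 2, 10, 10, 8, 11, 6, 8, 4, 6, 4, 10, 13, 8, 11, 13]⟩))))
  (.node (nat_lit 1788) (.node (nat_lit 1786) (.node (nat_lit 1785) (.leaf ⟨6, 6, true, [16, 8, 0, 15, 18, 8, 6, 18], [18, 8, 19, 19, 2, 8, 11, 13, 6, 8, 11, 4, 6, 8, 10, 4, 6, 8, 4, 6, 4, 13, 8, 11, 20]⟩)
  (.leaf ⟨6, 6, true, [15, 0, 18, 18, 8, 16, 8, 19, 16], [13, 10, 8, 19, 8, 0, 19, 2, 11, 8, 10, 4, 6, 8, 4, 6, 4, 0, 11, 8, 10, 6, 8, 10, 13]⟩))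
  (.node (nat_lit 1787) (.leaf ⟨6, 6, true, [19, 19, 13, 8, 19, 6, 8, 6, 18], [19, 13, 19, 8, 19, 8, 19, 2, 12, 8, 10, 4, 6, 8, 10, 4, 6, 8, 4, 6, 4, 8, 10, 6, 8, 11, 20]⟩)
  (.leaf ⟨6, 6, true, [18, 18, 8, 18, 8, 19, 19, 14, 10], [18, 8, 19, 10, 8, 19, 2, 11, 8, 10, 4, 6, 8, 10, 4, 6, 8, 4, 6, 4, 0, 6, 8, 11, 6, 22]⟩)))
  (.node (nat_lit 1790) (.node (nat_lit 1789) (.leaf ⟨6, 6, true, [18, 10, 12, 8, 19, 8, 19, 14], [19, 15, 19, 8, 19, 2, 11, 8, 11, 4, 6, 8, 4, 6, 4, 10, 10, 6, 12]⟩)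
  (.leaf ⟨6, 6, true, [8, 18, 8, 15, 18, 8, 19, 16], [16, 8, 19, 6, 8, 18, 18, 8, 10, 8, 10, 6, 8, 4, 6, 4, 11, 6, 8, 11, 6, 8, 10, 21]⟩))
  (.node (nat_lit 1791) (.leaf ⟨6, 6, true, [10, 10, 8, 19, 8, 16], [15, 19, 14, 8, 19, 0, 2, 11, 4, 6, 8, 11, 4, 6, 8, 4, 6, 4, 13, 8, 11, 6, 8, 10, 22]⟩)
  (.leaf ⟨6, 6, true, [18, 13, 8, 14, 4, 6, 8, 18], [11, 8, 18, 10, 8, 18, 18, 13, 8, 10, 4, 6, 8, 11, 4, 6, 8, 4, 6, 4, 10, 12, 8, 11, 6, 24]⟩))))))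

noncomputable def f1792 : FT := (.node (nat_lit 1808) (.node (nat_lit 1800) (.node (nat_lit 1796) (.node (nat_lit 1794) (.node (nat_lit 1793) (.leaf ⟨6, 6, true, [18, 18, 18, 13, 8, 19, 8, 16], [14, 4, 6, 18, 8, 19, 2, 4, 6, 8, 10, 8, 10, 4, 6, 8, 10, 4, 6, 8, 4, 6, 4, 10, 8, 10, 6, 8, 11, 13]⟩)
  (.leaf ⟨6, 6, true, [12, 18, 13, 8, 18, 8, 18, 10], [12, 8, 19, 8, 0, 19, 2, 13, 6, 8, 10, 4, 6, 8, 4, 6, 4, 8, 11, 8, 11, 21]⟩))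
  (.node (nat_lit 1795) (.leaf ⟨6, 5, true, [18, 12, 8, 0, 19, 8, 16], [8, 0, 15, 18, 8, 0, 18, 18, 6, 8, 10, 6, 8, 4, 6, 4, 11, 13, 6, 8, 10, 6]⟩)
  (.leaf ⟨5, 6, true, [14, 18, 18, 8, 18, 8, 4, 14, 6], [18, 14, 8, 19, 0, 2, 11, 8, 11, 6, 8, 11, 4, 6, 8, 4, 6, 4, 12, 6, 8, 10, 6, 20]⟩)))
  (.node (nat_lit 1798) (.node (nat_lit 1797) (.leaf ⟨6, 6, true, [8, 18, 14, 8, 18, 4, 14, 8, 6], [6, 8, 18, 8, 19, 19, 2, 12, 10, 6, 8, 11, 4, 6, 8, 4, 6, 4, 10, 8, 11, 6, 8, 10, 23]⟩)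
  (.leaf ⟨6, 6, true, [8, 14, 6, 18, 8, 19, 19, 12, 14], [8, 0, 19, 6, 8, 18, 18, 8, 10, 8, 10, 6, 8, 4, 6, 4, 11, 11, 8, 10, 6, 8, 11, 25]⟩))
  (.node (nat_lit 1799) (.leaf ⟨6, 6, true, [8, 18, 18, 8, 18, 8, 19, 19, 14], [0, 14, 10, 8, 18, 18, 4, 6, 8, 4, 6, 4, 0, 10, 6, 8, 10, 6, 8, 11, 21]⟩)
  (.leaf ⟨6, 6, true, [13, 10, 8, 19, 8, 19, 12, 14], [18, 18, 8, 0, 18, 18, 10, 13, 6, 8, 10, 4, 6, 8, 4, 6, 4, 22]⟩))))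
  (.node (nat_lit 1804) (.node (nat_lit 1802) (.node (nat_lit 1801) (.leaf ⟨6, 6, true, [6, 18, 18, 8, 18, 8, 19, 14, 6], [12, 18, 8, 19, 2, 8, 11, 6, 8, 4, 6, 4, 12, 11, 8, 11]⟩)
  (.leaf ⟨6, 6, true, [10, 8, 18, 18, 10, 10, 8, 6], [19, 12, 16, 8, 19, 19, 2, 12, 10, 6, 8, 4, 6, 4, 11, 12, 8, 10, 13]⟩))
  (.node (nat_lit 1803) (.leaf ⟨6, 6, true, [13, 18, 8, 15, 18, 8, 18, 8, 6], [12, 8, 18, 8, 2, 18, 18, 11, 8, 10, 6, 8, 4, 6, 4, 0, 10, 8, 10, 10, 6, 8, 11, 24]⟩)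
  (.leaf ⟨6, 6, true, [19, 8, 0, 19, 8, 16], [8, 2, 18, 8, 19, 8, 19, 2, 13, 4, 6, 8, 11, 4, 6, 8, 4, 6, 4, 11, 6, 8, 10, 6, 13]⟩)))
  (.node (nat_lit 1806) (.node (nat_lit 1805) (.leaf ⟨6, 6, true, [10, 8, 19, 19, 8, 16], [19, 10, 8, 6, 18, 8, 19, 2, 13, 10, 8, 10, 6, 8, 10, 4, 6, 8, 4, 6, 4, 10, 10, 6, 21]⟩)
  (.leaf ⟨6, 6, true, [6, 8, 19, 12, 8, 16], [19, 0, 19, 11, 8, 19, 2, 13, 8, 11, 6, 8, 10, 4, 6, 8, 10, 4, 6, 8, 4, 6, 4, 10, 12]⟩))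
  (.node (nat_lit 1807) (.leaf ⟨6, 3, true, [8, 19, 8, 16, 10, 8, 19, 19, 2], [11, 8, 0, 18, 8, 18, 18, 11, 8, 11, 6, 8, 11, 4, 6, 8, 4, 6, 4, 0, 13, 8, 11, 20]⟩)
  (.leaf ⟨3, 6, true, [8, 18, 18, 14, 8, 18, 10, 8, 18], [6, 18, 8, 2, 18, 18, 8, 10, 8, 10, 4, 6, 8, 4, 6, 4, 0, 11, 12, 8, 10, 22]⟩)))))
  (.node (nat_lit 1816) (.node (nat_lit 1812) (.node (nat_lit 1810) (.node (nat_lit 1809) (.leaf ⟨6, 6, true, [4, 6, 18, 8, 19, 14, 8, 6], [12, 19, 6, 8, 18, 18, 8, 10, 8, 10, 6, 8, 10, 4, 6, 8, 4, 6, 4, 8, 11, 13, 6, 8, 10, 20]⟩)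
  (.leaf ⟨6, 6, true, [15, 19, 19, 16, 8, 19, 14, 6], [18, 18, 18, 10, 8, 19, 2, 6, 8, 10, 4, 6, 8, 11, 4, 6, 8, 4, 6, 4, 8, 11, 11, 6, 8, 11, 20]⟩))
  (.node (nat_lit 1811) (.leaf ⟨6, 6, true, [12, 10, 8, 19, 6, 8, 19, 6, 2], [8, 19, 19, 19, 8, 19, 2, 11, 6, 8, 11, 4, 6, 8, 11, 4, 6, 8, 4, 6, 4, 12, 8, 10, 6, 8, 10, 22]⟩)
  (.leaf ⟨6, 6, true, [19, 16, 8, 16, 8, 19, 8, 6, 2], [8, 15, 19, 19, 19, 8, 19, 2, 13, 10, 8, 11, 6, 8, 10, 4, 6, 8, 4, 6, 4, 13, 6, 8, 10, 20]⟩)))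
  (.node (nat_lit 1814) (.node (nat_lit 1813) (.leaf ⟨4, 6, true, [19, 10, 8, 6, 18, 8, 6], [13, 11, 8, 18, 8, 18, 18, 8, 11, 6, 8, 10, 4, 6, 8, 10, 4, 6, 8, 4, 6, 4, 8, 10, 8, 10, 13]⟩)
  (.leaf ⟨6, 4, true, [13, 8, 0, 19, 6, 8, 18], [8, 11, 8, 18, 8, 18, 18, 10, 8, 10, 4, 6, 8, 11, 4, 6, 8, 4, 6, 4, 11, 13, 8, 10, 25]⟩))
  (.node (nat_lit 1815) (.leaf ⟨6, 6, true, [12, 19, 8, 19, 8, 19, 15], [12, 8, 6, 18, 8, 0, 18, 18, 10, 8, 10, 4, 6, 8, 10, 4, 6, 8, 4, 6, 4, 12, 8, 11, 6, 8, 10, 6, 13]⟩)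
  (.leaf ⟨6, 6, true, [12, 0, 15, 8, 18, 8, 19, 16], [15, 18, 12, 8, 19, 8, 19, 2, 6, 4, 6, 8, 11, 4, 6, 8, 10, 4, 6, 8, 4, 6, 4, 8, 10, 12, 6, 8, 10, 23]⟩))))
  (.node (nat_lit 1820) (.node (nat_lit 1818) (.node (nat_lit 1817) (.leaf ⟨6, 6, true, [19, 14, 8, 6, 18, 8, 19, 6, 2], [8, 18, 8, 19, 8, 19, 2, 12, 6, 8, 11, 20]⟩)
  (.leaf ⟨6, 6, true, [12, 10, 8, 19, 8, 6, 2], [0, 19, 19, 8, 0, 19, 2, 11, 13, 6, 8, 11, 4, 6, 8, 4, 6, 4, 0, 11, 13, 6, 8, 10, 6, 22]⟩))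
  (.node (nat_lit 1819) (.leaf ⟨6, 6, true, [14, 8, 0, 18, 8, 18, 8, 18], [19, 6, 18, 8, 19, 2, 13, 11, 8, 10, 6, 8, 10, 4, 6, 8, 4, 6, 4, 12, 11, 8, 10, 24]⟩)
  (.leaf ⟨6, 6, true, [14, 8, 19, 6, 8, 19, 6, 2], [14, 6, 8, 19, 8, 19, 2, 8, 10, 10, 6, 8, 11, 4, 6, 8, 4, 6, 4, 11, 6, 8, 11, 6, 24]⟩)))
  (.node (nat_lit 1822) (.node (nat_lit 1821) (.leaf ⟨6, 6, true, [8, 16, 8, 19, 6, 8, 19, 8, 16], [18, 18, 12, 18, 8, 18, 18, 8, 11, 12, 6, 8, 11, 4, 6, 8, 4, 6, 4, 12, 8, 10, 6, 25]⟩)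
  (.leaf ⟨6, 6, true, [10, 12, 8, 6, 18, 8, 18], [11, 8, 19, 2, 8, 11, 8, 11, 4, 6, 8, 4, 6, 4, 11, 8, 10, 6, 8, 11, 13]⟩))
  (.node (nat_lit 1823) (.leaf ⟨6, 6, true, [13, 8, 19, 6, 8, 6, 0, 18], [0, 14, 8, 18, 0, 18, 10, 10, 4, 6, 8, 4, 6, 4, 11, 8, 11, 12, 6, 8, 11, 6, 22]⟩)
  (.leaf ⟨6, 6, true, [11, 8, 19, 8, 14, 6], [15, 12, 18, 8, 0, 18, 18, 10, 13, 4, 6, 8, 10, 4, 6, 8, 11, 4, 6, 8, 4, 6, 4, 11, 8, 10, 6, 8, 10, 20]⟩))))))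

noncomputable def f1824 : FT := (.node (nat_lit 1840) (.node (nat_lit 1832) (.node (nat_lit 1828) (.node (nat_lit 1826) (.node (nat_lit 1825) (.leaf ⟨6, 6, true, [12, 19, 6, 8, 18, 18, 10, 8, 6], [8, 15, 0, 18, 8, 18, 18, 10, 8, 10, 6, 4, 6, 8, 11, 4, 6, 8, 4, 6, 4, 10, 6, 8, 11, 6, 25]⟩)
  (.leaf ⟨6, 6, true, [0, 19, 6, 8, 18, 8, 18, 11], [18, 12, 8, 19, 6, 8, 18, 18, 6, 8, 10, 4, 6, 8, 10, 4, 6, 8, 4, 6, 4, 0, 11, 8, 10, 6, 8, 11, 6, 23]⟩))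
  (.node (nat_lit 1827) (.leaf ⟨6, 6, true, [8, 18, 8, 2, 18, 8, 19, 6, 2], [18, 18, 8, 19, 0, 2, 11, 13, 8, 10, 4, 6, 8, 11, 4, 6, 8, 4, 6, 4, 10, 6, 8, 11, 21]⟩)
  (.leaf ⟨6, 6, true, [8, 18, 8, 19, 8, 14, 10, 6], [8, 19, 19, 2, 6, 8, 11, 4, 6, 8, 10, 4, 6, 8, 4, 6, 4, 12, 11, 6, 25]⟩)))
  (.node (nat_lit 1830) (.node (nat_lit 1829) (.leaf ⟨6, 6, true, [8, 16, 8, 0, 15, 18, 8, 18, 10], [14, 10, 8, 18, 0, 18, 8, 10, 8, 10, 6, 8, 4, 6, 4, 6, 8, 10, 8, 10, 25]⟩)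
  (.leaf ⟨6, 6, true, [19, 15, 19, 10, 8, 19, 8, 16, 10], [8, 2, 18, 8, 0, 18, 18, 0, 10, 12, 8, 11, 20]⟩))
  (.node (nat_lit 1831) (.leaf ⟨6, 6, true, [12, 15, 8, 19, 12, 19, 2], [0, 19, 8, 19, 14, 8, 19, 0, 2, 12, 8, 10, 6, 8, 10, 4, 6, 8, 4, 6, 4, 11, 6, 8, 11, 6, 8, 10]⟩)
  (.leaf ⟨6, 6, true, [0, 15, 8, 18, 8, 19, 12, 16], [14, 6, 8, 0, 19, 8, 19, 2, 12, 11, 4, 6, 8, 10, 4, 6, 8, 4, 6, 4, 24]⟩))))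
  (.node (nat_lit 1836) (.node (nat_lit 1834) (.node (nat_lit 1833) (.leaf ⟨6, 6, true, [8, 2, 0, 18, 8, 18, 8, 6, 18], [8, 18, 8, 18, 8, 19, 0, 2, 8, 10, 12, 4, 6, 8, 10, 4, 6, 8, 4, 6, 4, 8, 11, 13, 6, 8, 11, 6, 24]⟩)
  (.leaf ⟨6, 6, true, [19, 14, 8, 19, 12, 8, 19, 8, 16], [13, 19, 8, 19, 8, 0, 19, 2, 11, 4, 6, 8, 10, 4, 6, 8, 4, 6, 4, 0, 10, 10, 6, 25]⟩))
  (.node (nat_lit 1835) (.leaf ⟨6, 6, true, [14, 8, 18, 8, 2, 18, 8, 19, 19, 2], [19, 14, 8, 6, 18, 8, 19, 2, 10, 4, 6, 8, 11, 4, 6, 8, 10, 4, 6, 8, 4, 6, 4, 8, 10, 6, 12]⟩)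
  (.leaf ⟨6, 6, true, [8, 10, 6, 8, 18, 18, 14, 8, 16], [0, 15, 18, 8, 18, 18, 12, 6, 8, 11, 4, 6, 8, 4, 6, 4, 10, 8, 10, 10, 6, 8, 11, 20]⟩)))
  (.node (nat_lit 1838) (.node (nat_lit 1837) (.leaf ⟨6, 6, true, [8, 18, 8, 19, 8, 19, 8, 6, 2], [8, 18, 0, 18, 10, 8, 10, 10, 4, 6, 8, 11, 4, 6, 8, 4, 6, 4, 13, 8, 11, 6, 22]⟩)
  (.leaf ⟨6, 6, true, [10, 8, 19, 8, 19, 14], [19, 19, 8, 0, 19, 2, 10, 10, 6, 8, 11, 4, 6, 8, 11, 4, 6, 8, 4, 6, 4, 10, 8, 11, 6, 8, 10, 6, 21]⟩))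
  (.node (nat_lit 1839) (.leaf ⟨6, 6, true, [12, 8, 0, 18, 8, 18, 10], [19, 15, 8, 6, 18, 8, 19, 2, 13, 8, 10, 6, 8, 4, 6, 4, 10, 8, 10, 10, 6, 8, 11, 23]⟩)
  (.leaf ⟨6, 6, true, [11, 8, 18, 8, 18, 4, 14, 8, 10, 6], [0, 19, 6, 18, 8, 19, 2, 10, 8, 10, 10, 4, 6, 8, 11, 4, 6, 8, 4, 6, 4, 8, 10, 13, 6, 8, 10, 12]⟩)))))
  (.node (nat_lit 1848) (.node (nat_lit 1844) (.node (nat_lit 1842) (.node (nat_lit 1841) (.leaf ⟨6, 6, true, [0, 15, 18, 8, 18, 8, 6, 18, 10], [0, 18, 8, 6, 18, 8, 19, 2, 8, 10, 6, 8, 11, 4, 6, 8, 4, 6, 4, 0, 11, 8, 10, 6, 8, 10, 6, 20]⟩)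
  (.leaf ⟨6, 6, true, [15, 12, 8, 18, 8, 18, 12, 8, 18], [10, 8, 0, 19, 19, 2, 6, 8, 10, 4, 6, 8, 10, 4, 6, 8, 4, 6, 4, 12, 8, 10, 6, 8, 11, 12]⟩))
  (.node (nat_lit 1843) (.leaf ⟨6, 5, true, [8, 0, 18, 18, 8, 18, 11], [8, 0, 15, 18, 8, 0, 18, 18, 4, 6, 8, 10, 4, 6, 8, 4, 6, 4, 13, 6, 8, 11, 6, 20]⟩)
  (.leaf ⟨5, 6, true, [8, 18, 8, 10, 4, 6, 8, 6, 18], [19, 10, 8, 6, 18, 8, 19, 2, 6, 8, 11, 8, 11, 4, 6, 8, 10, 4, 6, 8, 4, 6, 4, 8, 11, 8, 11, 6, 8, 10, 23]⟩)))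
  (.node (nat_lit 1846) (.node (nat_lit 1845) (.leaf ⟨6, 5, true, [18, 14, 10, 8, 18, 8, 18], [12, 19, 8, 19, 8, 19, 2, 13, 8, 11, 4, 6, 8, 4, 6, 4, 13, 10, 8, 10, 6, 8, 10, 13]⟩)
  (.leaf ⟨5, 6, true, [8, 0, 19, 8, 14, 6], [0, 19, 8, 19, 8, 19, 2, 4, 6, 8, 10, 4, 6, 8, 11, 4, 6, 8, 4, 6, 4, 11, 13, 6, 8, 10, 6, 23]⟩))
  (.node (nat_lit 1847) (.leaf ⟨6, 6, true, [18, 14, 18, 8, 19, 8, 16], [12, 19, 8, 6, 18, 8, 19, 2, 6, 8, 11, 8, 11, 4, 6, 8, 11, 4, 6, 8, 4, 6, 4, 13, 10, 6, 8, 11, 21]⟩)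
  (.leaf ⟨6, 6, true, [19, 19, 19, 8, 10, 6, 8, 19, 16], [0, 19, 11, 8, 19, 2, 13, 6, 8, 10, 4, 6, 8, 11, 4, 6, 8, 4, 6, 4, 8, 11, 6, 8, 11, 22]⟩))))
  (.node (nat_lit 1852) (.node (nat_lit 1850) (.node (nat_lit 1849) (.leaf ⟨6, 6, true, [19, 8, 6, 18, 8, 19, 10, 8, 16], [14, 8, 19, 8, 0, 19, 2, 8, 10, 6, 8, 10, 4, 6, 8, 11, 4, 6, 8, 4, 6, 4, 8, 10, 6, 22]⟩)
  (.leaf ⟨6, 6, true, [15, 18, 8, 6, 18, 8, 6], [8, 18, 14, 18, 18, 8, 18, 18, 12, 4, 6, 8, 10, 4, 6, 8, 11, 4, 6, 8, 4, 6, 4, 10, 8, 11, 6, 8, 10, 6, 21]⟩))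
  (.node (nat_lit 1851) (.leaf ⟨6, 6, true, [13, 18, 8, 15, 18, 18, 8, 6, 18], [10, 8, 18, 8, 18, 18, 8, 4, 6, 4, 10, 13, 8, 11, 13]⟩)
  (.leaf ⟨6, 6, true, [18, 8, 18, 14, 8, 19, 19, 2], [0, 15, 12, 18, 8, 18, 18, 6, 8, 10, 4, 6, 8, 4, 6, 4, 11, 25]⟩)))
  (.node (nat_lit 1854) (.node (nat_lit 1853) (.leaf ⟨6, 6, true, [15, 19, 14, 6, 18, 8, 6, 18], [19, 8, 0, 19, 2, 8, 11, 6, 4, 6, 8, 10, 4, 6, 8, 4, 6, 4, 6, 23]⟩)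
  (.leaf ⟨6, 6, true, [6, 18, 12, 4, 6, 8, 18, 8, 18], [14, 18, 11, 8, 19, 8, 19, 2, 8, 11, 6, 8, 10, 4, 6, 8, 10, 4, 6, 8, 4, 6, 4, 11, 12, 6, 8, 11, 24]⟩))
  (.node (nat_lit 1855) (.leaf ⟨6, 6, true, [6, 8, 18, 8, 2, 18, 8, 18, 10], [12, 0, 19, 8, 19, 2, 8, 10, 6, 8, 10, 4, 6, 8, 11, 4, 6, 8, 4, 6, 4, 11, 8, 11, 6, 8, 10, 12]⟩)
  (.leaf ⟨6, 6, true, [18, 10, 8, 19, 12, 19, 8, 14, 6], [18, 12, 18, 8, 0, 18, 18, 12, 6, 8, 10, 4, 6, 8, 10, 4, 6, 8, 4, 6, 4, 10, 13, 8, 11, 6, 24]⟩))))))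

noncomputable def f1856 : FT := (.node (nat_lit 1872) (.node (nat_lit 1864) (.node (nat_lit 1860) (.node (nat_lit 1858) (.node (nat_lit 1857) (.leaf ⟨6, 6, true, [18, 8, 11, 8, 18, 8, 19, 19, 2], [19, 0, 19, 11, 8, 19, 2, 6, 8, 11, 4, 6, 8, 10, 4, 6, 8, 4, 6, 4, 0, 13, 8, 10, 6]⟩)
  (.leaf ⟨6, 6, true, [18, 18, 8, 18, 13, 11, 8, 6, 18], [8, 11, 8, 18, 8, 18, 18, 11, 13, 6, 8, 11, 4, 6, 8, 10, 4, 6, 8, 4, 6, 4, 6, 8, 11, 23]⟩))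
  (.node (nat_lit 1859) (.leaf ⟨6, 6, true, [13, 15, 19, 8, 19, 8, 19, 14], [19, 16, 8, 19, 19, 2, 10, 8, 10, 4, 6, 8, 4, 6, 4, 0, 11, 6, 8, 11, 21]⟩)
  (.leaf ⟨6, 6, true, [12, 10, 8, 19, 12, 8, 19, 8, 16], [18, 0, 18, 11, 8, 10, 4, 6, 8, 4, 6, 4, 0, 8, 10, 6, 20]⟩)))
  (.node (nat_lit 1862) (.node (nat_lit 1861) (.leaf ⟨6, 6, true, [19, 12, 16, 8, 6, 18, 12, 8, 18], [0, 19, 12, 8, 19, 8, 0, 19, 2, 12, 11, 6, 8, 4, 6, 4, 11, 8, 11, 6, 8, 11, 22]⟩)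
  (.leaf ⟨6, 6, true, [0, 19, 8, 10, 8, 19, 8, 16], [18, 18, 12, 18, 8, 18, 18, 4, 6, 8, 10, 8, 10, 4, 6, 8, 4, 6, 4, 0, 11, 11, 21]⟩))
  (.node (nat_lit 1863) (.leaf ⟨6, 6, true, [2, 18, 8, 18, 8, 4, 14, 6], [12, 15, 8, 19, 8, 0, 19, 2, 13, 10, 6, 8, 10, 4, 6, 8, 10, 4, 6, 8, 4, 6, 4, 10, 13, 8, 11, 6, 21]⟩)
  (.leaf ⟨6, 6, true, [18, 18, 14, 10, 8, 18, 8, 18], [8, 11, 8, 18, 8, 18, 18, 11, 11, 8, 10, 6, 8, 11, 4, 6, 8, 4, 6, 4, 6, 8, 11, 6, 23]⟩))))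
  (.node (nat_lit 1868) (.node (nat_lit 1866) (.node (nat_lit 1865) (.leaf ⟨6, 6, true, [11, 8, 0, 18, 8, 18, 12, 8, 18], [8, 18, 8, 19, 8, 19, 2, 12, 11, 6, 8, 10, 4, 6, 8, 10, 4, 6, 8, 4, 6, 4, 11, 11, 8, 10, 21]⟩)
  (.leaf ⟨6, 6, true, [8, 18, 18, 8, 19, 8, 19, 2], [8, 10, 6, 8, 19, 19, 2, 8, 11, 4, 6, 8, 10, 4, 6, 8, 4, 6, 4, 0, 8, 11, 12, 6, 8, 11, 13]⟩))
  (.node (nat_lit 1867) (.leaf ⟨6, 6, true, [0, 19, 10, 10, 6, 8, 19, 16], [16, 8, 14, 18, 18, 8, 19, 2, 8, 11, 4, 6, 8, 11, 4, 6, 8, 4, 6, 4, 8, 11, 6, 8, 11, 22]⟩)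
  (.leaf ⟨6, 6, true, [8, 2, 19, 6, 8, 19, 6, 2], [14, 8, 18, 8, 18, 8, 19, 2, 8, 11, 6, 8, 4, 6, 4, 0, 12, 10, 8, 10]⟩)))
  (.node (nat_lit 1870) (.node (nat_lit 1869) (.leaf ⟨6, 6, true, [19, 19, 6, 8, 18, 8, 6, 18, 10], [0, 19, 19, 14, 8, 19, 0, 2, 11, 6, 4, 6, 8, 11, 4, 6, 8, 4, 6, 4, 10, 6, 8, 11, 25]⟩)
  (.leaf ⟨6, 6, true, [8, 18, 8, 18, 8, 19, 16], [14, 8, 18, 8, 0, 18, 18, 13, 6, 8, 10, 4, 6, 8, 11, 4, 6, 8, 4, 6, 4, 11, 6, 8, 11, 23]⟩))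
  (.node (nat_lit 1871) (.leaf ⟨6, 6, true, [19, 8, 19, 16, 8, 19, 8, 6, 2], [18, 8, 18, 8, 19, 2, 10, 10, 6, 8, 11, 4, 6, 8, 11, 4, 6, 8, 4, 6, 4, 12, 10, 8, 10, 6, 8, 10, 23]⟩)
  (.leaf ⟨6, 6, true, [8, 19, 8, 10, 6, 8, 18], [6, 18, 18, 18, 8, 19, 2, 4, 6, 4, 8, 11, 6, 8, 11, 21]⟩)))))
  (.node (nat_lit 1880) (.node (nat_lit 1876) (.node (nat_lit 1874) (.node (nat_lit 1873) (.leaf ⟨6, 6, true, [6, 18, 13, 8, 19, 8, 19, 14], [19, 8, 19, 8, 19, 8, 19, 2, 10, 8, 11, 6, 8, 4, 6, 4, 0, 12, 11, 8, 10, 12]⟩)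
  (.leaf ⟨6, 6, true, [6, 18, 8, 18, 8, 19, 6, 18, 8, 6], [6, 8, 18, 18, 8, 19, 8, 19, 2, 11, 8, 10, 6, 8, 11, 4, 6, 8, 4, 6, 4, 0, 10, 13, 8, 10, 22]⟩))
  (.node (nat_lit 1875) (.leaf ⟨6, 5, true, [12, 16, 8, 19, 8, 19, 14], [10, 8, 19, 6, 18, 8, 19, 2, 6, 8, 10, 6, 8, 11, 4, 6, 8, 11, 4, 6, 8, 4, 6, 4, 11, 8, 10, 6, 8, 11, 6, 12]⟩)
  (.leaf ⟨5, 6, true, [12, 18, 8, 19, 8, 6, 18, 8, 6], [16, 14, 8, 19, 10, 8, 19, 2, 13, 10, 4, 6, 8, 10, 4, 6, 8, 10, 4, 6, 8, 4, 6, 4, 8, 11, 8, 11, 6, 8, 10, 24]⟩)))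
  (.node (nat_lit 1878) (.node (nat_lit 1877) (.leaf ⟨6, 6, true, [0, 2, 18, 8, 19, 19, 2], [10, 8, 18, 18, 6, 8, 11, 4, 6, 8, 4, 6, 4, 0, 13, 8, 10, 6, 22]⟩)
  (.leaf ⟨6, 6, true, [8, 16, 8, 19, 19, 12, 8, 16], [14, 18, 8, 19, 8, 19, 2, 10, 6, 8, 11, 4, 6, 8, 11, 4, 6, 8, 4, 6, 4, 0, 11, 8, 10, 6, 8, 10, 6, 25]⟩))
  (.node (nat_lit 1879) (.leaf ⟨6, 6, true, [18, 12, 8, 19, 8, 19, 12, 8, 16], [8, 0, 19, 8, 19, 8, 0, 19, 2, 13, 10, 4, 6, 8, 10, 4, 6, 8, 10, 4, 6, 8, 4, 6, 4, 11, 12, 8, 10, 6, 8, 11, 22]⟩)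
  (.leaf ⟨6, 6, true, [18, 13, 8, 19, 8, 16, 10], [8, 18, 8, 18, 18, 8, 11, 6, 4, 6, 8, 10, 4, 6, 8, 4, 6, 4, 10, 6, 8, 11, 6, 8, 10, 6, 22]⟩))))
  (.node (nat_lit 1884) (.node (nat_lit 1882) (.node (nat_lit 1881) (.leaf ⟨6, 6, true, [18, 18, 8, 2, 18, 8, 6, 18], [12, 19, 8, 19, 8, 19, 2, 13, 6, 8, 11, 4, 6, 8, 10, 4, 6, 8, 4, 6, 4, 11, 6, 22]⟩)
  (.leaf ⟨6, 6, true, [18, 12, 8, 19, 8, 14, 6], [10, 12, 8, 19, 8, 19, 2, 8, 10, 6, 8, 10, 6, 12]⟩))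
  (.node (nat_lit 1883) (.leaf ⟨6, 6, true, [0, 19, 13, 8, 19, 10, 8, 16], [14, 8, 18, 8, 18, 8, 19, 2, 11, 8, 11, 4, 6, 8, 4, 6, 4, 13, 11, 8, 11, 23]⟩)
  (.leaf ⟨6, 6, true, [6, 18, 8, 18, 8, 18, 8, 18], [19, 0, 19, 10, 8, 19, 2, 12, 6, 8, 10, 4, 6, 8, 11, 4, 6, 8, 4, 6, 4, 11, 13, 8, 10, 23]⟩)))
  (.node (nat_lit 1886) (.node (nat_lit 1885) (.leaf ⟨6, 6, true, [8, 19, 8, 19, 6, 8, 6, 18], [8, 18, 18, 13, 10, 8, 11, 6, 8, 4, 6, 4, 13, 6, 8, 11, 6]⟩)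
  (.leaf ⟨6, 6, true, [14, 8, 18, 8, 19, 6, 2], [14, 12, 8, 0, 19, 8, 19, 2, 13, 4, 6, 8, 11, 4, 6, 8, 10, 4, 6, 8, 4, 6, 4, 13, 6, 8, 11, 24]⟩))
  (.node (nat_lit 1887) (.leaf ⟨6, 6, true, [19, 19, 12, 14, 8, 19, 8, 19, 2], [15, 18, 8, 19, 10, 8, 19, 2, 11, 4, 6, 8, 11, 4, 6, 8, 11, 4, 6, 8, 4, 6, 4, 0, 13, 10, 8, 11, 6, 8, 11, 12]⟩)
  (.leaf ⟨6, 6, true, [12, 0, 18, 8, 18, 8, 19, 16], [6, 8, 16, 8, 19, 19, 2, 11, 11, 8, 10, 6, 8, 11, 4, 6, 8, 4, 6, 4, 8, 11, 13, 6, 8, 11, 6, 12]⟩))))))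

noncomputable def f1888 : FT := (.node (nat_lit 1904) (.node (nat_lit 1896) (.node (nat_lit 1892) (.node (nat_lit 1890) (.node (nat_lit 1889) (.leaf ⟨6, 6, true, [19, 8, 16, 8, 19, 6, 8, 18], [19, 12, 0, 19, 8, 19, 2, 10, 8, 11, 13, 6, 8, 10, 4, 6, 8, 4, 6, 4, 8, 11, 6, 12]⟩)
  (.leaf ⟨6, 6, true, [8, 2, 18, 8, 18, 10, 8, 18], [8, 19, 8, 0, 19, 2, 11, 6, 8, 11, 4, 6, 8, 4, 6, 4, 0, 13, 8, 11, 24]⟩))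
  (.node (nat_lit 1891) (.leaf ⟨6, 6, true, [6, 18, 14, 8, 18, 4, 14, 8, 6], [2, 18, 8, 0, 18, 18, 8, 10, 13, 4, 6, 8, 10, 4, 6, 8, 4, 6, 4, 12, 8, 10, 6, 8, 11, 23]⟩)
  (.leaf ⟨6, 6, true, [18, 8, 2, 18, 8, 19, 8, 6, 2], [13, 14, 8, 19, 8, 0, 19, 2, 10, 13, 8, 10, 6, 8, 4, 6, 4, 0, 6, 8, 11, 12]⟩)))
  (.node (nat_lit 1894) (.node (nat_lit 1893) (.leaf ⟨6, 6, true, [14, 8, 18, 8, 18, 4, 14, 8, 10, 6], [0, 19, 19, 14, 8, 19, 0, 2, 10, 8, 10, 13, 4, 6, 8, 10, 4, 6, 8, 4, 6, 4, 13, 8, 11, 12]⟩)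
  (.leaf ⟨6, 6, true, [18, 10, 12, 18, 8, 19, 8, 19, 14], [15, 12, 0, 19, 8, 19, 8, 19, 2, 10, 13, 8, 10, 6, 8, 4, 6, 4, 12, 6, 8, 11, 6, 13]⟩))
  (.node (nat_lit 1895) (.leaf ⟨6, 6, true, [16, 13, 10, 8, 6, 18, 8, 18, 10], [8, 16, 8, 19, 8, 0, 19, 2, 4, 6, 8, 4, 6, 4, 0, 11, 6, 8, 10, 25]⟩)
  (.leaf ⟨6, 6, true, [13, 8, 6, 18, 8, 6, 18, 10], [16, 8, 19, 6, 8, 19, 19, 2, 10, 6, 8, 10, 4, 6, 8, 10, 4, 6, 8, 4, 6, 4, 0, 11, 13, 6, 8, 10, 6, 23]⟩))))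
  (.node (nat_lit 1900) (.node (nat_lit 1898) (.node (nat_lit 1897) (.leaf ⟨6, 6, true, [8, 18, 14, 18, 8, 19, 14, 6], [19, 19, 8, 19, 2, 11, 13, 8, 10, 6, 8, 4, 6, 4, 10, 8, 11, 6, 8, 10, 23]⟩)
  (.leaf ⟨6, 6, true, [15, 8, 6, 18, 8, 19, 19, 2], [0, 19, 2, 19, 8, 19, 2, 13, 11, 4, 6, 8, 10, 4, 6, 8, 4, 6, 4, 10, 6, 8, 10, 6, 8, 11, 24]⟩))
  (.node (nat_lit 1899) (.leaf ⟨6, 6, true, [8, 19, 6, 18, 8, 19, 8, 14, 6], [0, 18, 8, 18, 18, 13, 4, 6, 8, 11, 4, 6, 8, 10, 4, 6, 8, 4, 6, 4, 8, 11, 12, 6, 8, 11, 12]⟩)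
  (.leaf ⟨6, 6, true, [14, 0, 19, 8, 16, 8, 19, 8, 16], [15, 8, 19, 8, 0, 19, 2, 10, 8, 11, 4, 6, 8, 10, 4, 6, 8, 4, 6, 4, 0, 11, 8, 10, 6, 8, 11, 12]⟩)))
  (.node (nat_lit 1902) (.node (nat_lit 1901) (.leaf ⟨6, 6, true, [12, 8, 18, 8, 19, 6, 18, 8, 6], [0, 14, 8, 6, 18, 8, 19, 2, 8, 10, 8, 6, 4, 10, 6, 8, 10, 6, 8, 11, 23]⟩)
  (.leaf ⟨6, 6, true, [6, 18, 8, 18, 10, 8, 19, 19, 14], [8, 18, 14, 18, 18, 8, 18, 18, 10, 6, 8, 11, 6, 8, 10, 4, 6, 8, 4, 6, 4, 11, 8, 10, 6, 8, 11, 12]⟩))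
  (.node (nat_lit 1903) (.leaf ⟨6, 5, true, [0, 2, 18, 8, 19, 12, 16], [19, 12, 10, 8, 19, 2, 12, 10, 8, 6, 4, 10, 12, 8, 11, 25]⟩)
  (.leaf ⟨5, 6, true, [15, 8, 19, 6, 8, 19, 8, 16], [8, 0, 19, 2, 11, 12, 6, 8, 11, 4, 6, 8, 4, 6, 4, 0, 12, 6, 8, 11, 25]⟩)))))
  (.node (nat_lit 1912) (.node (nat_lit 1908) (.node (nat_lit 1906) (.node (nat_lit 1905) (.leaf ⟨6, 5, true, [8, 19, 8, 10, 6, 8, 19, 12, 16], [0, 14, 4, 6, 8, 18, 18, 10, 10, 6, 8, 11, 4, 6, 8, 10, 4, 6, 8, 4, 6, 4, 0, 11, 11, 8, 10, 6, 8, 11, 22]⟩)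
  (.leaf ⟨5, 6, true, [15, 18, 8, 6, 0, 18], [12, 0, 19, 6, 8, 18, 18, 10, 6, 8, 11, 4, 6, 8, 4, 6, 4, 0, 12, 8, 10, 6, 8, 10, 25]⟩))
  (.node (nat_lit 1907) (.leaf ⟨6, 6, true, [15, 19, 6, 18, 8, 19, 10, 8, 16], [14, 4, 6, 18, 8, 19, 2, 10, 10, 8, 6, 4, 8, 10, 12, 6, 8, 10, 13]⟩)
  (.leaf ⟨6, 6, true, [16, 8, 19, 6, 18, 8, 6], [19, 10, 10, 8, 19, 8, 19, 2, 12, 10, 4, 6, 8, 10, 4, 6, 8, 4, 6, 4, 10, 6, 8, 11, 6, 8, 10, 23]⟩)))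
  (.node (nat_lit 1910) (.node (nat_lit 1909) (.leaf ⟨6, 6, true, [14, 18, 8, 18], [12, 10, 8, 19, 19, 2, 12, 8, 10, 4, 6, 8, 4, 6, 4, 12, 10, 8, 10, 6, 8, 10, 12]⟩)
  (.leaf ⟨6, 6, true, [15, 18, 14, 8, 18, 8, 18, 10], [13, 19, 8, 16, 8, 19, 19, 2, 8, 10, 8, 4, 6, 4, 0, 12, 11, 8, 10, 6, 8, 10, 22]⟩))
  (.node (nat_lit 1911) (.leaf ⟨6, 6, true, [14, 12, 18, 8, 19, 8, 16], [8, 2, 18, 8, 18, 18, 6, 8, 11, 4, 6, 8, 4, 6, 4, 0, 8, 11, 6]⟩)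
  (.leaf ⟨6, 6, true, [0, 14, 18, 8, 19, 19, 14, 8, 6], [0, 18, 8, 18, 8, 19, 2, 11, 11, 13]⟩))))
  (.node (nat_lit 1916) (.node (nat_lit 1914) (.node (nat_lit 1913) (.leaf ⟨6, 6, true, [0, 15, 18, 8, 19, 6, 2], [18, 8, 4, 6, 18, 8, 19, 2, 13, 8, 11, 6, 8, 4, 6, 4, 8, 11, 6, 8, 10, 20]⟩)
  (.leaf ⟨6, 6, true, [18, 12, 10, 8, 18, 8, 18], [12, 2, 18, 8, 19, 8, 19, 2, 11, 8, 10, 6, 8, 11, 4, 6, 8, 4, 6, 4, 0, 6, 8, 10, 8, 10, 6, 13]⟩))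
  (.node (nat_lit 1915) (.leaf ⟨6, 5, true, [0, 19, 12, 6, 8, 19, 8, 19, 14], [15, 8, 18, 18, 10, 8, 19, 2, 8, 10, 4, 6, 8, 10, 4, 6, 8, 4, 6, 4, 0, 13, 11, 8, 11, 20]⟩)
  (.leaf ⟨5, 6, true, [18, 11, 8, 18, 8, 18, 8, 18, 10], [18, 8, 18, 10, 8, 19, 19, 2, 8, 11, 6, 4, 6, 8, 10, 4, 6, 8, 4, 6, 4, 13, 10, 8, 11, 6, 8, 10, 24]⟩)))
  (.node (nat_lit 1918) (.node (nat_lit 1917) (.leaf ⟨6, 6, true, [6, 18, 18, 18, 8, 19, 8, 14, 8, 6], [14, 10, 8, 18, 8, 18, 18, 11, 4, 6, 8, 11, 6, 4, 6, 8, 11, 4, 6, 8, 4, 6, 4, 12, 8, 11, 6, 21]⟩)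
  (.leaf ⟨6, 6, true, [15, 19, 19, 11, 8, 19, 8, 6, 2], [13, 19, 8, 16, 8, 19, 19, 2, 11, 6, 8, 10, 6, 4, 6, 8, 11, 4, 6, 8, 4, 6, 4, 13, 8, 11, 6]⟩))
  (.node (nat_lit 1919) (.leaf ⟨6, 6, true, [8, 18, 18, 12, 8, 18], [0, 19, 6, 8, 18, 18, 11, 8, 11, 6, 8, 4, 6, 4, 12, 11, 6, 8, 10, 6, 20]⟩)
  (.leaf ⟨6, 6, true, [13, 14, 8, 6, 18, 8, 19, 14], [8, 6, 18, 8, 19, 0, 2, 6, 8, 11, 12, 4, 6, 8, 11, 4, 6, 8, 4, 6, 4, 10, 6, 8, 11, 6, 8, 10, 23]⟩))))))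

noncomputable def f1920 : FT := (.node (nat_lit 1936) (.node (nat_lit 1928) (.node (nat_lit 1924) (.node (nat_lit 1922) (.node (nat_lit 1921) (.leaf ⟨6, 6, true, [14, 10, 6, 8, 18, 8, 4, 14, 6], [6, 0, 18, 10, 8, 18, 18, 8, 10, 8, 10, 6, 8, 4, 6, 4, 0, 12, 10, 21]⟩)
  (.leaf ⟨6, 6, true, [0, 19, 8, 14, 10, 6], [19, 8, 0, 19, 2, 13, 4, 6, 8, 11, 4, 6, 8, 4, 6, 4, 8, 10, 8, 10, 6, 8, 10, 24]⟩))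
  (.node (nat_lit 1923) (.leaf ⟨6, 6, true, [19, 19, 16, 8, 19, 12, 8, 16], [19, 12, 10, 8, 19, 2, 6, 8, 11, 12, 4, 6, 8, 11, 4, 6, 8, 4, 6, 4, 10, 8, 11, 6, 8, 11, 6, 21]⟩)
  (.leaf ⟨6, 6, true, [12, 8, 18, 13, 18, 8, 19, 8, 16], [18, 12, 8, 19, 6, 8, 18, 18, 11, 11, 8, 10, 6, 8, 11, 4, 6, 8, 4, 6, 4, 8, 11, 6, 8, 10, 6, 23]⟩)))
  (.node (nat_lit 1926) (.node (nat_lit 1925) (.leaf ⟨6, 6, true, [0, 2, 18, 12, 18, 8, 6], [19, 8, 15, 8, 19, 8, 19, 2, 13, 8, 11, 6, 8, 4, 6, 4, 0, 10, 10, 6, 8, 10, 23]⟩)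
  (.leaf ⟨6, 6, true, [8, 18, 8, 16, 8, 6, 0, 18], [18, 18, 10, 10, 8, 18, 18, 13, 10, 6, 8, 11, 4, 6, 8, 4, 6, 4, 10, 8, 10, 6, 8, 10, 6, 25]⟩))
  (.node (nat_lit 1927) (.leaf ⟨6, 6, true, [8, 15, 18, 8, 15, 18, 8, 18, 10], [18, 18, 12, 8, 19, 8, 19, 2, 11, 8, 11, 6, 8, 11, 4, 6, 8, 4, 6, 4, 12, 11, 6, 8, 10, 25]⟩)
  (.leaf ⟨6, 6, true, [16, 8, 15, 18, 8, 18, 10], [8, 11, 8, 19, 8, 19, 2, 11, 13, 8, 10, 4, 6, 8, 11, 4, 6, 8, 4, 6, 4, 8, 11, 11, 6, 8, 11, 25]⟩))))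
  (.node (nat_lit 1932) (.node (nat_lit 1930) (.node (nat_lit 1929) (.leaf ⟨6, 6, true, [8, 10, 6, 8, 18, 8, 19, 14, 6], [13, 16, 8, 0, 19, 8, 19, 2, 10, 13, 8, 11, 6, 8, 4, 6, 4, 0, 10, 10, 6, 8, 11, 23]⟩)
  (.leaf ⟨6, 6, true, [2, 18, 8, 19, 8, 19, 8, 16], [12, 18, 8, 18, 18, 11, 6, 8, 10, 13, 4, 6, 8, 10, 4, 6, 8, 4, 6, 4, 10, 6, 8, 11, 6, 24]⟩))
  (.node (nat_lit 1931) (.leaf ⟨6, 6, true, [0, 14, 8, 18, 14, 8, 19, 19, 2], [10, 8, 18, 8, 18, 18, 12, 11, 8, 10, 6, 8, 10, 4, 6, 8, 4, 6, 4, 11, 13, 8, 10, 6, 8, 11, 23]⟩)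
  (.leaf ⟨6, 6, true, [18, 8, 0, 18, 4, 14, 8, 6], [12, 0, 19, 8, 19, 0, 2, 4, 6, 8, 10, 12, 4, 6, 8, 10, 4, 6, 8, 4, 6, 4, 13, 8, 10, 6, 12]⟩)))
  (.node (nat_lit 1934) (.node (nat_lit 1933) (.leaf ⟨6, 6, true, [8, 18, 14, 18, 8, 10, 6, 8, 18], [18, 8, 18, 8, 19, 8, 19, 2, 8, 11, 11, 6, 8, 11, 4, 6, 8, 4, 6, 4, 13, 6, 8, 10, 20]⟩)
  (.leaf ⟨6, 6, true, [18, 8, 19, 8, 0, 19, 8, 14, 6], [14, 4, 6, 18, 8, 19, 2, 10, 8, 6, 4, 6, 8, 11, 22]⟩))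
  (.node (nat_lit 1935) (.leaf ⟨6, 6, true, [18, 18, 8, 18, 8, 18, 8, 4, 14, 6], [15, 19, 16, 8, 19, 8, 19, 2, 8, 11, 6, 8, 11, 4, 6, 8, 11, 4, 6, 8, 4, 6, 4, 0, 11, 8, 11, 6, 8, 10, 6, 25]⟩)
  (.leaf ⟨6, 6, true, [0, 2, 18, 8, 19, 19, 10, 8, 16], [8, 0, 19, 19, 2, 10, 6, 8, 10, 4, 6, 8, 4, 6, 4, 10, 13, 8, 11, 6, 13]⟩)))))
  (.node (nat_lit 1944) (.node (nat_lit 1940) (.node (nat_lit 1938) (.node (nat_lit 1937) (.leaf ⟨6, 6, true, [6, 8, 18, 8, 19, 6, 2], [8, 15, 18, 10, 8, 18, 18, 13, 8, 10, 4, 6, 8, 11, 4, 6, 8, 4, 6, 4, 11, 11, 24]⟩)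
  (.leaf ⟨6, 6, true, [19, 6, 8, 6, 18, 10], [15, 19, 8, 6, 18, 8, 19, 2, 8, 10, 6, 8, 10, 4, 6, 8, 4, 6, 4, 0, 12, 8, 10, 21]⟩))
  (.node (nat_lit 1939) (.leaf ⟨6, 6, true, [18, 10, 8, 18, 8, 19, 6, 2], [19, 15, 8, 6, 18, 8, 19, 2, 13, 8, 11, 4, 6, 8, 4, 6, 4, 0, 8, 10, 6, 8, 10, 6, 24]⟩)
  (.leaf ⟨6, 6, true, [0, 15, 18, 8, 15, 19, 8, 19, 2], [8, 11, 8, 18, 8, 18, 18, 10, 10, 4, 6, 8, 4, 6, 4, 8, 11, 8, 11, 6, 8, 11, 23]⟩)))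
  (.node (nat_lit 1942) (.node (nat_lit 1941) (.leaf ⟨6, 6, true, [16, 8, 0, 19, 8, 0, 19, 8, 16], [8, 19, 19, 0, 19, 8, 19, 2, 13, 10, 8, 11, 6, 8, 10, 4, 6, 8, 4, 6, 4, 8, 10, 12, 6, 8, 10, 13]⟩)
  (.leaf ⟨6, 6, true, [8, 0, 18, 8, 18, 8, 19, 19, 14], [12, 0, 18, 8, 18, 18, 11, 4, 6, 8, 10, 4, 6, 8, 4, 6, 4, 10, 6, 8, 11, 6, 8, 10, 22]⟩))
  (.node (nat_lit 1943) (.leaf ⟨6, 6, true, [8, 19, 12, 19, 6, 8, 18, 8, 18], [0, 19, 8, 19, 14, 8, 19, 0, 2, 10, 6, 8, 10, 6, 8, 4, 6, 4, 11, 8, 10, 6, 8, 11, 6, 20]⟩)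
  (.leaf ⟨6, 6, true, [18, 8, 18, 18, 10, 8, 6], [8, 0, 19, 6, 8, 18, 18, 10, 4, 6, 8, 11, 4, 6, 8, 4, 6, 4, 0, 12, 6, 8, 10, 6, 20]⟩))))
  (.node (nat_lit 1948) (.node (nat_lit 1946) (.node (nat_lit 1945) (.leaf ⟨6, 6, true, [18, 0, 15, 8, 18, 8, 4, 14, 6], [18, 12, 8, 18, 8, 18, 18, 8, 11, 12, 4, 6, 8, 11, 4, 6, 8, 4, 6, 4, 13, 10, 8, 10, 20]⟩)
  (.leaf ⟨6, 6, true, [12, 15, 8, 18, 8, 18, 8, 19, 19, 15], [6, 0, 18, 10, 8, 18, 18, 12, 6, 8, 10, 4, 6, 8, 4, 6, 4, 13, 11, 8, 10, 6, 8, 11, 23]⟩))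
  (.node (nat_lit 1947) (.leaf ⟨6, 6, true, [6, 8, 16, 8, 0, 19, 16], [0, 19, 12, 10, 8, 19, 2, 8, 4, 6, 4, 8, 10, 12, 6, 8, 10, 23]⟩)
  (.leaf ⟨6, 6, true, [8, 6, 18, 18, 8, 18, 8, 19, 16], [18, 18, 13, 11, 4, 6, 8, 11, 4, 6, 8, 4, 6, 4, 12, 6, 8, 10, 25]⟩)))
  (.node (nat_lit 1950) (.node (nat_lit 1949) (.leaf ⟨6, 6, true, [8, 19, 8, 19, 6, 8, 19, 12, 19, 2], [16, 8, 6, 18, 8, 19, 2, 11, 8, 10, 6, 8, 11, 4, 6, 8, 4, 6, 4, 0, 6, 8, 10, 6, 8, 11, 23]⟩)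
  (.leaf ⟨6, 6, true, [16, 8, 19, 0, 14, 6], [14, 10, 8, 18, 0, 18, 13, 8, 11, 6, 8, 10, 4, 6, 8, 4, 6, 4, 13, 10, 8, 11, 6, 8, 10, 6, 13]⟩))
  (.node (nat_lit 1951) (.leaf ⟨6, 6, true, [0, 18, 8, 18, 8, 18, 11], [0, 19, 8, 19, 10, 10, 8, 19, 2, 13, 10, 6, 8, 10, 4, 6, 8, 10, 4, 6, 8, 4, 6, 4, 6, 8, 10, 6, 8, 11, 25]⟩)
  (.leaf ⟨6, 6, true, [19, 8, 6, 0, 18, 8, 10, 6], [18, 13, 18, 8, 19, 8, 19, 2, 10, 4, 6, 8, 11, 12, 4, 6, 8, 11, 4, 6, 8, 4, 6, 4, 13, 8, 11, 6, 8, 10, 24]⟩))))))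

noncomputable def f1952 : FT := (.node (nat_lit 1968) (.node (nat_lit 1960) (.node (nat_lit 1956) (.node (nat_lit 1954) (.node (nat_lit 1953) (.leaf ⟨6, 6, true, [14, 8, 6, 18, 8, 19, 19, 14, 10], [18, 18, 8, 18, 8, 19, 2, 10, 10, 6, 8, 4, 6, 4, 0, 10, 6, 8, 10, 6, 12]⟩)
  (.leaf ⟨6, 6, true, [11, 8, 0, 19, 19, 14, 8, 6], [19, 19, 6, 8, 18, 18, 12, 8, 10, 6, 8, 4, 6, 4, 8, 11, 13, 6, 8, 10, 6, 22]⟩))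
  (.node (nat_lit 1955) (.leaf ⟨6, 6, true, [12, 14, 8, 19, 8, 0, 14, 6], [0, 18, 8, 18, 18, 10, 8, 19, 2, 6, 4, 0, 12, 8, 11, 6, 8, 10, 6, 25]⟩)
  (.leaf ⟨6, 6, true, [14, 8, 18, 13, 8, 19, 8, 19, 2], [19, 16, 8, 2, 19, 8, 19, 2, 8, 10, 6, 8, 10, 4, 6, 8, 4, 6, 4, 10, 10, 8, 11, 20]⟩)))
  (.node (nat_lit 1958) (.node (nat_lit 1957) (.leaf ⟨6, 6, true, [18, 13, 18, 8, 19, 8, 16, 10], [10, 8, 4, 6, 18, 8, 19, 2, 6, 8, 11, 4, 6, 8, 11, 4, 6, 8, 4, 6, 4, 11, 6, 21]⟩)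
  (.leaf ⟨6, 6, true, [18, 12, 14, 8, 19, 8, 19, 2], [13, 18, 8, 19, 8, 0, 19, 2, 8, 10, 6, 8, 10, 4, 6, 8, 4, 6, 4, 13, 10, 8, 11, 6, 8, 10, 25]⟩))
  (.node (nat_lit 1959) (.leaf ⟨6, 6, true, [0, 15, 8, 18, 8, 19, 19, 15], [19, 0, 2, 4, 6, 8, 11, 4, 6, 8, 4, 6, 4, 0, 8, 11, 13, 6, 8, 10, 24]⟩)
  (.leaf ⟨6, 5, true, [6, 18, 12, 8, 18, 8, 18, 10], [14, 18, 18, 8, 19, 8, 19, 2, 13, 10, 6, 8, 11, 4, 6, 8, 4, 6, 4, 12, 10, 22]⟩))))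
  (.node (nat_lit 1964) (.node (nat_lit 1962) (.node (nat_lit 1961) (.leaf ⟨5, 6, true, [6, 18, 14, 8, 18, 12, 18, 8, 10, 6], [11, 8, 0, 19, 19, 2, 13, 8, 11, 4, 6, 8, 10, 4, 6, 8, 4, 6, 4, 12, 10, 6, 8, 11, 22]⟩)
  (.leaf ⟨6, 6, true, [19, 8, 16, 10, 8, 6, 18], [8, 0, 19, 10, 8, 19, 2, 11, 11, 4, 6, 8, 4, 6, 4, 10, 6, 8, 10, 6]⟩))
  (.node (nat_lit 1963) (.leaf ⟨6, 6, true, [14, 18, 0, 15, 18, 8, 6, 18, 8, 6], [2, 10, 8, 10, 6, 8, 10, 4, 6, 8, 4, 6, 4, 13, 10, 8, 11, 12]⟩)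
  (.leaf ⟨6, 6, true, [13, 16, 8, 6, 18], [0, 16, 8, 6, 18, 8, 19, 2, 4, 6, 8, 10, 10, 4, 6, 8, 11, 4, 6, 8, 4, 6, 4, 8, 11, 13, 6, 8, 10, 20]⟩)))
  (.node (nat_lit 1966) (.node (nat_lit 1965) (.leaf ⟨6, 6, true, [8, 14, 6, 8, 19, 8, 19, 2], [11, 11, 8, 0, 19, 8, 19, 2, 11, 4, 6, 8, 10, 4, 6, 8, 11, 4, 6, 8, 4, 6, 4, 11, 12, 8, 10, 6, 8, 11, 23]⟩)
  (.leaf ⟨6, 5, true, [6, 18, 13, 8, 19, 8, 0, 14, 6], [8, 0, 19, 19, 14, 8, 19, 0, 2, 11, 6, 4, 6, 8, 10, 4, 6, 8, 11, 4, 6, 8, 4, 6, 4, 13, 8, 11, 6, 23]⟩))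
  (.node (nat_lit 1967) (.leaf ⟨5, 6, true, [8, 19, 12, 8, 19, 8, 16, 10], [18, 8, 0, 14, 6, 8, 18, 18, 13, 10, 8, 10, 4, 6, 8, 4, 6, 4, 11, 8, 11, 6, 8, 11, 6, 12]⟩)
  (.leaf ⟨6, 6, true, [6, 18, 13, 18, 8, 19, 8, 14, 6], [10, 8, 18, 14, 8, 19, 19, 2, 8, 10, 8, 10]⟩)))))
  (.node (nat_lit 1976) (.node (nat_lit 1972) (.node (nat_lit 1970) (.node (nat_lit 1969) (.leaf ⟨6, 6, true, [15, 8, 18, 8, 6, 18], [15, 11, 8, 0, 19, 8, 19, 2, 10, 8, 4, 6, 4, 12, 8, 11, 6]⟩)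
  (.leaf ⟨6, 6, true, [19, 19, 16, 8, 19, 12, 16], [12, 6, 0, 18, 8, 18, 18, 11, 13, 6, 8, 11, 4, 6, 8, 4, 6, 4, 12, 8, 10, 6, 20]⟩))
  (.node (nat_lit 1971) (.leaf ⟨6, 6, true, [8, 19, 0, 14, 10, 8, 6], [19, 0, 14, 6, 8, 18, 18, 10, 10, 4, 6, 8, 11, 4, 6, 8, 4, 6, 4, 13, 11, 6, 8, 11, 25]⟩)
  (.leaf ⟨6, 6, true, [8, 6, 18, 10, 8, 6, 18, 8, 6], [13, 16, 8, 19, 8, 19, 2, 8, 10, 12, 6, 8, 10, 4, 6, 8, 4, 6, 4, 10, 13, 6, 8, 10, 22]⟩)))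
  (.node (nat_lit 1974) (.node (nat_lit 1973) (.leaf ⟨6, 6, true, [19, 12, 19, 6, 8, 18, 8, 18], [15, 8, 4, 6, 18, 8, 19, 2, 12, 6, 8, 10, 4, 6, 8, 4, 6, 4, 0, 8, 10, 6, 8, 11, 6, 20]⟩)
  (.leaf ⟨6, 6, true, [15, 0, 19, 10, 6, 8, 19, 6, 2], [8, 0, 18, 18, 6, 8, 11, 6, 8, 10, 4, 6, 8, 4, 6, 4, 0, 8, 10, 6, 8, 11, 6]⟩))
  (.node (nat_lit 1975) (.leaf ⟨6, 6, true, [14, 12, 18, 8, 0, 19, 6, 2], [0, 15, 8, 18, 8, 0, 18, 18, 13, 6, 8, 11, 4, 6, 8, 4, 6, 4, 0, 11, 8, 10, 6, 8, 10, 13]⟩)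
  (.leaf ⟨6, 6, true, [15, 8, 0, 15, 8, 18, 8, 18, 10], [14, 6, 0, 18, 8, 18, 18, 13, 6, 8, 11, 4, 6, 8, 4, 6, 4, 0, 11, 8, 11, 12, 6, 8, 11, 6, 25]⟩))))
  (.node (nat_lit 1980) (.node (nat_lit 1978) (.node (nat_lit 1977) (.leaf ⟨6, 6, true, [12, 11, 8, 19, 12, 8, 16], [14, 8, 6, 18, 8, 19, 2, 4, 6, 8, 10, 8, 10, 4, 6, 8, 10, 4, 6, 8, 4, 6, 4, 8, 10, 20]⟩)
  (.leaf ⟨6, 6, true, [14, 8, 18, 10, 8, 19, 19, 2], [11, 8, 6, 18, 8, 19, 2, 6, 4, 6, 8, 11, 6, 8, 10, 4, 6, 8, 4, 6, 4, 0, 8, 11, 6, 8, 10]⟩))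
  (.node (nat_lit 1979) (.leaf ⟨6, 6, true, [2, 18, 8, 18, 8, 6, 18, 10], [14, 8, 18, 18, 10, 8, 19, 2, 10, 8, 10, 10, 4, 6, 8, 11, 4, 6, 8, 4, 6, 4, 12, 11, 6, 8, 10, 24]⟩)
  (.leaf ⟨6, 6, true, [15, 12, 8, 18, 8, 2, 18, 8, 18], [6, 18, 18, 8, 19, 10, 8, 19, 2, 8, 10, 6, 8, 10, 4, 6, 8, 4, 6, 4, 0, 13, 10, 6, 8, 11]⟩)))
  (.node (nat_lit 1982) (.node (nat_lit 1981) (.leaf ⟨6, 6, true, [13, 18, 8, 19, 6, 8, 18], [15, 8, 18, 8, 18, 8, 19, 2, 12, 10, 8, 10, 6, 8, 4, 6, 4, 0, 6, 8, 11, 8, 11, 23]⟩)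
  (.leaf ⟨5, 6, true, [15, 18, 8, 19, 12, 16], [12, 0, 15, 8, 18, 18, 6, 4, 6, 8, 11, 4, 6, 8, 10, 4, 6, 8, 4, 6, 4, 12, 10, 8, 10, 25]⟩))
  (.node (nat_lit 1983) (.leaf ⟨6, 5, true, [14, 6, 8, 16, 8, 19, 12, 19, 2], [12, 10, 8, 0, 19, 8, 19, 2, 8, 10, 4, 6, 8, 4, 6, 4, 0, 12, 8, 10, 6, 12]⟩)
  (.leaf ⟨5, 6, true, [18, 12, 8, 16, 8, 19, 19, 14], [12, 18, 8, 6, 18, 8, 19, 2, 8, 11, 8, 11, 4, 6, 8, 4, 6, 4, 10, 10, 6, 8, 11, 21]⟩))))))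

noncomputable def f1984 : FT := (.node (nat_lit 2000) (.node (nat_lit 1992) (.node (nat_lit 1988) (.node (nat_lit 1986) (.node (nat_lit 1985) (.leaf ⟨6, 5, true, [18, 8, 18, 18, 10, 8, 19, 16], [18, 0, 18, 12, 8, 10, 6, 8, 11, 4, 6, 8, 4, 6, 4, 12, 10, 6, 25]⟩)
  (.leaf ⟨6, 6, true, [8, 18, 12, 14, 8, 19, 19, 2], [14, 10, 8, 18, 8, 18, 18, 12, 6, 8, 11, 4, 6, 8, 4, 6, 4, 0, 10, 10, 6, 22]⟩))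
  (.node (nat_lit 1987) (.leaf ⟨6, 6, true, [18, 8, 2, 18, 8, 6, 18], [12, 0, 15, 8, 18, 18, 8, 11, 8, 11, 4, 6, 8, 4, 6, 4, 10, 8, 11, 13, 6, 8, 10, 12]⟩)
  (.leaf ⟨6, 6, true, [8, 18, 8, 14, 8, 19, 19, 2], [18, 18, 8, 19, 8, 19, 2, 12, 10, 8, 10, 6, 8, 4, 6, 4, 0, 8, 10, 8, 10, 6, 8, 10, 6]⟩)))
  (.node (nat_lit 1990) (.node (nat_lit 1989) (.leaf ⟨6, 6, true, [13, 18, 10, 8, 19, 8, 14, 6], [2, 19, 12, 19, 8, 19, 2, 12, 10, 8, 6, 4, 0, 13, 11, 8, 10, 6, 8, 11, 24]⟩)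
  (.leaf ⟨6, 6, true, [14, 8, 18, 18, 18, 8, 10, 6], [18, 8, 19, 6, 18, 8, 19, 2, 10, 13, 8, 10, 4, 6, 8, 4, 6, 4, 8, 11, 6, 8, 10]⟩))
  (.node (nat_lit 1991) (.leaf ⟨6, 6, true, [18, 8, 19, 8, 16, 8, 19, 6, 2], [8, 18, 0, 18, 11, 11, 8, 10, 4, 6, 8, 4, 6, 4, 12, 8, 10, 6, 8, 10, 22]⟩)
  (.leaf ⟨6, 6, true, [8, 19, 10, 10, 8, 19, 2], [8, 14, 0, 19, 11, 8, 19, 2, 11, 6, 8, 10, 4, 6, 8, 11, 4, 6, 8, 4, 6, 4, 12, 8, 11, 6, 8, 10, 6, 20]⟩))))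
  (.node (nat_lit 1996) (.node (nat_lit 1994) (.node (nat_lit 1993) (.leaf ⟨6, 6, true, [13, 19, 14, 8, 19, 8, 19, 14], [15, 19, 19, 11, 8, 19, 2, 11, 6, 4, 6, 8, 10, 6, 8, 11, 4, 6, 8, 4, 6, 4, 10, 8, 11, 13, 6, 8, 10, 12]⟩)
  (.leaf ⟨6, 6, true, [19, 19, 16, 10, 8, 19, 8, 19, 2], [18, 11, 8, 0, 19, 8, 19, 2, 12, 11, 8, 4, 6, 4, 10, 10, 6, 8, 10, 22]⟩))
  (.node (nat_lit 1995) (.leaf ⟨6, 6, true, [12, 18, 8, 19, 8, 19, 14], [13, 16, 8, 0, 19, 8, 19, 2, 6, 8, 11, 4, 6, 8, 4, 6, 4, 11, 12, 8, 10, 6, 8, 11, 21]⟩)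
  (.leaf ⟨6, 6, true, [15, 8, 16, 8, 19, 19, 2], [18, 8, 15, 19, 8, 19, 2, 6, 8, 10, 6, 8, 11, 4, 6, 8, 10, 4, 6, 8, 4, 6, 4, 11, 8, 11, 6]⟩)))
  (.node (nat_lit 1998) (.node (nat_lit 1997) (.leaf ⟨6, 6, true, [0, 19, 2, 19, 8, 19, 14, 8, 6], [8, 10, 8, 19, 0, 2, 10, 12, 6, 8, 10, 4, 6, 8, 11, 4, 6, 8, 4, 6, 4, 11, 13, 6, 8, 10, 6, 20]⟩)
  (.leaf ⟨6, 6, true, [18, 18, 8, 18, 8, 15, 18, 8, 18], [14, 8, 18, 18, 10, 8, 19, 2, 11, 11, 8, 10, 6, 8, 11, 4, 6, 8, 4, 6, 4, 6, 8, 11, 6, 8, 10, 6, 13]⟩))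
  (.node (nat_lit 1999) (.leaf ⟨6, 6, true, [15, 8, 19, 8, 6, 18, 8, 19, 6, 2], [12, 14, 8, 19, 0, 2, 12, 11, 8, 4, 6, 4, 6, 8, 10, 8, 10, 6, 21]⟩)
  (.leaf ⟨6, 6, true, [12, 10, 8, 19, 13, 8, 19, 8, 16], [2, 19, 8, 6, 18, 8, 19, 2, 8, 10, 4, 6, 8, 4, 6, 4, 0, 12, 10, 6, 8, 11, 21]⟩)))))
  (.node (nat_lit 2008) (.node (nat_lit 2004) (.node (nat_lit 2002) (.node (nat_lit 2001) (.leaf ⟨6, 6, true, [18, 8, 15, 19, 19, 16, 8, 6, 18], [15, 18, 8, 19, 10, 8, 19, 2, 10, 12, 6, 8, 10, 4, 6, 8, 11, 4, 6, 8, 4, 6, 4, 12, 10, 6, 8, 11, 24]⟩)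
  (.leaf ⟨6, 6, true, [19, 15, 19, 8, 19, 8, 6, 2], [0, 19, 8, 19, 10, 10, 8, 19, 2, 13, 10, 8, 11, 6, 8, 11, 4, 6, 8, 4, 6, 4, 10, 8, 11, 6, 13]⟩))
  (.node (nat_lit 2003) (.leaf ⟨6, 6, true, [2, 18, 8, 2, 18, 8, 19, 19, 2], [0, 19, 8, 19, 2, 11, 6, 8, 10, 10, 4, 6, 8, 11, 4, 6, 8, 4, 6, 4, 8, 11, 25]⟩)
  (.leaf ⟨6, 6, true, [8, 19, 8, 19, 16, 8, 19, 8, 6, 2], [12, 2, 18, 8, 18, 18, 13, 10, 8, 11, 6, 8, 4, 6, 4, 13, 11, 6, 8, 10, 21]⟩)))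
  (.node (nat_lit 2006) (.node (nat_lit 2005) (.leaf ⟨6, 6, true, [15, 12, 18, 8, 18, 8, 18, 12, 10], [18, 2, 18, 8, 19, 10, 8, 19, 2, 4, 6, 8, 11, 8, 11, 4, 6, 8, 4, 6, 4, 13, 8, 10, 24]⟩)
  (.leaf ⟨6, 6, true, [0, 19, 12, 10, 8, 19, 8, 0, 14, 6], [18, 8, 19, 0, 2, 12, 4, 6, 8, 11, 4, 6, 8, 10, 4, 6, 8, 4, 6, 4, 0, 10, 8, 10, 6, 8, 10, 6, 24]⟩))
  (.node (nat_lit 2007) (.leaf ⟨6, 6, true, [8, 0, 15, 18, 12, 8, 6, 18], [0, 2, 18, 8, 0, 18, 18, 8, 11, 6, 8, 10, 4, 6, 8, 4, 6, 4, 12, 8, 11, 6, 8, 10, 23]⟩)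
  (.leaf ⟨6, 6, true, [14, 18, 8, 18, 12, 8, 18], [14, 18, 8, 18, 18, 13, 10, 8, 11, 4, 6, 8, 11, 4, 6, 8, 4, 6, 4, 13, 10, 8, 10, 6, 8, 10, 20]⟩))))
  (.node (nat_lit 2012) (.node (nat_lit 2010) (.node (nat_lit 2009) (.leaf ⟨6, 6, true, [19, 8, 14, 6, 8, 19, 19, 14], [19, 13, 19, 8, 19, 8, 19, 2, 10, 8, 11, 6, 8, 10, 4, 6, 8, 4, 6, 4, 0, 10, 12, 8, 11, 21]⟩)
  (.leaf ⟨6, 6, true, [15, 19, 19, 13, 8, 19, 8, 16], [11, 8, 19, 8, 19, 8, 19, 2, 12, 8, 11, 4, 6, 8, 4, 6, 4, 11, 8, 11, 12, 6, 8, 11, 6, 21]⟩))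
  (.node (nat_lit 2011) (.leaf ⟨6, 6, true, [12, 18, 8, 19, 8, 6, 18, 8, 6], [11, 8, 0, 18, 8, 18, 18, 4, 6, 8, 10, 8, 10, 4, 6, 8, 4, 6, 4, 0, 12, 6, 8, 11, 20]⟩)
  (.leaf ⟨6, 6, true, [2, 18, 8, 2, 18, 8, 19, 16], [14, 8, 0, 18, 8, 18, 18, 11, 13, 6, 8, 11, 4, 6, 8, 10, 4, 6, 8, 4, 6, 4, 12, 8, 11, 6, 8, 10, 6, 13]⟩)))
  (.node (nat_lit 2014) (.node (nat_lit 2013) (.leaf ⟨6, 6, true, [19, 19, 16, 12, 8, 19, 8, 16], [2, 18, 8, 19, 6, 18, 8, 19, 2, 12, 6, 8, 10, 4, 6, 8, 4, 6, 4, 0, 8, 11, 8, 11, 6, 23]⟩)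
  (.leaf ⟨6, 6, true, [14, 12, 8, 19, 8, 19, 12, 8, 16], [18, 0, 19, 8, 19, 8, 19, 2, 11, 4, 6, 8, 11, 4, 6, 8, 11, 4, 6, 8, 4, 6, 4, 10, 12, 6, 8, 10, 12]⟩))
  (.node (nat_lit 2015) (.leaf ⟨6, 6, true, [2, 18, 8, 0, 18, 8, 18, 10], [8, 0, 18, 8, 18, 8, 19, 2, 10, 8, 10, 4, 6, 8, 10, 4, 6, 8, 4, 6, 4, 8, 10, 6, 21]⟩)
  (.leaf ⟨6, 3, true, [12, 6, 18, 8, 19, 2], [15, 19, 16, 8, 19, 8, 19, 2, 11, 8, 10, 4, 6, 8, 10, 4, 6, 8, 4, 6, 4, 13, 11, 6, 8, 10]⟩))))))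

noncomputable def f2016 : FT := (.node (nat_lit 2032) (.node (nat_lit 2024) (.node (nat_lit 2020) (.node (nat_lit 2018) (.node (nat_lit 2017) (.leaf ⟨3, 6, true, [11, 8, 18, 8, 18], [10, 12, 8, 18, 8, 18, 18, 10, 6, 8, 11, 4, 6, 8, 4, 6, 4, 0, 11, 12, 6, 8, 11, 23]⟩)
  (.leaf ⟨6, 6, true, [15, 8, 18, 8, 19, 19, 14], [19, 6, 18, 8, 19, 2, 10, 8, 10, 6, 8, 4, 6, 4, 0, 8, 10, 6, 8, 11, 22]⟩))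
  (.node (nat_lit 2019) (.leaf ⟨6, 6, true, [6, 8, 14, 4, 6, 8, 18], [15, 12, 0, 19, 8, 19, 2, 6, 8, 11, 13, 4, 6, 8, 11, 4, 6, 8, 4, 6, 4, 11, 6, 22]⟩)
  (.leaf ⟨6, 6, true, [18, 8, 2, 18, 8, 19, 16], [4, 14, 8, 0, 19, 8, 19, 2, 10, 4, 6, 8, 10, 6, 8, 11, 4, 6, 8, 4, 6, 4, 8, 11, 6, 12]⟩)))
  (.node (nat_lit 2022) (.node (nat_lit 2021) (.leaf ⟨6, 6, true, [13, 14, 6, 8, 19, 19, 15, 8, 6], [8, 15, 8, 19, 8, 0, 19, 2, 8, 11, 12, 6, 8, 11, 4, 6, 8, 4, 6, 4, 13, 6, 8, 10]⟩)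
  (.leaf ⟨6, 6, true, [8, 10, 12, 19, 8, 19, 8, 16], [18, 8, 18, 10, 8, 18, 18, 10, 10, 8, 6, 4, 6, 8, 10, 6, 8, 11, 6]⟩))
  (.node (nat_lit 2023) (.leaf ⟨6, 6, true, [10, 8, 0, 18, 18, 10, 8, 19, 6, 2], [19, 12, 6, 18, 8, 19, 8, 19, 2, 11, 6, 8, 10, 13, 4, 6, 8, 10, 4, 6, 8, 4, 6, 4, 13, 10, 8, 10, 20]⟩)
  (.leaf ⟨6, 6, true, [0, 18, 18, 18, 8, 6], [8, 4, 6, 18, 8, 19, 2, 12, 11, 8, 6, 4, 0, 10, 6, 8, 11, 6, 8, 10, 6, 22]⟩))))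
  (.node (nat_lit 2028) (.node (nat_lit 2026) (.node (nat_lit 2025) (.leaf ⟨6, 6, true, [13, 14, 8, 19, 8, 19, 2], [16, 8, 19, 6, 8, 18, 18, 4, 6, 8, 10, 12, 4, 6, 8, 10, 4, 6, 8, 4, 6, 4, 10, 6, 8, 11, 6, 8, 10, 6, 20]⟩)
  (.leaf ⟨6, 6, true, [13, 15, 8, 0, 19, 8, 19, 8, 16, 10], [19, 12, 10, 8, 19, 8, 19, 2, 11, 8, 4, 6, 4, 6, 8, 11, 8, 11, 25]⟩))
  (.node (nat_lit 2027) (.leaf ⟨6, 6, true, [6, 18, 18, 8, 11, 8, 19, 8, 6, 2], [19, 0, 19, 8, 19, 2, 12, 4, 6, 8, 11, 4, 6, 8, 10, 4, 6, 8, 4, 6, 4, 0, 12, 8, 11, 6, 8, 10, 6, 22]⟩)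
  (.leaf ⟨6, 6, true, [19, 6, 8, 18, 13, 18, 8, 6, 18], [19, 16, 8, 19, 6, 8, 18, 18, 12, 11, 8, 4, 6, 4, 11, 12, 6, 8, 11]⟩)))
  (.node (nat_lit 2030) (.node (nat_lit 2029) (.leaf ⟨6, 6, true, [13, 11, 8, 18, 8, 18, 8, 19, 19, 2], [11, 8, 6, 18, 8, 19, 2, 11, 4, 6, 8, 11, 4, 6, 8, 4, 6, 4, 0, 11, 8, 11, 12, 6, 8, 11, 12]⟩)
  (.leaf ⟨6, 6, true, [8, 0, 18, 18, 8, 19, 8, 14, 6], [15, 8, 19, 10, 8, 19, 2, 8, 11, 6, 8, 4, 6, 4, 0, 10, 10, 8, 11, 13]⟩))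
  (.node (nat_lit 2031) (.leaf ⟨6, 6, true, [19, 19, 19, 11, 8, 19, 8, 16], [15, 19, 10, 8, 19, 2, 10, 13, 8, 10, 4, 6, 8, 4, 6, 4, 0, 10, 8, 11, 6, 8, 11, 6, 21]⟩)
  (.leaf ⟨6, 6, true, [15, 12, 19, 8, 19, 2], [0, 18, 10, 10, 8, 18, 18, 4, 6, 8, 11, 13, 4, 6, 8, 11, 4, 6, 8, 4, 6, 4, 0, 10, 13, 8, 10, 22]⟩)))))
  (.node (nat_lit 2040) (.node (nat_lit 2036) (.node (nat_lit 2034) (.node (nat_lit 2033) (.leaf ⟨6, 6, true, [13, 16, 10, 8, 19, 8, 19, 2], [0, 2, 18, 8, 0, 18, 18, 11, 8, 11, 12, 4, 6, 8, 11, 4, 6, 8, 4, 6, 4, 8, 10, 8, 10, 6, 8, 10, 6, 13]⟩)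
  (.leaf ⟨5, 6, true, [18, 13, 18, 8, 6, 18, 8, 6], [18, 0, 18, 11, 6, 8, 10, 4, 6, 8, 10, 4, 6, 8, 4, 6, 4, 12, 6, 8, 10, 20]⟩))
  (.node (nat_lit 2035) (.leaf ⟨6, 5, true, [15, 19, 10, 8, 19, 8, 19, 15], [0, 15, 12, 18, 8, 0, 18, 18, 8, 10, 8, 6, 4, 11, 8, 11, 6, 8, 10, 12]⟩)
  (.leaf ⟨6, 6, true, [8, 19, 15, 19, 8, 19, 10, 8, 16], [8, 18, 18, 8, 10, 8, 10, 6, 8, 4, 6, 4, 0, 6, 8, 10, 8, 10, 6, 24]⟩)))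
  (.node (nat_lit 2038) (.node (nat_lit 2037) (.leaf ⟨6, 6, true, [10, 8, 19, 10, 8, 19, 12, 8, 16], [8, 0, 19, 10, 10, 8, 19, 2, 11, 8, 11, 4, 6, 8, 4, 6, 4, 0, 10, 6, 8, 10, 20]⟩)
  (.leaf ⟨5, 6, true, [4, 14, 13, 8, 19, 8, 19, 8, 16, 10], [12, 6, 18, 8, 18, 18, 6, 8, 11, 12, 4, 6, 8, 11, 4, 6, 8, 4, 6, 4, 11, 8, 10, 6, 12]⟩))
  (.node (nat_lit 2039) (.leaf ⟨6, 5, true, [8, 19, 8, 19, 19, 12, 14], [2, 13, 4, 6, 8, 10, 4, 6, 8, 4, 6, 4, 12, 8, 11, 6, 8, 10, 6, 23]⟩)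
  (.leaf ⟨6, 6, true, [0, 18, 8, 18, 4, 14, 8, 10, 6], [0, 14, 10, 8, 18, 0, 18, 12, 11, 6, 8, 10, 4, 6, 8, 4, 6, 4, 12, 8, 11, 6, 20]⟩))))
  (.node (nat_lit 2044) (.node (nat_lit 2042) (.node (nat_lit 2041) (.leaf ⟨6, 6, true, [13, 18, 8, 6, 18], [0, 14, 8, 18, 8, 18, 18, 6, 8, 10, 13, 4, 6, 8, 10, 4, 6, 8, 4, 6, 4, 11, 13, 8, 10, 6, 8, 11, 20]⟩)
  (.leaf ⟨6, 6, true, [18, 10, 8, 6, 18, 8, 19, 19, 15], [0, 19, 8, 2, 19, 8, 19, 2, 10, 8, 11, 6, 8, 10, 4, 6, 8, 4, 6, 4, 12, 6, 8, 11, 6, 20]⟩))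
  (.node (nat_lit 2043) (.leaf ⟨6, 6, true, [19, 19, 16, 8, 19, 12, 19, 2], [15, 11, 8, 19, 8, 0, 19, 2, 11, 6, 8, 11, 6, 4, 6, 8, 11, 4, 6, 8, 4, 6, 4, 13, 10, 8, 11, 6, 8, 10, 6, 20]⟩)
  (.leaf ⟨6, 6, true, [18, 13, 8, 19, 8, 19, 14], [19, 8, 19, 8, 0, 19, 2, 8, 11, 8, 11, 4, 6, 8, 10, 4, 6, 8, 4, 6, 4, 10, 6, 8, 11, 6, 8, 10, 20]⟩)))
  (.node (nat_lit 2046) (.node (nat_lit 2045) (.leaf ⟨6, 6, true, [2, 19, 8, 19, 8, 6, 2], [16, 10, 8, 19, 0, 2, 13, 11, 8, 11, 4, 6, 8, 4, 6, 4, 12, 11, 6, 8, 10, 12]⟩)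
  (.leaf ⟨6, 6, true, [18, 18, 11, 8, 18, 8, 19, 14, 6], [11, 8, 19, 8, 19, 2, 6, 8, 10, 8, 10, 4, 6, 8, 4, 6, 4, 0, 13, 8, 10, 25]⟩))
  (.node (nat_lit 2047) (.leaf ⟨6, 6, true, [15, 18, 12, 18, 8, 19, 8, 19, 15], [13, 10, 8, 0, 19, 8, 19, 2, 13, 6, 8, 10, 4, 6, 8, 4, 6, 4, 12, 11, 8, 11, 13]⟩)
  (.leaf ⟨6, 6, true, [6, 8, 19, 6, 8, 18, 8, 19, 19, 2], [11, 8, 0, 19, 10, 8, 19, 2, 8, 11, 8, 11, 4, 6, 8, 4, 6, 4, 13, 8, 10, 13]⟩))))))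

noncomputable def f2048 : FT := (.node (nat_lit 2064) (.node (nat_lit 2056) (.node (nat_lit 2052) (.node (nat_lit 2050) (.node (nat_lit 2049) (.leaf ⟨6, 6, true, [16, 10, 8, 19, 12, 19, 2], [11, 8, 0, 19, 19, 2, 12, 10, 4, 6, 8, 10, 4, 6, 8, 10, 4, 6, 8, 4, 6, 4, 8, 11, 13, 6, 8, 11, 6, 23]⟩)
  (.leaf ⟨6, 6, true, [19, 13, 8, 6, 18, 8, 19, 6, 2], [11, 11, 8, 19, 8, 0, 19, 2, 11, 11, 6, 8, 4, 6, 4, 0, 12, 10, 6, 8, 10, 23]⟩))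
  (.node (nat_lit 2051) (.leaf ⟨6, 6, true, [8, 10, 12, 19, 8, 19, 8, 14, 6], [4, 14, 8, 19, 8, 19, 2, 8, 10, 6, 8, 4, 6, 4, 12, 10, 8, 10, 6, 22]⟩)
  (.leaf ⟨6, 6, true, [15, 8, 19, 6, 18, 8, 6], [19, 8, 0, 19, 2, 10, 8, 10, 10, 6, 8, 11, 4, 6, 8, 4, 6, 4, 13, 10, 8, 11, 6, 8, 11, 13]⟩)))
  (.node (nat_lit 2054) (.node (nat_lit 2053) (.leaf ⟨6, 6, true, [14, 0, 19, 16, 8, 6, 18, 8, 6], [14, 8, 19, 6, 18, 8, 19, 2, 10, 10, 6, 8, 4, 6, 4, 12, 10, 6, 8, 10]⟩)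
  (.leaf ⟨6, 6, true, [11, 8, 19, 6, 8, 19, 12, 16], [18, 8, 18, 8, 19, 19, 2, 10, 8, 10, 10, 6, 8, 11, 4, 6, 8, 4, 6, 4, 10, 8, 10, 6, 21]⟩))
  (.node (nat_lit 2055) (.leaf ⟨6, 6, true, [6, 8, 16, 10, 8, 19, 19, 2], [13, 14, 8, 18, 8, 18, 18, 10, 4, 6, 8, 11, 6, 8, 10, 4, 6, 8, 4, 6, 4, 0, 13, 6, 8, 11, 12]⟩)
  (.leaf ⟨6, 6, true, [0, 19, 8, 16], [0, 15, 18, 8, 2, 18, 18, 10, 8, 10, 6, 8, 4, 6, 4, 11, 13, 6, 8, 11, 21]⟩))))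
  (.node (nat_lit 2060) (.node (nat_lit 2058) (.node (nat_lit 2057) (.leaf ⟨6, 6, true, [19, 6, 8, 14, 6, 18, 8, 18, 10], [19, 15, 19, 8, 19, 2, 13, 8, 11, 4, 6, 8, 4, 6, 4, 11, 13, 6, 8, 10, 6, 22]⟩)
  (.leaf ⟨6, 6, true, [14, 12, 0, 18, 8, 18, 8, 18, 10], [12, 6, 18, 8, 0, 18, 18, 4, 6, 8, 10, 6, 4, 6, 8, 11, 4, 6, 8, 4, 6, 4, 6, 8, 11, 22]⟩))
  (.node (nat_lit 2059) (.leaf ⟨6, 6, true, [18, 2, 18, 8, 19, 8, 19, 8, 6, 2], [19, 8, 15, 19, 8, 19, 2, 11, 8, 11, 6, 8, 10, 4, 6, 8, 4, 6, 4, 0, 10, 8, 10, 6, 8, 10, 12]⟩)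
  (.leaf ⟨6, 6, true, [12, 19, 11, 8, 19, 8, 16], [14, 8, 18, 18, 13, 10, 8, 11, 6, 8, 10, 4, 6, 8, 4, 6, 4, 13, 10, 8, 11, 6, 8, 10, 25]⟩)))
  (.node (nat_lit 2062) (.node (nat_lit 2061) (.leaf ⟨6, 6, true, [19, 8, 19, 0, 14, 6], [8, 18, 12, 18, 8, 0, 18, 18, 8, 11, 8, 11, 6, 8, 10, 4, 6, 8, 4, 6, 4, 6, 8, 10, 6, 8, 11, 6, 20]⟩)
  (.leaf ⟨6, 6, true, [0, 19, 8, 10, 6, 8, 18, 10], [18, 8, 14, 6, 8, 18, 18, 12, 6, 8, 10, 4, 6, 8, 10, 4, 6, 8, 4, 6, 4, 8, 11, 13, 6, 8, 10, 6, 21]⟩))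
  (.node (nat_lit 2063) (.leaf ⟨6, 6, true, [14, 4, 6, 8, 18, 8, 19, 19, 2], [12, 0, 14, 8, 18, 8, 18, 18, 11, 12, 6, 8, 11, 4, 6, 8, 4, 6, 4, 11, 11, 8, 10, 6, 8, 11, 12]⟩)
  (.leaf ⟨6, 6, true, [6, 18, 18, 13, 8, 19, 8, 16, 10], [19, 19, 0, 19, 8, 19, 2, 13, 10, 8, 10, 6, 8, 10, 4, 6, 8, 4, 6, 4, 11, 8, 10, 6, 13]⟩)))))
  (.node (nat_lit 2072) (.node (nat_lit 2068) (.node (nat_lit 2066) (.node (nat_lit 2065) (.leaf ⟨6, 6, true, [18, 12, 0, 14, 8, 18, 8, 18, 10], [19, 8, 6, 18, 10, 8, 19, 2, 12, 10, 4, 6, 8, 10, 4, 6, 8, 4, 6, 4, 11, 8, 10, 6, 8, 10, 23]⟩)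
  (.leaf ⟨6, 6, true, [18, 13, 15, 18, 8, 18, 8, 18], [0, 18, 8, 18, 8, 19, 2, 13, 8, 10, 6, 8, 11, 4, 6, 8, 4, 6, 4, 11, 11, 21]⟩))
  (.node (nat_lit 2067) (.leaf ⟨6, 6, true, [0, 18, 8, 6, 18, 12, 8, 18], [18, 8, 18, 8, 19, 2, 8, 10, 13, 4, 6, 8, 10, 4, 6, 8, 4, 6, 4, 13, 10, 8, 11, 6, 8, 10]⟩)
  (.leaf ⟨6, 6, true, [0, 18, 8, 18, 10, 8, 19, 6, 2], [18, 12, 8, 18, 8, 0, 18, 18, 6, 8, 11, 8, 11, 4, 6, 8, 4, 6, 4, 13, 8, 11, 6, 8, 10, 21]⟩)))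
  (.node (nat_lit 2070) (.node (nat_lit 2069) (.leaf ⟨6, 6, true, [18, 18, 8, 0, 18, 4, 14, 8, 6], [14, 8, 18, 10, 8, 18, 18, 8, 11, 8, 11, 4, 6, 8, 4, 6, 4, 0, 6, 8, 10, 6, 8, 11, 6]⟩)
  (.leaf ⟨6, 6, true, [14, 12, 8, 18, 8, 18, 10], [16, 8, 6, 18, 8, 19, 2, 11, 13, 6, 8, 11, 4, 6, 8, 10, 4, 6, 8, 4, 6, 4, 12, 11, 6, 23]⟩))
  (.node (nat_lit 2071) (.leaf ⟨6, 6, true, [19, 19, 12, 8, 0, 19, 8, 16, 10], [19, 19, 0, 19, 8, 19, 2, 11, 6, 8, 10, 4, 6, 8, 4, 6, 4, 0, 12, 8, 11, 6, 12]⟩)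
  (.leaf ⟨6, 6, true, [8, 10, 8, 19, 8, 19, 8, 16], [19, 10, 8, 6, 18, 8, 19, 2, 10, 6, 8, 4, 6, 4, 8, 11, 6, 8, 10, 12]⟩))))
  (.node (nat_lit 2076) (.node (nat_lit 2074) (.node (nat_lit 2073) (.leaf ⟨6, 6, true, [12, 19, 8, 19, 6, 8, 19, 12, 16], [8, 18, 8, 6, 18, 8, 19, 2, 11, 6, 8, 11, 6, 4, 6, 8, 11, 4, 6, 8, 4, 6, 4, 10, 12, 8, 11, 6, 13]⟩)
  (.leaf ⟨6, 6, true, [14, 8, 19, 6, 8, 18, 8, 6], [12, 0, 19, 8, 19, 2, 13, 11, 4, 6, 8, 10, 4, 6, 8, 4, 6, 4, 11, 13, 8, 10, 6, 8, 11, 23]⟩))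
  (.node (nat_lit 2075) (.leaf ⟨6, 6, true, [6, 18, 8, 19, 12, 19, 2], [11, 8, 18, 10, 8, 18, 18, 13, 11, 8, 10, 6, 8, 10, 4, 6, 8, 4, 6, 4, 12, 8, 11, 23]⟩)
  (.leaf ⟨5, 6, true, [2, 18, 12, 8, 0, 18], [14, 8, 19, 14, 8, 19, 0, 2, 10, 6, 8, 10, 6, 8, 4, 6, 4, 0, 6, 8, 10, 8, 10, 6, 25]⟩)))
  (.node (nat_lit 2078) (.node (nat_lit 2077) (.leaf ⟨6, 5, true, [8, 18, 8, 6, 18, 10, 8, 6], [12, 10, 8, 0, 19, 8, 19, 2, 8, 11, 12, 6, 8, 11, 4, 6, 8, 4, 6, 4, 10, 12, 8, 11, 20]⟩)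
  (.leaf ⟨6, 6, true, [18, 18, 12, 10, 8, 19, 16], [2, 18, 18, 11, 13, 6, 8, 10, 4, 6, 8, 4, 6, 4, 8, 11, 8, 11, 6]⟩))
  (.node (nat_lit 2079) (.leaf ⟨6, 6, true, [11, 8, 19, 8, 19, 15], [15, 19, 14, 8, 19, 0, 2, 8, 11, 6, 8, 11, 4, 6, 8, 10, 4, 6, 8, 4, 6, 4, 10, 6, 8, 11, 6, 8, 10, 6, 25]⟩)
  (.leaf ⟨6, 6, true, [6, 8, 16, 8, 19, 8, 19, 2], [0, 19, 2, 19, 8, 19, 2, 11, 8, 10, 6, 8, 10, 4, 6, 8, 4, 6, 4, 0, 10, 8, 10, 6, 12]⟩))))))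

noncomputable def f2080 : FT := (.node (nat_lit 2096) (.node (nat_lit 2088) (.node (nat_lit 2084) (.node (nat_lit 2082) (.node (nat_lit 2081) (.leaf ⟨6, 6, true, [11, 8, 0, 18, 8, 18, 10, 8, 18], [0, 15, 8, 18, 8, 0, 18, 18, 8, 10, 4, 6, 8, 11, 4, 6, 8, 4, 6, 4, 0, 10, 22]⟩)
  (.leaf ⟨6, 6, true, [0, 18, 8, 18, 8, 4, 14, 8, 6], [18, 12, 8, 18, 8, 18, 18, 6, 8, 11, 4, 6, 8, 10, 4, 6, 8, 4, 6, 4, 0, 6, 8, 11, 21]⟩))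
  (.node (nat_lit 2083) (.leaf ⟨6, 6, true, [6, 18, 12, 8, 18, 8, 19, 19, 2], [14, 12, 8, 19, 8, 19, 2, 8, 10, 4, 6, 8, 4, 6, 4, 0, 13, 8, 11, 23]⟩)
  (.leaf ⟨6, 6, true, [18, 18, 12, 8, 18, 8, 18, 12, 10], [19, 16, 8, 2, 19, 8, 19, 2, 6, 8, 10, 6, 8, 4, 6, 4, 0, 6, 8, 11, 8, 11, 6, 23]⟩)))
  (.node (nat_lit 2086) (.node (nat_lit 2085) (.leaf ⟨6, 6, true, [6, 8, 0, 19, 19, 14, 8, 6], [11, 8, 19, 2, 8, 11, 8, 11, 6, 8, 4, 6, 4, 0, 11, 6, 8, 10, 6, 21]⟩)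
  (.leaf ⟨6, 3, true, [19, 13, 6, 18, 8, 19, 8, 16], [18, 18, 10, 8, 18, 18, 13, 8, 10, 6, 8, 4, 6, 4, 0, 13, 11, 8, 10, 6, 8, 11, 23]⟩))
  (.node (nat_lit 2087) (.leaf ⟨3, 6, true, [18, 12, 8, 2, 18, 8, 18, 10], [6, 8, 0, 19, 8, 19, 2, 11, 13, 6, 8, 10, 4, 6, 8, 4, 6, 4, 6, 8, 10, 6, 8, 11, 6, 20]⟩)
  (.leaf ⟨6, 6, true, [19, 6, 8, 18, 12, 18, 8, 6, 18], [13, 18, 8, 0, 19, 8, 19, 2, 8, 11, 13, 6, 8, 10, 4, 6, 8, 4, 6, 4, 0, 10, 8, 11, 6, 8, 11, 13]⟩))))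
  (.node (nat_lit 2092) (.node (nat_lit 2090) (.node (nat_lit 2089) (.leaf ⟨6, 6, true, [10, 8, 19, 8, 0, 19, 12, 8, 16], [16, 8, 19, 8, 19, 2, 6, 4, 8, 11, 13, 6, 8, 10, 22]⟩)
  (.leaf ⟨6, 6, true, [13, 8, 15, 19, 8, 19, 10, 8, 16], [19, 12, 8, 16, 8, 19, 19, 2, 11, 6, 8, 10, 6, 4, 6, 8, 11, 4, 6, 8, 4, 6, 4, 11, 11, 8, 10, 6, 8, 11]⟩))
  (.node (nat_lit 2091) (.leaf ⟨6, 6, true, [0, 14, 12, 8, 18, 8, 19, 19, 14], [19, 2, 19, 8, 19, 2, 10, 8, 10, 4, 6, 8, 10, 4, 6, 8, 4, 6, 4, 0, 8, 11, 6, 8, 10, 6, 20]⟩)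
  (.leaf ⟨6, 6, true, [4, 6, 8, 19, 8, 14, 6], [0, 18, 8, 0, 18, 18, 12, 11, 8, 11, 6, 8, 4, 6, 4, 11, 8, 10, 6, 24]⟩)))
  (.node (nat_lit 2094) (.node (nat_lit 2093) (.leaf ⟨6, 6, true, [18, 8, 16, 8, 0, 19, 6, 2], [8, 0, 18, 8, 18, 8, 19, 2, 13, 10, 8, 11, 4, 6, 8, 11, 4, 6, 8, 4, 6, 4, 10, 8, 10, 6, 12]⟩)
  (.leaf ⟨6, 6, true, [18, 0, 15, 8, 18, 12, 18, 8, 6], [12, 6, 18, 8, 19, 8, 19, 2, 13, 10, 8, 11, 6, 8, 10, 4, 6, 8, 4, 6, 4, 6, 8, 10, 6, 8, 11, 6, 23]⟩))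
  (.node (nat_lit 2095) (.leaf ⟨6, 6, true, [19, 19, 19, 8, 16, 10, 8, 19, 6, 2], [10, 8, 19, 14, 8, 19, 0, 2, 8, 6, 4, 0, 12, 8, 10, 6, 8, 10, 20]⟩)
  (.leaf ⟨6, 6, true, [13, 10, 8, 19, 8, 16], [12, 16, 8, 19, 8, 19, 2, 10, 8, 10, 4, 6, 8, 4, 6, 4, 0, 13]⟩)))))
  (.node (nat_lit 2104) (.node (nat_lit 2100) (.node (nat_lit 2098) (.node (nat_lit 2097) (.leaf ⟨6, 6, true, [0, 18, 8, 18], [19, 19, 10, 8, 19, 2, 13, 8, 11, 4, 6, 8, 4, 6, 4, 0, 13, 10, 8, 10]⟩)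
  (.leaf ⟨6, 6, true, [0, 18, 4, 6, 8, 19, 14, 6], [14, 8, 19, 10, 8, 19, 2, 10, 12, 8, 11, 4, 6, 8, 4, 6, 4, 0, 6, 8, 10, 8, 10, 6]⟩))
  (.node (nat_lit 2099) (.leaf ⟨6, 6, true, [12, 6, 18, 8, 19, 8, 16, 10], [0, 18, 8, 6, 18, 8, 19, 2, 8, 10, 8, 4, 6, 4, 10, 6, 8, 10, 24]⟩)
  (.leaf ⟨6, 6, true, [12, 8, 10, 8, 19, 8, 19, 8, 16], [0, 19, 8, 19, 8, 0, 19, 2, 11, 13, 8, 10, 4, 6, 8, 4, 6, 4, 13, 8, 10, 6]⟩)))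
  (.node (nat_lit 2102) (.node (nat_lit 2101) (.leaf ⟨6, 6, true, [8, 15, 19, 12, 8, 19, 8, 6, 2], [19, 15, 19, 8, 6, 18, 8, 19, 2, 12, 10, 6, 8, 10, 4, 6, 8, 10, 4, 6, 8, 4, 6, 4, 13, 8, 11, 6, 25]⟩)
  (.leaf ⟨6, 6, true, [18, 8, 0, 19, 8, 19, 12, 8, 14, 6], [8, 18, 18, 18, 8, 18, 18, 8, 10, 6, 8, 4, 6, 4, 11, 13, 8, 10, 23]⟩))
  (.node (nat_lit 2103) (.leaf ⟨6, 6, true, [8, 15, 13, 19, 8, 19, 2], [14, 8, 18, 8, 18, 8, 19, 2, 8, 10, 4, 6, 8, 11, 4, 6, 8, 4, 6, 4, 11, 13, 6, 8, 11, 21]⟩)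
  (.leaf ⟨6, 6, true, [0, 2, 18, 8, 19, 12, 19, 2], [14, 0, 14, 8, 18, 18, 4, 6, 8, 10, 6, 8, 11, 4, 6, 8, 4, 6, 4, 0, 11, 6, 8, 11, 6, 8, 10, 20]⟩))))
  (.node (nat_lit 2108) (.node (nat_lit 2106) (.node (nat_lit 2105) (.leaf ⟨6, 6, true, [15, 13, 18, 8, 19, 6, 2], [18, 18, 18, 10, 8, 19, 2, 6, 8, 10, 6, 8, 4, 6, 4, 0, 8, 11, 13, 6, 8, 11, 6, 13]⟩)
  (.leaf ⟨6, 6, true, [18, 12, 8, 19, 8, 0, 14, 6], [8, 19, 6, 8, 18, 18, 10, 10, 6, 8, 11, 4, 6, 8, 4, 6, 4, 12, 10, 6, 21]⟩))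
  (.node (nat_lit 2107) (.leaf ⟨6, 6, true, [12, 18, 8, 19, 12, 19, 8, 16], [8, 16, 8, 19, 8, 0, 19, 2, 8, 10, 4, 6, 8, 4, 6, 4, 10, 13, 6, 8, 10]⟩)
  (.leaf ⟨6, 6, true, [18, 18, 18, 8, 19, 8, 19, 15], [12, 2, 18, 8, 19, 8, 19, 2, 12, 8, 10, 4, 6, 8, 4, 6, 4, 12, 11, 6, 12]⟩)))
  (.node (nat_lit 2110) (.node (nat_lit 2109) (.leaf ⟨6, 6, true, [8, 16, 8, 2, 19, 8, 19, 8, 16], [13, 0, 19, 8, 19, 8, 19, 2, 8, 10, 6, 8, 11, 4, 6, 8, 11, 4, 6, 8, 4, 6, 4, 10, 6, 8, 10, 6, 8, 11, 13]⟩)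
  (.leaf ⟨6, 6, true, [12, 19, 2], [19, 19, 12, 10, 8, 19, 2, 6, 8, 11, 8, 11, 4, 6, 8, 10, 4, 6, 8, 4, 6, 4, 13, 6, 8, 10]⟩))
  (.node (nat_lit 2111) (.leaf ⟨6, 6, true, [8, 19, 15, 8, 19, 8, 19, 8, 16, 10], [19, 8, 15, 18, 8, 18, 18, 6, 4, 0, 10, 8, 10, 6, 8, 10, 13]⟩)
  (.leaf ⟨6, 6, true, [19, 10, 8, 19, 6, 8, 6, 18, 10], [15, 18, 18, 18, 8, 19, 2, 12, 4, 6, 8, 10, 4, 6, 8, 10, 4, 6, 8, 4, 6, 4, 6, 8, 11, 8, 11, 6, 12]⟩))))))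

noncomputable def f2112 : FT := (.node (nat_lit 2128) (.node (nat_lit 2120) (.node (nat_lit 2116) (.node (nat_lit 2114) (.node (nat_lit 2113) (.leaf ⟨6, 6, true, [8, 19, 6, 8, 18], [14, 18, 18, 8, 18, 18, 6, 8, 11, 8, 11, 4, 6, 8, 10, 4, 6, 8, 4, 6, 4, 12, 6, 8, 10, 25]⟩)
  (.leaf ⟨6, 6, true, [18, 18, 8, 18, 8, 19, 8, 19, 15], [18, 0, 19, 19, 8, 19, 2, 11, 6, 4, 6, 8, 11, 6, 8, 10, 4, 6, 8, 4, 6, 4, 0, 12, 11, 8, 10, 6, 8, 10, 13]⟩))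
  (.node (nat_lit 2115) (.leaf ⟨6, 6, true, [19, 0, 19, 8, 6, 18, 8, 19, 16], [10, 8, 0, 18, 10, 8, 18, 18, 10, 8, 4, 6, 4, 10, 8, 10, 10, 6, 8, 11]⟩)
  (.leaf ⟨6, 6, true, [0, 14, 8, 6, 18, 8, 19, 19, 14], [19, 0, 14, 6, 8, 18, 18, 12, 8, 10, 4, 6, 8, 11, 4, 6, 8, 4, 6, 4, 10, 6, 8, 11, 6, 8, 10, 21]⟩)))
  (.node (nat_lit 2118) (.node (nat_lit 2117) (.leaf ⟨6, 6, true, [14, 12, 0, 19, 8, 19, 8, 16, 10], [8, 15, 0, 18, 8, 18, 18, 11, 13, 4, 6, 8, 10, 4, 6, 8, 4, 6, 4, 8, 10, 6, 8, 11, 21]⟩)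
  (.leaf ⟨6, 6, true, [18, 8, 18, 18, 12, 10, 8, 6], [19, 0, 14, 6, 8, 18, 18, 10, 4, 6, 8, 10, 4, 6, 8, 10, 4, 6, 8, 4, 6, 4, 0, 6, 8, 11, 8, 11, 21]⟩))
  (.node (nat_lit 2119) (.leaf ⟨6, 6, true, [18, 18, 18, 12, 8, 16, 8, 19, 16], [16, 8, 0, 19, 8, 19, 2, 12, 11, 8, 10, 4, 6, 8, 10, 4, 6, 8, 4, 6, 4, 11, 11, 8, 11, 6, 8, 11, 24]⟩)
  (.leaf ⟨6, 6, true, [16, 13, 10, 8, 6, 18, 8, 18], [8, 15, 18, 8, 0, 18, 18, 10, 13, 6, 8, 10, 4, 6, 8, 4, 6, 4, 13, 11, 8, 11, 20]⟩))))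
  (.node (nat_lit 2124) (.node (nat_lit 2122) (.node (nat_lit 2121) (.leaf ⟨6, 6, true, [15, 0, 15, 8, 18, 8, 18, 10], [8, 16, 8, 19, 8, 0, 19, 2, 11, 6, 8, 11, 4, 6, 8, 4, 6, 4, 12, 8, 11, 6, 8, 10, 6, 22]⟩)
  (.leaf ⟨6, 6, true, [19, 19, 6, 8, 19, 8, 6, 2], [8, 19, 8, 19, 6, 8, 18, 18, 8, 10, 10, 6, 8, 11, 4, 6, 8, 4, 6, 4, 12, 8, 11, 6, 8, 10, 6, 21]⟩))
  (.node (nat_lit 2123) (.leaf ⟨6, 6, true, [0, 15, 0, 18, 8, 18, 8, 19, 19, 2], [19, 8, 15, 19, 10, 8, 19, 2, 13, 11, 8, 10, 4, 6, 8, 10, 4, 6, 8, 4, 6, 4, 13, 11, 8, 11, 21]⟩)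
  (.leaf ⟨6, 6, true, [11, 8, 19, 8, 16], [6, 18, 8, 18, 18, 11, 6, 4, 6, 8, 11, 4, 6, 8, 10, 4, 6, 8, 4, 6, 4, 10, 6, 8, 11, 6, 25]⟩)))
  (.node (nat_lit 2126) (.node (nat_lit 2125) (.leaf ⟨6, 6, true, [12, 8, 19, 8, 19, 12, 14], [13, 18, 8, 19, 8, 0, 19, 2, 12, 10, 8, 4, 6, 4, 10, 6, 8, 11, 6, 8, 10, 20]⟩)
  (.leaf ⟨6, 6, true, [8, 18, 8, 19, 19, 12, 8, 16], [15, 18, 10, 8, 18, 18, 8, 11, 11, 6, 8, 11, 4, 6, 8, 4, 6, 4, 11, 8, 11, 20]⟩))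
  (.node (nat_lit 2127) (.leaf ⟨6, 6, true, [0, 19, 12, 6, 8, 18], [18, 8, 15, 0, 19, 8, 19, 2, 8, 11, 4, 6, 8, 11, 4, 6, 8, 4, 6, 4, 13, 10, 8, 11, 6, 8, 11, 25]⟩)
  (.leaf ⟨6, 6, true, [19, 16, 8, 6, 18, 8, 18, 10], [19, 19, 0, 2, 10, 6, 8, 11, 6, 8, 10, 4, 6, 8, 4, 6, 4, 11, 8, 11, 6, 8, 10, 22]⟩)))))
  (.node (nat_lit 2136) (.node (nat_lit 2132) (.node (nat_lit 2130) (.node (nat_lit 2129) (.leaf ⟨6, 6, true, [19, 14, 12, 8, 6, 18, 8, 18], [8, 6, 18, 10, 8, 19, 2, 10, 8, 11, 4, 6, 8, 11, 4, 6, 8, 4, 6, 4, 0, 13, 6, 8, 11, 6, 20]⟩)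
  (.leaf ⟨6, 6, true, [12, 8, 19, 8, 19, 14, 8, 6], [0, 19, 8, 2, 19, 8, 19, 2, 6, 8, 11, 13, 4, 6, 8, 11, 4, 6, 8, 4, 6, 4, 0, 12, 11, 6, 8, 10, 6, 22]⟩))
  (.node (nat_lit 2131) (.leaf ⟨6, 6, true, [15, 18, 8, 18, 4, 14, 8, 10, 6], [18, 8, 14, 6, 8, 18, 18, 4, 6, 4, 6, 8, 11, 6, 8, 10, 4, 6, 8, 4, 6, 4, 11, 13, 8, 10, 25]⟩)
  (.leaf ⟨6, 6, true, [8, 18, 8, 19, 6, 18, 8, 10, 6], [8, 19, 10, 8, 19, 2, 11, 13, 4, 6, 8, 10, 4, 6, 8, 4, 6, 4, 11, 8, 11, 6, 8, 11, 13]⟩)))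
  (.node (nat_lit 2134) (.node (nat_lit 2133) (.leaf ⟨6, 6, true, [6, 18, 12, 10, 8, 19, 8, 19, 2], [19, 12, 8, 16, 8, 19, 19, 2, 8, 11, 4, 6, 8, 10, 4, 6, 8, 4, 6, 4, 0, 8, 11, 6, 8, 10, 6, 22]⟩)
  (.leaf ⟨6, 6, true, [18, 13, 8, 18, 10, 8, 18], [0, 19, 15, 8, 19, 8, 19, 2, 10, 4, 6, 8, 10, 6, 8, 11, 4, 6, 8, 4, 6, 4, 8, 11, 11, 6, 8, 11, 20]⟩))
  (.node (nat_lit 2135) (.leaf ⟨6, 6, true, [8, 18, 8, 19, 8, 6, 2], [0, 19, 8, 19, 0, 2, 11, 8, 11, 4, 6, 8, 4, 6, 4, 0, 12, 11, 6, 8, 10]⟩)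
  (.leaf ⟨6, 6, true, [8, 0, 19, 8, 6, 2], [15, 19, 14, 8, 19, 0, 2, 13, 4, 6, 8, 11, 4, 6, 8, 4, 6, 4, 0, 8, 10]⟩))))
  (.node (nat_lit 2140) (.node (nat_lit 2138) (.node (nat_lit 2137) (.leaf ⟨6, 6, true, [12, 8, 0, 2, 18, 8, 19, 6, 2], [14, 8, 4, 6, 18, 8, 19, 2, 6, 8, 11, 6, 4, 6, 8, 10, 4, 6, 8, 4, 6, 4, 11, 13, 6, 8, 11, 6, 12]⟩)
  (.leaf ⟨6, 6, true, [6, 18, 8, 19, 8, 0, 19, 8, 16], [19, 15, 19, 10, 8, 19, 2, 6, 8, 10, 6, 8, 4, 6, 4, 0, 8, 10, 6, 22]⟩))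
  (.node (nat_lit 2139) (.leaf ⟨6, 6, true, [19, 6, 8, 6, 18, 4, 14, 8, 6], [6, 8, 18, 10, 8, 19, 19, 2, 10, 8, 11, 6, 8, 10, 4, 6, 8, 4, 6, 4, 12, 11, 6, 8, 10, 6]⟩)
  (.leaf ⟨6, 6, true, [14, 10, 10, 8, 19, 8, 19, 2], [8, 19, 8, 19, 0, 2, 11, 8, 11, 12, 6, 8, 11, 4, 6, 8, 4, 6, 4, 0, 12, 8, 10, 13]⟩)))
  (.node (nat_lit 2142) (.node (nat_lit 2141) (.leaf ⟨6, 6, true, [13, 8, 18, 8, 18, 8, 18, 10, 10], [8, 0, 19, 12, 19, 8, 0, 19, 2, 6, 8, 11, 4, 6, 8, 4, 6, 4, 0, 6, 8, 10, 6, 13]⟩)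
  (.leaf ⟨6, 6, true, [15, 8, 19, 6, 8, 19, 8, 16], [19, 12, 6, 18, 8, 19, 8, 19, 2, 8, 10, 8, 10, 6, 8, 4, 6, 4, 0, 6, 21]⟩))
  (.node (nat_lit 2143) (.leaf ⟨6, 6, true, [19, 12, 8, 19, 8, 14, 6], [13, 15, 8, 19, 8, 19, 2, 11, 6, 4, 6, 8, 10, 4, 6, 8, 4, 6, 4, 10, 8, 11, 13, 6, 8, 10, 25]⟩)
  (.leaf ⟨6, 6, true, [18, 0, 15, 18, 8, 19, 10, 8, 16], [18, 14, 8, 19, 10, 8, 19, 2, 12, 11, 4, 6, 8, 4, 6, 4, 10, 8, 11, 6, 8, 11, 6, 12]⟩))))))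

noncomputable def f2144 : FT := (.node (nat_lit 2160) (.node (nat_lit 2152) (.node (nat_lit 2148) (.node (nat_lit 2146) (.node (nat_lit 2145) (.leaf ⟨6, 6, true, [19, 19, 13, 14, 8, 19, 8, 19, 14], [11, 8, 19, 10, 8, 19, 2, 11, 13, 4, 6, 8, 11, 4, 6, 8, 4, 6, 4, 0, 10, 8, 11, 23]⟩)
  (.leaf ⟨6, 6, true, [19, 16, 8, 16, 8, 0, 19, 16], [0, 18, 10, 8, 18, 18, 13, 10, 4, 6, 8, 11, 4, 6, 8, 4, 6, 4, 10, 12, 6, 8, 10]⟩))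
  (.node (nat_lit 2147) (.leaf ⟨6, 6, true, [15, 18, 14, 8, 18, 8, 19, 16], [12, 8, 19, 8, 19, 8, 19, 2, 6, 8, 10, 4, 6, 8, 10, 4, 6, 8, 4, 6, 4, 13, 6, 8, 11, 20]⟩)
  (.leaf ⟨6, 6, true, [16, 13, 0, 15, 8, 18, 10, 8, 18], [18, 12, 8, 18, 8, 18, 18, 6, 8, 4, 6, 4, 0, 10, 12, 8, 11, 6, 25]⟩)))
  (.node (nat_lit 2150) (.node (nat_lit 2149) (.leaf ⟨6, 6, true, [12, 18, 8, 18, 8, 6, 18, 8, 6], [8, 6, 18, 10, 8, 19, 2, 4, 6, 8, 10, 4, 6, 8, 4, 6, 4, 10, 10, 6, 8, 11, 23]⟩)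
  (.leaf ⟨6, 6, true, [12, 8, 18, 8, 15, 18, 8, 18], [18, 14, 18, 18, 8, 18, 18, 13, 11, 4, 6, 8, 10, 4, 6, 8, 10, 4, 6, 8, 4, 6, 4, 11, 6, 8, 11, 6, 25]⟩))
  (.node (nat_lit 2151) (.leaf ⟨6, 6, true, [15, 12, 18, 8, 18, 4, 14, 8, 6], [6, 8, 6, 18, 8, 0, 18, 18, 13, 10, 8, 11, 6, 8, 11, 4, 6, 8, 4, 6, 4, 8, 11, 6, 8, 10, 6, 12]⟩)
  (.leaf ⟨6, 6, true, [12, 19, 8, 16, 8, 6, 18], [11, 8, 18, 14, 8, 18, 18, 10, 4, 6, 8, 10, 4, 6, 8, 10, 4, 6, 8, 4, 6, 4, 13, 10, 8, 11, 13]⟩))))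
  (.node (nat_lit 2156) (.node (nat_lit 2154) (.node (nat_lit 2153) (.leaf ⟨6, 6, true, [4, 6, 8, 19, 6, 8, 6, 18], [0, 15, 18, 8, 0, 18, 18, 13, 6, 8, 10, 4, 6, 8, 4, 6, 4, 0, 6, 8, 10, 6, 8, 11, 22]⟩)
  (.leaf ⟨6, 6, true, [0, 18, 8, 18, 8, 18], [8, 19, 19, 0, 19, 8, 19, 2, 11, 6, 8, 10, 4, 6, 8, 11, 4, 6, 8, 4, 6, 4, 11, 8, 10, 6, 22]⟩))
  (.node (nat_lit 2155) (.leaf ⟨6, 6, true, [12, 18, 8, 19, 8, 0, 14, 6], [18, 8, 19, 6, 18, 8, 19, 2, 11, 8, 11, 4, 6, 8, 10, 4, 6, 8, 4, 6, 4, 11, 8, 11, 12, 6, 8, 11, 22]⟩)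
  (.leaf ⟨6, 6, true, [8, 0, 14, 8, 6, 18, 8, 18], [15, 13, 19, 8, 19, 8, 0, 19, 2, 10, 6, 8, 10, 4, 6, 8, 10, 4, 6, 8, 4, 6, 4, 10, 6, 8, 10, 25]⟩)))
  (.node (nat_lit 2158) (.node (nat_lit 2157) (.leaf ⟨6, 6, true, [8, 19, 2, 19, 8, 19, 8, 14, 6], [12, 8, 19, 8, 19, 8, 19, 2, 11, 8, 11, 6, 4, 6, 8, 10, 4, 6, 8, 4, 6, 4, 8, 10, 12, 6, 8, 10, 12]⟩)
  (.leaf ⟨6, 6, true, [6, 8, 0, 14, 8, 6, 18, 8, 18], [2, 0, 18, 8, 18, 18, 12, 8, 11, 4, 6, 8, 4, 6, 4, 0, 11, 13, 6, 8, 10, 6, 23]⟩))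
  (.node (nat_lit 2159) (.leaf ⟨6, 6, true, [19, 6, 18, 8, 18, 8, 19, 19, 2], [8, 4, 6, 18, 8, 19, 2, 6, 8, 10, 4, 6, 8, 10, 4, 6, 8, 4, 6, 4, 11, 8, 10, 6, 8, 11, 6, 24]⟩)
  (.leaf ⟨6, 6, true, [12, 19, 8, 0, 19, 14, 8, 6], [19, 16, 8, 0, 19, 8, 19, 2, 12, 4, 6, 8, 10, 4, 6, 8, 4, 6, 4, 8, 11, 8, 11, 6, 8, 11, 21]⟩)))))
  (.node (nat_lit 2168) (.node (nat_lit 2164) (.node (nat_lit 2162) (.node (nat_lit 2161) (.leaf ⟨6, 6, true, [18, 13, 11, 8, 18, 8, 18, 12, 10], [19, 19, 12, 10, 8, 19, 2, 12, 4, 6, 8, 10, 4, 6, 8, 11, 4, 6, 8, 4, 6, 4, 12, 10]⟩)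
  (.leaf ⟨6, 6, true, [19, 8, 10, 8, 19, 8, 16, 10], [18, 18, 10, 10, 8, 18, 18, 12, 10, 6, 8, 4, 6, 4, 0, 11, 8, 10, 6, 8, 11, 12]⟩))
  (.node (nat_lit 2163) (.leaf ⟨6, 6, true, [14, 12, 8, 18, 8, 18, 12, 8, 18], [14, 10, 8, 18, 0, 18, 10, 6, 8, 11, 4, 6, 8, 11, 4, 6, 8, 4, 6, 4, 8, 11, 6, 25]⟩)
  (.leaf ⟨6, 5, true, [8, 16, 8, 0, 19, 6, 2], [8, 0, 2, 18, 8, 0, 18, 18, 10, 6, 8, 10, 4, 6, 8, 4, 6, 4, 12, 10, 8, 10, 6, 8, 10, 22]⟩)))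
  (.node (nat_lit 2166) (.node (nat_lit 2165) (.leaf ⟨5, 6, true, [8, 14, 0, 14, 18, 8, 19, 6, 2], [0, 2, 18, 18, 10, 8, 10, 6, 8, 4, 6, 4, 0, 11, 8, 10, 6, 8, 11, 6, 23]⟩)
  (.leaf ⟨6, 6, true, [18, 12, 8, 2, 18, 8, 19, 6, 2], [0, 16, 8, 6, 18, 8, 19, 2, 10, 13, 8, 11, 6, 8, 4, 6, 4, 0, 11, 13, 6, 8, 11, 6, 25]⟩))
  (.node (nat_lit 2167) (.leaf ⟨6, 6, true, [12, 10, 8, 19, 8, 19, 8, 14, 6], [8, 4, 6, 18, 8, 19, 2, 11, 13, 8, 10, 4, 6, 8, 4, 6, 4, 12, 11, 13]⟩)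
  (.leaf ⟨6, 4, true, [8, 18, 13, 10, 8, 18, 8, 18], [8, 19, 10, 8, 19, 2, 10, 4, 6, 8, 10, 4, 6, 8, 10, 4, 6, 8, 4, 6, 4, 13, 10, 8, 11, 6, 8, 10, 6, 23]⟩))))
  (.node (nat_lit 2172) (.node (nat_lit 2170) (.node (nat_lit 2169) (.leaf ⟨4, 6, true, [6, 8, 6, 0, 18, 10], [11, 8, 6, 18, 8, 19, 2, 10, 4, 6, 8, 10, 6, 8, 11, 4, 6, 8, 4, 6, 4, 12, 11, 8, 10, 6, 8, 10, 25]⟩)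
  (.leaf ⟨6, 6, true, [8, 6, 18, 13, 8, 15, 18, 8, 18], [6, 8, 18, 10, 8, 19, 19, 2, 11, 4, 6, 8, 11, 4, 6, 8, 4, 6, 4, 12, 11, 8, 11, 24]⟩))
  (.node (nat_lit 2171) (.leaf ⟨6, 6, true, [8, 6, 18, 18, 13, 18, 8, 19, 6, 2], [16, 10, 8, 19, 0, 2, 11, 6, 8, 11, 4, 6, 8, 11, 4, 6, 8, 4, 6, 4, 0, 11, 13, 6, 8, 10, 12]⟩)
  (.leaf ⟨6, 6, true, [12, 0, 2, 18, 8, 18, 8, 18, 10], [12, 11, 8, 18, 8, 18, 18, 10, 6, 8, 11, 12, 4, 6, 8, 11, 4, 6, 8, 4, 6, 4, 13, 10, 8, 10, 6, 8, 10]⟩)))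
  (.node (nat_lit 2174) (.node (nat_lit 2173) (.leaf ⟨6, 6, true, [12, 8, 15, 8, 6], [6, 8, 6, 18, 8, 0, 18, 18, 10, 4, 6, 8, 10, 4, 6, 8, 10, 4, 6, 8, 4, 6, 4, 0, 10, 6, 12]⟩)
  (.leaf ⟨6, 6, true, [12, 14, 6], [18, 18, 10, 10, 8, 18, 18, 8, 10, 8, 10, 4, 6, 8, 4, 6, 4, 12, 11, 8, 11, 22]⟩))
  (.node (nat_lit 2175) (.leaf ⟨6, 6, true, [13, 0, 19, 10, 8, 19, 8, 19, 15], [0, 15, 18, 14, 8, 19, 19, 2, 10, 4, 6, 8, 11, 12, 4, 6, 8, 11, 4, 6, 8, 4, 6, 4, 12, 10, 8, 10, 25]⟩)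
  (.leaf ⟨6, 6, true, [18, 8, 14, 4, 6, 8, 18, 10], [12, 2, 18, 8, 0, 18, 18, 8, 10, 8, 10, 4, 6, 8, 10, 4, 6, 8, 4, 6, 4, 11, 13, 8, 10, 6, 8, 11, 20]⟩))))))

noncomputable def f2176 : FT := (.node (nat_lit 2192) (.node (nat_lit 2184) (.node (nat_lit 2180) (.node (nat_lit 2178) (.node (nat_lit 2177) (.leaf ⟨6, 6, true, [19, 8, 6, 18, 8, 10, 6], [18, 18, 12, 18, 8, 18, 18, 11, 13, 8, 10, 4, 6, 8, 4, 6, 4, 6, 8, 10]⟩)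
  (.leaf ⟨6, 6, true, [8, 6, 18, 8, 6, 18, 10], [19, 19, 11, 8, 19, 2, 12, 10, 8, 6, 4, 10, 13, 8, 11, 6, 12]⟩))
  (.node (nat_lit 2179) (.leaf ⟨6, 6, true, [13, 0, 18, 8, 6, 18, 8, 18], [8, 19, 2, 11, 13, 4, 6, 8, 11, 4, 6, 8, 4, 6, 4, 0, 12, 8, 10, 20]⟩)
  (.leaf ⟨6, 6, true, [15, 19, 6, 8, 0, 19, 8, 14, 6], [0, 19, 8, 2, 19, 8, 19, 2, 11, 13, 8, 10, 4, 6, 8, 4, 6, 4, 8, 11, 6, 8, 10, 6, 23]⟩)))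
  (.node (nat_lit 2182) (.node (nat_lit 2181) (.leaf ⟨6, 6, true, [2, 18, 8, 18, 8, 19, 6, 2], [13, 18, 8, 19, 10, 8, 19, 2, 10, 8, 6, 4, 6, 8, 11, 8, 11, 24]⟩)
  (.leaf ⟨6, 6, true, [12, 0, 14, 8, 6, 18, 8, 18], [0, 18, 18, 10, 8, 19, 2, 10, 10, 8, 6, 4, 12, 8, 11, 6, 25]⟩))
  (.node (nat_lit 2183) (.leaf ⟨6, 6, true, [18, 8, 2, 18, 8, 19, 19, 15, 8, 6], [14, 18, 8, 18, 18, 6, 8, 10, 4, 6, 8, 4, 6, 4, 0, 11, 8, 10, 22]⟩)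
  (.leaf ⟨6, 6, true, [15, 8, 6, 18, 12, 8, 19, 8, 16], [13, 16, 8, 19, 6, 8, 18, 18, 13, 11, 8, 10, 4, 6, 8, 10, 4, 6, 8, 4, 6, 4, 12, 11, 6, 21]⟩))))
  (.node (nat_lit 2188) (.node (nat_lit 2186) (.node (nat_lit 2185) (.leaf ⟨6, 6, true, [12, 0, 19, 6, 8, 19, 19, 15], [16, 8, 19, 19, 2, 8, 11, 11, 6, 8, 11, 4, 6, 8, 4, 6, 4, 11, 8, 11, 6, 8, 11, 23]⟩)
  (.leaf ⟨6, 6, true, [8, 18, 10, 8, 18, 8, 19, 19, 14], [6, 8, 0, 18, 18, 10, 6, 8, 11, 4, 6, 8, 10, 4, 6, 8, 4, 6, 4, 6, 8, 10, 6, 23]⟩))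
  (.node (nat_lit 2187) (.leaf ⟨6, 6, true, [19, 8, 14, 6, 8, 19, 19, 14, 8, 6], [15, 18, 18, 8, 19, 8, 19, 2, 10, 8, 10, 6, 8, 4, 6, 4, 0, 10, 8, 10, 10, 6, 8, 11, 24]⟩)
  (.leaf ⟨6, 6, true, [6, 18, 8, 15, 19, 8, 19, 8, 14, 6], [13, 16, 8, 19, 8, 19, 2, 13, 4, 6, 8, 10, 4, 6, 8, 11, 4, 6, 8, 4, 6, 4, 13, 8, 11, 23]⟩)))
  (.node (nat_lit 2190) (.node (nat_lit 2189) (.leaf ⟨6, 6, true, [8, 14, 6, 8, 18, 8, 19, 14, 6], [19, 0, 19, 12, 10, 8, 19, 2, 8, 11, 4, 6, 8, 11, 4, 6, 8, 4, 6, 4, 6, 8, 10, 6, 22]⟩)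
  (.leaf ⟨6, 6, true, [8, 18, 4, 6, 8, 6, 18], [10, 8, 18, 0, 18, 8, 10, 6, 8, 11, 4, 6, 8, 11, 4, 6, 8, 4, 6, 4, 10, 6, 8, 10]⟩))
  (.node (nat_lit 2191) (.leaf ⟨6, 6, true, [6, 8, 16, 8, 6, 0, 18], [14, 6, 8, 0, 19, 8, 19, 2, 8, 10, 12, 4, 6, 8, 10, 4, 6, 8, 4, 6, 4, 12, 8, 11, 6, 8, 10, 12]⟩)
  (.leaf ⟨6, 6, true, [10, 8, 18, 18, 8, 19, 8, 14, 6], [12, 18, 8, 19, 6, 8, 18, 18, 6, 8, 10, 6, 8, 4, 6, 4, 13, 6, 8, 11, 6, 24]⟩)))))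
  (.node (nat_lit 2200) (.node (nat_lit 2196) (.node (nat_lit 2194) (.node (nat_lit 2193) (.leaf ⟨6, 6, true, [0, 15, 12, 8, 18, 8, 19, 6, 2], [10, 8, 18, 18, 12, 11, 6, 8, 10, 4, 6, 8, 4, 6, 4, 13, 11, 8, 10, 6, 8, 11, 20]⟩)
  (.leaf ⟨5, 6, true, [4, 6, 8, 19, 8, 14, 6], [18, 12, 8, 19, 6, 8, 18, 18, 10, 8, 10, 6, 8, 10, 4, 6, 8, 4, 6, 4, 0, 10, 12, 6, 8, 10, 20]⟩))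
  (.node (nat_lit 2195) (.leaf ⟨6, 5, true, [12, 0, 19, 8, 19, 12, 8, 19, 2], [19, 8, 6, 18, 10, 8, 19, 2, 6, 4, 6, 8, 11, 6, 8, 10, 4, 6, 8, 4, 6, 4, 6, 8, 10, 6, 8, 11, 6, 22]⟩)
  (.leaf ⟨6, 6, true, [0, 15, 8, 18, 8, 19, 8, 19, 14], [19, 19, 10, 8, 19, 2, 10, 10, 4, 6, 8, 11, 4, 6, 8, 4, 6, 4, 13, 10, 8, 10, 6, 8, 10, 13]⟩)))
  (.node (nat_lit 2198) (.node (nat_lit 2197) (.leaf ⟨6, 6, true, [8, 6, 18, 8, 19, 8, 0, 14, 6], [0, 14, 8, 6, 18, 8, 19, 2, 6, 8, 10, 6, 8, 11, 4, 6, 8, 10, 4, 6, 8, 4, 6, 4, 11, 25]⟩)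
  (.leaf ⟨6, 6, true, [13, 11, 8, 19, 8, 19, 12, 8, 14, 6], [0, 15, 8, 18, 8, 0, 18, 18, 6, 8, 11, 4, 6, 8, 4, 6, 4, 12, 8, 11, 6, 8, 10, 6, 25]⟩))
  (.node (nat_lit 2199) (.leaf ⟨6, 6, true, [15, 18, 8, 19, 12, 16], [18, 12, 18, 8, 18, 18, 10, 6, 8, 10, 6, 8, 4, 6, 4, 6, 8, 11, 8, 11, 6, 24]⟩)
  (.leaf ⟨6, 6, true, [10, 8, 18, 12, 10], [0, 19, 10, 10, 8, 19, 2, 6, 4, 6, 8, 11, 6, 8, 10, 4, 6, 8, 4, 6, 4, 0, 10, 13, 6, 8, 10, 13]⟩))))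
  (.node (nat_lit 2204) (.node (nat_lit 2202) (.node (nat_lit 2201) (.leaf ⟨6, 6, true, [13, 14, 8, 18, 8, 2, 18, 8, 18, 10], [12, 19, 8, 19, 2, 10, 10, 4, 6, 8, 11, 4, 6, 8, 10, 4, 6, 8, 4, 6, 4, 8, 10, 8, 10, 6, 8, 10, 22]⟩)
  (.leaf ⟨6, 6, true, [13, 8, 19, 8, 19, 10, 8, 16], [6, 8, 16, 8, 19, 19, 2, 13, 4, 6, 8, 11, 4, 6, 8, 4, 6, 4, 6, 8, 11, 6, 8, 10, 25]⟩))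
  (.node (nat_lit 2203) (.leaf ⟨6, 6, true, [18, 18, 4, 6, 8, 16, 8, 19, 16], [0, 15, 18, 14, 8, 18, 18, 10, 10, 4, 6, 8, 11, 4, 6, 8, 4, 6, 4, 8, 11, 6, 8, 11, 12]⟩)
  (.leaf ⟨6, 6, true, [12, 0, 14, 8, 18, 8, 0, 18, 10], [15, 19, 14, 8, 19, 0, 2, 11, 11, 4, 6, 8, 4, 6, 4, 0, 10, 6, 8, 11, 13]⟩)))
  (.node (nat_lit 2206) (.node (nat_lit 2205) (.leaf ⟨6, 6, true, [15, 18, 8, 18, 14, 8, 0, 18], [18, 18, 8, 0, 18, 18, 13, 11, 4, 6, 8, 10, 4, 6, 8, 4, 6, 4, 11, 13, 6, 8, 10, 6]⟩)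
  (.leaf ⟨6, 6, true, [8, 2, 18, 8, 18, 8, 19, 12, 19, 2], [14, 18, 18, 10, 8, 18, 18, 11, 4, 6, 8, 11, 6, 4, 6, 8, 11, 4, 6, 8, 4, 6, 4, 10, 8, 11, 6, 8, 10, 6, 25]⟩))
  (.node (nat_lit 2207) (.leaf ⟨6, 6, true, [16, 8, 6, 18, 8, 19, 6, 2], [14, 8, 0, 19, 8, 19, 2, 11, 11, 8, 11, 4, 6, 8, 11, 4, 6, 8, 4, 6, 4, 13, 8, 10, 6, 8, 11, 25]⟩)
  (.leaf ⟨6, 6, true, [14, 8, 18, 8, 0, 18, 12, 10], [12, 11, 8, 19, 2, 10, 6, 8, 10, 4, 6, 8, 10, 4, 6, 8, 4, 6, 4, 0, 6, 8, 11, 6, 22]⟩))))))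

noncomputable def f2208 : FT := (.node (nat_lit 2224) (.node (nat_lit 2216) (.node (nat_lit 2212) (.node (nat_lit 2210) (.node (nat_lit 2209) (.leaf ⟨6, 6, true, [14, 18, 8, 18, 8, 18, 10, 8, 6], [8, 18, 0, 14, 8, 18, 18, 13, 4, 6, 8, 11, 4, 6, 8, 10, 4, 6, 8, 4, 6, 4, 10, 10, 6, 24]⟩)
  (.leaf ⟨6, 6, true, [10, 6, 8, 19, 6, 8, 19, 16], [8, 19, 19, 19, 8, 19, 2, 12, 11, 8, 4, 6, 4, 10, 8, 11, 11, 6, 8, 11, 24]⟩))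
  (.node (nat_lit 2211) (.leaf ⟨6, 6, true, [19, 19, 8, 15, 18, 8, 0, 18], [6, 8, 19, 8, 0, 19, 2, 10, 6, 8, 11, 4, 6, 8, 10, 4, 6, 8, 4, 6, 4, 0, 12, 6, 8, 11, 6, 23]⟩)
  (.leaf ⟨6, 6, true, [18, 8, 18, 8, 19, 14, 6], [13, 10, 8, 19, 8, 0, 19, 2, 11, 4, 6, 8, 11, 4, 6, 8, 11, 4, 6, 8, 4, 6, 4, 12, 10, 20]⟩)))
  (.node (nat_lit 2214) (.node (nat_lit 2213) (.leaf ⟨6, 6, true, [18, 0, 18, 8, 18, 10, 8, 19, 16], [2, 18, 8, 15, 19, 8, 19, 2, 11, 8, 11, 4, 6, 8, 11, 4, 6, 8, 4, 6, 4, 10, 8, 11, 6, 8, 11, 6, 20]⟩)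
  (.leaf ⟨6, 5, true, [8, 18, 8, 19, 19, 8, 10, 8, 16], [18, 8, 19, 6, 8, 18, 18, 10, 8, 10, 6, 8, 11, 4, 6, 8, 10, 4, 6, 8, 4, 6, 4, 13, 8, 10, 25]⟩))
  (.node (nat_lit 2215) (.leaf ⟨5, 6, true, [12, 0, 19, 6, 8, 19, 16], [12, 19, 8, 0, 19, 2, 12, 11, 8, 10, 4, 6, 8, 4, 6, 4, 8, 10, 13]⟩)
  (.leaf ⟨6, 6, true, [8, 19, 13, 19, 10, 8, 16], [18, 14, 8, 19, 19, 2, 10, 8, 10, 4, 6, 8, 4, 6, 4, 0, 13, 10, 6, 8, 11]⟩))))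
  (.node (nat_lit 2220) (.node (nat_lit 2218) (.node (nat_lit 2217) (.leaf ⟨6, 6, true, [16, 12, 8, 2, 19, 8, 19, 8, 16], [18, 8, 0, 18, 18, 11, 8, 6, 4, 10, 6, 25]⟩)
  (.leaf ⟨6, 6, true, [8, 18, 8, 14, 13, 8, 18, 8, 18], [18, 2, 18, 8, 19, 8, 19, 2, 11, 8, 10, 4, 6, 8, 11, 4, 6, 8, 4, 6, 4, 10, 8, 10, 10, 6, 8, 11]⟩))
  (.node (nat_lit 2219) (.leaf ⟨6, 6, true, [19, 16, 8, 19, 19, 15, 8, 6], [15, 0, 19, 8, 19, 10, 8, 19, 2, 11, 11, 4, 6, 8, 4, 6, 4, 12, 11, 6, 8, 10, 20]⟩)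
  (.leaf ⟨6, 6, true, [0, 18, 8, 0, 18, 8, 18, 12, 10], [0, 18, 8, 18, 18, 4, 6, 8, 11, 4, 6, 8, 4, 6, 4, 8, 11, 6, 8, 10, 6, 21]⟩)))
  (.node (nat_lit 2222) (.node (nat_lit 2221) (.leaf ⟨6, 6, true, [8, 18, 8, 11, 8, 19, 19, 2], [12, 18, 8, 19, 8, 19, 2, 4, 6, 8, 10, 8, 10, 4, 6, 8, 4, 6, 4, 0, 11, 11, 8, 10, 6, 8, 11, 22]⟩)
  (.leaf ⟨6, 6, true, [0, 18, 11, 8, 18, 18, 10, 8, 6], [14, 8, 18, 10, 8, 18, 18, 11, 4, 6, 8, 10, 4, 6, 8, 11, 4, 6, 8, 4, 6, 4, 11, 13, 6, 8, 11, 23]⟩))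
  (.node (nat_lit 2223) (.leaf ⟨6, 6, true, [8, 19, 19, 13, 16, 8, 19, 14, 6], [0, 19, 8, 19, 8, 0, 19, 2, 12, 10, 4, 6, 8, 10, 4, 6, 8, 4, 6, 4, 11, 11, 6, 24]⟩)
  (.leaf ⟨6, 6, true, [0, 19, 13, 19, 8, 19, 8, 6, 2], [0, 14, 10, 8, 18, 18, 12, 10, 8, 10, 6, 8, 4, 6, 4, 12, 10, 6, 23]⟩)))))
  (.node (nat_lit 2232) (.node (nat_lit 2228) (.node (nat_lit 2226) (.node (nat_lit 2225) (.leaf ⟨6, 6, true, [10, 6, 8, 19, 19, 14, 10], [12, 0, 14, 8, 18, 8, 18, 18, 10, 6, 8, 4, 6, 4, 11, 8, 11, 12, 6, 8, 11, 6]⟩)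
  (.leaf ⟨6, 6, true, [19, 19, 8, 19, 16, 8, 19, 8, 16], [0, 19, 19, 8, 0, 19, 2, 10, 10, 4, 6, 8, 11, 4, 6, 8, 10, 4, 6, 8, 4, 6, 4, 11, 13, 6, 8, 11, 6, 23]⟩))
  (.node (nat_lit 2227) (.leaf ⟨6, 6, true, [13, 16, 10, 8, 19, 8, 16], [6, 8, 0, 19, 8, 0, 19, 2, 8, 4, 6, 4, 0, 21]⟩)
  (.leaf ⟨6, 6, true, [8, 19, 8, 19, 8, 19, 2], [19, 6, 18, 8, 19, 8, 19, 2, 11, 6, 8, 10, 13, 4, 6, 8, 10, 4, 6, 8, 4, 6, 4, 10, 10, 6, 8, 10, 12]⟩)))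
  (.node (nat_lit 2230) (.node (nat_lit 2229) (.leaf ⟨6, 6, true, [6, 8, 19, 19, 16, 12, 8, 6, 18], [0, 15, 18, 14, 8, 19, 19, 2, 4, 6, 8, 11, 12, 4, 6, 8, 11, 4, 6, 8, 4, 6, 4, 13, 8, 11, 6, 8, 10, 13]⟩)
  (.leaf ⟨6, 6, true, [8, 18, 18, 18, 8, 6], [8, 19, 19, 14, 8, 19, 0, 2, 12, 8, 11, 4, 6, 8, 10, 4, 6, 8, 4, 6, 4, 0, 10, 8, 11, 6, 8, 10, 21]⟩))
  (.node (nat_lit 2231) (.leaf ⟨6, 6, true, [13, 6, 18, 8, 6, 18], [12, 8, 6, 18, 8, 0, 18, 18, 10, 8, 11, 6, 8, 11, 4, 6, 8, 4, 6, 4, 0, 8, 10, 6, 8, 11, 6, 20]⟩)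
  (.leaf ⟨6, 6, true, [19, 13, 15, 8, 19, 8, 19, 2], [0, 19, 19, 14, 8, 19, 0, 2, 12, 11, 4, 6, 8, 4, 6, 4, 0, 8, 11, 8, 11, 6, 8, 11, 20]⟩))))
  (.node (nat_lit 2236) (.node (nat_lit 2234) (.node (nat_lit 2233) (.leaf ⟨5, 6, true, [6, 8, 19, 8, 0, 14, 6], [12, 0, 19, 8, 0, 19, 8, 19, 2, 10, 4, 6, 8, 11, 4, 6, 8, 10, 4, 6, 8, 4, 6, 4, 8, 10, 6, 8, 11, 6, 23]⟩)
  (.leaf ⟨6, 5, true, [19, 6, 8, 19, 19, 12, 14], [8, 19, 0, 2, 4, 6, 8, 11, 13, 4, 6, 8, 10, 4, 6, 8, 4, 6, 4, 12, 11, 8, 10, 22]⟩))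
  (.node (nat_lit 2235) (.leaf ⟨6, 6, true, [14, 6, 18, 8, 19, 19, 14, 8, 6], [19, 12, 19, 8, 19, 2, 10, 13, 8, 11, 4, 6, 8, 4, 6, 4, 0, 10, 10, 8, 11, 21]⟩)
  (.leaf ⟨6, 6, true, [19, 19, 8, 16, 10, 8, 6, 18], [10, 12, 8, 0, 19, 8, 19, 2, 12, 11, 6, 8, 4, 6, 4, 0, 12, 10, 20]⟩)))
  (.node (nat_lit 2238) (.node (nat_lit 2237) (.leaf ⟨6, 6, true, [12, 15, 8, 19, 12, 6, 8, 18], [13, 19, 8, 0, 19, 8, 19, 2, 11, 11, 8, 10, 4, 6, 8, 11, 4, 6, 8, 4, 6, 4, 12, 11, 20]⟩)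
  (.leaf ⟨6, 6, true, [14, 18, 18, 8, 6], [16, 8, 19, 8, 19, 8, 19, 2, 11, 6, 8, 10, 4, 6, 8, 4, 6, 4, 0, 6, 22]⟩))
  (.node (nat_lit 2239) (.leaf ⟨6, 6, true, [2, 18, 8, 18, 14, 8, 0, 18], [0, 14, 8, 6, 18, 8, 19, 2, 10, 10, 6, 8, 11, 4, 6, 8, 11, 4, 6, 8, 4, 6, 4, 10, 8, 11, 6, 8, 11, 6, 20]⟩)
  (.leaf ⟨6, 6, true, [12, 16, 8, 19, 12, 16], [8, 19, 8, 19, 8, 19, 2, 4, 6, 8, 11, 4, 6, 8, 10, 4, 6, 8, 4, 6, 4, 0, 12, 10, 6, 25]⟩))))))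

noncomputable def f2240 : FT := (.node (nat_lit 2256) (.node (nat_lit 2248) (.node (nat_lit 2244) (.node (nat_lit 2242) (.node (nat_lit 2241) (.leaf ⟨6, 6, true, [2, 19, 12, 19, 8, 19, 8, 6, 2], [10, 8, 0, 18, 8, 18, 18, 10, 8, 10, 4, 6, 8, 10, 4, 6, 8, 4, 6, 4, 6, 8, 11, 25]⟩)
  (.leaf ⟨6, 6, true, [14, 12, 0, 19, 8, 19, 8, 16], [8, 0, 18, 10, 10, 8, 18, 18, 10, 6, 8, 10, 4, 6, 8, 10, 4, 6, 8, 4, 6, 4, 0, 8, 11, 8, 11, 22]⟩))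
  (.node (nat_lit 2243) (.leaf ⟨6, 6, true, [10, 8, 19, 8, 16, 8, 19, 12, 16], [19, 12, 19, 8, 0, 19, 2, 11, 13, 8, 10, 6, 8, 4, 6, 4, 12, 10, 6, 8, 11]⟩)
  (.leaf ⟨6, 6, true, [0, 14, 12, 8, 18, 8, 18, 10], [0, 19, 15, 19, 8, 19, 2, 12, 6, 8, 11, 4, 6, 8, 10, 4, 6, 8, 4, 6, 4, 0, 6, 8, 10, 6, 21]⟩)))
  (.node (nat_lit 2246) (.node (nat_lit 2245) (.leaf ⟨6, 6, true, [12, 0, 19, 8, 16, 8, 19, 16], [8, 0, 19, 6, 8, 18, 18, 12, 10, 8, 4, 6, 4, 0, 13, 8, 11, 6, 8, 10, 24]⟩)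
  (.leaf ⟨6, 6, true, [12, 0, 19, 8, 16, 8, 19, 12, 16], [12, 18, 8, 18, 8, 18, 18, 10, 8, 4, 6, 4, 11, 13, 8, 10, 21]⟩))
  (.node (nat_lit 2247) (.leaf ⟨6, 4, true, [11, 8, 6, 18, 8, 19, 8, 19, 14], [15, 8, 18, 8, 19, 19, 2, 8, 10, 12, 6, 8, 10, 4, 6, 8, 4, 6, 4, 11, 8, 10, 6, 8, 11, 6]⟩)
  (.leaf ⟨4, 6, true, [6, 8, 0, 19, 12, 16], [19, 8, 0, 19, 2, 11, 12, 6, 8, 11, 4, 6, 8, 4, 6, 4, 13, 8, 10, 24]⟩))))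
  (.node (nat_lit 2252) (.node (nat_lit 2250) (.node (nat_lit 2249) (.leaf ⟨6, 6, true, [19, 19, 19, 13, 11, 8, 19, 8, 16], [16, 8, 19, 8, 0, 19, 2, 12, 11, 4, 6, 8, 10, 4, 6, 8, 4, 6, 4, 11, 13, 8, 10]⟩)
  (.leaf ⟨6, 6, true, [0, 19, 13, 16, 8, 19, 8, 14, 6], [14, 8, 18, 0, 14, 8, 18, 18, 8, 10, 6, 8, 10, 4, 6, 8, 4, 6, 4, 0, 11, 8, 10, 6, 8, 11, 21]⟩))
  (.node (nat_lit 2251) (.leaf ⟨6, 6, true, [0, 18, 18, 8, 19, 8, 0, 14, 6], [6, 18, 12, 18, 8, 18, 18, 4, 6, 8, 11, 6, 8, 10, 4, 6, 8, 4, 6, 4, 0, 13, 10, 8, 10]⟩)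
  (.leaf ⟨6, 6, true, [19, 16, 10, 8, 19, 8, 19, 15], [13, 19, 8, 19, 6, 8, 18, 18, 8, 10, 8, 4, 6, 4, 0, 8, 10, 6, 8, 10, 25]⟩)))
  (.node (nat_lit 2254) (.node (nat_lit 2253) (.leaf ⟨6, 6, true, [19, 8, 19, 8, 14, 6], [10, 8, 18, 18, 12, 6, 8, 10, 4, 6, 8, 11, 4, 6, 8, 4, 6, 4, 10, 8, 11, 6, 8, 11, 6, 22]⟩)
  (.leaf ⟨6, 6, true, [8, 2, 18, 8, 19, 12, 19, 2], [8, 19, 14, 8, 19, 0, 2, 6, 8, 10, 4, 6, 8, 4, 6, 4, 0, 12, 6, 8, 10, 13]⟩))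
  (.node (nat_lit 2255) (.leaf ⟨6, 6, true, [15, 19, 19, 19, 8, 19, 8, 16], [18, 2, 18, 8, 19, 8, 19, 2, 10, 6, 4, 6, 8, 11, 4, 6, 8, 4, 6, 4, 11, 11, 6, 8, 11, 13]⟩)
  (.leaf ⟨6, 6, true, [8, 2, 18, 8, 18, 12, 8, 6, 18], [19, 6, 8, 19, 8, 19, 2, 8, 10, 13, 4, 6, 8, 10, 4, 6, 8, 4, 6, 4, 11, 13, 6, 8, 10, 6, 23]⟩)))))
  (.node (nat_lit 2264) (.node (nat_lit 2260) (.node (nat_lit 2258) (.node (nat_lit 2257) (.leaf ⟨6, 6, true, [12, 19, 11, 8, 19, 8, 19, 14, 8, 6], [12, 0, 14, 8, 18, 8, 18, 18, 6, 8, 10, 8, 10, 4, 6, 8, 4, 6, 4, 11, 8, 10, 6, 8, 10, 6, 22]⟩)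
  (.leaf ⟨6, 6, true, [15, 12, 18, 8, 19, 14, 8, 6], [19, 8, 19, 2, 11, 8, 11, 4, 6, 8, 10, 4, 6, 8, 4, 6, 4, 0, 23]⟩))
  (.node (nat_lit 2259) (.leaf ⟨6, 6, true, [19, 16, 8, 16, 14, 8, 19, 19, 2], [18, 18, 18, 8, 19, 2, 13, 8, 10, 6, 8, 4, 6, 4, 13, 10, 8, 10, 6, 8, 10, 21]⟩)
  (.leaf ⟨6, 6, true, [12, 18, 8, 18, 8, 18, 8, 18, 10], [0, 15, 8, 6, 18, 8, 19, 2, 11, 6, 8, 10, 4, 6, 8, 10, 4, 6, 8, 4, 6, 4, 10, 23]⟩)))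
  (.node (nat_lit 2262) (.node (nat_lit 2261) (.leaf ⟨6, 6, true, [19, 8, 16, 8, 19, 8, 16], [0, 15, 18, 8, 19, 2, 12, 6, 8, 10, 4, 6, 8, 10, 4, 6, 8, 4, 6, 4, 8, 11, 13, 6, 8, 10, 20]⟩)
  (.leaf ⟨6, 6, true, [16, 8, 0, 19, 8, 16], [14, 8, 18, 8, 18, 18, 10, 8, 10, 6, 8, 10, 4, 6, 8, 4, 6, 4, 12, 8, 11, 6, 8, 10, 13]⟩))
  (.node (nat_lit 2263) (.leaf ⟨6, 6, true, [11, 8, 18, 14, 12, 8, 18, 8, 18], [13, 14, 8, 0, 19, 8, 19, 2, 6, 8, 11, 4, 6, 8, 11, 4, 6, 8, 4, 6, 4, 11, 8, 11, 6, 8, 11, 12]⟩)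
  (.leaf ⟨6, 6, true, [19, 19, 8, 16, 10], [8, 19, 19, 8, 19, 8, 19, 2, 4, 6, 4, 0, 12, 10, 6, 22]⟩))))
  (.node (nat_lit 2268) (.node (nat_lit 2266) (.node (nat_lit 2265) (.leaf ⟨6, 6, true, [19, 19, 19, 8, 19, 14], [15, 12, 0, 19, 8, 19, 2, 11, 4, 6, 8, 10, 4, 6, 8, 4, 6, 4, 0, 10, 12, 8, 11, 22]⟩)
  (.leaf ⟨6, 6, true, [19, 8, 6, 18, 8, 15, 18, 8, 18], [14, 8, 4, 6, 18, 8, 19, 2, 10, 6, 8, 11, 4, 6, 8, 4, 6, 4, 0, 8, 11, 11, 6, 8, 11, 20]⟩))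
  (.node (nat_lit 2267) (.leaf ⟨6, 6, true, [6, 8, 19, 19, 10, 8, 16], [13, 15, 8, 19, 8, 19, 2, 4, 6, 8, 11, 4, 6, 8, 4, 6, 4, 0, 8, 11, 13, 6, 8, 10, 6, 13]⟩)
  (.leaf ⟨6, 6, true, [8, 0, 19, 19, 8, 14, 8, 6], [18, 8, 18, 14, 8, 19, 19, 2, 8, 10, 6, 8, 10, 4, 6, 8, 11, 4, 6, 8, 4, 6, 4, 12, 8, 11, 6, 8, 10, 13]⟩)))
  (.node (nat_lit 2270) (.node (nat_lit 2269) (.leaf ⟨6, 6, true, [12, 14, 8, 18, 8, 18, 8, 18], [0, 18, 18, 14, 8, 18, 18, 10, 8, 10, 4, 6, 8, 4, 6, 4, 6, 13]⟩)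
  (.leaf ⟨6, 6, true, [13, 0, 15, 18, 8, 18, 10, 8, 18], [19, 8, 2, 18, 8, 18, 18, 8, 11, 13, 6, 8, 11, 4, 6, 8, 10, 4, 6, 8, 4, 6, 4, 10, 13, 8, 10, 24]⟩))
  (.node (nat_lit 2271) (.leaf ⟨6, 6, true, [12, 8, 19, 8, 19, 8, 16, 10], [18, 12, 18, 8, 19, 8, 19, 2, 11, 4, 6, 8, 10, 4, 6, 8, 11, 4, 6, 8, 4, 6, 4, 10, 8, 11, 11, 6, 8, 11, 12]⟩)
  (.leaf ⟨6, 6, true, [13, 8, 18, 8, 18, 4, 14, 8, 6], [19, 19, 8, 0, 19, 2, 6, 8, 10, 8, 10, 4, 6, 8, 4, 6, 4, 11, 12, 6, 8, 11, 6, 13]⟩))))))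

noncomputable def f2272 : FT := (.node (nat_lit 2288) (.node (nat_lit 2280) (.node (nat_lit 2276) (.node (nat_lit 2274) (.node (nat_lit 2273) (.leaf ⟨6, 6, true, [19, 8, 14, 6, 18, 8, 19, 16], [18, 12, 18, 8, 19, 8, 19, 2, 10, 8, 10, 4, 6, 8, 10, 4, 6, 8, 4, 6, 4, 12, 8, 11]⟩)
  (.leaf ⟨6, 6, true, [19, 10, 10, 8, 16], [0, 19, 8, 19, 8, 19, 2, 6, 8, 10, 10, 4, 6, 8, 10, 4, 6, 8, 4, 6, 4, 12, 8, 11, 6, 22]⟩))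
  (.node (nat_lit 2275) (.leaf ⟨6, 6, true, [10, 10, 8, 19, 10, 8, 19, 8, 16, 10], [8, 18, 8, 0, 19, 8, 19, 2, 8, 11, 12, 4, 6, 8, 11, 4, 6, 8, 4, 6, 4, 12, 10, 6, 13]⟩)
  (.leaf ⟨6, 6, true, [0, 19, 6, 8, 18, 18, 10, 8, 6], [19, 16, 8, 2, 19, 8, 19, 2, 8, 11, 6, 8, 11, 4, 6, 8, 4, 6, 4, 0, 8, 11, 8, 11, 6, 12]⟩)))
  (.node (nat_lit 2278) (.node (nat_lit 2277) (.leaf ⟨6, 6, true, [12, 10, 8, 0, 19, 6, 8, 18], [0, 18, 8, 18, 8, 19, 2, 12, 11, 8, 10, 6, 8, 4, 6, 4, 10, 6, 20]⟩)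
  (.leaf ⟨6, 6, true, [18, 13, 8, 18, 8, 18, 8, 18, 10], [13, 14, 8, 18, 8, 18, 18, 8, 11, 12, 6, 8, 11, 4, 6, 8, 4, 6, 4, 11, 24]⟩))
  (.node (nat_lit 2279) (.leaf ⟨6, 6, true, [19, 8, 0, 19, 13, 16, 8, 6, 18], [6, 18, 18, 8, 18, 8, 19, 2, 10, 13, 8, 10, 4, 6, 8, 4, 6, 4, 8, 11, 8, 11, 6, 8, 10, 12]⟩)
  (.leaf ⟨6, 6, true, [18, 12, 18, 8, 18, 8, 6, 18, 10], [19, 6, 8, 19, 8, 0, 19, 2, 13, 10, 4, 6, 8, 11, 4, 6, 8, 4, 6, 4, 13, 11, 8, 10, 6, 8, 10, 12]⟩))))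
  (.node (nat_lit 2284) (.node (nat_lit 2282) (.node (nat_lit 2281) (.leaf ⟨6, 6, true, [18, 8, 16, 10, 8, 19, 16], [8, 18, 8, 18, 8, 19, 2, 8, 10, 13, 4, 6, 8, 10, 4, 6, 8, 4, 6, 4, 11, 13, 6, 8, 10, 20]⟩)
  (.leaf ⟨6, 6, true, [0, 19, 8, 0, 19, 8, 19, 8, 16], [8, 19, 19, 8, 19, 8, 19, 2, 13, 10, 6, 8, 11, 4, 6, 8, 4, 6, 4, 10, 13, 8, 11, 6, 21]⟩))
  (.node (nat_lit 2283) (.leaf ⟨6, 6, true, [18, 10, 8, 19, 8, 6, 2], [18, 10, 8, 18, 18, 10, 4, 6, 8, 11, 4, 6, 8, 4, 6, 4, 12, 11, 8, 11, 24]⟩)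
  (.leaf ⟨6, 6, true, [8, 16, 8, 19, 13, 19, 8, 16, 10], [15, 19, 19, 19, 8, 19, 2, 4, 6, 8, 10, 4, 6, 8, 11, 4, 6, 8, 4, 6, 4, 10, 6, 8, 11, 13]⟩)))
  (.node (nat_lit 2286) (.node (nat_lit 2285) (.leaf ⟨6, 6, true, [16, 8, 15, 19, 6, 8, 19, 6, 2], [12, 19, 8, 19, 0, 2, 6, 8, 10, 8, 10, 4, 6, 8, 10, 4, 6, 8, 4, 6, 4, 0, 6, 8, 10, 6, 8, 11]⟩)
  (.leaf ⟨6, 6, true, [15, 18, 12, 8, 0, 18], [11, 8, 18, 8, 0, 18, 18, 8, 10, 6, 8, 10, 4, 6, 8, 4, 6, 4, 8, 10, 6, 8, 11, 6, 13]⟩))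
  (.node (nat_lit 2287) (.leaf ⟨6, 6, true, [10, 8, 19, 16, 8, 19, 8, 14, 6], [12, 19, 8, 19, 2, 12, 6, 8, 10, 4, 6, 8, 4, 6, 4, 0, 10, 13, 8, 10, 20]⟩)
  (.leaf ⟨6, 6, true, [15, 8, 19, 6, 8, 16, 8, 19, 6, 2], [18, 18, 8, 18, 8, 19, 2, 8, 10, 6, 8, 11, 4, 6, 8, 11, 4, 6, 8, 4, 6, 4, 11, 8, 11, 22]⟩)))))
  (.node (nat_lit 2296) (.node (nat_lit 2292) (.node (nat_lit 2290) (.node (nat_lit 2289) (.leaf ⟨6, 6, true, [8, 16, 8, 19, 19, 8, 15, 8, 6], [0, 19, 6, 18, 10, 8, 19, 2, 10, 6, 8, 10, 6, 8, 4, 6, 4, 0, 12, 8, 11, 6, 8, 10, 25]⟩)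
  (.leaf ⟨6, 6, true, [8, 0, 2, 18, 8, 19, 8, 6, 2], [6, 8, 0, 19, 8, 19, 2, 13, 8, 10, 6, 8, 11, 4, 6, 8, 4, 6, 4, 12, 11, 8, 11, 13]⟩))
  (.node (nat_lit 2291) (.leaf ⟨6, 6, true, [12, 0, 19, 8, 19, 8, 10, 8, 19, 2], [6, 18, 10, 8, 19, 0, 2, 13, 10, 8, 10, 4, 6, 8, 10, 4, 6, 8, 4, 6, 4, 12, 10, 6, 8, 10, 20]⟩)
  (.leaf ⟨6, 6, true, [0, 18, 11, 8, 18, 12, 8, 18], [8, 15, 19, 19, 19, 8, 19, 2, 12, 8, 11, 4, 6, 8, 10, 4, 6, 8, 4, 6, 4, 11, 13, 6, 8, 11, 20]⟩)))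
  (.node (nat_lit 2294) (.node (nat_lit 2293) (.leaf ⟨6, 4, true, [10, 8, 19, 8, 10, 6, 8, 6, 18], [0, 19, 12, 8, 19, 8, 19, 2, 12, 11, 8, 11, 6, 8, 4, 6, 4, 12, 10, 8, 10, 21]⟩)
  (.leaf ⟨4, 6, true, [8, 0, 19, 16, 8, 19, 8, 19, 2], [12, 15, 8, 19, 8, 0, 19, 2, 6, 8, 11, 12, 4, 6, 8, 11, 4, 6, 8, 4, 6, 4, 10, 10, 6, 12]⟩))
  (.node (nat_lit 2295) (.leaf ⟨6, 6, true, [18, 8, 18, 8, 10, 8, 6, 18], [8, 0, 19, 2, 6, 4, 6, 8, 11, 6, 8, 10, 4, 6, 8, 4, 6, 4, 12, 8, 10, 6, 8, 11, 23]⟩)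
  (.leaf ⟨6, 6, true, [12, 0, 14, 8, 18, 8, 0, 18], [19, 8, 19, 10, 8, 19, 2, 8, 11, 8, 11, 4, 6, 8, 4, 6, 4, 6, 8, 11, 22]⟩))))
  (.node (nat_lit 2300) (.node (nat_lit 2298) (.node (nat_lit 2297) (.leaf ⟨6, 6, true, [6, 18, 8, 19, 19, 14], [11, 8, 19, 8, 19, 2, 10, 8, 11, 6, 8, 11, 4, 6, 8, 4, 6, 4, 6, 8, 11, 6]⟩)
  (.leaf ⟨6, 6, true, [8, 14, 8, 19, 19, 8, 16, 10], [13, 19, 8, 19, 6, 8, 18, 18, 10, 8, 10, 13, 4, 6, 8, 10, 4, 6, 8, 4, 6, 4, 11, 12, 6, 8, 11, 25]⟩))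
  (.node (nat_lit 2299) (.leaf ⟨6, 6, true, [18, 10, 10, 8, 18], [2, 18, 8, 19, 6, 8, 18, 18, 8, 11, 4, 6, 8, 4, 6, 4, 13, 10, 8, 11, 6, 8, 10, 6, 20]⟩)
  (.leaf ⟨6, 6, true, [18, 18, 12, 10, 8, 18, 8, 18], [16, 8, 0, 19, 8, 19, 2, 12, 10, 4, 6, 8, 4, 6, 4, 8, 10, 8, 10, 6, 24]⟩)))
  (.node (nat_lit 2302) (.node (nat_lit 2301) (.leaf ⟨6, 6, true, [18, 14, 8, 18, 8, 6, 18, 10], [8, 19, 19, 14, 8, 19, 0, 2, 12, 10, 8, 10, 6, 8, 10, 4, 6, 8, 4, 6, 4, 10, 13, 8, 10, 23]⟩)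
  (.leaf ⟨6, 6, true, [18, 8, 6, 18, 10, 8, 6], [18, 8, 18, 8, 2, 18, 18, 13, 8, 11, 6, 8, 4, 6, 4, 6, 8, 10, 20]⟩))
  (.node (nat_lit 2303) (.leaf ⟨6, 6, true, [18, 8, 15, 18, 8, 18, 10, 10], [0, 14, 4, 6, 18, 8, 19, 2, 12, 10, 4, 6, 8, 10, 4, 6, 8, 10, 4, 6, 8, 4, 6, 4, 10, 12, 8, 11, 13]⟩)
  (.leaf ⟨6, 6, true, [0, 15, 18, 8, 18, 8, 19, 2], [13, 19, 8, 19, 8, 19, 2, 11, 12, 8, 10, 4, 6, 8, 11, 4, 6, 8, 4, 6, 4, 11, 8, 11, 6, 8, 10, 25]⟩))))))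

noncomputable def f2304 : FT := (.node (nat_lit 2320) (.node (nat_lit 2312) (.node (nat_lit 2308) (.node (nat_lit 2306) (.node (nat_lit 2305) (.leaf ⟨6, 6, true, [18, 8, 11, 8, 19, 19, 2], [11, 8, 0, 19, 19, 2, 8, 11, 12, 6, 8, 11, 4, 6, 8, 4, 6, 4, 13, 6, 8, 11, 22]⟩)
  (.leaf ⟨6, 6, true, [10, 10, 8, 18, 18, 18, 8, 6], [6, 8, 18, 18, 6, 8, 10, 6, 8, 4, 6, 4, 6, 8, 10, 6, 12]⟩))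
  (.node (nat_lit 2307) (.leaf ⟨6, 6, true, [8, 14, 6, 8, 18, 12, 8, 18], [19, 19, 6, 8, 18, 18, 12, 10, 4, 6, 8, 4, 6, 4, 0, 10, 10, 13]⟩)
  (.leaf ⟨6, 6, true, [18, 8, 19, 6, 18, 10, 8, 6], [14, 8, 19, 8, 19, 2, 12, 11, 4, 6, 8, 10, 4, 6, 8, 4, 6, 4, 0, 13, 11, 6, 8, 11, 24]⟩)))
  (.node (nat_lit 2310) (.node (nat_lit 2309) (.leaf ⟨6, 6, true, [13, 10, 8, 19, 19, 15, 8, 6], [19, 10, 6, 8, 19, 19, 2, 10, 4, 6, 8, 11, 4, 6, 8, 10, 4, 6, 8, 4, 6, 4, 13, 8, 11, 25]⟩)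
  (.leaf ⟨6, 6, true, [6, 18, 18, 8, 18, 8, 18, 11], [6, 8, 16, 8, 19, 19, 2, 10, 8, 10, 6, 8, 11, 4, 6, 8, 10, 4, 6, 8, 4, 6, 4, 6, 8, 10, 8, 10, 6, 25]⟩))
  (.node (nat_lit 2311) (.leaf ⟨6, 6, true, [0, 18, 18, 10, 8, 19, 8, 16], [14, 18, 18, 8, 19, 2, 10, 4, 6, 8, 10, 4, 6, 8, 10, 4, 6, 8, 4, 6, 4, 0, 12, 6, 8, 10, 25]⟩)
  (.leaf ⟨6, 6, true, [8, 16, 8, 19, 8, 6, 2], [12, 8, 6, 18, 8, 0, 18, 18, 8, 11, 6, 8, 4, 6, 4, 12, 8, 11, 6, 21]⟩))))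
  (.node (nat_lit 2316) (.node (nat_lit 2314) (.node (nat_lit 2313) (.leaf ⟨6, 6, true, [19, 8, 10, 12, 19, 8, 16], [14, 6, 18, 8, 18, 18, 6, 8, 10, 4, 6, 8, 10, 4, 6, 8, 4, 6, 4, 8, 10, 6, 22]⟩)
  (.leaf ⟨6, 6, true, [19, 19, 19, 8, 6, 18, 10, 8, 6], [0, 19, 6, 8, 18, 18, 10, 8, 11, 6, 8, 4, 6, 4, 0, 11, 8, 11, 20]⟩))
  (.node (nat_lit 2315) (.leaf ⟨6, 6, true, [0, 15, 12, 18, 8, 19, 8, 19, 2], [16, 8, 0, 19, 8, 19, 2, 6, 8, 10, 4, 6, 8, 10, 4, 6, 8, 4, 6, 4, 10, 12, 8, 11, 6, 23]⟩)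
  (.leaf ⟨6, 6, true, [16, 13, 10, 8, 19, 8, 19, 2], [18, 8, 19, 6, 18, 8, 19, 2, 4, 6, 8, 11, 8, 11, 4, 6, 8, 4, 6, 4, 10, 6, 8, 11, 6, 8, 10, 6, 22]⟩)))
  (.node (nat_lit 2318) (.node (nat_lit 2317) (.leaf ⟨6, 6, true, [15, 8, 18, 8, 19, 6, 2], [18, 18, 10, 8, 19, 8, 19, 2, 11, 11, 8, 11, 4, 6, 8, 4, 6, 4, 11, 11, 8, 10, 25]⟩)
  (.leaf ⟨6, 6, true, [19, 14, 8, 0, 15, 18, 8, 18], [19, 8, 6, 18, 8, 19, 2, 11, 8, 11, 4, 6, 8, 4, 6, 4, 11, 13, 6, 8, 11, 23]⟩))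
  (.node (nat_lit 2319) (.leaf ⟨6, 6, true, [18, 8, 18, 12, 8, 0, 18], [0, 14, 8, 18, 8, 18, 18, 6, 8, 10, 13, 4, 6, 8, 10, 4, 6, 8, 4, 6, 4, 12, 10, 6, 8, 10, 24]⟩)
  (.leaf ⟨6, 6, true, [8, 0, 18, 18, 10, 8, 6, 18], [11, 8, 18, 14, 8, 18, 18, 11, 6, 4, 6, 8, 11, 6, 8, 10, 4, 6, 8, 4, 6, 4, 0, 12, 11, 6, 8, 10, 6]⟩)))))
  (.node (nat_lit 2328) (.node (nat_lit 2324) (.node (nat_lit 2322) (.node (nat_lit 2321) (.leaf ⟨6, 6, true, [8, 14, 18, 12, 18, 8, 19, 16], [19, 12, 6, 18, 8, 19, 8, 19, 2, 8, 11, 6, 8, 4, 6, 4, 0, 13, 8, 10, 20]⟩)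
  (.leaf ⟨6, 6, true, [15, 13, 18, 8, 0, 19, 6, 2], [12, 18, 8, 19, 8, 0, 19, 2, 11, 6, 8, 10, 4, 6, 8, 4, 6, 4, 6, 8, 10, 6, 8, 11, 21]⟩))
  (.node (nat_lit 2323) (.leaf ⟨6, 6, true, [19, 14, 8, 19, 8, 19, 10, 8, 16], [6, 18, 8, 19, 10, 8, 19, 2, 11, 8, 10, 6, 8, 4, 6, 4, 13, 8, 10]⟩)
  (.leaf ⟨6, 6, true, [18, 8, 18], [12, 19, 8, 16, 8, 19, 19, 2, 10, 8, 10, 6, 8, 4, 6, 4, 12, 8, 11, 20]⟩)))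
  (.node (nat_lit 2326) (.node (nat_lit 2325) (.leaf ⟨6, 6, true, [12, 10, 8, 6, 18, 8, 19, 6, 2], [0, 16, 8, 6, 18, 8, 19, 2, 8, 10, 4, 6, 8, 4, 6, 4, 0, 12, 10, 6, 12]⟩)
  (.leaf ⟨6, 6, true, [11, 8, 19, 8, 16, 8, 19, 19, 2], [0, 18, 8, 18, 18, 12, 10, 6, 8, 4, 6, 4, 10, 10, 6, 8, 10]⟩))
  (.node (nat_lit 2327) (.leaf ⟨6, 6, true, [18, 8, 14, 18, 18, 8, 19, 12, 16], [10, 8, 18, 0, 18, 10, 8, 10, 6, 8, 4, 6, 4, 10, 6, 8, 11, 6, 8, 10]⟩)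
  (.leaf ⟨6, 6, true, [16, 8, 15, 8, 19, 19, 2], [13, 0, 19, 8, 19, 8, 19, 2, 11, 12, 8, 10, 4, 6, 8, 11, 4, 6, 8, 4, 6, 4, 11, 13, 8, 10, 6, 8, 11]⟩))))
  (.node (nat_lit 2332) (.node (nat_lit 2330) (.node (nat_lit 2329) (.leaf ⟨6, 6, true, [12, 19, 6, 8, 18, 4, 14, 8, 6], [10, 8, 18, 0, 18, 6, 8, 11, 8, 11, 4, 6, 8, 4, 6, 4, 0, 12, 11, 6, 8, 10, 22]⟩)
  (.leaf ⟨6, 6, true, [12, 19, 8, 6, 18, 8, 18], [8, 15, 8, 19, 8, 0, 19, 2, 10, 13, 4, 6, 8, 10, 4, 6, 8, 4, 6, 4, 12, 11, 8, 10, 6, 8, 10, 23]⟩))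
  (.node (nat_lit 2331) (.leaf ⟨6, 6, true, [6, 8, 11, 8, 18], [8, 19, 15, 19, 8, 19, 2, 6, 8, 10, 6, 8, 11, 4, 6, 8, 10, 4, 6, 8, 4, 6, 4, 8, 11, 13, 6, 8, 11, 6, 20]⟩)
  (.leaf ⟨6, 6, true, [0, 15, 18, 13, 8, 18, 8, 19, 6, 2], [12, 8, 16, 8, 19, 19, 2, 10, 21]⟩)))
  (.node (nat_lit 2334) (.node (nat_lit 2333) (.leaf ⟨6, 6, true, [8, 16, 8, 0, 19, 12, 16], [12, 14, 8, 6, 18, 8, 19, 2, 11, 6, 8, 10, 4, 6, 8, 4, 6, 4, 0, 11, 6, 8, 11, 6, 24]⟩)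
  (.leaf ⟨6, 6, true, [19, 0, 19, 16, 8, 10, 6, 8, 18], [6, 18, 10, 8, 18, 18, 8, 10, 4, 6, 8, 10, 4, 6, 8, 4, 6, 4, 0, 10, 12, 8, 11, 24]⟩))
  (.node (nat_lit 2335) (.leaf ⟨6, 6, true, [11, 11, 8, 19, 19, 14], [19, 8, 0, 19, 8, 0, 19, 2, 13, 8, 11, 6, 8, 10, 4, 6, 8, 4, 6, 4, 12, 11, 8, 10, 6, 8, 10, 20]⟩)
  (.leaf ⟨6, 6, true, [15, 18, 18, 8, 19, 8, 19, 8, 14, 6], [10, 8, 0, 18, 10, 8, 18, 18, 8, 10, 8, 6, 4, 11, 8, 11, 12, 6, 8, 11, 25]⟩))))))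

noncomputable def f2336 : FT := (.node (nat_lit 2352) (.node (nat_lit 2344) (.node (nat_lit 2340) (.node (nat_lit 2338) (.node (nat_lit 2337) (.leaf ⟨6, 6, true, [18, 14, 18, 8, 18, 12, 18, 8, 6], [18, 0, 19, 19, 8, 19, 2, 8, 11, 13, 4, 6, 8, 10, 4, 6, 8, 4, 6, 4, 12, 11, 8, 10, 21]⟩)
  (.leaf ⟨6, 6, true, [10, 10, 8, 19, 6, 8, 19, 6, 2], [12, 0, 14, 8, 18, 8, 18, 18, 10, 6, 8, 10, 4, 6, 8, 4, 6, 4, 10, 12, 8, 11, 22]⟩))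
  (.node (nat_lit 2339) (.leaf ⟨6, 6, true, [8, 18, 8, 19, 8, 19, 8, 14, 6], [13, 18, 8, 0, 19, 8, 19, 2, 8, 11, 13, 6, 8, 11, 4, 6, 8, 4, 6, 4, 13, 8, 10, 6, 8, 11, 20]⟩)
  (.leaf ⟨6, 6, true, [18, 13, 8, 16, 8, 19, 6, 8, 18], [8, 19, 6, 8, 18, 18, 13, 11, 8, 10, 4, 6, 8, 10, 4, 6, 8, 4, 6, 4, 12, 8, 11, 6, 8, 10, 6, 23]⟩)))
  (.node (nat_lit 2342) (.node (nat_lit 2341) (.leaf ⟨6, 6, true, [8, 0, 19, 8, 0, 19, 8, 16, 10], [19, 19, 8, 0, 19, 2, 12, 8, 10, 4, 6, 8, 4, 6, 4, 8, 10, 6, 8, 10, 24]⟩)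
  (.leaf ⟨6, 6, true, [10, 8, 19, 6, 8, 18, 8, 6], [6, 18, 10, 8, 18, 18, 10, 8, 11, 6, 8, 4, 6, 4, 0, 13, 11, 6, 8, 11, 12]⟩))
  (.node (nat_lit 2343) (.leaf ⟨6, 6, true, [13, 11, 8, 19, 8, 19, 15], [18, 14, 12, 8, 19, 8, 19, 2, 10, 10, 8, 11, 4, 6, 8, 4, 6, 4, 11, 11, 8, 10, 6, 8, 11, 22]⟩)
  (.leaf ⟨6, 6, true, [2, 18, 8, 19, 14, 8, 6], [15, 12, 0, 19, 8, 19, 2, 12, 11, 8, 4, 6, 4, 0, 13, 8, 10, 6, 13]⟩))))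
  (.node (nat_lit 2348) (.node (nat_lit 2346) (.node (nat_lit 2345) (.leaf ⟨6, 6, true, [15, 11, 8, 19, 6, 8, 19, 16], [8, 2, 18, 8, 19, 8, 19, 2, 4, 6, 8, 10, 4, 6, 8, 4, 6, 4, 0, 12, 8, 10, 6, 8, 11, 13]⟩)
  (.leaf ⟨6, 6, true, [8, 11, 8, 19, 8, 14, 10, 6], [12, 0, 18, 8, 18, 18, 12, 11, 6, 8, 10, 4, 6, 8, 4, 6, 4, 0, 10, 8, 10, 20]⟩))
  (.node (nat_lit 2347) (.leaf ⟨6, 6, true, [11, 8, 19, 8, 19, 10, 8, 16], [14, 6, 8, 19, 8, 19, 2, 11, 8, 4, 6, 4, 6, 8, 11, 13]⟩)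
  (.leaf ⟨6, 6, true, [19, 8, 11, 8, 19, 6, 8, 19, 16], [18, 2, 18, 8, 18, 18, 11, 6, 4, 6, 8, 10, 4, 6, 8, 11, 4, 6, 8, 4, 6, 4, 8, 11, 12, 6, 8, 11, 6, 20]⟩)))
  (.node (nat_lit 2350) (.node (nat_lit 2349) (.leaf ⟨6, 6, true, [8, 16, 14, 8, 19, 19, 2], [19, 8, 19, 10, 8, 19, 2, 10, 8, 11, 6, 8, 4, 6, 4, 8, 10, 6, 8, 10, 22]⟩)
  (.leaf ⟨6, 6, true, [19, 0, 19, 8, 16, 8, 19, 19, 15], [8, 15, 19, 10, 8, 19, 2, 10, 10, 6, 8, 11, 4, 6, 8, 10, 4, 6, 8, 4, 6, 4, 0, 10, 8, 11, 11, 6, 8, 11, 25]⟩))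
  (.node (nat_lit 2351) (.leaf ⟨6, 6, true, [8, 14, 0, 14, 18, 8, 19, 6, 2], [19, 19, 8, 19, 2, 12, 10, 8, 10, 6, 8, 10, 4, 6, 8, 4, 6, 4, 11, 11, 8, 10]⟩)
  (.leaf ⟨6, 6, true, [10, 6, 8, 18], [19, 8, 19, 8, 0, 19, 2, 8, 11, 4, 6, 8, 4, 6, 4, 12, 11, 8, 11, 13]⟩)))))
  (.node (nat_lit 2360) (.node (nat_lit 2356) (.node (nat_lit 2354) (.node (nat_lit 2353) (.leaf ⟨6, 6, true, [0, 14, 18, 18, 8, 6], [19, 8, 19, 6, 18, 8, 19, 2, 10, 4, 6, 8, 11, 4, 6, 8, 11, 4, 6, 8, 4, 6, 4, 12, 8, 10, 6, 23]⟩)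
  (.leaf ⟨6, 6, true, [16, 12, 8, 19, 8, 6, 2], [18, 8, 19, 8, 0, 19, 2, 12, 10, 4, 6, 8, 4, 6, 4, 0, 20]⟩))
  (.node (nat_lit 2355) (.leaf ⟨6, 6, true, [8, 18, 8, 18, 11], [18, 8, 18, 8, 18, 18, 4, 6, 8, 10, 6, 8, 11, 4, 6, 8, 4, 6, 4, 0, 6, 8, 11, 20]⟩)
  (.leaf ⟨6, 6, true, [15, 13, 18, 8, 18, 8, 18, 10], [8, 16, 8, 0, 19, 8, 0, 19, 2, 4, 6, 8, 11, 4, 6, 8, 4, 6, 4, 0, 11, 8, 11, 6, 8, 11, 12]⟩)))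
  (.node (nat_lit 2358) (.node (nat_lit 2357) (.leaf ⟨6, 6, true, [13, 0, 18, 8, 18, 8, 18, 11], [15, 18, 14, 8, 19, 19, 2, 13, 6, 8, 10, 4, 6, 8, 4, 6, 4, 10, 8, 11, 13, 6, 8, 10, 20]⟩)
  (.leaf ⟨6, 6, true, [18, 13, 18, 8, 16, 8, 0, 19, 16], [8, 18, 8, 0, 19, 8, 19, 2, 10, 8, 6, 4, 10, 8, 11, 13, 6, 8, 10, 20]⟩))
  (.node (nat_lit 2359) (.leaf ⟨6, 6, true, [8, 19, 6, 8, 18, 8, 4, 14, 6], [8, 16, 8, 0, 19, 8, 0, 19, 2, 10, 8, 10, 4, 6, 8, 4, 6, 4, 0, 12, 8, 11, 13]⟩)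
  (.leaf ⟨6, 6, true, [13, 19, 6, 8, 19, 8, 16], [6, 18, 10, 8, 19, 2, 10, 8, 11, 6, 8, 11, 4, 6, 8, 4, 6, 4, 0, 11, 8, 11, 6, 8, 10, 23]⟩))))
  (.node (nat_lit 2364) (.node (nat_lit 2362) (.node (nat_lit 2361) (.leaf ⟨6, 6, true, [8, 18, 14, 8, 0, 18], [19, 19, 8, 0, 19, 2, 6, 4, 6, 8, 11, 4, 6, 8, 10, 4, 6, 8, 4, 6, 4, 13, 10, 8, 10, 13]⟩)
  (.leaf ⟨6, 6, true, [10, 12, 8, 19, 6, 8, 6, 18], [6, 8, 19, 19, 2, 12, 6, 8, 10, 4, 6, 8, 4, 6, 4, 10, 12, 8, 11, 21]⟩))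
  (.node (nat_lit 2363) (.leaf ⟨6, 6, true, [13, 19, 8, 10, 6, 8, 19, 6, 2], [13, 18, 8, 19, 6, 8, 18, 18, 8, 10, 8, 10, 6, 8, 10, 4, 6, 8, 4, 6, 4, 0, 10, 6, 24]⟩)
  (.leaf ⟨6, 6, true, [10, 8, 19, 6, 8, 16, 8, 19, 16], [0, 2, 4, 6, 8, 11, 4, 6, 8, 4, 6, 4, 10, 6, 8, 11, 6, 8, 10, 23]⟩)))
  (.node (nat_lit 2366) (.node (nat_lit 2365) (.leaf ⟨6, 6, true, [18, 13, 14, 8, 18, 8, 18, 8, 6], [0, 19, 11, 8, 19, 2, 4, 6, 8, 4, 6, 4, 10, 10, 6, 8, 11, 24]⟩)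
  (.leaf ⟨6, 6, true, [14, 8, 6, 18, 10, 8, 19, 19, 2], [18, 8, 18, 8, 18, 8, 19, 2, 10, 8, 10, 6, 8, 11, 4, 6, 8, 4, 6, 4, 12, 11, 6, 13]⟩))
  (.node (nat_lit 2367) (.leaf ⟨6, 6, true, [13, 18, 8, 18, 8, 19, 0, 14, 6], [13, 14, 8, 18, 8, 0, 18, 18, 4, 6, 8, 11, 6, 4, 6, 8, 11, 4, 6, 8, 4, 6, 4, 10, 8, 10, 6, 8, 10]⟩)
  (.leaf ⟨6, 6, true, [12, 11, 8, 19, 8, 14, 6], [13, 19, 8, 0, 19, 8, 19, 2, 13, 11, 8, 10, 6, 8, 11, 4, 6, 8, 4, 6, 4, 12, 8, 10, 6, 8, 11, 13]⟩))))))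

noncomputable def f2368 : FT := (.node (nat_lit 2384) (.node (nat_lit 2376) (.node (nat_lit 2372) (.node (nat_lit 2370) (.node (nat_lit 2369) (.leaf ⟨6, 6, true, [19, 12, 8, 16, 8, 19, 6, 2], [2, 18, 8, 19, 6, 8, 18, 18, 10, 4, 6, 8, 10, 4, 6, 8, 4, 6, 4, 0, 8, 11]⟩)
  (.leaf ⟨6, 6, true, [14, 4, 6, 8, 18, 10], [8, 18, 18, 14, 8, 18, 18, 6, 8, 10, 4, 6, 8, 4, 6, 4, 6, 8, 10, 6, 8, 11, 6, 13]⟩))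
  (.node (nat_lit 2371) (.leaf ⟨6, 6, true, [8, 15, 19, 6, 8, 6, 18, 8, 18], [8, 0, 19, 19, 14, 8, 19, 0, 2, 8, 11, 13, 4, 6, 8, 11, 4, 6, 8, 4, 6, 4, 0, 10, 8, 10, 10, 6, 8, 11, 25]⟩)
  (.leaf ⟨6, 6, true, [0, 19, 12, 19, 8, 6, 2], [4, 6, 18, 8, 19, 2, 13, 11, 6, 8, 10, 4, 6, 8, 10, 4, 6, 8, 4, 6, 4, 12, 8, 10, 6, 25]⟩)))
  (.node (nat_lit 2374) (.node (nat_lit 2373) (.leaf ⟨6, 6, true, [8, 19, 13, 10, 8, 19, 8, 16, 10], [6, 18, 18, 8, 19, 10, 8, 19, 2, 4, 6, 4, 6, 8, 10, 6, 8, 11, 4, 6, 8, 4, 6, 4, 10, 8, 10, 10, 6, 8, 11, 13]⟩)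
  (.leaf ⟨6, 6, true, [8, 18, 8, 18, 10, 8, 19, 16], [15, 8, 19, 10, 8, 19, 2, 12, 11, 4, 6, 8, 10, 4, 6, 8, 4, 6, 4, 0, 10, 8, 11, 6, 8, 11, 24]⟩))
  (.node (nat_lit 2375) (.leaf ⟨6, 6, true, [10, 12, 8, 18, 8, 19, 19, 2], [0, 19, 8, 0, 19, 2, 6, 4, 0, 11, 8, 11, 6, 8, 11, 13]⟩)
  (.leaf ⟨6, 6, true, [8, 19, 6, 8, 19, 19, 12, 14], [4, 14, 8, 19, 8, 19, 2, 12, 11, 8, 10, 4, 6, 8, 4, 6, 4, 13, 11, 6, 8, 10, 13]⟩))))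
  (.node (nat_lit 2380) (.node (nat_lit 2378) (.node (nat_lit 2377) (.leaf ⟨6, 6, true, [13, 18, 8, 19, 6, 8, 18, 10], [8, 6, 18, 18, 18, 8, 19, 2, 6, 8, 10, 4, 6, 8, 4, 6, 4, 0, 13, 8, 11, 6, 8, 10, 12]⟩)
  (.leaf ⟨6, 6, true, [0, 18, 11, 8, 18, 12, 18, 8, 6], [15, 19, 8, 19, 2, 11, 4, 6, 8, 11, 4, 6, 8, 4, 6, 4, 12, 10, 8, 10, 6, 8, 10, 12]⟩))
  (.node (nat_lit 2379) (.leaf ⟨6, 6, true, [13, 8, 18, 8, 0, 18, 8, 18], [14, 18, 8, 18, 18, 12, 10, 4, 6, 8, 4, 6, 4, 0, 23]⟩)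
  (.leaf ⟨6, 6, true, [18, 13, 18, 8, 18, 8, 18, 12, 10], [12, 0, 14, 8, 18, 8, 18, 18, 11, 8, 11, 6, 8, 4, 6, 4, 10, 8, 10, 23]⟩)))
  (.node (nat_lit 2382) (.node (nat_lit 2381) (.leaf ⟨6, 6, true, [8, 15, 8, 19, 8, 19, 8, 16], [0, 19, 2, 19, 8, 19, 2, 6, 8, 11, 4, 6, 8, 11, 4, 6, 8, 4, 6, 4, 0, 6, 8, 10, 6, 8, 11, 20]⟩)
  (.leaf ⟨6, 6, true, [0, 18, 8, 18, 8, 19, 14, 6], [18, 8, 18, 8, 18, 18, 4, 6, 4, 6, 8, 11, 6, 8, 10, 4, 6, 8, 4, 6, 4, 8, 10, 12, 6, 8, 10, 22]⟩))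
  (.node (nat_lit 2383) (.leaf ⟨6, 6, true, [12, 6, 8, 0, 19, 8, 19, 8, 16], [6, 8, 18, 10, 8, 19, 19, 2, 11, 11, 8, 10, 4, 6, 8, 4, 6, 4, 8, 10, 10, 6, 8, 11]⟩)
  (.leaf ⟨6, 6, true, [16, 8, 19, 8, 10, 6, 8, 19, 16], [0, 19, 6, 18, 10, 8, 19, 2, 10, 8, 10, 10, 4, 6, 8, 11, 4, 6, 8, 4, 6, 4, 6, 8, 10, 20]⟩)))))
  (.node (nat_lit 2392) (.node (nat_lit 2388) (.node (nat_lit 2386) (.node (nat_lit 2385) (.leaf ⟨6, 6, true, [15, 8, 19, 6, 8, 18, 10], [19, 8, 15, 19, 8, 19, 2, 8, 10, 6, 8, 11, 4, 6, 8, 10, 4, 6, 8, 4, 6, 4, 11, 12, 6, 8, 11, 6, 24]⟩)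
  (.leaf ⟨6, 4, true, [12, 19, 13, 8, 6, 18, 8, 19, 6, 2], [18, 8, 2, 19, 8, 19, 2, 11, 6, 8, 10, 6, 4, 6, 8, 11, 4, 6, 8, 4, 6, 4, 8, 11, 6, 8, 10, 13]⟩))
  (.node (nat_lit 2387) (.leaf ⟨4, 6, true, [18, 8, 19, 6, 8, 6, 18, 10], [2, 18, 8, 19, 8, 0, 19, 2, 4, 6, 8, 10, 13, 4, 6, 8, 10, 4, 6, 8, 4, 6, 4, 11, 8, 11, 6]⟩)
  (.leaf ⟨6, 6, true, [15, 19, 6, 8, 19, 6, 2], [13, 6, 18, 8, 19, 8, 19, 2, 8, 11, 6, 8, 11, 4, 6, 8, 11, 4, 6, 8, 4, 6, 4, 6, 8, 11, 6, 8, 10, 24]⟩)))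
  (.node (nat_lit 2390) (.node (nat_lit 2389) (.leaf ⟨6, 6, true, [15, 18, 10, 8, 18, 8, 19, 16], [12, 18, 8, 19, 0, 2, 10, 13, 8, 11, 6, 8, 4, 6, 4, 10, 13, 8, 10, 24]⟩)
  (.leaf ⟨6, 6, true, [0, 2, 18, 8, 0, 18, 12, 8, 18], [18, 11, 8, 19, 8, 19, 2, 12, 4, 6, 8, 10, 4, 6, 8, 10, 4, 6, 8, 4, 6, 4, 6, 8, 11, 12]⟩))
  (.node (nat_lit 2391) (.leaf ⟨6, 6, true, [12, 0, 19, 8, 19, 8, 0, 14, 6], [8, 16, 8, 6, 18, 8, 19, 2, 12, 11, 8, 11, 6, 8, 4, 6, 4, 8, 10, 8, 10, 6, 8, 10, 25]⟩)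
  (.leaf ⟨6, 6, true, [8, 14, 0, 19, 11, 8, 19, 8, 14, 6], [8, 18, 18, 8, 11, 11, 6, 8, 11, 4, 6, 8, 4, 6, 4, 8, 11, 6, 8, 10, 22]⟩))))
  (.node (nat_lit 2396) (.node (nat_lit 2394) (.node (nat_lit 2393) (.leaf ⟨6, 6, true, [15, 18, 8, 0, 19, 8, 14, 6], [8, 19, 6, 8, 0, 18, 18, 11, 4, 6, 8, 4, 6, 4, 12, 8, 11, 6, 8, 10, 6]⟩)
  (.leaf ⟨6, 6, true, [19, 13, 11, 8, 19, 6, 8, 19, 6, 2], [14, 18, 18, 10, 8, 18, 18, 10, 8, 10, 6, 8, 11, 4, 6, 8, 4, 6, 4, 8, 10, 8, 10, 6, 8, 10]⟩))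
  (.node (nat_lit 2395) (.leaf ⟨6, 6, true, [14, 18, 8, 2, 18, 8, 19, 8, 16], [0, 14, 18, 8, 0, 18, 18, 10, 6, 4, 6, 8, 11, 4, 6, 8, 4, 6, 4, 11, 8, 11, 12, 6, 8, 11, 21]⟩)
  (.leaf ⟨6, 6, true, [13, 10, 8, 19, 6, 8, 19, 14, 6], [0, 14, 18, 18, 8, 19, 2, 12, 10, 6, 8, 10, 4, 6, 8, 4, 6, 4, 13, 11, 8, 10, 6, 8, 11, 22]⟩)))
  (.node (nat_lit 2398) (.node (nat_lit 2397) (.leaf ⟨6, 6, true, [12, 15, 8, 19, 6, 8, 19, 6, 2], [12, 0, 18, 8, 0, 18, 18, 10, 8, 10, 4, 6, 8, 10, 4, 6, 8, 4, 6, 4, 0, 11, 11, 13]⟩)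
  (.leaf ⟨6, 6, true, [15, 18, 18, 8, 19, 8, 6, 2], [8, 6, 18, 10, 8, 19, 2, 10, 8, 11, 13, 4, 6, 8, 10, 4, 6, 8, 4, 6, 4, 8, 10, 8, 10, 6, 13]⟩))
  (.node (nat_lit 2399) (.leaf ⟨6, 6, true, [2, 18, 8, 18, 8, 18, 11], [18, 14, 12, 8, 19, 8, 19, 2, 4, 6, 4, 6, 8, 11, 6, 8, 10, 4, 6, 8, 4, 6, 4, 11, 13, 6, 8, 11, 12]⟩)
  (.leaf ⟨6, 6, true, [14, 8, 0, 15, 12, 18, 8, 18], [15, 19, 16, 8, 19, 8, 19, 2, 6, 8, 10, 6, 8, 4, 6, 4, 0, 8, 10, 10, 6, 8, 11, 25]⟩))))))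

noncomputable def f2400 : FT := (.node (nat_lit 2416) (.node (nat_lit 2408) (.node (nat_lit 2404) (.node (nat_lit 2402) (.node (nat_lit 2401) (.leaf ⟨6, 6, true, [12, 8, 19, 8, 16, 8, 19, 19, 15], [6, 8, 18, 8, 0, 18, 18, 4, 6, 8, 11, 6, 4, 6, 8, 10, 4, 6, 8, 4, 6, 4, 12, 10, 8, 10, 6, 24]⟩)
  (.leaf ⟨6, 6, true, [19, 16, 8, 15, 8, 18, 8, 18, 11], [13, 14, 8, 18, 8, 18, 18, 8, 10, 6, 8, 10, 4, 6, 8, 4, 6, 4, 11, 8, 10, 6, 8, 10, 21]⟩))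
  (.node (nat_lit 2403) (.leaf ⟨6, 6, true, [13, 19, 10, 8, 19, 6, 8, 6, 18], [8, 18, 10, 8, 18, 18, 10, 10, 4, 6, 8, 11, 4, 6, 8, 4, 6, 4, 11, 12, 6, 8, 11, 6, 22]⟩)
  (.leaf ⟨6, 6, true, [10, 8, 18, 8, 6, 18, 8, 18, 11], [0, 15, 18, 8, 0, 18, 18, 13, 11, 4, 6, 8, 11, 4, 6, 8, 4, 6, 4, 11, 13, 6, 8, 11, 6, 13]⟩)))
  (.node (nat_lit 2406) (.node (nat_lit 2405) (.leaf ⟨6, 6, true, [0, 19, 6, 8, 18], [8, 19, 6, 8, 19, 19, 2, 11, 6, 8, 11, 4, 6, 8, 10, 4, 6, 8, 4, 6, 4, 10, 10, 6, 12]⟩)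
  (.leaf ⟨6, 6, true, [19, 6, 8, 18, 8, 19, 6, 8, 18, 10], [15, 0, 15, 18, 8, 19, 2, 11, 13, 4, 6, 8, 11, 4, 6, 8, 10, 4, 6, 8, 4, 6, 4, 8, 10, 6, 24]⟩))
  (.node (nat_lit 2407) (.leaf ⟨6, 6, true, [13, 8, 19, 8, 19, 8, 19, 2], [15, 0, 19, 8, 19, 2, 6, 8, 11, 4, 6, 8, 10, 4, 6, 8, 4, 6, 4, 0, 12, 11, 6, 8, 10, 22]⟩)
  (.leaf ⟨6, 6, true, [10, 8, 19, 19, 8, 15, 8, 6], [6, 18, 8, 19, 10, 8, 19, 2, 6, 8, 10, 6, 8, 11, 4, 6, 8, 4, 6, 4, 0, 13, 6, 8, 10, 25]⟩))))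
  (.node (nat_lit 2412) (.node (nat_lit 2410) (.node (nat_lit 2409) (.leaf ⟨6, 6, true, [15, 0, 15, 8, 18, 8, 18, 12, 10], [15, 8, 19, 10, 8, 19, 2, 12, 11, 8, 4, 6, 4, 11, 11, 6, 8, 11, 21]⟩)
  (.leaf ⟨6, 6, true, [10, 13, 8, 16, 8, 19, 6, 2], [18, 8, 18, 18, 12, 6, 8, 11, 4, 6, 8, 4, 6, 4, 0, 12, 10, 8, 10, 6, 8, 10]⟩))
  (.node (nat_lit 2411) (.leaf ⟨6, 6, true, [19, 14, 12, 19, 8, 6, 18, 8, 6], [19, 19, 10, 8, 19, 2, 10, 12, 6, 8, 10, 4, 6, 8, 4, 6, 4, 11, 8, 11, 12, 6, 8, 11, 6]⟩)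
  (.leaf ⟨6, 6, true, [0, 14, 8, 18, 12, 8, 0, 18], [19, 19, 10, 8, 6, 18, 8, 19, 2, 11, 8, 10, 4, 6, 8, 4, 6, 4, 0, 10, 12, 8, 11, 12]⟩)))
  (.node (nat_lit 2414) (.node (nat_lit 2413) (.leaf ⟨3, 6, true, [8, 18, 2, 18, 8, 19, 8, 16], [6, 8, 18, 14, 10, 8, 18, 18, 6, 8, 10, 6, 8, 11, 4, 6, 8, 11, 4, 6, 8, 4, 6, 4, 11, 8, 10, 22]⟩)
  (.leaf ⟨6, 3, true, [18, 18, 12, 10, 8, 6, 18, 8, 6], [12, 15, 8, 19, 8, 19, 2, 11, 12, 8, 10, 6, 8, 11, 4, 6, 8, 4, 6, 4, 12, 11, 6, 23]⟩))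
  (.node (nat_lit 2415) (.leaf ⟨6, 6, true, [11, 8, 0, 19, 12, 19, 8, 16], [6, 8, 0, 19, 8, 19, 2, 8, 11, 4, 6, 8, 10, 4, 6, 8, 4, 6, 4, 13, 10, 8, 10, 12]⟩)
  (.leaf ⟨6, 6, true, [18, 12, 8, 18, 8, 19, 6, 2], [8, 0, 18, 8, 18, 18, 6, 8, 10, 6, 8, 11, 4, 6, 8, 10, 4, 6, 8, 4, 6, 4, 11, 11, 8, 11, 20]⟩)))))
  (.node (nat_lit 2424) (.node (nat_lit 2420) (.node (nat_lit 2418) (.node (nat_lit 2417) (.leaf ⟨6, 6, true, [15, 8, 18, 8, 19, 6, 8, 18, 10], [19, 8, 19, 6, 8, 18, 18, 10, 8, 10, 6, 4, 6, 8, 11, 4, 6, 8, 4, 6, 4, 13, 10, 6, 8, 11, 20]⟩)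
  (.leaf ⟨6, 6, true, [18, 8, 18, 18, 8, 11, 8, 6], [0, 19, 6, 18, 10, 8, 19, 2, 8, 10, 10, 6, 8, 11, 4, 6, 8, 4, 6, 4, 11, 12, 6, 8, 11, 22]⟩))
  (.node (nat_lit 2419) (.leaf ⟨3, 6, true, [18, 8, 18, 8, 19, 0, 14, 6], [6, 18, 12, 18, 8, 18, 18, 6, 8, 11, 8, 11, 4, 6, 8, 10, 4, 6, 8, 4, 6, 4, 10, 8, 11, 6, 8, 11]⟩)
  (.leaf ⟨6, 3, true, [13, 18, 8, 18, 8, 19, 16], [15, 18, 8, 0, 18, 18, 11, 8, 11, 6, 8, 11, 4, 6, 8, 4, 6, 4, 10, 8, 10, 21]⟩)))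
  (.node (nat_lit 2422) (.node (nat_lit 2421) (.leaf ⟨6, 6, true, [19, 16, 8, 15, 18, 8, 19, 19, 15], [6, 18, 8, 2, 18, 18, 11, 8, 11, 6, 8, 11, 4, 6, 8, 4, 6, 4, 0, 13, 8, 10, 6, 8, 11, 12]⟩)
  (.leaf ⟨6, 6, true, [18, 4, 6, 8, 6, 18, 10], [12, 18, 8, 0, 19, 8, 19, 2, 12, 8, 11, 4, 6, 8, 4, 6, 4, 11, 6, 12]⟩))
  (.node (nat_lit 2423) (.leaf ⟨3, 6, true, [18, 8, 0, 18, 8, 18, 8, 18], [19, 10, 8, 19, 0, 2, 10, 8, 11, 6, 8, 11, 4, 6, 8, 4, 6, 4, 13, 11, 6, 8, 11, 23]⟩)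
  (.leaf ⟨6, 3, true, [13, 0, 18, 8, 18, 10, 8, 18], [19, 15, 8, 6, 18, 8, 19, 2, 13, 10, 6, 8, 11, 4, 6, 8, 4, 6, 4, 13, 10, 8, 11, 6, 8, 10, 23]⟩))))
  (.node (nat_lit 2428) (.node (nat_lit 2426) (.node (nat_lit 2425) (.leaf ⟨6, 6, true, [10, 8, 6, 18, 10, 8, 6, 18], [8, 15, 12, 18, 8, 18, 18, 6, 8, 10, 8, 10, 4, 6, 8, 10, 4, 6, 8, 4, 6, 4, 0, 12, 10, 6, 8, 10, 25]⟩)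
  (.leaf ⟨5, 6, true, [8, 0, 15, 12, 18, 8, 19, 14, 6], [0, 2, 12, 6, 8, 10, 4, 6, 8, 4, 6, 4, 0, 10, 13, 8, 10, 13]⟩))
  (.node (nat_lit 2427) (.leaf ⟨6, 5, true, [13, 0, 15, 18, 8, 18, 8, 6, 18], [12, 8, 2, 18, 8, 0, 18, 18, 8, 10, 10, 4, 6, 8, 11, 4, 6, 8, 4, 6, 4, 10, 8, 11, 6, 8, 11, 23]⟩)
  (.leaf ⟨5, 6, true, [8, 15, 12, 18, 8, 19, 14, 6], [19, 19, 19, 8, 19, 2, 10, 10, 6, 8, 4, 6, 4, 0, 6, 8, 11, 8, 11, 13]⟩)))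
  (.node (nat_lit 2430) (.node (nat_lit 2429) (.leaf ⟨6, 5, true, [8, 18, 12, 10, 8, 19, 16], [6, 8, 18, 14, 10, 8, 18, 18, 8, 10, 6, 4, 6, 8, 11, 4, 6, 8, 4, 6, 4, 8, 11, 13, 6, 8, 11, 6, 21]⟩)
  (.leaf ⟨5, 6, true, [12, 0, 15, 8, 18, 12, 18, 8, 6], [15, 18, 8, 18, 18, 11, 6, 8, 11, 4, 6, 8, 11, 4, 6, 8, 4, 6, 4, 11, 6, 8, 10, 6, 25]⟩))
  (.node (nat_lit 2431) (.leaf ⟨6, 5, true, [18, 8, 16, 8, 0, 19, 16], [10, 8, 0, 19, 19, 2, 12, 6, 8, 10, 4, 6, 8, 10, 4, 6, 8, 4, 6, 4, 8, 10, 8, 10, 6, 8, 10, 6, 25]⟩)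
  (.leaf ⟨5, 6, true, [14, 10, 8, 18, 8, 18], [0, 19, 15, 8, 19, 8, 19, 2, 8, 11, 6, 4, 6, 8, 10, 4, 6, 8, 4, 6, 4, 10, 10, 6, 8, 11]⟩))))))

noncomputable def f2432 : FT := (.node (nat_lit 2448) (.node (nat_lit 2440) (.node (nat_lit 2436) (.node (nat_lit 2434) (.node (nat_lit 2433) (.leaf ⟨6, 5, true, [19, 8, 14, 6, 18, 8, 19, 14, 6], [0, 19, 12, 8, 19, 8, 0, 19, 2, 8, 10, 4, 6, 8, 11, 4, 6, 8, 4, 6, 4, 6, 8, 11, 8, 11, 24]⟩)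
  (.leaf ⟨5, 6, true, [13, 0, 15, 18, 8, 19, 6, 2], [12, 11, 8, 0, 19, 8, 19, 2, 10, 10, 8, 4, 6, 4, 0, 12, 11, 8, 11, 24]⟩))
  (.node (nat_lit 2435) (.leaf ⟨6, 5, true, [8, 18, 13, 8, 19, 8, 14, 6], [12, 8, 18, 8, 2, 18, 18, 12, 11, 8, 10, 6, 8, 4, 6, 4, 8, 10, 6, 8, 10, 6, 13]⟩)
  (.leaf ⟨6, 5, true, [11, 8, 19, 19, 2], [0, 2, 18, 8, 0, 18, 18, 4, 6, 8, 11, 6, 4, 6, 8, 10, 4, 6, 8, 4, 6, 4, 8, 11, 6, 8, 10, 6, 24]⟩)))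
  (.node (nat_lit 2438) (.node (nat_lit 2437) (.leaf ⟨5, 6, true, [8, 0, 19, 6, 8, 11, 8, 18], [8, 18, 0, 18, 12, 11, 8, 11, 6, 8, 4, 6, 4, 11, 8, 10, 25]⟩)
  (.leaf ⟨5, 6, true, [0, 15, 18, 8, 6, 18], [15, 8, 19, 0, 2, 13, 10, 8, 11, 4, 6, 8, 10, 4, 6, 8, 4, 6, 4, 12, 10, 8, 10, 6, 8, 10]⟩))
  (.node (nat_lit 2439) (.leaf ⟨6, 5, true, [0, 19, 8, 10, 6, 8, 19, 12, 19, 2], [15, 0, 19, 8, 19, 8, 19, 2, 6, 8, 10, 8, 10, 4, 6, 8, 10, 4, 6, 8, 4, 6, 4, 0, 12, 6, 8, 11]⟩)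
  (.leaf ⟨4, 6, true, [13, 15, 19, 8, 19, 8, 19, 14], [18, 13, 18, 8, 19, 8, 19, 2, 8, 10, 8, 10, 6, 8, 4, 6, 4, 0, 13, 8, 10, 6, 24]⟩))))
  (.node (nat_lit 2444) (.node (nat_lit 2442) (.node (nat_lit 2441) (.leaf ⟨6, 4, true, [12, 8, 18, 8, 18, 8, 18, 10, 10], [10, 10, 8, 18, 0, 18, 11, 6, 8, 10, 4, 6, 8, 11, 4, 6, 8, 4, 6, 4, 8, 10, 8, 10, 6, 23]⟩)
  (.leaf ⟨6, 6, true, [0, 18, 12, 8, 18, 8, 18], [18, 18, 8, 19, 10, 8, 19, 2, 11, 11, 8, 10, 6, 8, 11, 4, 6, 8, 4, 6, 4, 11, 11, 8, 10]⟩))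
  (.node (nat_lit 2443) (.leaf ⟨6, 6, true, [10, 12, 0, 18, 8, 18, 8, 6, 18], [0, 19, 15, 8, 19, 8, 19, 2, 8, 10, 6, 8, 11, 4, 6, 8, 4, 6, 4, 0, 11, 11, 6, 8, 11, 21]⟩)
  (.leaf ⟨6, 6, true, [8, 11, 8, 18, 8, 19, 12, 16], [18, 8, 2, 19, 8, 19, 2, 10, 8, 11, 6, 4, 6, 8, 11, 4, 6, 8, 4, 6, 4, 13, 8, 11, 6, 8, 10, 24]⟩)))
  (.node (nat_lit 2446) (.node (nat_lit 2445) (.leaf ⟨6, 6, true, [10, 12, 18, 8, 18, 8, 6, 18], [8, 14, 4, 6, 8, 18, 18, 13, 4, 6, 8, 10, 4, 6, 8, 11, 4, 6, 8, 4, 6, 4, 10, 6, 8, 10, 6, 24]⟩)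
  (.leaf ⟨3, 6, true, [8, 2, 18, 8, 19, 8, 6, 2], [12, 2, 18, 8, 0, 18, 18, 12, 4, 6, 8, 11, 4, 6, 8, 10, 4, 6, 8, 4, 6, 4, 0, 10, 13, 8, 11, 20]⟩))
  (.node (nat_lit 2447) (.leaf ⟨6, 3, true, [14, 6, 8, 18, 12, 8, 18], [0, 15, 18, 8, 18, 18, 13, 10, 4, 6, 8, 11, 4, 6, 8, 4, 6, 4, 8, 11, 8, 11, 6, 8, 11, 21]⟩)
  (.leaf ⟨6, 6, true, [14, 6, 18, 8, 19, 10, 8, 19, 2], [8, 15, 19, 8, 19, 2, 8, 10, 6, 8, 11, 4, 6, 8, 4, 6, 4, 6, 8, 10, 6, 25]⟩)))))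
  (.node (nat_lit 2456) (.node (nat_lit 2452) (.node (nat_lit 2450) (.node (nat_lit 2449) (.leaf ⟨6, 6, true, [19, 8, 14, 6, 8, 19, 12, 19, 2], [11, 8, 0, 19, 8, 19, 2, 4, 6, 8, 11, 6, 4, 6, 8, 11, 4, 6, 8, 4, 6, 4, 13, 11, 8, 10, 6, 8, 11]⟩)
  (.leaf ⟨6, 6, true, [12, 19, 8, 19, 8, 19, 2], [0, 18, 18, 14, 8, 18, 18, 12, 8, 10, 6, 8, 4, 6, 4, 10, 10, 6]⟩))
  (.node (nat_lit 2451) (.leaf ⟨6, 6, true, [19, 0, 16, 8, 6, 18, 8, 6], [8, 14, 6, 8, 18, 18, 6, 8, 10, 8, 10, 4, 6, 8, 10, 4, 6, 8, 4, 6, 4, 0, 11, 11, 6]⟩)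
  (.leaf ⟨3, 6, true, [15, 8, 19, 19, 16, 8, 6, 18], [18, 0, 18, 12, 8, 11, 4, 6, 8, 4, 6, 4, 13, 10, 8, 11, 6, 8, 11, 12]⟩)))
  (.node (nat_lit 2454) (.node (nat_lit 2453) (.leaf ⟨6, 3, true, [13, 18, 8, 0, 18], [18, 18, 18, 11, 11, 8, 11, 6, 8, 11, 4, 6, 8, 4, 6, 4, 8, 11, 8, 11, 6]⟩)
  (.leaf ⟨6, 6, true, [8, 18, 8, 0, 19, 6, 8, 19, 16], [12, 6, 18, 8, 19, 8, 19, 2, 4, 6, 4, 6, 8, 11, 6, 8, 10, 4, 6, 8, 4, 6, 4, 6, 8, 11, 6, 8, 10, 25]⟩))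
  (.node (nat_lit 2455) (.leaf ⟨6, 6, true, [12, 8, 2, 18, 8, 18, 8, 18, 12, 10], [12, 8, 18, 8, 2, 18, 18, 10, 6, 8, 10, 4, 6, 8, 4, 6, 4, 0, 10, 6, 8, 11, 6, 8, 10, 20]⟩)
  (.leaf ⟨6, 6, true, [19, 12, 19, 8, 19, 8, 19, 8, 16, 10], [18, 18, 18, 8, 18, 18, 8, 10, 8, 10, 6, 8, 4, 6, 4, 0, 21]⟩))))
  (.node (nat_lit 2460) (.node (nat_lit 2458) (.node (nat_lit 2457) (.leaf ⟨6, 6, true, [19, 19, 6, 8, 19, 8, 19, 14], [8, 16, 8, 0, 19, 8, 0, 19, 2, 11, 8, 11, 4, 6, 8, 4, 6, 4, 0, 12, 11, 6, 8, 10, 12]⟩)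
  (.leaf ⟨6, 6, true, [10, 8, 0, 19, 8, 19, 10, 8, 16], [8, 6, 18, 18, 18, 8, 19, 2, 10, 6, 8, 10, 4, 6, 8, 11, 4, 6, 8, 4, 6, 4, 10, 13, 6, 8, 10, 20]⟩))
  (.node (nat_lit 2459) (.leaf ⟨6, 6, true, [15, 8, 18, 18, 8, 19, 8, 16], [18, 0, 14, 8, 18, 18, 12, 11, 8, 6, 4, 0, 8, 10, 12, 6, 8, 10, 20]⟩)
  (.leaf ⟨6, 6, true, [6, 18, 18, 8, 18, 8, 18, 12, 10], [13, 10, 8, 19, 8, 19, 2, 10, 4, 6, 8, 4, 6, 4, 11, 13, 6, 8, 11, 20]⟩)))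
  (.node (nat_lit 2462) (.node (nat_lit 2461) (.leaf ⟨6, 6, true, [11, 12, 8, 19, 8, 16, 8, 19, 16], [8, 18, 14, 10, 8, 18, 18, 12, 8, 11, 4, 6, 8, 4, 6, 4, 0, 8, 11, 6, 8, 10, 20]⟩)
  (.leaf ⟨6, 6, true, [12, 10, 8, 18, 4, 14, 8, 6], [15, 0, 15, 8, 18, 18, 13, 8, 11, 4, 6, 8, 4, 6, 4, 10, 8, 11, 6, 8, 11]⟩))
  (.node (nat_lit 2463) (.leaf ⟨6, 6, true, [14, 8, 19, 8, 0, 19, 8, 16, 10], [13, 14, 8, 0, 18, 8, 18, 18, 11, 6, 8, 10, 4, 6, 8, 4, 6, 4, 13, 8, 10, 6, 20]⟩)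
  (.leaf ⟨6, 6, true, [11, 8, 19, 6, 8, 19, 6, 2], [12, 8, 0, 19, 8, 19, 2, 8, 10, 10, 4, 6, 8, 10, 4, 6, 8, 4, 6, 4, 10, 10, 6, 22]⟩))))))

noncomputable def f2464 : FT := (.node (nat_lit 2480) (.node (nat_lit 2472) (.node (nat_lit 2468) (.node (nat_lit 2466) (.node (nat_lit 2465) (.leaf ⟨6, 6, true, [12, 6, 18, 8, 18, 8, 6, 18], [8, 0, 19, 19, 2, 13, 6, 8, 11, 4, 6, 8, 10, 4, 6, 8, 4, 6, 4, 12, 10, 6, 8, 10, 20]⟩)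
  (.leaf ⟨3, 6, true, [12, 19, 6, 8, 19, 19, 2], [19, 13, 10, 8, 19, 8, 19, 2, 8, 11, 6, 8, 10, 4, 6, 8, 4, 6, 4, 6, 8, 10, 8, 10, 6, 24]⟩))
  (.node (nat_lit 2467) (.leaf ⟨6, 3, true, [8, 19, 6, 8, 19, 8, 19, 14], [15, 18, 8, 2, 18, 18, 10, 10, 6, 8, 11, 4, 6, 8, 10, 4, 6, 8, 4, 6, 4, 0, 6, 8, 11, 6, 8, 10, 6, 20]⟩)
  (.leaf ⟨6, 6, true, [18, 8, 19, 14], [0, 19, 10, 8, 19, 0, 2, 4, 6, 4, 6, 8, 10, 6, 8, 11, 4, 6, 8, 4, 6, 4, 8, 11, 6, 8, 10, 6, 13]⟩)))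
  (.node (nat_lit 2470) (.node (nat_lit 2469) (.leaf ⟨6, 6, true, [14, 13, 0, 14, 8, 18, 8, 18, 11], [19, 6, 18, 8, 19, 8, 19, 2, 13, 8, 10, 4, 6, 8, 4, 6, 4, 0, 12, 10, 6, 8, 11, 25]⟩)
  (.leaf ⟨6, 6, true, [10, 8, 0, 18, 13, 18, 8, 18], [19, 12, 19, 8, 19, 8, 19, 2, 10, 8, 11, 6, 8, 11, 4, 6, 8, 4, 6, 4, 0, 12, 11, 8, 10, 6, 8, 10, 25]⟩))
  (.node (nat_lit 2471) (.leaf ⟨6, 6, true, [13, 18, 14, 8, 18, 8, 19, 19, 2], [19, 10, 8, 19, 8, 19, 2, 8, 11, 6, 8, 10, 4, 6, 8, 4, 6, 4, 0, 11, 8, 10, 6, 8, 11]⟩)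
  (.leaf ⟨6, 6, true, [16, 8, 11, 8, 19, 8, 16], [10, 6, 8, 19, 8, 19, 2, 8, 11, 12, 4, 6, 8, 11, 4, 6, 8, 4, 6, 4, 11, 11, 8, 11, 13]⟩))))
  (.node (nat_lit 2476) (.node (nat_lit 2474) (.node (nat_lit 2473) (.leaf ⟨6, 6, true, [14, 13, 8, 18, 8, 0, 18], [13, 16, 8, 19, 8, 19, 2, 12, 11, 8, 4, 6, 4, 10, 8, 11, 6, 8, 11, 23]⟩)
  (.leaf ⟨6, 6, true, [19, 12, 19, 8, 0, 19, 8, 6, 2], [18, 8, 6, 18, 8, 19, 0, 2, 10, 10, 6, 8, 4, 6, 4, 12, 11, 8, 10, 6, 8, 10, 23]⟩))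
  (.node (nat_lit 2475) (.leaf ⟨6, 6, true, [8, 18, 18, 18, 8, 19, 16], [12, 19, 8, 14, 6, 8, 18, 18, 11, 8, 11, 6, 8, 10, 4, 6, 8, 4, 6, 4, 0, 10, 12, 8, 11, 21]⟩)
  (.leaf ⟨6, 6, true, [19, 12, 8, 19, 8, 19, 2], [14, 12, 8, 19, 8, 19, 2, 8, 10, 6, 8, 10, 4, 6, 8, 11, 4, 6, 8, 4, 6, 4, 10, 8, 10, 10, 6, 8, 11, 13]⟩)))
  (.node (nat_lit 2478) (.node (nat_lit 2477) (.leaf ⟨6, 6, true, [18, 14, 12, 8, 18, 8, 19, 6, 2], [12, 8, 18, 8, 18, 18, 4, 11, 8, 11, 12, 6, 8, 11, 6, 25]⟩)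
  (.leaf ⟨6, 6, true, [14, 6, 18, 8, 19, 14, 8, 6], [16, 8, 19, 8, 19, 8, 19, 2, 8, 10, 6, 8, 11, 4, 6, 8, 4, 6, 4, 11, 8, 10, 6, 8, 11, 6]⟩))
  (.node (nat_lit 2479) (.leaf ⟨6, 6, true, [15, 18, 8, 18, 8, 18, 10, 8, 6], [13, 19, 8, 16, 8, 19, 19, 2, 6, 8, 10, 4, 6, 8, 4, 6, 4, 13, 11, 8, 11, 24]⟩)
  (.leaf ⟨6, 6, true, [18, 10, 8, 0, 19, 8, 19, 8, 16], [19, 12, 10, 8, 19, 2, 10, 8, 10, 6, 8, 11, 4, 6, 8, 4, 6, 4, 10, 8, 10, 6, 8, 10, 24]⟩)))))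
  (.node (nat_lit 2488) (.node (nat_lit 2484) (.node (nat_lit 2482) (.node (nat_lit 2481) (.leaf ⟨6, 6, true, [10, 12, 8, 6, 18, 8, 19, 6, 2], [18, 8, 19, 10, 8, 19, 2, 12, 10, 6, 8, 10, 4, 6, 8, 10, 4, 6, 8, 4, 6, 4, 12, 8, 11, 24]⟩)
  (.leaf ⟨6, 6, true, [15, 18, 8, 19, 8, 19, 8, 16, 10], [12, 10, 8, 19, 2, 10, 12, 6, 8, 10, 4, 6, 8, 4, 6, 4, 11, 11, 6, 8, 11]⟩))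
  (.node (nat_lit 2483) (.leaf ⟨6, 6, true, [15, 12, 0, 19, 8, 19, 8, 6, 2], [0, 19, 15, 8, 19, 8, 19, 2, 8, 11, 4, 6, 8, 11, 4, 6, 8, 4, 6, 4, 0, 8, 10, 8, 10, 6, 8, 10, 6]⟩)
  (.leaf ⟨6, 6, true, [8, 11, 8, 19, 6, 8, 6, 18, 10], [0, 18, 18, 13, 10, 4, 6, 8, 11, 4, 6, 8, 4, 6, 4, 12, 11, 6, 8, 10, 6, 22]⟩)))
  (.node (nat_lit 2486) (.node (nat_lit 2485) (.leaf ⟨6, 6, true, [14, 18, 18, 8, 18, 8, 19, 19, 2], [8, 19, 8, 19, 6, 8, 18, 18, 12, 4, 6, 8, 11, 4, 6, 8, 4, 6, 4, 13, 10, 8, 11, 6, 8, 10, 6, 25]⟩)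
  (.leaf ⟨6, 6, true, [19, 19, 13, 8, 19, 8, 19, 8, 16, 10], [10, 10, 8, 18, 18, 10, 12, 8, 11, 4, 6, 8, 4, 6, 4, 8, 10, 8, 10, 6, 8, 10, 6, 21]⟩))
  (.node (nat_lit 2487) (.leaf ⟨6, 6, true, [16, 14, 8, 19, 19, 14, 8, 6], [13, 18, 8, 0, 19, 8, 19, 2, 6, 4, 6, 8, 11, 6, 8, 10, 4, 6, 8, 4, 6, 4, 11, 13, 6, 8, 10, 25]⟩)
  (.leaf ⟨6, 6, true, [11, 8, 19, 14, 8, 6], [19, 10, 8, 6, 18, 8, 19, 2, 10, 4, 6, 8, 4, 6, 4, 12, 11, 8, 10, 12]⟩))))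
  (.node (nat_lit 2492) (.node (nat_lit 2490) (.node (nat_lit 2489) (.leaf ⟨6, 6, true, [19, 15, 19, 8, 19, 8, 16, 10], [19, 14, 8, 18, 8, 18, 18, 11, 6, 8, 4, 6, 4, 10, 13, 8, 11, 6, 8, 10]⟩)
  (.leaf ⟨6, 6, true, [15, 18, 8, 2, 18, 8, 6, 18], [0, 15, 18, 14, 8, 18, 18, 10, 13, 6, 8, 10, 4, 6, 8, 11, 4, 6, 8, 4, 6, 4, 10, 10, 8, 11, 23]⟩))
  (.node (nat_lit 2491) (.leaf ⟨6, 6, true, [6, 18, 13, 8, 18, 8, 19, 6, 2], [18, 10, 8, 19, 19, 2, 11, 4, 6, 8, 4, 6, 4, 8, 11, 8, 11, 6, 8, 10, 20]⟩)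
  (.leaf ⟨6, 6, true, [16, 10, 8, 6, 18, 8, 6], [13, 19, 8, 0, 19, 8, 0, 19, 2, 4, 6, 8, 11, 12, 4, 6, 8, 11, 4, 6, 8, 4, 6, 4, 11, 11, 6, 24]⟩)))
  (.node (nat_lit 2494) (.node (nat_lit 2493) (.leaf ⟨6, 6, true, [0, 18, 18, 12, 10, 8, 19, 16], [12, 11, 8, 19, 19, 2, 10, 6, 8, 4, 6, 4, 6, 8, 10, 24]⟩)
  (.leaf ⟨6, 6, true, [14, 8, 18, 18, 8, 6], [8, 14, 0, 19, 11, 8, 19, 2, 11, 8, 11, 12, 6, 8, 11, 4, 6, 8, 4, 6, 4, 0, 8, 11, 6, 13]⟩))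
  (.node (nat_lit 2495) (.leaf ⟨6, 6, true, [19, 8, 6, 18, 12, 8, 6, 18], [15, 8, 19, 10, 8, 19, 2, 13, 8, 10, 6, 8, 4, 6, 4, 0, 13, 11, 8, 10, 6, 8, 11, 21]⟩)
  (.leaf ⟨3, 6, true, [18, 8, 18, 8, 19, 8, 19, 2], [10, 10, 8, 18, 18, 10, 8, 4, 6, 4, 0, 8, 10, 8, 10, 6, 8, 10, 6, 21]⟩))))))

noncomputable def f2496 : FT := (.node (nat_lit 2512) (.node (nat_lit 2504) (.node (nat_lit 2500) (.node (nat_lit 2498) (.node (nat_lit 2497) (.leaf ⟨6, 3, true, [0, 2, 18, 8, 19, 6, 8, 18], [14, 18, 8, 18, 18, 12, 11, 6, 8, 10, 4, 6, 8, 10, 4, 6, 8, 4, 6, 4, 6, 8, 10, 6, 8, 11, 24]⟩)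
  (.leaf ⟨6, 6, true, [19, 8, 15, 8, 19, 6, 8, 19, 6, 2], [0, 19, 10, 8, 19, 2, 8, 11, 4, 6, 8, 11, 4, 6, 8, 4, 6, 4, 12, 8, 10]⟩))
  (.node (nat_lit 2499) (.leaf ⟨6, 6, true, [14, 8, 18, 12, 18, 8, 19, 14, 6], [19, 19, 8, 19, 2, 8, 10, 6, 8, 4, 6, 4, 0, 10, 8, 11, 6, 8, 11, 24]⟩)
  (.leaf ⟨6, 6, true, [15, 13, 19, 6, 8, 19, 8, 16], [8, 18, 14, 18, 18, 8, 18, 18, 10, 4, 6, 8, 4, 6, 4, 11, 11, 8, 10, 6, 8, 11, 13]⟩)))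
  (.node (nat_lit 2502) (.node (nat_lit 2501) (.leaf ⟨6, 6, true, [18, 12, 18, 8, 19, 19, 14, 8, 6], [11, 8, 19, 10, 8, 19, 2, 13, 11, 6, 8, 10, 4, 6, 8, 4, 6, 4, 13, 8, 10, 6, 8, 11, 21]⟩)
  (.leaf ⟨6, 6, true, [18, 11, 8, 19, 19, 15, 8, 10, 6], [11, 11, 8, 19, 8, 0, 19, 2, 11, 8, 10, 6, 8, 10, 4, 6, 8, 4, 6, 4, 0, 11, 11, 8, 10, 6, 8, 11, 23]⟩))
  (.node (nat_lit 2503) (.leaf ⟨6, 6, true, [8, 19, 6, 8, 18, 10, 10], [8, 2, 0, 18, 8, 18, 18, 12, 8, 10, 4, 6, 8, 4, 6, 4, 0, 12, 8, 11, 6, 21]⟩)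
  (.leaf ⟨6, 6, true, [18, 8, 15, 19, 8, 19, 8, 6, 2], [13, 16, 8, 19, 6, 18, 8, 19, 2, 10, 10, 6, 8, 11, 4, 6, 8, 10, 4, 6, 8, 4, 6, 4, 8, 10, 8, 10, 24]⟩))))
  (.node (nat_lit 2508) (.node (nat_lit 2506) (.node (nat_lit 2505) (.leaf ⟨6, 6, true, [8, 2, 18, 8, 15, 18, 8, 18, 11], [12, 15, 8, 19, 8, 19, 2, 13, 11, 6, 8, 10, 4, 6, 8, 4, 6, 4, 11, 6, 8, 11, 12]⟩)
  (.leaf ⟨6, 6, true, [10, 8, 18, 8, 18, 12, 8, 6, 18], [8, 16, 8, 0, 19, 8, 0, 19, 2, 11, 6, 8, 10, 4, 6, 8, 11, 4, 6, 8, 4, 6, 4, 13, 11, 6, 8, 10, 22]⟩))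
  (.node (nat_lit 2507) (.leaf ⟨6, 6, true, [8, 14, 4, 6, 8, 6, 18], [18, 8, 6, 18, 8, 19, 0, 2, 13, 8, 10, 6, 8, 11, 4, 6, 8, 4, 6, 4, 13, 6, 8, 11, 22]⟩)
  (.leaf ⟨6, 6, true, [11, 8, 18, 4, 14, 8, 6], [19, 6, 8, 19, 19, 2, 13, 10, 8, 10, 6, 8, 10, 4, 6, 8, 4, 6, 4, 6, 8, 11, 6, 8, 10, 23]⟩)))
  (.node (nat_lit 2510) (.node (nat_lit 2509) (.leaf ⟨6, 6, true, [15, 19, 19, 12, 19, 8, 19, 8, 6, 2], [15, 8, 19, 8, 0, 19, 2, 8, 6, 4, 13, 8, 10]⟩)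
  (.leaf ⟨6, 6, true, [19, 19, 16, 13, 8, 19, 8, 16], [18, 10, 8, 19, 2, 13, 8, 11, 4, 6, 8, 4, 6, 4, 0, 8, 10, 6, 8, 11, 6]⟩))
  (.node (nat_lit 2511) (.leaf ⟨6, 6, true, [12, 8, 2, 18, 8, 15, 18, 18, 8, 6], [14, 8, 19, 19, 2, 10, 8, 10, 6, 8, 11, 4, 6, 8, 4, 6, 4, 10, 8, 11, 22]⟩)
  (.leaf ⟨6, 6, true, [18, 18, 8, 6, 18, 8, 18, 11], [18, 0, 18, 6, 8, 10, 6, 8, 4, 6, 4, 0, 13, 10, 6, 8, 11, 21]⟩)))))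
  (.node (nat_lit 2520) (.node (nat_lit 2516) (.node (nat_lit 2514) (.node (nat_lit 2513) (.leaf ⟨6, 6, true, [11, 8, 11, 8, 19, 8, 19, 2], [0, 19, 11, 8, 19, 2, 6, 8, 11, 8, 11, 4, 6, 8, 11, 4, 6, 8, 4, 6, 4, 6, 8, 11, 8, 11, 6, 23]⟩)
  (.leaf ⟨6, 6, true, [19, 13, 11, 8, 19, 8, 16], [8, 10, 8, 19, 2, 11, 11, 8, 10, 6, 8, 4, 6, 4, 10, 22]⟩))
  (.node (nat_lit 2515) (.leaf ⟨6, 6, true, [19, 19, 13, 8, 16, 8, 19, 6, 2], [8, 18, 8, 2, 18, 18, 8, 11, 8, 11, 6, 8, 4, 6, 4, 11, 8, 11, 12, 6, 8, 11, 6, 21]⟩)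
  (.leaf ⟨6, 6, true, [18, 8, 15, 18, 10, 8, 19, 6, 2], [19, 11, 8, 19, 2, 8, 11, 6, 8, 11, 6, 4, 6, 8, 11, 4, 6, 8, 4, 6, 4, 8, 10, 8, 10, 6, 8, 10, 20]⟩)))
  (.node (nat_lit 2518) (.node (nat_lit 2517) (.leaf ⟨6, 6, true, [6, 8, 15, 8, 18, 8, 18], [19, 8, 6, 18, 8, 19, 2, 11, 6, 8, 11, 6, 4, 6, 8, 11, 4, 6, 8, 4, 6, 4, 8, 11, 6, 8, 11, 6]⟩)
  (.leaf ⟨6, 6, true, [8, 18, 18, 18, 12, 8, 10, 6], [18, 11, 8, 19, 8, 19, 2, 10, 4, 6, 8, 11, 6, 8, 10, 4, 6, 8, 4, 6, 4, 12, 10, 6, 8, 10]⟩))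
  (.node (nat_lit 2519) (.leaf ⟨6, 6, true, [18, 18, 8, 19, 8, 16, 8, 19, 19, 2], [0, 19, 12, 8, 19, 8, 0, 19, 2, 13, 8, 10, 6, 8, 11, 4, 6, 8, 4, 6, 4, 11, 8, 10, 6, 20]⟩)
  (.leaf ⟨6, 6, true, [8, 0, 19, 6, 8, 19, 19, 2], [6, 18, 8, 18, 18, 11, 8, 10, 6, 8, 10, 4, 6, 8, 4, 6, 4, 0, 8, 11, 8, 11, 22]⟩))))
  (.node (nat_lit 2524) (.node (nat_lit 2522) (.node (nat_lit 2521) (.leaf ⟨6, 6, true, [18, 8, 16, 8, 19, 8, 19, 14], [10, 8, 0, 18, 10, 8, 18, 18, 11, 6, 8, 10, 13, 4, 6, 8, 10, 4, 6, 8, 4, 6, 4, 13, 6, 8, 10, 6]⟩)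
  (.leaf ⟨6, 6, true, [19, 19, 8, 16, 8, 19, 12, 19, 2], [13, 16, 8, 19, 6, 18, 8, 19, 2, 10, 4, 6, 8, 11, 6, 8, 10, 4, 6, 8, 4, 6, 4, 0, 12, 8, 10, 6, 8, 10, 20]⟩))
  (.node (nat_lit 2523) (.leaf ⟨6, 6, true, [8, 19, 6, 8, 19, 19, 14], [0, 14, 6, 18, 8, 0, 18, 18, 4, 6, 8, 11, 4, 6, 8, 10, 4, 6, 8, 4, 6, 4, 11, 11, 8, 11, 6, 8, 11, 23]⟩)
  (.leaf ⟨6, 6, true, [6, 8, 18, 8, 18], [0, 19, 19, 2, 10, 8, 10, 6, 8, 4, 6, 4, 11, 8, 10, 6, 8, 10, 13]⟩)))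
  (.node (nat_lit 2526) (.node (nat_lit 2525) (.leaf ⟨6, 6, true, [14, 12, 4, 6, 8, 18, 8, 18], [8, 6, 18, 8, 19, 2, 10, 10, 6, 8, 10, 4, 6, 8, 4, 6, 4, 11, 6, 21]⟩)
  (.leaf ⟨6, 6, true, [12, 10, 8, 6, 18, 8, 6], [15, 8, 0, 19, 8, 19, 2, 8, 11, 6, 4, 6, 8, 10, 4, 6, 8, 4, 6, 4, 13, 8, 10, 6, 8, 11, 22]⟩))
  (.node (nat_lit 2527) (.leaf ⟨6, 6, true, [8, 15, 0, 18, 12, 18, 8, 6, 18], [8, 0, 18, 8, 18, 18, 13, 10, 6, 8, 11, 4, 6, 8, 4, 6, 4, 10, 13, 8, 11, 23]⟩)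
  (.leaf ⟨6, 6, true, [8, 6, 18, 8, 19, 8, 16], [18, 12, 14, 8, 18, 18, 10, 10, 8, 4, 6, 4, 0, 12, 10, 6, 23]⟩))))))

noncomputable def f2528 : FT := (.node (nat_lit 2544) (.node (nat_lit 2536) (.node (nat_lit 2532) (.node (nat_lit 2530) (.node (nat_lit 2529) (.leaf ⟨6, 6, true, [18, 18, 8, 15, 8, 18, 8, 18, 11], [12, 8, 16, 8, 19, 19, 2, 12, 4, 6, 8, 10, 4, 6, 8, 4, 6, 4, 8, 11, 8, 11, 6, 24]⟩)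
  (.leaf ⟨6, 6, true, [6, 8, 0, 19, 6, 8, 6, 18], [6, 18, 18, 8, 18, 18, 10, 8, 11, 13, 6, 8, 10, 4, 6, 8, 4, 6, 4, 11, 13, 8, 10, 6, 8, 11, 12]⟩))
  (.node (nat_lit 2531) (.leaf ⟨6, 6, true, [19, 11, 8, 19, 8, 16, 10], [4, 6, 8, 18, 18, 4, 6, 8, 10, 6, 4, 6, 8, 11, 4, 6, 8, 4, 6, 4, 8, 10, 10, 6, 8, 11, 24]⟩)
  (.leaf ⟨6, 6, true, [8, 16, 8, 19, 13, 19, 8, 16], [19, 0, 19, 11, 8, 19, 2, 10, 6, 8, 10, 4, 6, 8, 10, 4, 6, 8, 4, 6, 4, 11, 6, 8, 10, 6, 23]⟩)))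
  (.node (nat_lit 2534) (.node (nat_lit 2533) (.leaf ⟨6, 6, true, [15, 18, 8, 0, 18, 8, 18, 11], [12, 11, 8, 19, 2, 12, 8, 10, 4, 6, 8, 4, 6, 4, 11, 12, 6, 8, 11, 20]⟩)
  (.leaf ⟨6, 6, true, [19, 14, 12, 6, 8, 19, 8, 19, 2], [12, 19, 8, 19, 8, 0, 19, 2, 8, 11, 6, 8, 11, 6, 4, 6, 8, 11, 4, 6, 8, 4, 6, 4, 6, 8, 10, 6, 8, 11, 20]⟩))
  (.node (nat_lit 2535) (.leaf ⟨6, 6, true, [15, 8, 19, 8, 0, 19, 8, 6, 2], [13, 10, 8, 18, 8, 18, 18, 12, 10, 8, 10, 6, 8, 4, 6, 4, 13, 6, 8, 10, 25]⟩)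
  (.leaf ⟨6, 6, true, [19, 10, 10, 6, 8, 18, 8, 18, 10], [6, 18, 18, 8, 19, 10, 8, 19, 2, 11, 4, 6, 8, 11, 4, 6, 8, 4, 6, 4, 0, 10, 12, 8, 11, 6, 13]⟩))))
  (.node (nat_lit 2540) (.node (nat_lit 2538) (.node (nat_lit 2537) (.leaf ⟨6, 6, true, [14, 12, 6, 8, 19, 8, 19, 2], [19, 12, 16, 8, 19, 8, 19, 2, 8, 11, 4, 6, 8, 4, 6, 4, 12, 6, 8, 11, 6, 24]⟩)
  (.leaf ⟨6, 6, true, [18, 12, 14, 8, 18, 8, 18, 10], [8, 6, 18, 8, 19, 2, 10, 10, 4, 6, 8, 4, 6, 4, 0, 8, 10, 12, 6, 8, 10, 13]⟩))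
  (.node (nat_lit 2539) (.leaf ⟨6, 6, true, [12, 18, 8, 19, 8, 6, 2], [12, 19, 8, 19, 0, 2, 6, 8, 10, 4, 6, 8, 4, 6, 4, 8, 11, 6, 23]⟩)
  (.leaf ⟨6, 6, true, [12, 19, 8, 19, 2], [8, 19, 2, 12, 8, 11, 6, 8, 10, 4, 6, 8, 4, 6, 4, 0, 10, 6, 8, 11, 6, 8, 10, 6, 23]⟩)))
  (.node (nat_lit 2542) (.node (nat_lit 2541) (.leaf ⟨6, 6, true, [13, 19, 8, 19, 8, 16], [6, 18, 18, 8, 19, 10, 8, 19, 2, 10, 8, 10, 6, 8, 4, 6, 4, 0, 10, 8, 11, 12]⟩)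
  (.leaf ⟨6, 6, true, [15, 8, 19, 6, 8, 18], [6, 8, 0, 19, 8, 0, 19, 2, 10, 4, 6, 8, 11, 4, 6, 8, 11, 4, 6, 8, 4, 6, 4, 0, 6, 22]⟩))
  (.node (nat_lit 2543) (.leaf ⟨6, 6, true, [0, 15, 18, 8, 18, 8, 19, 19, 2], [0, 15, 12, 18, 8, 0, 18, 18, 6, 8, 11, 13, 4, 6, 8, 11, 4, 6, 8, 4, 6, 4, 0, 10, 6, 8, 11, 6, 12]⟩)
  (.leaf ⟨6, 6, true, [14, 8, 19, 8, 16, 8, 19, 12, 16], [19, 16, 8, 15, 19, 8, 19, 2, 6, 8, 10, 6, 4, 6, 8, 11, 4, 6, 8, 4, 6, 4, 13, 10, 6, 8, 11, 23]⟩)))))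
  (.node (nat_lit 2552) (.node (nat_lit 2548) (.node (nat_lit 2546) (.node (nat_lit 2545) (.leaf ⟨6, 6, true, [8, 18, 8, 18, 8, 19, 14, 6], [8, 0, 19, 8, 19, 0, 2, 13, 11, 8, 11, 4, 6, 8, 4, 6, 4, 8, 11, 8, 11, 6, 8, 10, 22]⟩)
  (.leaf ⟨6, 6, true, [19, 19, 0, 19, 8, 19, 10, 8, 16], [16, 8, 14, 18, 18, 8, 19, 2, 11, 11, 8, 10, 4, 6, 8, 4, 6, 4, 8, 10, 8, 10, 23]⟩))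
  (.node (nat_lit 2547) (.leaf ⟨6, 6, true, [15, 8, 6, 18, 8, 19, 8, 16], [8, 18, 8, 19, 0, 2, 4, 6, 8, 11, 4, 6, 8, 11, 4, 6, 8, 4, 6, 4, 0, 23]⟩)
  (.leaf ⟨6, 6, true, [19, 11, 8, 19, 6, 8, 6, 18], [18, 18, 10, 8, 18, 18, 4, 0, 13, 11, 8, 11, 12]⟩)))
  (.node (nat_lit 2550) (.node (nat_lit 2549) (.leaf ⟨6, 6, true, [0, 18, 18, 8, 18, 12, 8, 6, 18], [12, 0, 2, 18, 8, 0, 18, 18, 8, 6, 4, 0, 11, 6, 21]⟩)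
  (.leaf ⟨6, 6, true, [11, 8, 18, 8, 0, 18, 8, 18, 11], [19, 2, 11, 8, 11, 6, 8, 4, 6, 4, 0, 10, 8, 11, 12]⟩))
  (.node (nat_lit 2551) (.leaf ⟨6, 6, true, [8, 14, 18, 18, 8, 19, 10, 8, 16], [19, 19, 8, 19, 2, 11, 6, 8, 11, 4, 6, 8, 4, 6, 4, 8, 11, 13, 6, 8, 11, 6, 23]⟩)
  (.leaf ⟨6, 6, true, [19, 19, 11, 8, 19, 8, 6, 2], [12, 2, 18, 8, 19, 8, 19, 2, 11, 6, 8, 10, 10, 4, 6, 8, 11, 4, 6, 8, 4, 6, 4, 12, 11, 8, 10, 6, 8, 10, 24]⟩))))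
  (.node (nat_lit 2556) (.node (nat_lit 2554) (.node (nat_lit 2553) (.leaf ⟨6, 6, true, [19, 11, 8, 16, 8, 19, 16], [12, 8, 0, 18, 8, 18, 18, 11, 4, 6, 8, 10, 4, 6, 8, 4, 6, 4, 12, 8, 10, 6, 8, 11, 23]⟩)
  (.leaf ⟨6, 6, true, [14, 12, 18, 8, 19, 19, 10, 8, 16], [18, 14, 8, 19, 19, 2, 13, 11, 8, 10, 6, 8, 11, 4, 6, 8, 4, 6, 4, 8, 11, 8, 11, 6, 8, 11, 13]⟩))
  (.node (nat_lit 2555) (.leaf ⟨6, 6, true, [12, 15, 8, 19, 8, 19, 14, 8, 6], [15, 19, 19, 19, 8, 19, 2, 10, 6, 8, 10, 4, 6, 8, 11, 4, 6, 8, 4, 6, 4, 0, 10, 6, 8, 11, 6, 25]⟩)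
  (.leaf ⟨6, 6, true, [18, 18, 18, 10, 10, 8, 6], [10, 6, 8, 19, 19, 2, 10, 8, 11, 4, 6, 8, 11, 4, 6, 8, 4, 6, 4, 0, 8, 11, 12, 6, 8, 11, 24]⟩)))
  (.node (nat_lit 2558) (.node (nat_lit 2557) (.leaf ⟨6, 6, true, [0, 19, 8, 19, 8, 19, 8, 16], [16, 8, 19, 6, 8, 18, 18, 10, 8, 10, 6, 8, 10, 4, 6, 8, 4, 6, 4, 8, 11, 12, 6, 8, 11, 23]⟩)
  (.leaf ⟨6, 6, true, [0, 19, 12, 10, 8, 19, 8, 14, 6], [13, 18, 8, 19, 8, 19, 2, 10, 6, 8, 10, 4, 6, 8, 11, 4, 6, 8, 4, 6, 4, 11, 8, 10, 6, 8, 11, 6, 13]⟩))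
  (.node (nat_lit 2559) (.leaf ⟨6, 6, true, [8, 14, 10, 8, 18, 8, 0, 18], [12, 19, 8, 19, 8, 19, 2, 6, 8, 10, 8, 10, 4, 6, 8, 10, 4, 6, 8, 4, 6, 4, 0, 13, 8, 11, 6]⟩)
  (.leaf ⟨6, 6, true, [8, 15, 18, 8, 2, 18, 8, 18, 10], [12, 16, 8, 6, 18, 8, 19, 2, 12, 8, 11, 4, 6, 8, 10, 4, 6, 8, 4, 6, 4, 10, 8, 11, 6, 8, 11, 25]⟩))))))

noncomputable def f2560 : FT := (.node (nat_lit 2576) (.node (nat_lit 2568) (.node (nat_lit 2564) (.node (nat_lit 2562) (.node (nat_lit 2561) (.leaf ⟨6, 6, true, [19, 13, 6, 8, 15, 18, 8, 18], [11, 8, 0, 19, 10, 8, 19, 2, 10, 10, 4, 6, 8, 4, 6, 4, 0, 11, 8, 11, 12, 6, 8, 11, 6, 12]⟩)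
  (.leaf ⟨5, 6, true, [0, 14, 12, 8, 18, 8, 19, 19, 14], [13, 14, 8, 18, 8, 0, 18, 18, 8, 11, 13, 6, 8, 10, 4, 6, 8, 4, 6, 4, 11, 11, 8, 11]⟩))
  (.node (nat_lit 2563) (.leaf ⟨6, 5, true, [13, 0, 19, 6, 8, 18, 8, 19, 16], [15, 8, 19, 0, 2, 8, 10, 8, 10, 6, 8, 10, 4, 6, 8, 4, 6, 4, 0, 13, 11, 8, 10, 6, 8, 11, 20]⟩)
  (.leaf ⟨6, 6, true, [18, 8, 2, 18, 8, 19, 6, 2], [15, 13, 19, 8, 19, 8, 0, 19, 2, 12, 10, 4, 6, 8, 4, 6, 4, 12, 8, 10, 6, 8, 10, 25]⟩)))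
  (.node (nat_lit 2566) (.node (nat_lit 2565) (.leaf ⟨6, 6, true, [14, 8, 19, 8, 19, 8, 14, 10, 6], [18, 8, 18, 8, 2, 18, 18, 4, 6, 8, 4, 6, 4, 12, 6, 8, 11, 22]⟩)
  (.leaf ⟨6, 6, true, [0, 19, 6, 8, 0, 19, 8, 14, 6], [8, 19, 2, 10, 10, 6, 8, 4, 6, 4, 0, 11, 8, 10, 6, 12]⟩))
  (.node (nat_lit 2567) (.leaf ⟨6, 6, true, [16, 8, 19, 19, 15, 8, 10, 6], [6, 18, 8, 2, 18, 18, 6, 8, 11, 8, 11, 4, 6, 8, 10, 4, 6, 8, 4, 6, 4, 6, 8, 11, 6, 8, 10, 6, 22]⟩)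
  (.leaf ⟨6, 6, true, [18, 8, 6, 18, 8, 6], [15, 18, 12, 8, 19, 8, 19, 2, 8, 6, 4, 0, 10, 13, 8, 11, 6, 20]⟩))))
  (.node (nat_lit 2572) (.node (nat_lit 2570) (.node (nat_lit 2569) (.leaf ⟨6, 6, true, [14, 0, 14, 12, 8, 18, 8, 18, 10], [12, 16, 8, 6, 18, 8, 19, 2, 6, 8, 11, 4, 6, 8, 4, 6, 4, 10, 8, 11, 6, 8, 10]⟩)
  (.leaf ⟨6, 6, true, [13, 18, 8, 16, 8, 19, 16], [15, 19, 16, 8, 19, 8, 19, 2, 12, 4, 6, 8, 11, 4, 6, 8, 4, 6, 4, 12, 8, 10, 22]⟩))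
  (.node (nat_lit 2571) (.leaf ⟨6, 6, true, [14, 18, 18, 8, 18, 4, 14, 8, 6], [12, 11, 8, 19, 2, 11, 13, 4, 6, 8, 10, 4, 6, 8, 4, 6, 4, 11, 13, 6, 8, 11, 13]⟩)
  (.leaf ⟨6, 3, true, [16, 8, 19, 12, 19, 2], [15, 8, 0, 15, 18, 8, 18, 18, 11, 11, 4, 6, 8, 4, 6, 4, 0, 12, 10, 8, 10, 13]⟩)))
  (.node (nat_lit 2574) (.node (nat_lit 2573) (.leaf ⟨3, 6, true, [13, 11, 8, 18, 8, 18, 10], [13, 14, 8, 18, 8, 18, 18, 11, 8, 11, 12, 6, 8, 11, 4, 6, 8, 4, 6, 4, 12, 11, 8, 10, 6, 8, 10, 21]⟩)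
  (.leaf ⟨6, 6, true, [19, 6, 18, 8, 19, 8, 14, 6], [8, 18, 18, 10, 6, 8, 4, 6, 4, 10, 6, 8, 11]⟩))
  (.node (nat_lit 2575) (.leaf ⟨6, 6, true, [10, 8, 6, 18, 8, 10, 6], [12, 19, 8, 0, 19, 8, 19, 2, 10, 10, 6, 8, 11, 4, 6, 8, 10, 4, 6, 8, 4, 6, 4, 0, 12, 8, 11, 6, 12]⟩)
  (.leaf ⟨6, 6, true, [19, 19, 8, 15, 8, 19, 8, 19, 14], [12, 18, 8, 0, 19, 2, 12, 11, 8, 11, 4, 6, 8, 4, 6, 4, 12, 10, 8, 10, 12]⟩)))))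
  (.node (nat_lit 2584) (.node (nat_lit 2580) (.node (nat_lit 2578) (.node (nat_lit 2577) (.leaf ⟨6, 6, true, [11, 8, 19, 0, 14, 8, 6], [19, 12, 16, 8, 19, 19, 2, 11, 4, 6, 8, 10, 4, 6, 8, 4, 6, 4, 8, 10, 10, 6, 8, 11]⟩)
  (.leaf ⟨6, 6, true, [8, 2, 18, 8, 18, 8, 19, 19, 2], [14, 6, 8, 18, 8, 19, 19, 2, 8, 10, 8, 10, 4, 6, 8, 4, 6, 4, 6, 8, 11, 6, 8, 10, 6, 12]⟩))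
  (.node (nat_lit 2579) (.leaf ⟨6, 6, true, [14, 18, 8, 19, 8, 19, 8, 16, 10], [12, 15, 8, 19, 0, 2, 4, 6, 4, 6, 8, 10, 6, 8, 11, 4, 6, 8, 4, 6, 4, 8, 11, 6, 8, 11, 6, 20]⟩)
  (.leaf ⟨6, 6, true, [8, 0, 18, 8, 18, 12, 8, 6, 18], [14, 8, 18, 8, 18, 18, 12, 8, 10, 4, 6, 8, 4, 6, 4, 0, 10, 13, 8, 11, 6, 8, 10, 21]⟩)))
  (.node (nat_lit 2582) (.node (nat_lit 2581) (.leaf ⟨6, 6, true, [19, 10, 12, 19, 8, 19, 8, 6, 2], [18, 12, 14, 8, 18, 18, 12, 11, 4, 6, 8, 4, 6, 4, 6, 8, 10, 8, 10, 12]⟩)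
  (.leaf ⟨6, 6, true, [19, 13, 10, 6, 8, 18, 8, 18, 11], [6, 8, 18, 18, 8, 19, 8, 19, 2, 10, 6, 8, 11, 12, 4, 6, 8, 11, 4, 6, 8, 4, 6, 4, 11, 13, 6, 8, 11, 6, 20]⟩))
  (.node (nat_lit 2583) (.leaf ⟨6, 6, true, [18, 14, 18, 13, 8, 19, 8, 16], [0, 19, 2, 10, 10, 8, 11, 6, 8, 4, 6, 4, 10, 6, 8, 11, 6, 21]⟩)
  (.leaf ⟨6, 6, true, [15, 0, 15, 18, 8, 18, 10], [18, 18, 12, 18, 8, 18, 18, 11, 8, 4, 6, 4, 11, 11, 6, 20]⟩))))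
  (.node (nat_lit 2588) (.node (nat_lit 2586) (.node (nat_lit 2585) (.leaf ⟨6, 6, true, [8, 18, 18, 8, 11, 8, 6], [0, 19, 8, 2, 19, 8, 19, 2, 10, 4, 6, 8, 10, 4, 6, 8, 11, 4, 6, 8, 4, 6, 4, 8, 11, 8, 11, 6, 8, 10, 22]⟩)
  (.leaf ⟨6, 5, true, [0, 18, 13, 18, 8, 18, 8, 18, 10], [8, 18, 8, 19, 8, 0, 19, 2, 4, 6, 8, 10, 8, 10, 4, 6, 8, 4, 6, 4, 0, 11, 12, 8, 10, 6, 8, 11, 12]⟩))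
  (.node (nat_lit 2587) (.leaf ⟨5, 6, true, [19, 6, 8, 18, 13, 11, 8, 18], [15, 8, 18, 8, 19, 19, 2, 10, 8, 10, 6, 8, 10, 4, 6, 8, 4, 6, 4, 0, 10, 12, 6, 8, 10, 22]⟩)
  (.leaf ⟨6, 6, true, [12, 2, 19, 8, 19, 8, 16], [15, 19, 8, 0, 19, 2, 8, 10, 10, 6, 8, 11, 4, 6, 8, 4, 6, 4, 8, 11, 11, 6, 8, 11, 24]⟩)))
  (.node (nat_lit 2590) (.node (nat_lit 2589) (.leaf ⟨6, 6, true, [19, 19, 8, 16, 8, 16, 8, 19, 16], [14, 18, 18, 8, 19, 8, 19, 2, 13, 8, 10, 4, 6, 8, 4, 6, 4, 0, 8, 10, 8, 10, 6, 8, 10, 6, 24]⟩)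
  (.leaf ⟨6, 6, true, [12, 15, 8, 19, 19, 15], [8, 0, 18, 18, 10, 8, 19, 2, 8, 10, 8, 4, 6, 4, 0, 13, 10, 8, 11, 6, 8, 11, 12]⟩))
  (.node (nat_lit 2591) (.leaf ⟨6, 6, true, [19, 12, 19, 6, 8, 18, 8, 18, 10], [6, 8, 19, 6, 8, 18, 18, 6, 8, 11, 8, 11, 4, 6, 8, 10, 4, 6, 8, 4, 6, 4, 8, 10, 6, 8, 11, 6, 21]⟩)
  (.leaf ⟨6, 6, true, [0, 14, 18, 8, 18, 8, 19, 8, 19, 2], [15, 8, 19, 10, 8, 19, 2, 12, 10, 4, 6, 8, 10, 4, 6, 8, 10, 4, 6, 8, 4, 6, 4, 12, 6, 8, 10, 25]⟩))))))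

noncomputable def f2592 : FT := (.node (nat_lit 2608) (.node (nat_lit 2600) (.node (nat_lit 2596) (.node (nat_lit 2594) (.node (nat_lit 2593) (.leaf ⟨6, 6, true, [19, 19, 19, 12, 8, 19, 2], [13, 6, 18, 8, 19, 8, 19, 2, 10, 4, 6, 8, 11, 12, 4, 6, 8, 11, 4, 6, 8, 4, 6, 4, 11, 13, 6, 8, 10, 6, 13]⟩)
  (.leaf ⟨6, 6, true, [8, 2, 19, 8, 19, 14, 8, 6], [13, 14, 8, 0, 18, 8, 18, 18, 13, 11, 4, 6, 8, 11, 4, 6, 8, 4, 6, 4, 8, 11, 6, 12]⟩))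
  (.node (nat_lit 2595) (.leaf ⟨6, 6, true, [8, 0, 19, 12, 10, 6, 8, 6, 18], [0, 14, 12, 8, 18, 8, 18, 18, 8, 11, 6, 8, 4, 6, 4, 0, 11, 6, 8, 11, 6, 13]⟩)
  (.leaf ⟨6, 6, true, [14, 6, 8, 19, 19, 12, 14], [10, 8, 18, 8, 18, 18, 10, 6, 8, 4, 6, 4, 0, 13, 8, 11, 21]⟩)))
  (.node (nat_lit 2598) (.node (nat_lit 2597) (.leaf ⟨6, 6, true, [8, 15, 8, 19, 12, 6, 8, 18], [12, 15, 8, 19, 0, 2, 12, 10, 8, 6, 4, 0, 8, 11, 6, 8, 10, 6]⟩)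
  (.leaf ⟨6, 6, true, [6, 8, 18, 8, 0, 18, 8, 18, 10], [8, 19, 8, 0, 19, 2, 6, 8, 11, 4, 6, 8, 4, 6, 4, 0, 11, 6, 8, 10]⟩))
  (.node (nat_lit 2599) (.leaf ⟨6, 5, true, [15, 12, 18, 8, 19, 19, 2], [8, 18, 8, 0, 19, 8, 19, 2, 0, 11, 6, 8, 11, 24]⟩)
  (.leaf ⟨5, 6, true, [0, 18, 18, 8, 18, 10, 8, 6], [15, 12, 18, 8, 18, 18, 13, 6, 8, 11, 4, 6, 8, 4, 6, 4, 0, 10, 8, 11, 11, 6, 8, 11, 22]⟩))))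
  (.node (nat_lit 2604) (.node (nat_lit 2602) (.node (nat_lit 2601) (.leaf ⟨6, 6, true, [19, 13, 19, 6, 8, 6, 18, 8, 6], [15, 18, 14, 8, 19, 19, 2, 10, 6, 8, 11, 4, 6, 8, 11, 4, 6, 8, 4, 6, 4, 11, 6, 21]⟩)
  (.leaf ⟨6, 6, true, [15, 18, 8, 19, 8, 19, 15], [10, 8, 18, 8, 18, 18, 11, 11, 8, 10, 6, 8, 11, 4, 6, 8, 4, 6, 4, 8, 10, 12, 6, 8, 10, 21]⟩))
  (.node (nat_lit 2603) (.leaf ⟨6, 6, true, [0, 19, 8, 16, 10], [12, 10, 8, 19, 0, 2, 10, 13, 8, 10, 6, 8, 4, 6, 4, 0, 13, 10, 8, 11, 6, 8, 10, 6, 25]⟩)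
  (.leaf ⟨6, 6, true, [16, 8, 0, 19, 14, 6], [6, 18, 18, 18, 10, 8, 19, 2, 13, 10, 8, 10, 6, 8, 4, 6, 4, 12, 6, 8, 11, 6, 20]⟩)))
  (.node (nat_lit 2606) (.node (nat_lit 2605) (.leaf ⟨6, 6, true, [10, 10, 8, 19, 12, 19, 8, 16], [18, 18, 8, 18, 8, 19, 2, 10, 4, 6, 8, 10, 6, 8, 11, 4, 6, 8, 4, 6, 4, 13, 6, 8, 11, 6, 21]⟩)
  (.leaf ⟨6, 6, true, [11, 8, 16, 8, 19, 19, 14, 8, 6], [15, 0, 19, 8, 19, 10, 8, 19, 2, 4, 6, 8, 11, 6, 8, 10, 4, 6, 8, 4, 6, 4, 0, 6, 8, 10, 8, 10, 6, 12]⟩))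
  (.node (nat_lit 2607) (.leaf ⟨6, 6, true, [16, 8, 19, 8, 16, 8, 19, 12, 19, 2], [6, 8, 0, 18, 18, 6, 8, 11, 4, 6, 8, 4, 6, 4, 11, 13, 8, 10, 6, 8, 11, 23]⟩)
  (.leaf ⟨6, 6, true, [14, 10, 8, 19, 8, 19, 14], [13, 14, 8, 19, 8, 0, 19, 2, 12, 8, 10, 6, 8, 4, 6, 4, 11, 8, 11, 6, 8, 11, 21]⟩)))))
  (.node (nat_lit 2616) (.node (nat_lit 2612) (.node (nat_lit 2610) (.node (nat_lit 2609) (.leaf ⟨6, 6, true, [8, 19, 15, 19, 12, 8, 19, 8, 16], [12, 8, 6, 18, 8, 0, 18, 18, 6, 8, 11, 13, 4, 6, 8, 10, 4, 6, 8, 4, 6, 4, 13, 8, 10, 6, 8, 11, 22]⟩)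
  (.leaf ⟨6, 6, true, [8, 0, 18, 18, 8, 16, 8, 19, 6, 2], [19, 15, 8, 19, 8, 19, 2, 12, 11, 4, 6, 8, 4, 6, 4, 10, 13, 8, 11, 6, 8, 10, 24]⟩))
  (.node (nat_lit 2611) (.leaf ⟨6, 6, true, [11, 8, 18, 8, 19, 6, 18, 8, 6], [13, 19, 8, 19, 8, 0, 19, 2, 8, 11, 13, 6, 8, 10, 4, 6, 8, 4, 6, 4, 0, 10, 6, 8, 11, 25]⟩)
  (.leaf ⟨6, 6, true, [8, 15, 12, 18, 8, 19, 14, 6], [19, 6, 18, 8, 19, 2, 11, 8, 10, 6, 8, 4, 6, 4, 0, 8, 10, 8, 10, 6, 8, 10, 22]⟩)))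
  (.node (nat_lit 2614) (.node (nat_lit 2613) (.leaf ⟨6, 6, true, [19, 8, 16, 8, 19, 8, 19, 14], [18, 14, 8, 19, 8, 19, 2, 4, 6, 8, 10, 4, 6, 8, 10, 4, 6, 8, 4, 6, 4, 0, 8, 10, 6, 21]⟩)
  (.leaf ⟨3, 6, true, [15, 8, 18, 8, 18, 11], [0, 18, 10, 8, 10, 6, 4, 6, 8, 11, 4, 6, 8, 4, 6, 4, 10, 6, 8, 11]⟩))
  (.node (nat_lit 2615) (.leaf ⟨6, 3, true, [15, 18, 12, 8, 18, 8, 19, 12, 19, 2], [12, 0, 2, 18, 8, 0, 18, 18, 10, 8, 11, 6, 8, 4, 6, 4, 0, 10, 6, 8, 11, 6, 8, 10, 6, 22]⟩)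
  (.leaf ⟨6, 6, true, [18, 8, 15, 8, 19, 6, 8, 18, 10], [8, 19, 10, 10, 8, 19, 2, 11, 8, 10, 4, 6, 8, 11, 4, 6, 8, 4, 6, 4, 11, 11, 8, 10, 6, 8, 11, 21]⟩))))
  (.node (nat_lit 2620) (.node (nat_lit 2618) (.node (nat_lit 2617) (.leaf ⟨6, 6, true, [8, 18, 8, 19, 19, 14], [18, 18, 8, 0, 18, 18, 4, 6, 8, 10, 10, 4, 6, 8, 11, 4, 6, 8, 4, 6, 4, 11, 6, 8, 11, 6]⟩)
  (.leaf ⟨6, 5, true, [15, 18, 12, 18, 8, 19, 8, 16], [15, 8, 19, 8, 19, 2, 6, 8, 11, 13, 4, 6, 8, 11, 4, 6, 8, 4, 6, 4, 0, 10, 6, 8, 10, 6, 8, 11, 13]⟩))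
  (.node (nat_lit 2619) (.leaf ⟨5, 6, true, [19, 13, 11, 8, 19, 8, 19, 14, 8, 6], [14, 8, 18, 0, 18, 6, 8, 11, 13, 4, 6, 8, 11, 4, 6, 8, 4, 6, 4, 11, 8, 10, 6, 20]⟩)
  (.leaf ⟨6, 6, true, [12, 18, 8, 19, 8, 19, 8, 14, 6], [8, 2, 19, 8, 19, 2, 12, 11, 8, 10, 6, 8, 10, 4, 6, 8, 4, 6, 4, 10, 8, 11, 21]⟩)))
  (.node (nat_lit 2622) (.node (nat_lit 2621) (.leaf ⟨6, 6, true, [6, 18, 8, 18, 8, 19, 8, 19, 2], [8, 6, 18, 8, 19, 0, 2, 11, 8, 10, 6, 8, 11, 4, 6, 8, 4, 6, 4, 11, 12, 8, 10, 13]⟩)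
  (.leaf ⟨6, 6, true, [19, 19, 10, 6, 8, 6, 18], [0, 14, 6, 18, 8, 0, 18, 18, 8, 10, 12, 4, 6, 8, 10, 4, 6, 8, 4, 6, 4, 12, 8, 11, 6, 21]⟩))
  (.node (nat_lit 2623) (.leaf ⟨6, 6, true, [14, 6, 8, 19, 19, 14], [6, 8, 19, 8, 19, 2, 8, 11, 4, 6, 8, 11, 4, 6, 8, 4, 6, 4, 0, 11, 12, 6, 8, 11, 6, 22]⟩)
  (.leaf ⟨6, 6, true, [11, 8, 10, 6, 8, 18, 8, 18, 11], [12, 8, 19, 8, 0, 19, 2, 11, 13, 6, 8, 11, 4, 6, 8, 10, 4, 6, 8, 4, 6, 4, 12, 11, 6, 8, 10, 20]⟩))))))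

noncomputable def f2624 : FT := (.node (nat_lit 2640) (.node (nat_lit 2632) (.node (nat_lit 2628) (.node (nat_lit 2626) (.node (nat_lit 2625) (.leaf ⟨6, 6, true, [10, 8, 18, 8, 19, 6, 8, 6, 18], [12, 10, 8, 19, 19, 2, 10, 12, 6, 8, 10, 4, 6, 8, 4, 6, 4, 8, 11, 13, 6, 8, 11, 6]⟩)
  (.leaf ⟨6, 6, true, [0, 14, 18, 18, 8, 19, 14, 8, 10, 6], [11, 8, 18, 10, 8, 18, 18, 10, 4, 6, 8, 11, 12, 4, 6, 8, 11, 4, 6, 8, 4, 6, 4, 10, 13, 8, 10, 6, 20]⟩))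
  (.node (nat_lit 2627) (.leaf ⟨6, 6, true, [16, 8, 16, 8, 6, 18, 10], [8, 11, 8, 18, 8, 18, 18, 10, 8, 10, 4, 6, 8, 10, 4, 6, 8, 4, 6, 4, 11, 6, 8, 11, 20]⟩)
  (.leaf ⟨6, 5, true, [16, 13, 8, 6, 18, 8, 6, 18, 10], [12, 8, 0, 18, 8, 18, 18, 6, 8, 11, 4, 6, 8, 10, 4, 6, 8, 4, 6, 4, 12, 10, 6, 8, 11, 20]⟩)))
  (.node (nat_lit 2630) (.node (nat_lit 2629) (.leaf ⟨5, 6, true, [12, 18, 8, 18, 8, 18, 11], [8, 0, 18, 8, 18, 8, 19, 2, 8, 11, 6, 8, 11, 4, 6, 8, 11, 4, 6, 8, 4, 6, 4, 11, 6, 8, 10, 6, 25]⟩)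
  (.leaf ⟨6, 6, true, [19, 19, 15, 8, 19, 8, 19, 8, 6, 2], [10, 6, 8, 0, 19, 8, 19, 2, 11, 12, 8, 10, 6, 8, 11, 4, 6, 8, 4, 6, 4, 10, 13, 8, 11, 6, 8, 10, 22]⟩))
  (.node (nat_lit 2631) (.leaf ⟨6, 6, true, [0, 18, 18, 8, 18, 8, 19, 12, 16], [12, 8, 2, 18, 8, 0, 18, 18, 6, 8, 10, 4, 6, 8, 4, 6, 4, 0, 10, 8, 10, 6, 12]⟩)
  (.leaf ⟨6, 6, true, [8, 19, 6, 8, 15, 18, 8, 18, 10], [6, 18, 12, 8, 19, 8, 19, 2, 11, 11, 8, 11, 4, 6, 8, 4, 6, 4, 10, 8, 10, 6, 8, 10, 22]⟩))))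
  (.node (nat_lit 2636) (.node (nat_lit 2634) (.node (nat_lit 2633) (.leaf ⟨6, 6, true, [16, 8, 19, 8, 6, 18, 10, 8, 6], [14, 8, 18, 0, 14, 8, 18, 18, 11, 12, 8, 10, 4, 6, 8, 4, 6, 4, 6, 8, 11, 12]⟩)
  (.leaf ⟨6, 6, true, [11, 13, 8, 19, 8, 14, 6], [12, 19, 8, 19, 2, 8, 11, 6, 8, 10, 4, 6, 8, 4, 6, 4, 0, 11, 13, 6, 8, 11, 6, 24]⟩))
  (.node (nat_lit 2635) (.leaf ⟨6, 6, true, [18, 12, 8, 6, 18, 8, 19, 16], [15, 18, 18, 8, 19, 8, 19, 2, 13, 8, 11, 4, 6, 8, 10, 4, 6, 8, 4, 6, 4, 12, 11, 8, 11, 25]⟩)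
  (.leaf ⟨6, 6, true, [19, 6, 8, 0, 19, 8, 19, 8, 16], [15, 13, 19, 8, 19, 8, 0, 19, 2, 6, 8, 11, 4, 6, 8, 4, 6, 4, 0, 6, 8, 11, 8, 11, 6, 24]⟩)))
  (.node (nat_lit 2638) (.node (nat_lit 2637) (.leaf ⟨6, 6, true, [15, 19, 8, 19, 10, 6, 8, 6, 18], [19, 8, 19, 14, 8, 19, 0, 2, 11, 8, 6, 4, 6, 8, 10, 8, 10, 22]⟩)
  (.leaf ⟨6, 6, true, [19, 13, 8, 19, 8, 14, 6], [18, 12, 8, 0, 19, 8, 19, 2, 12, 10, 4, 6, 8, 11, 4, 6, 8, 4, 6, 4, 8, 11, 11, 6, 8, 11, 21]⟩))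
  (.node (nat_lit 2639) (.leaf ⟨6, 5, true, [8, 19, 13, 16, 8, 19, 8, 19, 2], [12, 8, 19, 6, 8, 18, 18, 10, 10, 8, 4, 6, 4, 12, 8, 11, 6, 8, 10, 24]⟩)
  (.leaf ⟨5, 6, true, [19, 13, 16, 8, 19, 14, 8, 6], [13, 10, 8, 0, 18, 8, 18, 18, 11, 6, 8, 10, 4, 6, 8, 4, 6, 4, 0, 13, 11, 6, 8, 10, 21]⟩)))))
  (.node (nat_lit 2648) (.node (nat_lit 2644) (.node (nat_lit 2642) (.node (nat_lit 2641) (.leaf ⟨6, 6, true, [19, 8, 19, 6, 8, 15, 18, 8, 18], [8, 0, 2, 18, 8, 0, 18, 18, 4, 6, 8, 11, 13, 4, 6, 8, 11, 4, 6, 8, 4, 6, 4, 11, 11, 6, 8, 11, 20]⟩)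
  (.leaf ⟨6, 6, true, [12, 11, 8, 10, 6, 8, 18], [15, 19, 8, 19, 2, 8, 11, 6, 8, 4, 6, 4, 0, 6, 8, 11, 6, 8, 10, 20]⟩))
  (.node (nat_lit 2643) (.leaf ⟨6, 6, true, [12, 8, 19, 6, 8, 19, 6, 2], [2, 18, 8, 18, 18, 11, 8, 11, 12, 4, 6, 8, 11, 4, 6, 8, 4, 6, 4, 13, 6, 8, 10, 6, 24]⟩)
  (.leaf ⟨6, 6, true, [13, 10, 8, 19, 8, 6, 2], [19, 0, 14, 6, 8, 18, 18, 11, 6, 8, 10, 4, 6, 8, 4, 6, 4, 8, 11, 6, 8, 11, 20]⟩)))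
  (.node (nat_lit 2646) (.node (nat_lit 2645) (.leaf ⟨6, 6, true, [0, 15, 18, 8, 18, 10, 8, 18], [10, 8, 19, 8, 19, 8, 19, 2, 10, 8, 11, 13, 4, 6, 8, 10, 4, 6, 8, 4, 6, 4, 8, 11, 12, 6, 8, 11, 6, 23]⟩)
  (.leaf ⟨6, 6, true, [10, 8, 19, 8, 14, 6], [6, 8, 18, 14, 8, 18, 18, 8, 11, 13, 6, 8, 10, 4, 6, 8, 4, 6, 4, 10, 8, 10, 6, 8, 11, 20]⟩))
  (.node (nat_lit 2647) (.leaf ⟨6, 6, true, [13, 10, 8, 0, 18, 8, 18, 8, 18], [12, 0, 18, 8, 0, 18, 18, 8, 11, 4, 6, 8, 10, 4, 6, 8, 4, 6, 4, 10, 13, 6, 8, 10, 21]⟩)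
  (.leaf ⟨6, 6, true, [13, 18, 8, 19, 10, 8, 19, 8, 16], [6, 8, 18, 10, 8, 19, 19, 2, 12, 11, 6, 8, 10, 4, 6, 8, 4, 6, 4, 11, 13, 6, 8, 11, 6, 21]⟩))))
  (.node (nat_lit 2652) (.node (nat_lit 2650) (.node (nat_lit 2649) (.leaf ⟨6, 6, true, [6, 8, 19, 8, 19, 8, 16], [14, 0, 19, 8, 19, 2, 10, 10, 8, 4, 6, 4, 0, 12, 8, 11, 6, 8, 10, 6, 23]⟩)
  (.leaf ⟨6, 6, true, [18, 14, 18, 8, 18, 12, 8, 18], [8, 18, 8, 18, 18, 11, 6, 4, 6, 8, 11, 4, 6, 8, 10, 4, 6, 8, 4, 6, 4, 13, 8, 11, 13]⟩))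
  (.node (nat_lit 2651) (.leaf ⟨6, 6, true, [12, 19, 13, 19, 8, 19, 14, 8, 6], [12, 0, 2, 18, 8, 0, 18, 18, 13, 4, 6, 8, 11, 4, 6, 8, 4, 6, 4, 0, 11, 13, 6, 8, 10, 6]⟩)
  (.leaf ⟨6, 6, true, [14, 10, 8, 19, 8, 16, 8, 19, 6, 2], [18, 8, 19, 10, 8, 19, 2, 13, 8, 11, 6, 8, 10, 4, 6, 8, 10, 4, 6, 8, 4, 6, 4, 13, 6, 8, 10, 22]⟩)))
  (.node (nat_lit 2654) (.node (nat_lit 2653) (.leaf ⟨6, 6, true, [15, 18, 8, 19, 19, 2], [11, 8, 19, 15, 19, 8, 19, 2, 4, 6, 8, 10, 10, 4, 6, 8, 10, 4, 6, 8, 4, 6, 4, 13, 10, 8, 11, 6, 8, 10, 6, 23]⟩)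
  (.leaf ⟨6, 6, true, [18, 8, 2, 18, 8, 18, 8, 6, 18], [11, 8, 19, 8, 19, 2, 4, 6, 8, 10, 13, 4, 6, 8, 10, 4, 6, 8, 4, 6, 4, 13, 8, 11, 6, 21]⟩))
  (.node (nat_lit 2655) (.leaf ⟨6, 6, true, [8, 18, 2, 18, 8, 19, 8, 14, 6], [8, 18, 12, 18, 8, 0, 18, 18, 4, 6, 8, 11, 13, 4, 6, 8, 11, 4, 6, 8, 4, 6, 4, 8, 11, 8, 11, 6, 25]⟩)
  (.leaf ⟨6, 6, true, [2, 18, 8, 15, 8, 18, 8, 18], [4, 6, 18, 8, 19, 2, 6, 8, 10, 10, 4, 6, 8, 11, 4, 6, 8, 4, 6, 4, 12]⟩))))))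

noncomputable def f2656 : FT := (.node (nat_lit 2672) (.node (nat_lit 2664) (.node (nat_lit 2660) (.node (nat_lit 2658) (.node (nat_lit 2657) (.leaf ⟨6, 6, true, [19, 8, 15, 18, 8, 18, 8, 18, 10], [13, 18, 8, 19, 8, 0, 19, 2, 10, 8, 11, 4, 6, 8, 10, 4, 6, 8, 4, 6, 4, 10, 8, 11, 12]⟩)
  (.leaf ⟨6, 6, true, [19, 8, 15, 19, 8, 19, 8, 6, 2], [19, 14, 6, 8, 18, 18, 8, 11, 4, 6, 8, 11, 4, 6, 8, 4, 6, 4, 10, 8, 11, 13, 6, 8, 10, 22]⟩))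
  (.node (nat_lit 2659) (.leaf ⟨6, 6, true, [6, 18, 18, 8, 18, 8, 19, 8, 16], [19, 19, 8, 19, 2, 12, 8, 10, 6, 8, 4, 6, 4, 0, 10, 12, 6, 8, 10, 22]⟩)
  (.leaf ⟨6, 6, true, [12, 19, 8, 16, 8, 19, 19, 2], [18, 8, 18, 18, 10, 12, 8, 11, 4, 6, 8, 4, 6, 4, 0, 10, 6, 8, 10, 6]⟩)))
  (.node (nat_lit 2662) (.node (nat_lit 2661) (.leaf ⟨6, 6, true, [11, 8, 19, 8, 19, 12, 14], [10, 8, 18, 8, 18, 8, 19, 2, 11, 11, 8, 11, 6, 8, 11, 4, 6, 8, 4, 6, 4, 8, 11, 6, 25]⟩)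
  (.leaf ⟨6, 6, true, [0, 2, 18, 8, 19, 12, 6, 8, 18], [10, 8, 19, 0, 2, 13, 4, 6, 8, 11, 4, 6, 8, 10, 4, 6, 8, 4, 6, 4, 12, 10, 6, 8, 10, 12]⟩))
  (.node (nat_lit 2663) (.leaf ⟨6, 6, true, [19, 13, 15, 8, 19, 8, 19, 8, 6, 2], [11, 8, 18, 8, 19, 19, 2, 8, 11, 4, 6, 8, 11, 4, 6, 8, 4, 6, 4, 10, 13, 6, 8, 10, 20]⟩)
  (.leaf ⟨6, 6, true, [8, 6, 18, 8, 19, 14, 8, 6], [11, 11, 8, 0, 19, 8, 19, 2, 12, 11, 8, 10, 4, 6, 8, 4, 6, 4, 10, 13, 8, 11, 6, 8, 10, 21]⟩))))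
  (.node (nat_lit 2668) (.node (nat_lit 2666) (.node (nat_lit 2665) (.leaf ⟨6, 6, true, [2, 19, 8, 19, 8, 14, 6], [19, 2, 19, 8, 6, 18, 8, 19, 2, 13, 10, 8, 11, 4, 6, 8, 10, 4, 6, 8, 4, 6, 4, 0, 12, 11, 8, 10, 6, 8, 10, 21]⟩)
  (.leaf ⟨6, 6, true, [16, 8, 6, 18, 12, 8, 6, 18], [18, 12, 8, 19, 8, 19, 2, 4, 6, 8, 11, 6, 8, 10, 4, 6, 8, 4, 6, 4, 0, 11, 6, 8, 11, 21]⟩))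
  (.node (nat_lit 2667) (.leaf ⟨6, 6, true, [19, 8, 11, 12, 8, 19, 8, 14, 6], [11, 11, 8, 0, 19, 8, 19, 2, 11, 4, 6, 8, 11, 4, 6, 8, 11, 4, 6, 8, 4, 6, 4, 13, 10, 8, 11, 6, 8, 10, 6, 24]⟩)
  (.leaf ⟨6, 6, true, [16, 8, 2, 19, 8, 19, 12, 8, 16], [12, 11, 8, 19, 8, 0, 19, 2, 6, 8, 11, 4, 6, 8, 11, 4, 6, 8, 4, 6, 4, 12, 11, 6, 8, 10, 13]⟩)))
  (.node (nat_lit 2670) (.node (nat_lit 2669) (.leaf ⟨6, 6, true, [19, 10, 8, 19, 6, 8, 6, 18], [15, 0, 18, 8, 18, 18, 11, 6, 8, 11, 4, 6, 8, 10, 4, 6, 8, 4, 6, 4, 0, 10, 8, 11, 13, 6, 8, 10, 24]⟩)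
  (.leaf ⟨6, 6, true, [11, 8, 19, 10, 6, 8, 19, 16], [6, 18, 18, 18, 8, 19, 2, 10, 13, 8, 11, 4, 6, 8, 4, 6, 4, 0, 10, 12, 8, 11, 6, 22]⟩))
  (.node (nat_lit 2671) (.leaf ⟨6, 6, true, [19, 12, 16, 8, 19, 6, 8, 18], [8, 18, 18, 10, 8, 19, 0, 2, 4, 6, 8, 11, 4, 6, 8, 4, 6, 4, 0, 11, 13, 6, 8, 10, 25]⟩)
  (.leaf ⟨6, 6, true, [8, 15, 8, 19, 12, 8, 19, 2], [14, 10, 8, 18, 0, 18, 6, 8, 10, 4, 6, 8, 4, 6, 4, 12, 6, 8, 11, 6, 24]⟩)))))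
  (.node (nat_lit 2680) (.node (nat_lit 2676) (.node (nat_lit 2674) (.node (nat_lit 2673) (.leaf ⟨6, 6, true, [19, 19, 16, 8, 19, 8, 19, 2], [15, 8, 18, 18, 8, 10, 6, 8, 11, 4, 6, 8, 10, 4, 6, 8, 4, 6, 4, 11, 13, 6, 8, 10, 21]⟩)
  (.leaf ⟨6, 6, true, [16, 8, 0, 19, 8, 6, 2], [16, 10, 8, 19, 0, 2, 11, 4, 6, 8, 11, 4, 6, 8, 10, 4, 6, 8, 4, 6, 4, 12, 11, 8, 11, 12]⟩))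
  (.node (nat_lit 2675) (.leaf ⟨6, 6, true, [15, 12, 8, 19, 8, 19, 12, 8, 14, 6], [14, 10, 8, 18, 8, 18, 18, 10, 10, 4, 6, 8, 10, 4, 6, 8, 4, 6, 4, 10, 13, 8, 10, 24]⟩)
  (.leaf ⟨6, 6, true, [15, 0, 15, 18, 10, 8, 6, 18], [13, 10, 8, 0, 19, 8, 19, 2, 13, 10, 8, 11, 6, 8, 10, 4, 6, 8, 4, 6, 4, 8, 11, 12, 6, 8, 11, 6, 21]⟩)))
  (.node (nat_lit 2678) (.node (nat_lit 2677) (.leaf ⟨6, 6, true, [13, 8, 18, 14, 8, 18, 10, 8, 18], [13, 16, 8, 19, 6, 18, 8, 19, 2, 10, 4, 6, 8, 10, 4, 6, 8, 10, 4, 6, 8, 4, 6, 4, 6, 8, 11, 22]⟩)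
  (.leaf ⟨6, 6, true, [0, 14, 18, 8, 0, 18, 12, 8, 18], [8, 15, 8, 19, 8, 0, 19, 2, 12, 11, 6, 8, 4, 6, 4, 0, 13, 6, 8, 11, 23]⟩))
  (.node (nat_lit 2679) (.leaf ⟨6, 6, true, [19, 8, 16, 8, 19, 6, 8, 18, 10], [0, 14, 8, 18, 0, 18, 11, 8, 11, 4, 6, 8, 4, 6, 4, 8, 11, 8, 11, 6, 8, 11, 21]⟩)
  (.leaf ⟨6, 6, true, [19, 8, 0, 19, 14, 8, 10, 6], [0, 19, 8, 19, 8, 19, 2, 11, 4, 6, 8, 11, 4, 6, 8, 4, 6, 4, 10, 8, 10, 10, 6, 8, 11]⟩))))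
  (.node (nat_lit 2684) (.node (nat_lit 2682) (.node (nat_lit 2681) (.leaf ⟨6, 6, true, [18, 11, 8, 18, 8, 19, 12, 19, 2], [15, 18, 8, 19, 8, 19, 2, 12, 11, 8, 10, 6, 8, 10, 4, 6, 8, 4, 6, 4, 8, 11, 12, 6, 8, 11]⟩)
  (.leaf ⟨6, 6, true, [8, 19, 6, 8, 6, 18, 8, 18, 10], [16, 8, 19, 6, 8, 18, 18, 12, 10, 8, 10, 4, 6, 8, 4, 6, 4, 13, 10, 8, 11, 6, 8, 10, 6, 25]⟩))
  (.node (nat_lit 2683) (.leaf ⟨6, 6, true, [12, 2, 18, 8, 18, 8, 18, 11], [13, 19, 8, 19, 8, 19, 2, 11, 8, 10, 6, 8, 10, 4, 6, 8, 4, 6, 4, 0, 11, 8, 11, 6, 8, 11, 6, 22]⟩)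
  (.leaf ⟨6, 6, true, [14, 8, 18, 8, 19, 8, 19, 2], [0, 19, 2, 19, 8, 19, 2, 10, 8, 11, 4, 6, 8, 10, 4, 6, 8, 4, 6, 4, 8, 11, 12, 6, 8, 11, 25]⟩)))
  (.node (nat_lit 2686) (.node (nat_lit 2685) (.leaf ⟨6, 6, true, [19, 8, 11, 8, 19, 8, 14, 6], [13, 18, 8, 19, 10, 8, 19, 2, 11, 11, 6, 8, 4, 6, 4, 0, 11, 13, 8, 10, 21]⟩)
  (.leaf ⟨6, 6, true, [2, 18, 18, 8, 18, 8, 19, 19, 2], [19, 12, 14, 8, 19, 0, 2, 13, 8, 11, 6, 8, 11, 4, 6, 8, 11, 4, 6, 8, 4, 6, 4, 11, 8, 11, 12, 6, 8, 11, 6, 20]⟩))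
  (.node (nat_lit 2687) (.leaf ⟨6, 6, true, [19, 19, 13, 10, 8, 19, 8, 16], [8, 6, 18, 8, 19, 2, 12, 4, 6, 8, 10, 4, 6, 8, 11, 4, 6, 8, 4, 6, 4, 8, 11, 13, 6, 8, 10, 6, 24]⟩)
  (.leaf ⟨6, 6, true, [12, 18, 8, 15, 19, 8, 19, 8, 16], [0, 19, 8, 14, 6, 8, 18, 18, 12, 10, 6, 8, 11, 4, 6, 8, 4, 6, 4, 11, 12, 8, 10, 6, 8, 11, 24]⟩))))))

noncomputable def f2688 : FT := (.node (nat_lit 2704) (.node (nat_lit 2696) (.node (nat_lit 2692) (.node (nat_lit 2690) (.node (nat_lit 2689) (.leaf ⟨6, 5, true, [15, 0, 18, 8, 18, 8, 18], [18, 18, 14, 8, 18, 18, 11, 11, 8, 11, 6, 8, 11, 4, 6, 8, 4, 6, 4, 10, 13, 8, 11, 6, 8, 10]⟩)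
  (.leaf ⟨5, 6, true, [8, 0, 15, 18, 10, 8, 0, 18], [14, 8, 19, 14, 8, 19, 0, 2, 10, 6, 8, 11, 4, 6, 8, 10, 4, 6, 8, 4, 6, 4, 12, 11, 8, 10, 22]⟩))
  (.node (nat_lit 2691) (.leaf ⟨6, 6, true, [0, 19, 8, 11, 8, 19, 8, 16, 10], [6, 18, 11, 8, 19, 8, 19, 2, 10, 6, 8, 10, 4, 6, 8, 10, 4, 6, 8, 4, 6, 4, 8, 10, 12, 6, 8, 10, 22]⟩)
  (.leaf ⟨6, 6, true, [8, 18, 12, 8, 18, 8, 19, 19, 14], [10, 6, 8, 19, 19, 2, 10, 6, 8, 10, 6, 8, 4, 6, 4, 0, 10, 10, 6, 8, 11]⟩)))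
  (.node (nat_lit 2694) (.node (nat_lit 2693) (.leaf ⟨6, 6, true, [10, 10, 6, 8, 19, 8, 6, 2], [14, 12, 8, 19, 8, 19, 2, 4, 6, 8, 11, 8, 11, 4, 6, 8, 4, 6, 4, 24]⟩)
  (.leaf ⟨6, 6, true, [18, 2, 18, 8, 19, 12, 8, 16], [19, 6, 18, 8, 19, 2, 11, 4, 6, 8, 10, 4, 6, 8, 11, 4, 6, 8, 4, 6, 4, 10, 8, 11, 6, 8, 10, 6, 25]⟩))
  (.node (nat_lit 2695) (.leaf ⟨6, 6, true, [19, 8, 16, 8, 19, 8, 14, 6], [14, 0, 19, 8, 19, 2, 10, 6, 8, 11, 4, 6, 8, 11, 4, 6, 8, 4, 6, 4, 0, 11, 6, 8, 10, 24]⟩)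
  (.leaf ⟨6, 6, true, [19, 14, 12, 8, 19, 8, 19, 8, 16], [18, 18, 10, 8, 19, 8, 19, 2, 13, 4, 6, 8, 11, 4, 6, 8, 10, 4, 6, 8, 4, 6, 4, 12, 8, 11, 21]⟩))))
  (.node (nat_lit 2700) (.node (nat_lit 2698) (.node (nat_lit 2697) (.leaf ⟨6, 6, true, [15, 18, 8, 0, 15, 18, 8, 6, 18], [8, 15, 12, 18, 8, 18, 18, 10, 10, 4, 6, 8, 4, 6, 4, 10, 8, 11, 6, 8, 10, 6, 20]⟩)
  (.leaf ⟨6, 6, true, [18, 12, 18, 8, 19, 19, 14, 10], [18, 18, 10, 8, 19, 0, 2, 10, 4, 6, 8, 11, 12, 4, 6, 8, 11, 4, 6, 8, 4, 6, 4, 13, 6, 8, 11, 24]⟩))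
  (.node (nat_lit 2699) (.leaf ⟨6, 6, true, [10, 13, 8, 18, 8, 18, 8, 18, 10, 10], [8, 18, 8, 19, 0, 2, 11, 6, 4, 6, 8, 11, 6, 8, 10, 4, 6, 8, 4, 6, 4, 0, 12, 10, 6, 8, 11, 13]⟩)
  (.leaf ⟨6, 6, true, [2, 18, 8, 11, 8, 18, 8, 18], [19, 12, 10, 8, 19, 2, 8, 11, 6, 8, 11, 4, 6, 8, 4, 6, 4, 6, 8, 10, 6, 20]⟩)))
  (.node (nat_lit 2702) (.node (nat_lit 2701) (.leaf ⟨6, 6, true, [15, 18, 12, 18, 8, 18, 8, 18, 11], [12, 0, 19, 8, 19, 8, 0, 19, 2, 11, 8, 11, 6, 8, 11, 4, 6, 8, 4, 6, 4, 8, 11, 6, 8, 10, 6]⟩)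
  (.leaf ⟨6, 6, true, [13, 19, 8, 14, 6], [18, 8, 0, 18, 18, 12, 6, 8, 10, 4, 6, 8, 10, 4, 6, 8, 4, 6, 4, 11, 8, 10, 6, 8, 11]⟩))
  (.node (nat_lit 2703) (.leaf ⟨6, 6, true, [2, 18, 8, 18, 8, 6, 18, 8, 6], [15, 19, 8, 19, 8, 19, 2, 11, 4, 6, 8, 11, 6, 4, 6, 8, 11, 4, 6, 8, 4, 6, 4, 10, 8, 11, 6, 8, 11, 24]⟩)
  (.leaf ⟨6, 6, true, [14, 0, 19, 8, 16, 8, 6, 18, 10], [8, 18, 8, 6, 18, 8, 19, 2, 8, 10, 8, 10, 4, 6, 8, 4, 6, 4, 0, 11, 8, 11, 6, 8, 10, 6, 23]⟩)))))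
  (.node (nat_lit 2712) (.node (nat_lit 2708) (.node (nat_lit 2706) (.node (nat_lit 2705) (.leaf ⟨6, 6, true, [18, 2, 18, 8, 18, 10, 8, 18], [16, 8, 19, 6, 8, 18, 18, 10, 8, 11, 6, 8, 11, 4, 6, 8, 4, 6, 4, 0, 13, 11, 6, 8, 11, 23]⟩)
  (.leaf ⟨6, 6, true, [8, 19, 12, 6, 8, 18], [12, 18, 6, 8, 19, 8, 19, 2, 6, 4, 6, 8, 11, 4, 6, 8, 10, 4, 6, 8, 4, 6, 4, 11, 8, 11, 6, 12]⟩))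
  (.node (nat_lit 2707) (.leaf ⟨6, 6, true, [8, 18, 12, 8, 18, 8, 19, 8, 16], [8, 15, 8, 19, 8, 19, 2, 11, 13, 4, 6, 8, 11, 4, 6, 8, 4, 6, 4, 8, 10, 8, 10, 6, 8, 10, 23]⟩)
  (.leaf ⟨6, 6, true, [15, 12, 8, 19, 8, 6, 18, 8, 6], [14, 10, 8, 19, 0, 2, 8, 10, 8, 4, 6, 4, 8, 10, 10, 6, 8, 11, 22]⟩)))
  (.node (nat_lit 2710) (.node (nat_lit 2709) (.leaf ⟨6, 6, true, [19, 19, 19, 12, 8, 19, 8, 6, 2], [14, 12, 8, 19, 8, 19, 2, 6, 4, 6, 8, 10, 4, 6, 8, 11, 4, 6, 8, 4, 6, 4, 8, 11, 13, 6, 8, 10, 6, 13]⟩)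
  (.leaf ⟨6, 6, true, [6, 8, 18, 8, 19, 6, 8, 18], [8, 19, 10, 10, 8, 19, 2, 10, 8, 10, 4, 6, 8, 4, 6, 4, 8, 11, 13, 6, 8, 11, 6, 24]⟩))
  (.node (nat_lit 2711) (.leaf ⟨6, 6, true, [0, 18, 18, 8, 10, 8, 19, 16], [14, 6, 8, 19, 8, 19, 2, 6, 8, 4, 6, 4, 0, 13, 10, 8, 10, 21]⟩)
  (.leaf ⟨6, 6, true, [15, 18, 14, 8, 6, 0, 18, 8, 6], [15, 18, 12, 8, 19, 8, 19, 2, 11, 6, 8, 10, 4, 6, 8, 4, 6, 4, 0, 6, 8, 10, 6, 22]⟩))))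
  (.node (nat_lit 2716) (.node (nat_lit 2714) (.node (nat_lit 2713) (.leaf ⟨6, 6, true, [19, 13, 19, 8, 19, 8, 19, 2], [14, 8, 18, 8, 2, 18, 18, 6, 4, 6, 8, 11, 6, 8, 10, 4, 6, 8, 4, 6, 4, 10, 10, 8, 11, 12]⟩)
  (.leaf ⟨6, 6, true, [18, 18, 8, 6, 18], [19, 19, 14, 8, 19, 0, 2, 13, 10, 8, 11, 6, 8, 10, 4, 6, 8, 4, 6, 4, 8, 10, 12, 6, 8, 10, 13]⟩))
  (.node (nat_lit 2715) (.leaf ⟨6, 6, true, [6, 18, 10, 8, 6], [14, 10, 8, 18, 0, 18, 10, 8, 10, 10, 4, 6, 8, 11, 4, 6, 8, 4, 6, 4, 6, 8, 11]⟩)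
  (.leaf ⟨6, 6, true, [19, 8, 19, 8, 19, 14, 8, 6], [10, 8, 19, 14, 8, 19, 0, 2, 11, 4, 6, 8, 11, 6, 4, 6, 8, 11, 4, 6, 8, 4, 6, 4, 12, 11, 8, 10, 6, 8, 10, 23]⟩)))
  (.node (nat_lit 2718) (.node (nat_lit 2717) (.leaf ⟨6, 6, true, [13, 14, 8, 19, 8, 19, 14, 8, 6], [15, 8, 18, 8, 19, 8, 19, 2, 11, 6, 8, 10, 6, 4, 6, 8, 11, 4, 6, 8, 4, 6, 4, 10, 8, 10, 21]⟩)
  (.leaf ⟨6, 6, true, [14, 18, 8, 18, 8, 6, 18], [8, 6, 18, 18, 18, 8, 19, 2, 13, 8, 10, 4, 6, 8, 4, 6, 4, 0, 11, 11, 6, 23]⟩))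
  (.node (nat_lit 2719) (.leaf ⟨5, 6, true, [18, 12, 8, 18, 8, 18, 8, 18, 10], [12, 0, 2, 18, 8, 0, 18, 18, 8, 10, 6, 8, 11, 4, 6, 8, 11, 4, 6, 8, 4, 6, 4, 0, 11, 13, 6, 8, 10, 6]⟩)
  (.leaf ⟨6, 5, true, [8, 14, 0, 19, 16, 8, 19, 16], [15, 12, 0, 19, 8, 19, 2, 11, 6, 8, 10, 13, 4, 6, 8, 10, 4, 6, 8, 4, 6, 4, 11, 11, 13]⟩))))))

noncomputable def f2720 : FT := (.node (nat_lit 2736) (.node (nat_lit 2728) (.node (nat_lit 2724) (.node (nat_lit 2722) (.node (nat_lit 2721) (.leaf ⟨6, 6, true, [14, 18, 18, 8, 18, 8, 19, 19, 14], [14, 8, 19, 19, 19, 8, 19, 2, 13, 4, 6, 8, 11, 4, 6, 8, 10, 4, 6, 8, 4, 6, 4, 8, 11, 6, 8, 11, 12]⟩)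
  (.leaf ⟨6, 6, true, [19, 16, 8, 11, 8, 19, 8, 6, 2], [19, 14, 10, 8, 19, 0, 2, 11, 4, 6, 8, 4, 6, 4, 0, 11, 13, 6, 8, 10, 20]⟩))
  (.node (nat_lit 2723) (.leaf ⟨6, 6, true, [8, 19, 16, 10, 8, 6, 18, 8, 6], [8, 18, 8, 18, 8, 19, 0, 2, 12, 11, 8, 10, 4, 6, 8, 10, 4, 6, 8, 4, 6, 4, 11, 8, 10, 6, 8, 11, 12]⟩)
  (.leaf ⟨5, 6, true, [15, 18, 8, 6, 18, 4, 14, 8, 6], [15, 18, 10, 8, 18, 18, 6, 8, 11, 8, 11, 4, 6, 8, 11, 4, 6, 8, 4, 6, 4, 10, 6, 8, 10, 21]⟩)))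
  (.node (nat_lit 2726) (.node (nat_lit 2725) (.leaf ⟨6, 5, true, [18, 13, 8, 0, 19, 6, 8, 6, 18], [12, 18, 8, 0, 19, 8, 19, 2, 10, 10, 8, 4, 6, 4, 11, 8, 11, 6, 8, 11, 22]⟩)
  (.leaf ⟨6, 6, true, [8, 18, 13, 8, 0, 18, 8, 18], [8, 6, 18, 18, 18, 8, 19, 2, 13, 10, 8, 11, 6, 8, 4, 6, 4, 11, 11, 6, 13]⟩))
  (.node (nat_lit 2727) (.leaf ⟨6, 6, true, [15, 0, 19, 10, 6, 8, 19, 8, 6, 2], [0, 15, 18, 8, 2, 18, 18, 8, 10, 8, 6, 4, 12, 11, 6, 8, 10, 25]⟩)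
  (.leaf ⟨6, 6, true, [6, 8, 19, 8, 19, 10, 8, 16], [8, 18, 14, 18, 18, 8, 18, 18, 8, 11, 6, 8, 11, 4, 6, 8, 4, 6, 4, 11, 13, 8, 10, 6, 8, 11, 21]⟩))))
  (.node (nat_lit 2732) (.node (nat_lit 2730) (.node (nat_lit 2729) (.leaf ⟨6, 6, true, [12, 11, 8, 19, 19, 15], [6, 8, 19, 8, 19, 2, 8, 10, 13, 6, 8, 10, 4, 6, 8, 4, 6, 4, 12, 8, 11, 6, 13]⟩)
  (.leaf ⟨6, 6, true, [8, 19, 2], [18, 8, 0, 19, 2, 6, 8, 10, 6, 8, 4, 6, 4, 0, 10, 8, 11, 6, 8, 10, 6, 22]⟩))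
  (.node (nat_lit 2731) (.leaf ⟨6, 6, true, [6, 8, 18, 8, 15, 18, 8, 19, 19, 2], [10, 12, 8, 18, 8, 18, 18, 8, 10, 8, 10, 4, 6, 8, 4, 6, 4, 0, 24]⟩)
  (.leaf ⟨6, 6, true, [14, 18, 8, 18, 8, 6, 18, 8, 6], [8, 0, 18, 8, 0, 18, 18, 8, 11, 12, 6, 8, 11, 4, 6, 8, 4, 6, 4, 11, 8, 10, 6, 8, 11, 6, 23]⟩)))
  (.node (nat_lit 2734) (.node (nat_lit 2733) (.leaf ⟨6, 6, true, [0, 14, 8, 18, 8, 0, 19, 6, 2], [8, 0, 18, 10, 8, 18, 18, 4, 6, 8, 10, 4, 6, 8, 11, 4, 6, 8, 4, 6, 4, 10, 8, 11, 6, 8, 10]⟩)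
  (.leaf ⟨6, 6, true, [8, 19, 14, 6, 8, 19, 8, 19, 2], [19, 19, 19, 8, 19, 2, 11, 4, 6, 8, 11, 4, 6, 8, 11, 4, 6, 8, 4, 6, 4, 0, 8, 11, 8, 11, 6, 8, 10, 21]⟩))
  (.node (nat_lit 2735) (.leaf ⟨6, 6, true, [12, 19, 8, 6, 0, 18, 8, 6], [11, 8, 18, 10, 8, 18, 18, 10, 12, 6, 8, 10, 4, 6, 8, 4, 6, 4, 13, 8, 11, 13]⟩)
  (.leaf ⟨6, 6, true, [16, 8, 19, 19, 14, 10], [18, 8, 19, 10, 8, 19, 2, 11, 6, 8, 11, 6, 4, 6, 8, 11, 4, 6, 8, 4, 6, 4, 6, 8, 11, 22]⟩)))))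
  (.node (nat_lit 2744) (.node (nat_lit 2740) (.node (nat_lit 2738) (.node (nat_lit 2737) (.leaf ⟨6, 6, true, [8, 15, 19, 8, 16, 8, 19, 16], [18, 8, 18, 8, 19, 0, 2, 11, 8, 11, 6, 8, 4, 6, 4, 0, 8, 10, 13, 6, 8, 10, 23]⟩)
  (.leaf ⟨6, 6, true, [10, 8, 18, 12, 8, 18], [18, 8, 2, 19, 8, 19, 2, 12, 11, 6, 8, 10, 4, 6, 8, 4, 6, 4, 8, 11, 11, 6, 8, 11, 12]⟩))
  (.node (nat_lit 2739) (.leaf ⟨6, 6, true, [6, 8, 14, 12, 18, 8, 19, 6, 2], [19, 10, 10, 8, 19, 8, 19, 2, 11, 6, 8, 10, 6, 4, 6, 8, 11, 4, 6, 8, 4, 6, 4, 10, 6, 8, 11, 6, 8, 10, 13]⟩)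
  (.leaf ⟨6, 6, true, [8, 15, 0, 19, 8, 16, 8, 6, 18], [18, 18, 8, 0, 18, 18, 13, 11, 6, 8, 11, 4, 6, 8, 4, 6, 4, 8, 11, 6, 8, 11, 6, 24]⟩)))
  (.node (nat_lit 2742) (.node (nat_lit 2741) (.leaf ⟨6, 6, true, [14, 8, 19, 10, 8, 19, 8, 16, 10], [18, 18, 10, 8, 18, 18, 10, 8, 10, 4, 6, 8, 4, 6, 4, 13, 10, 8, 10, 24]⟩)
  (.leaf ⟨6, 6, true, [19, 10, 8, 19, 8, 19, 2], [6, 8, 18, 8, 0, 18, 18, 13, 10, 8, 10, 6, 8, 4, 6, 4, 10, 12, 8, 11, 22]⟩))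
  (.node (nat_lit 2743) (.leaf ⟨6, 6, true, [19, 19, 19, 8, 16, 8, 6, 18], [8, 18, 8, 0, 19, 8, 19, 2, 6, 4, 6, 8, 11, 4, 6, 8, 10, 4, 6, 8, 4, 6, 4, 10, 10, 6, 8, 11, 12]⟩)
  (.leaf ⟨6, 6, true, [16, 8, 6, 18], [0, 14, 4, 6, 8, 18, 18, 11, 8, 11, 6, 8, 11, 4, 6, 8, 4, 6, 4, 0, 6, 8, 10, 6, 8, 11, 6, 23]⟩))))
  (.node (nat_lit 2748) (.node (nat_lit 2746) (.node (nat_lit 2745) (.leaf ⟨6, 6, true, [13, 8, 19, 8, 6, 18, 8, 19, 16], [12, 2, 18, 8, 18, 18, 10, 8, 10, 10, 4, 6, 8, 11, 4, 6, 8, 4, 6, 4, 13, 10, 8, 11, 6, 8, 10, 6, 22]⟩)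
  (.leaf ⟨6, 6, true, [11, 8, 19, 12, 19, 8, 16], [19, 12, 6, 18, 8, 19, 8, 19, 2, 10, 8, 10, 4, 6, 8, 10, 4, 6, 8, 4, 6, 4, 0, 13, 8, 10, 6, 8, 11]⟩))
  (.node (nat_lit 2747) (.leaf ⟨6, 6, true, [14, 10, 8, 19, 8, 19, 8, 14, 6], [15, 19, 19, 19, 8, 19, 2, 6, 4, 6, 8, 11, 4, 6, 8, 4, 6, 4, 11, 6, 8, 11, 6, 8, 10, 13]⟩)
  (.leaf ⟨5, 6, true, [13, 11, 8, 0, 19, 8, 19, 8, 16], [0, 19, 8, 0, 19, 2, 6, 8, 10, 6, 8, 11, 4, 6, 8, 10, 4, 6, 8, 4, 6, 4, 11, 13, 6, 8, 10, 6, 23]⟩)))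
  (.node (nat_lit 2750) (.node (nat_lit 2749) (.leaf ⟨6, 5, true, [0, 14, 8, 18, 8, 18, 8, 19, 2], [0, 15, 18, 8, 2, 18, 18, 10, 8, 11, 4, 6, 8, 11, 4, 6, 8, 4, 6, 4, 0, 8, 10, 6, 8, 10, 13]⟩)
  (.leaf ⟨6, 6, true, [13, 8, 18, 8, 18, 8, 6, 18], [19, 2, 19, 8, 19, 2, 10, 10, 8, 6, 4, 0, 11, 13, 6, 8, 10, 6, 24]⟩))
  (.node (nat_lit 2751) (.leaf ⟨6, 6, true, [6, 8, 18, 13, 18, 8, 19, 14, 6], [8, 19, 8, 19, 8, 0, 19, 2, 10, 8, 11, 4, 6, 8, 4, 6, 4, 10, 13, 8, 10, 24]⟩)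
  (.leaf ⟨6, 6, true, [18, 12, 8, 6, 18, 8, 19, 8, 19, 2], [13, 18, 8, 19, 6, 8, 18, 18, 10, 8, 11, 13, 4, 6, 8, 10, 4, 6, 8, 4, 6, 4, 10, 6, 8, 10, 20]⟩))))))

noncomputable def f2752 : FT := (.node (nat_lit 2768) (.node (nat_lit 2760) (.node (nat_lit 2756) (.node (nat_lit 2754) (.node (nat_lit 2753) (.leaf ⟨6, 6, true, [8, 18, 13, 10, 8, 18, 8, 18, 11], [14, 0, 19, 8, 19, 2, 11, 13, 4, 6, 8, 11, 4, 6, 8, 10, 4, 6, 8, 4, 6, 4, 12, 11, 8, 10, 6, 8, 10, 24]⟩)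
  (.leaf ⟨3, 6, true, [13, 16, 8, 19, 19, 8, 16, 10], [12, 8, 19, 6, 8, 18, 18, 6, 8, 10, 6, 8, 4, 6, 4, 0, 6, 21]⟩))
  (.node (nat_lit 2755) (.leaf ⟨6, 3, true, [8, 0, 2, 18, 8, 18], [18, 18, 18, 8, 6, 4, 12, 6, 8, 11, 6, 12]⟩)
  (.leaf ⟨6, 6, true, [19, 8, 0, 19, 8, 19, 8, 14, 6], [12, 19, 8, 19, 8, 19, 2, 11, 4, 6, 8, 4, 6, 4, 10, 6, 8, 11, 6, 8, 10, 6, 21]⟩)))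
  (.node (nat_lit 2758) (.node (nat_lit 2757) (.leaf ⟨6, 6, true, [11, 8, 0, 19, 12, 19, 8, 14, 6], [0, 19, 8, 0, 19, 8, 19, 2, 8, 11, 6, 8, 4, 6, 4, 0, 11, 13]⟩)
  (.leaf ⟨6, 6, true, [19, 16, 8, 19, 0, 14, 8, 6], [8, 19, 19, 0, 19, 8, 19, 2, 12, 10, 6, 8, 4, 6, 4, 11, 13, 6, 8, 11, 24]⟩))
  (.node (nat_lit 2759) (.leaf ⟨6, 6, true, [13, 0, 18, 8, 18, 8, 4, 14, 6], [4, 14, 8, 19, 8, 19, 2, 10, 12, 6, 8, 10, 4, 6, 8, 11, 4, 6, 8, 4, 6, 4, 10, 10, 6, 8, 11]⟩)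
  (.leaf ⟨6, 6, true, [4, 6, 8, 18, 13, 18, 8, 19, 6, 2], [4, 14, 8, 19, 8, 19, 2, 12, 8, 11, 6, 8, 10, 4, 6, 8, 4, 6, 4, 0, 8, 10, 12, 6, 8, 10]⟩))))
  (.node (nat_lit 2764) (.node (nat_lit 2762) (.node (nat_lit 2761) (.leaf ⟨6, 6, true, [19, 19, 15, 19, 10, 8, 19, 8, 6, 2], [12, 0, 19, 8, 0, 19, 8, 19, 2, 4, 6, 4, 6, 8, 11, 6, 8, 10, 4, 6, 8, 4, 6, 4, 8, 11, 8, 11, 6, 8, 11, 21]⟩)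
  (.leaf ⟨6, 6, true, [19, 12, 8, 16, 8, 19, 14, 6], [19, 6, 8, 19, 8, 19, 2, 13, 6, 8, 11, 4, 6, 8, 10, 4, 6, 8, 4, 6, 4, 11, 6, 8, 11, 20]⟩))
  (.node (nat_lit 2763) (.leaf ⟨6, 6, true, [11, 8, 16, 8, 19, 19, 14], [8, 16, 8, 19, 19, 2, 4, 6, 8, 10, 8, 10, 4, 6, 8, 4, 6, 4, 8, 10, 23]⟩)
  (.leaf ⟨6, 6, true, [14, 8, 18, 18, 8, 19, 8, 6, 2], [18, 8, 19, 6, 8, 18, 18, 10, 10, 6, 8, 4, 6, 4, 0, 11, 8, 10, 6, 8, 11, 6, 13]⟩)))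
  (.node (nat_lit 2766) (.node (nat_lit 2765) (.leaf ⟨6, 6, true, [19, 6, 18, 8, 19, 12, 8, 16], [12, 0, 19, 8, 19, 8, 19, 2, 6, 8, 11, 4, 6, 8, 11, 4, 6, 8, 4, 6, 4, 10, 13, 8, 11, 23]⟩)
  (.leaf ⟨6, 6, true, [14, 0, 18, 18, 8, 6, 18], [15, 8, 18, 8, 18, 8, 19, 2, 12, 10, 4, 6, 8, 4, 6, 4, 12, 11, 6, 23]⟩))
  (.node (nat_lit 2767) (.leaf ⟨6, 6, true, [0, 19, 19, 8, 10, 6, 8, 18], [18, 8, 0, 19, 10, 8, 19, 2, 10, 10, 8, 4, 6, 4, 10, 12, 8, 11, 24]⟩)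
  (.leaf ⟨6, 6, true, [13, 19, 6, 8, 0, 18, 8, 18], [18, 2, 18, 8, 19, 10, 8, 19, 2, 6, 4, 6, 8, 11, 4, 6, 8, 4, 6, 4, 6, 8, 11, 6, 8, 10, 13]⟩)))))
  (.node (nat_lit 2776) (.node (nat_lit 2772) (.node (nat_lit 2770) (.node (nat_lit 2769) (.leaf ⟨6, 6, true, [8, 18, 14, 12, 18, 8, 19, 6, 2], [11, 8, 18, 14, 8, 18, 18, 12, 11, 4, 6, 8, 10, 4, 6, 8, 4, 6, 4, 12, 10, 8, 10, 24]⟩)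
  (.leaf ⟨6, 6, true, [12, 10, 8, 19, 8, 19, 12, 8, 16], [14, 8, 18, 0, 18, 8, 6, 4, 12, 6, 8, 11, 6, 25]⟩))
  (.node (nat_lit 2771) (.leaf ⟨6, 6, true, [18, 14, 12, 18, 8, 18, 8, 18, 11], [18, 12, 18, 8, 18, 18, 10, 6, 8, 11, 6, 4, 6, 8, 10, 4, 6, 8, 4, 6, 4, 12, 8, 11, 6, 8, 10, 6, 13]⟩)
  (.leaf ⟨6, 6, true, [18, 11, 8, 18, 18, 10, 8, 6], [13, 14, 8, 18, 8, 0, 18, 18, 12, 11, 8, 10, 4, 6, 8, 4, 6, 4, 11, 6, 8, 11, 21]⟩)))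
  (.node (nat_lit 2774) (.node (nat_lit 2773) (.leaf ⟨6, 6, true, [19, 8, 16, 8, 19, 10, 8, 19, 2], [19, 19, 0, 19, 8, 19, 2, 10, 10, 4, 6, 8, 11, 4, 6, 8, 11, 4, 6, 8, 4, 6, 4, 8, 10, 6, 8, 11, 6, 25]⟩)
  (.leaf ⟨6, 6, true, [19, 8, 11, 8, 16], [18, 8, 18, 8, 2, 18, 18, 12, 10, 4, 6, 8, 10, 4, 6, 8, 10, 4, 6, 8, 4, 6, 4, 10, 8, 11, 13, 6, 8, 10, 25]⟩))
  (.node (nat_lit 2775) (.leaf ⟨6, 6, true, [6, 18, 8, 19, 8, 16, 10], [12, 19, 8, 19, 8, 0, 19, 2, 13, 4, 6, 8, 10, 4, 6, 8, 4, 6, 4, 8, 10, 6, 12]⟩)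
  (.leaf ⟨6, 6, true, [0, 18, 18, 18, 10, 8, 6], [19, 8, 19, 6, 18, 8, 19, 2, 6, 8, 11, 6, 8, 10, 4, 6, 8, 4, 6, 4, 0, 11, 8, 11, 12, 6, 8, 11, 20]⟩))))
  (.node (nat_lit 2780) (.node (nat_lit 2778) (.node (nat_lit 2777) (.leaf ⟨6, 6, true, [14, 8, 18, 18, 8, 19, 8, 19, 2], [15, 18, 0, 14, 8, 18, 18, 12, 10, 4, 6, 8, 4, 6, 4, 0, 8, 11, 13, 6, 8, 10, 6, 12]⟩)
  (.leaf ⟨6, 6, true, [15, 12, 19, 8, 0, 19, 8, 16], [19, 8, 19, 8, 19, 8, 19, 2, 13, 10, 8, 11, 6, 8, 10, 4, 6, 8, 4, 6, 4, 0, 13, 6, 8, 10, 25]⟩))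
  (.node (nat_lit 2779) (.leaf ⟨6, 6, true, [8, 18, 10, 12, 18, 8, 19, 6, 2], [19, 10, 8, 6, 18, 8, 19, 2, 8, 6, 4, 0, 12, 8, 11, 6, 23]⟩)
  (.leaf ⟨6, 6, true, [15, 18, 8, 18, 8, 19, 6, 2], [10, 8, 0, 18, 10, 8, 18, 18, 13, 10, 8, 11, 4, 6, 8, 4, 6, 4, 11, 8, 11, 12, 6, 8, 11, 6, 23]⟩)))
  (.node (nat_lit 2782) (.node (nat_lit 2781) (.leaf ⟨6, 6, true, [0, 19, 12, 8, 16, 8, 19, 16], [15, 19, 8, 6, 18, 8, 19, 2, 13, 11, 8, 10, 4, 6, 8, 10, 4, 6, 8, 4, 6, 4, 12, 6, 8, 10, 12]⟩)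
  (.leaf ⟨6, 6, true, [8, 19, 19, 19, 8, 19, 8, 16], [16, 8, 15, 19, 8, 19, 2, 6, 4, 6, 8, 11, 6, 8, 10, 4, 6, 8, 4, 6, 4, 0, 6, 8, 10, 8, 10]⟩))
  (.node (nat_lit 2783) (.leaf ⟨3, 6, true, [19, 19, 8, 16, 10, 8, 19, 6, 2], [19, 10, 8, 19, 2, 13, 6, 8, 11, 4, 6, 8, 10, 4, 6, 8, 4, 6, 4, 10, 8, 10, 10, 6, 8, 11, 13]⟩)
  (.leaf ⟨6, 3, true, [8, 14, 18, 18, 8, 10, 6], [14, 6, 8, 19, 8, 19, 2, 8, 11, 6, 8, 11, 4, 6, 8, 10, 4, 6, 8, 4, 6, 4, 10, 8, 10, 6, 8, 10, 6, 25]⟩))))))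

noncomputable def f2784 : FT := (.node (nat_lit 2800) (.node (nat_lit 2792) (.node (nat_lit 2788) (.node (nat_lit 2786) (.node (nat_lit 2785) (.leaf ⟨6, 6, true, [18, 8, 18, 18, 12, 18, 8, 6, 18, 10], [4, 14, 8, 19, 8, 19, 2, 13, 10, 8, 11, 6, 8, 10, 4, 6, 8, 4, 6, 4, 13, 11, 8, 10, 6, 8, 11, 22]⟩)
  (.leaf ⟨6, 6, true, [18, 14, 18, 8, 18, 8, 18, 11], [8, 19, 8, 19, 2, 8, 10, 12, 4, 6, 8, 10, 4, 6, 8, 4, 6, 4, 11, 8, 11, 12, 6, 8, 11, 23]⟩))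
  (.node (nat_lit 2787) (.leaf ⟨6, 6, true, [18, 12, 10, 8, 19, 6, 8, 18], [0, 19, 8, 14, 6, 8, 18, 18, 12, 8, 11, 4, 6, 8, 4, 6, 4, 11, 12, 8, 10, 20]⟩)
  (.leaf ⟨6, 6, true, [16, 8, 19, 19, 12, 8, 16], [18, 18, 14, 8, 18, 18, 11, 12, 6, 8, 11, 4, 6, 8, 4, 6, 4, 8, 10, 6, 25]⟩)))
  (.node (nat_lit 2790) (.node (nat_lit 2789) (.leaf ⟨6, 6, true, [18, 13, 18, 8, 10, 6, 8, 18], [19, 19, 12, 19, 8, 19, 2, 6, 4, 6, 8, 10, 6, 8, 11, 4, 6, 8, 4, 6, 4, 11, 12, 6, 8, 11, 23]⟩)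
  (.leaf ⟨6, 6, true, [19, 15, 19, 8, 19, 8, 16], [10, 8, 18, 10, 8, 18, 18, 11, 13, 8, 10, 4, 6, 8, 4, 6, 4, 13, 11, 6, 8, 10, 25]⟩))
  (.node (nat_lit 2791) (.leaf ⟨6, 6, true, [18, 18, 14, 8, 18, 10, 8, 6, 18], [19, 6, 18, 8, 19, 8, 19, 2, 11, 8, 4, 6, 4, 11, 8, 11, 12, 6, 8, 11, 24]⟩)
  (.leaf ⟨6, 6, true, [13, 8, 18, 8, 18, 8, 4, 14, 6], [8, 0, 14, 6, 8, 18, 18, 12, 4, 6, 8, 10, 4, 6, 8, 11, 4, 6, 8, 4, 6, 4, 10, 8, 10, 10, 6, 8, 11, 22]⟩))))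
  (.node (nat_lit 2796) (.node (nat_lit 2794) (.node (nat_lit 2793) (.leaf ⟨6, 6, true, [12, 18, 8, 6, 18, 10, 8, 6], [6, 18, 12, 18, 8, 18, 18, 10, 10, 4, 6, 8, 4, 6, 4, 11, 11, 6, 8, 11, 22]⟩)
  (.leaf ⟨6, 6, true, [0, 19, 19, 8, 19, 8, 16, 10], [6, 18, 8, 4, 6, 18, 8, 19, 2, 11, 4, 6, 8, 10, 4, 6, 8, 4, 6, 4, 13, 8, 11, 6, 24]⟩))
  (.node (nat_lit 2795) (.leaf ⟨6, 6, true, [12, 4, 6, 8, 6, 18, 8, 18], [12, 11, 8, 19, 8, 19, 2, 13, 11, 6, 8, 11, 4, 6, 8, 4, 6, 4, 8, 10, 8, 10, 6, 8, 10, 6]⟩)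
  (.leaf ⟨6, 6, true, [8, 16, 8, 19, 6, 8, 19, 8, 14, 6], [11, 8, 18, 14, 8, 18, 18, 10, 4, 6, 8, 10, 6, 8, 11, 4, 6, 8, 4, 6, 4, 11, 8, 10, 6, 8, 11, 13]⟩)))
  (.node (nat_lit 2798) (.node (nat_lit 2797) (.leaf ⟨6, 6, true, [19, 12, 16, 8, 19, 6, 18, 8, 6], [0, 14, 12, 8, 18, 8, 18, 18, 4, 6, 8, 11, 6, 8, 10, 4, 6, 8, 4, 6, 4, 0, 8, 10, 10, 6, 8, 10, 22]⟩)
  (.leaf ⟨6, 6, true, [8, 15, 18, 13, 8, 18, 8, 19, 6, 2], [16, 8, 19, 6, 18, 8, 19, 2, 10, 10, 8, 4, 6, 4, 0, 11, 6, 8, 11, 20]⟩))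
  (.node (nat_lit 2799) (.leaf ⟨6, 6, true, [12, 2, 18, 8, 18, 8, 18, 10, 10], [12, 19, 8, 6, 18, 8, 19, 2, 11, 8, 11, 6, 8, 11, 4, 6, 8, 4, 6, 4, 12, 11, 8, 10, 6, 8, 10, 22]⟩)
  (.leaf ⟨6, 6, true, [19, 8, 15, 19, 6, 8, 18, 8, 18], [11, 8, 0, 19, 8, 19, 2, 4, 6, 8, 11, 8, 11, 4, 6, 8, 4, 6, 4, 0, 8, 10, 6, 13]⟩)))))
  (.node (nat_lit 2808) (.node (nat_lit 2804) (.node (nat_lit 2802) (.node (nat_lit 2801) (.leaf ⟨6, 6, true, [13, 16, 8, 19, 10, 8, 19, 8, 6, 2], [12, 15, 8, 19, 8, 19, 2, 6, 8, 10, 6, 8, 4, 6, 4, 0, 10, 13, 8, 11, 20]⟩)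
  (.leaf ⟨6, 6, true, [14, 8, 18, 10, 8, 19, 8, 19, 2], [19, 12, 6, 18, 8, 19, 8, 19, 2, 8, 10, 4, 6, 8, 4, 6, 4, 0, 11, 6, 8, 11, 21]⟩))
  (.node (nat_lit 2803) (.leaf ⟨6, 6, true, [0, 14, 18, 18, 8, 19, 10, 8, 16], [19, 0, 14, 6, 8, 18, 18, 8, 10, 13, 4, 6, 8, 10, 4, 6, 8, 4, 6, 4, 13, 11, 6, 8, 10, 12]⟩)
  (.leaf ⟨6, 6, true, [8, 18, 14, 8, 18, 8, 19, 8, 16], [8, 0, 18, 18, 10, 8, 19, 2, 8, 11, 8, 11, 6, 8, 4, 6, 4, 0, 11, 8, 10, 6, 13]⟩)))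
  (.node (nat_lit 2806) (.node (nat_lit 2805) (.leaf ⟨6, 5, true, [13, 15, 19, 19, 8, 19, 10, 8, 16], [6, 18, 11, 8, 19, 8, 19, 2, 6, 8, 10, 6, 8, 11, 4, 6, 8, 11, 4, 6, 8, 4, 6, 4, 10, 25]⟩)
  (.leaf ⟨5, 6, true, [8, 18, 13, 18, 8, 18, 10], [0, 15, 12, 18, 8, 0, 18, 18, 8, 11, 6, 8, 11, 4, 6, 8, 4, 6, 4, 10, 8, 11, 6, 8, 11, 21]⟩))
  (.node (nat_lit 2807) (.leaf ⟨6, 6, true, [12, 2, 18, 8, 19, 19, 15], [8, 19, 19, 14, 8, 19, 0, 2, 8, 10, 8, 10, 6, 8, 4, 6, 4, 12, 8, 11, 6, 8, 10, 6, 23]⟩)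
  (.leaf ⟨6, 6, true, [15, 19, 8, 19, 2], [16, 8, 14, 18, 18, 8, 19, 2, 13, 11, 6, 8, 10, 4, 6, 8, 10, 4, 6, 8, 4, 6, 4, 12, 8, 10, 6, 13]⟩))))
  (.node (nat_lit 2812) (.node (nat_lit 2810) (.node (nat_lit 2809) (.leaf ⟨6, 6, true, [8, 0, 19, 13, 19, 8, 14, 6], [18, 14, 8, 19, 0, 2, 4, 6, 8, 4, 6, 4, 11, 8, 11, 24]⟩)
  (.leaf ⟨6, 6, true, [16, 14, 12, 8, 19, 8, 19, 14], [13, 19, 10, 8, 19, 8, 19, 2, 13, 11, 8, 11, 6, 8, 4, 6, 4, 12, 10, 24]⟩))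
  (.node (nat_lit 2811) (.leaf ⟨6, 6, true, [14, 6, 8, 19, 8, 0, 14, 6], [14, 8, 18, 8, 2, 18, 18, 8, 11, 6, 8, 11, 4, 6, 8, 10, 4, 6, 8, 4, 6, 4, 11, 13, 6, 8, 10, 6, 25]⟩)
  (.leaf ⟨6, 6, true, [8, 0, 19, 6, 8, 19, 8, 19, 14], [19, 19, 0, 19, 8, 19, 2, 13, 8, 10, 6, 8, 4, 6, 4, 0, 8, 10, 6, 8, 11, 12]⟩)))
  (.node (nat_lit 2814) (.node (nat_lit 2813) (.leaf ⟨6, 6, true, [8, 19, 14, 8, 10, 6], [16, 8, 0, 19, 8, 19, 2, 4, 6, 8, 11, 4, 6, 8, 10, 4, 6, 8, 4, 6, 4, 0, 12, 8, 11, 6, 8, 10, 6, 24]⟩)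
  (.leaf ⟨6, 6, true, [18, 18, 10, 8, 6, 18, 8, 6], [19, 8, 14, 6, 8, 18, 18, 8, 11, 6, 4, 6, 8, 11, 4, 6, 8, 4, 6, 4, 8, 10, 8, 10]⟩))
  (.node (nat_lit 2815) (.leaf ⟨6, 6, true, [12, 19, 13, 8, 19, 10, 8, 16], [6, 18, 8, 18, 18, 11, 6, 8, 10, 4, 6, 8, 4, 6, 4, 0, 11, 12]⟩)
  (.leaf ⟨6, 6, true, [18, 8, 19, 6, 8, 19, 19, 2], [10, 10, 8, 19, 8, 19, 2, 10, 6, 8, 10, 6, 8, 4, 6, 4, 6, 8, 10, 8, 10, 6, 22]⟩))))))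

noncomputable def f2816 : FT := (.node (nat_lit 2832) (.node (nat_lit 2824) (.node (nat_lit 2820) (.node (nat_lit 2818) (.node (nat_lit 2817) (.leaf ⟨6, 5, true, [19, 8, 16, 8, 15, 18, 8, 18], [13, 19, 8, 0, 19, 8, 19, 2, 11, 8, 11, 6, 4, 6, 8, 10, 4, 6, 8, 4, 6, 4, 8, 10, 8, 10, 6, 8, 10, 6, 25]⟩)
  (.leaf ⟨5, 6, true, [14, 8, 19, 0, 14, 8, 6], [18, 8, 2, 19, 8, 19, 2, 13, 8, 10, 4, 6, 8, 4, 6, 4, 6, 8, 10, 6, 8, 11, 6, 22]⟩))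
  (.node (nat_lit 2819) (.leaf ⟨6, 6, true, [18, 18, 8, 18, 14, 8, 19, 19, 2], [14, 18, 18, 10, 8, 18, 18, 11, 12, 8, 10, 4, 6, 8, 11, 4, 6, 8, 4, 6, 4, 8, 10, 13, 6, 8, 10, 12]⟩)
  (.leaf ⟨6, 6, true, [11, 8, 0, 19, 8, 19, 8, 14, 6], [14, 10, 8, 18, 8, 18, 18, 12, 11, 8, 4, 6, 4, 6, 8, 10, 6, 8, 11, 21]⟩)))
  (.node (nat_lit 2822) (.node (nat_lit 2821) (.leaf ⟨6, 6, true, [18, 8, 15, 18, 8, 19, 16], [8, 19, 10, 6, 8, 19, 19, 2, 13, 6, 8, 11, 4, 6, 8, 4, 6, 4, 8, 10, 13, 6, 8, 10, 13]⟩)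
  (.leaf ⟨6, 6, true, [16, 8, 15, 18, 8, 19, 19, 15], [12, 15, 8, 19, 8, 19, 2, 12, 8, 11, 6, 8, 10, 4, 6, 8, 4, 6, 4, 0, 6, 8, 10, 8, 10, 12]⟩))
  (.node (nat_lit 2823) (.leaf ⟨6, 6, true, [12, 15, 8, 18, 8, 18, 8, 18, 10], [15, 0, 19, 8, 19, 10, 8, 19, 2, 8, 6, 4, 0, 8, 10, 6, 8, 10, 6, 22]⟩)
  (.leaf ⟨6, 6, true, [8, 18, 8, 0, 15, 18, 8, 18, 10], [19, 8, 19, 8, 0, 19, 2, 11, 6, 8, 11, 13, 4, 6, 8, 10, 4, 6, 8, 4, 6, 4, 13, 11, 8, 11, 23]⟩))))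
  (.node (nat_lit 2828) (.node (nat_lit 2826) (.node (nat_lit 2825) (.leaf ⟨6, 6, true, [18, 8, 18, 8, 0, 18, 8, 18, 10], [19, 19, 6, 8, 19, 8, 19, 2, 11, 8, 10, 4, 6, 8, 4, 6, 4, 0, 12, 11]⟩)
  (.leaf ⟨6, 6, true, [19, 15, 19, 10, 8, 19, 8, 6, 2], [18, 10, 8, 19, 19, 2, 6, 8, 11, 6, 4, 6, 8, 10, 4, 6, 8, 4, 6, 4, 10, 8, 10, 10, 6, 8, 11, 12]⟩))
  (.node (nat_lit 2827) (.leaf ⟨6, 6, true, [18, 8, 14, 18, 18, 8, 19, 16], [19, 8, 0, 19, 8, 19, 2, 4, 6, 8, 11, 8, 11, 4, 6, 8, 4, 6, 4, 8, 11, 6, 8, 10, 6, 23]⟩)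
  (.leaf ⟨6, 6, true, [19, 12, 6, 8, 16, 8, 19, 19, 2], [18, 14, 18, 18, 8, 18, 18, 8, 11, 4, 6, 8, 11, 4, 6, 8, 4, 6, 4, 0, 13, 10, 6, 8, 11, 12]⟩)))
  (.node (nat_lit 2830) (.node (nat_lit 2829) (.leaf ⟨6, 6, true, [8, 2, 19, 8, 19, 8, 16, 10], [12, 8, 18, 8, 19, 19, 2, 11, 8, 10, 4, 6, 8, 11, 4, 6, 8, 4, 6, 4, 8, 11, 6, 8, 10, 6, 23]⟩)
  (.leaf ⟨6, 6, true, [11, 8, 19, 8, 15, 19, 8, 19, 2], [18, 8, 0, 18, 8, 18, 18, 6, 4, 6, 8, 10, 4, 6, 8, 4, 6, 4, 10, 10, 6, 21]⟩))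
  (.node (nat_lit 2831) (.leaf ⟨6, 6, true, [14, 6, 18, 8, 19, 12, 19, 2], [13, 0, 19, 8, 19, 8, 0, 19, 2, 6, 8, 10, 4, 6, 8, 11, 4, 6, 8, 4, 6, 4, 11, 13, 6, 8, 11, 21]⟩)
  (.leaf ⟨6, 6, true, [18, 14, 18, 8, 19, 8, 16, 10], [2, 18, 8, 19, 8, 0, 19, 2, 10, 10, 8, 11, 6, 8, 4, 6, 4, 11, 8, 10, 20]⟩)))))
  (.node (nat_lit 2840) (.node (nat_lit 2836) (.node (nat_lit 2834) (.node (nat_lit 2833) (.leaf ⟨6, 6, true, [8, 14, 8, 19, 8, 19, 8, 16, 10], [18, 8, 2, 19, 8, 19, 2, 13, 4, 6, 8, 10, 4, 6, 8, 11, 4, 6, 8, 4, 6, 4, 10, 6, 8, 10, 6, 12]⟩)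
  (.leaf ⟨6, 6, true, [0, 19, 2, 19, 8, 19, 8, 14, 6], [6, 8, 18, 18, 6, 4, 6, 8, 10, 6, 8, 11, 4, 6, 8, 4, 6, 4, 11, 8, 11, 6, 8, 11]⟩))
  (.node (nat_lit 2835) (.leaf ⟨6, 5, true, [15, 0, 15, 18, 10, 8, 19, 6, 2], [8, 15, 0, 18, 8, 18, 18, 13, 11, 4, 6, 8, 10, 4, 6, 8, 10, 4, 6, 8, 4, 6, 4, 11, 11, 8, 11, 6, 8, 11, 12]⟩)
  (.leaf ⟨5, 6, true, [8, 18, 14, 8, 19, 19, 14, 8, 6], [15, 18, 8, 19, 8, 19, 2, 11, 6, 8, 11, 13, 4, 6, 8, 10, 4, 6, 8, 4, 6, 4, 8, 11, 6, 22]⟩)))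
  (.node (nat_lit 2838) (.node (nat_lit 2837) (.leaf ⟨6, 6, true, [0, 15, 8, 18, 8, 19, 19, 14], [6, 18, 11, 8, 19, 8, 19, 2, 10, 10, 6, 8, 10, 4, 6, 8, 4, 6, 4, 10, 8, 11, 11, 6, 8, 11]⟩)
  (.leaf ⟨6, 6, true, [0, 19, 12, 19, 8, 19, 14, 8, 6], [13, 14, 8, 18, 8, 0, 18, 18, 11, 8, 11, 4, 6, 8, 11, 4, 6, 8, 4, 6, 4, 0, 6, 8, 10, 6, 8, 11, 24]⟩))
  (.node (nat_lit 2839) (.leaf ⟨6, 6, true, [19, 12, 6, 8, 19, 8, 19, 2], [8, 0, 19, 8, 19, 8, 0, 19, 2, 11, 11, 8, 11, 4, 6, 8, 11, 4, 6, 8, 4, 6, 4, 6, 8, 10, 8, 10, 6, 25]⟩)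
  (.leaf ⟨6, 6, true, [13, 16, 8, 19, 8, 19, 8, 6, 2], [19, 6, 18, 8, 19, 2, 13, 10, 8, 11, 6, 8, 10, 4, 6, 8, 4, 6, 4, 0, 13, 8, 11, 22]⟩))))
  (.node (nat_lit 2844) (.node (nat_lit 2842) (.node (nat_lit 2841) (.leaf ⟨6, 5, true, [13, 8, 16, 8, 19, 6, 8, 18], [8, 15, 18, 8, 18, 18, 10, 8, 11, 6, 8, 10, 4, 6, 8, 4, 6, 4, 0, 12, 6, 8, 11, 6, 13]⟩)
  (.leaf ⟨5, 6, true, [18, 18, 10, 8, 19, 8, 19, 8, 6, 2], [10, 8, 18, 8, 18, 8, 19, 2, 11, 12, 8, 10, 4, 6, 8, 11, 4, 6, 8, 4, 6, 4, 8, 10, 8, 10, 6, 20]⟩))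
  (.node (nat_lit 2843) (.leaf ⟨6, 6, true, [15, 18, 12, 8, 18, 8, 19, 16], [12, 8, 2, 18, 8, 0, 18, 18, 12, 11, 6, 8, 4, 6, 4, 0, 11, 8, 10, 6, 8, 11, 6, 22]⟩)
  (.leaf ⟨6, 6, true, [18, 12, 8, 18, 8, 19, 19, 15], [14, 4, 6, 18, 8, 19, 2, 10, 8, 11, 6, 8, 4, 6, 4, 0, 10, 13, 8, 11, 6, 12]⟩)))
  (.node (nat_lit 2846) (.node (nat_lit 2845) (.leaf ⟨6, 6, true, [8, 19, 6, 18, 8, 16, 8, 19, 16], [14, 18, 8, 18, 18, 10, 6, 8, 10, 4, 6, 8, 4, 6, 4, 12, 6, 8, 11, 13]⟩)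
  (.leaf ⟨6, 6, true, [14, 18, 18, 13, 8, 19, 8, 14, 6], [18, 2, 18, 8, 19, 8, 19, 2, 13, 10, 4, 6, 8, 10, 4, 6, 8, 10, 4, 6, 8, 4, 6, 4, 11, 11, 8, 10, 21]⟩))
  (.node (nat_lit 2847) (.leaf ⟨6, 6, true, [2, 19, 6, 8, 19, 8, 14, 6], [18, 8, 0, 18, 8, 18, 18, 4, 6, 8, 4, 6, 4, 0, 11, 8, 10, 6, 21]⟩)
  (.leaf ⟨6, 6, true, [13, 11, 8, 19, 8, 16], [13, 15, 8, 19, 8, 19, 2, 13, 8, 10, 4, 6, 8, 4, 6, 4, 8, 11, 8, 11, 22]⟩))))))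

noncomputable def f2848 : FT := (.node (nat_lit 2864) (.node (nat_lit 2856) (.node (nat_lit 2852) (.node (nat_lit 2850) (.node (nat_lit 2849) (.leaf ⟨5, 6, true, [18, 4, 6, 8, 18, 8, 19, 6, 2], [8, 19, 6, 18, 8, 19, 2, 11, 11, 8, 10, 6, 8, 11, 4, 6, 8, 4, 6, 4, 10, 8, 10, 22]⟩)
  (.leaf ⟨6, 5, true, [16, 8, 19, 10, 8, 19, 8, 16, 10], [19, 10, 10, 8, 19, 8, 19, 2, 10, 13, 8, 11, 6, 8, 10, 4, 6, 8, 4, 6, 4, 10, 12, 6, 8, 10, 25]⟩))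
  (.node (nat_lit 2851) (.leaf ⟨6, 6, true, [15, 8, 18, 18, 8, 16, 8, 19, 16], [16, 8, 19, 6, 8, 19, 19, 2, 8, 11, 4, 6, 8, 4, 6, 4, 0, 10, 13, 8, 10, 6, 20]⟩)
  (.leaf ⟨6, 6, true, [16, 8, 0, 15, 18, 8, 6, 18, 10], [11, 8, 19, 2, 10, 6, 8, 10, 4, 6, 8, 10, 4, 6, 8, 4, 6, 4, 0, 10, 8, 11, 6, 8, 11, 6, 24]⟩)))
  (.node (nat_lit 2854) (.node (nat_lit 2853) (.leaf ⟨6, 6, true, [0, 19, 16, 8, 6, 18, 10, 8, 6], [10, 10, 8, 19, 8, 19, 2, 11, 12, 8, 10, 6, 8, 4, 6, 4, 8, 10, 8, 10, 20]⟩)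
  (.leaf ⟨6, 6, true, [0, 14, 8, 18, 8, 19, 8, 19, 14], [12, 18, 8, 19, 0, 2, 13, 11, 8, 10, 6, 8, 11, 4, 6, 8, 4, 6, 4, 11, 11, 8, 10, 6, 8, 11, 22]⟩))
  (.node (nat_lit 2855) (.leaf ⟨3, 6, true, [8, 19, 19, 8, 16, 12, 8, 6, 18], [0, 18, 18, 18, 8, 10, 10, 6, 8, 11, 4, 6, 8, 4, 6, 4, 11, 11, 6, 8, 11, 23]⟩)
  (.leaf ⟨6, 3, true, [19, 19, 8, 19, 15], [18, 8, 10, 13, 6, 8, 10, 4, 6, 8, 4, 6, 4, 10, 10, 6, 24]⟩))))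
  (.node (nat_lit 2860) (.node (nat_lit 2858) (.node (nat_lit 2857) (.leaf ⟨6, 6, true, [19, 6, 8, 18, 8, 19, 16], [12, 10, 8, 19, 0, 2, 13, 10, 8, 10, 4, 6, 8, 4, 6, 4, 13, 10, 8, 11, 25]⟩)
  (.leaf ⟨6, 6, true, [15, 13, 8, 6, 18, 8, 19, 2], [10, 8, 18, 14, 8, 18, 18, 10, 10, 6, 8, 10, 4, 6, 8, 4, 6, 4, 12, 10, 8, 10, 6, 8, 10, 22]⟩))
  (.node (nat_lit 2859) (.leaf ⟨6, 3, true, [13, 11, 8, 19, 19, 15, 8, 6], [6, 8, 19, 8, 19, 2, 11, 4, 6, 8, 10, 4, 6, 8, 4, 6, 4, 10, 8, 10, 6, 8, 10, 6, 25]⟩)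
  (.leaf ⟨3, 6, true, [12, 18, 8, 6, 18, 8, 18, 11], [8, 18, 8, 18, 18, 8, 11, 4, 6, 8, 11, 4, 6, 8, 4, 6, 4, 13, 10, 6, 8, 11, 22]⟩)))
  (.node (nat_lit 2862) (.node (nat_lit 2861) (.leaf ⟨6, 6, true, [6, 8, 19, 6, 8, 19, 8, 6, 2], [14, 0, 19, 8, 19, 2, 10, 13, 8, 11, 4, 6, 8, 4, 6, 4, 0, 6, 8, 11, 8, 11, 6, 23]⟩)
  (.leaf ⟨6, 5, true, [10, 6, 8, 19, 19, 12, 14], [8, 0, 18, 8, 0, 18, 18, 13, 8, 10, 4, 6, 8, 11, 4, 6, 8, 4, 6, 4, 10, 8, 11, 6, 8, 10, 6, 22]⟩))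
  (.node (nat_lit 2863) (.leaf ⟨5, 6, true, [14, 10, 8, 18, 8, 19, 19, 2], [6, 0, 18, 10, 8, 18, 18, 4, 6, 8, 11, 6, 4, 6, 8, 10, 4, 6, 8, 4, 6, 4, 13, 10, 8, 11, 6, 8, 10, 20]⟩)
  (.leaf ⟨6, 6, true, [16, 12, 8, 6, 18, 8, 18], [0, 19, 8, 19, 10, 10, 8, 19, 2, 4, 6, 8, 11, 6, 8, 10, 4, 6, 8, 4, 6, 4, 6, 8, 11, 6, 23]⟩)))))
  (.node (nat_lit 2872) (.node (nat_lit 2868) (.node (nat_lit 2866) (.node (nat_lit 2865) (.leaf ⟨6, 6, true, [11, 13, 8, 6, 18, 8, 19, 6, 2], [8, 18, 18, 10, 8, 19, 0, 2, 11, 6, 4, 6, 8, 10, 4, 6, 8, 11, 4, 6, 8, 4, 6, 4, 10, 13, 6, 8, 10, 25]⟩)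
  (.leaf ⟨6, 6, true, [13, 11, 8, 18, 8, 18, 11], [13, 0, 19, 8, 19, 8, 19, 2, 8, 10, 4, 6, 8, 10, 4, 6, 8, 4, 6, 4, 12, 11, 6, 8, 10, 6, 12]⟩))
  (.node (nat_lit 2867) (.leaf ⟨6, 6, true, [0, 19, 13, 16, 8, 19, 14, 8, 6], [8, 18, 0, 14, 8, 18, 18, 11, 6, 4, 6, 8, 11, 4, 6, 8, 10, 4, 6, 8, 4, 6, 4, 10, 13, 8, 10, 13]⟩)
  (.leaf ⟨6, 6, true, [6, 18, 18, 8, 18, 18, 10, 8, 6], [18, 8, 18, 10, 8, 19, 19, 2, 13, 10, 6, 8, 11, 4, 6, 8, 4, 6, 4, 10, 10, 6, 22]⟩)))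
  (.node (nat_lit 2870) (.node (nat_lit 2869) (.leaf ⟨6, 6, true, [18, 10, 8, 6, 18, 8, 19, 16], [8, 0, 14, 18, 18, 8, 19, 2, 13, 6, 8, 10, 4, 6, 8, 4, 6, 4, 0, 10, 8, 11, 13, 6, 8, 10, 13]⟩)
  (.leaf ⟨6, 6, true, [13, 14, 8, 19, 8, 19, 8, 16, 10], [18, 12, 8, 19, 8, 19, 2, 12, 11, 6, 8, 4, 6, 4, 6, 8, 10, 6, 20]⟩))
  (.node (nat_lit 2871) (.leaf ⟨6, 6, true, [14, 18, 8, 18, 12, 8, 6, 18], [0, 18, 8, 18, 18, 13, 8, 10, 4, 6, 8, 4, 6, 4, 0, 12, 6, 8, 11, 6, 12]⟩)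
  (.leaf ⟨5, 6, true, [6, 8, 6, 18, 8, 4, 14, 6], [13, 18, 8, 18, 8, 19, 19, 2, 8, 10, 8, 10, 4, 6, 8, 4, 6, 4, 0, 11, 11, 8, 11, 22]⟩))))
  (.node (nat_lit 2876) (.node (nat_lit 2874) (.node (nat_lit 2873) (.leaf ⟨6, 5, true, [19, 16, 12, 8, 19, 8, 19, 14, 8, 6], [8, 6, 18, 8, 2, 18, 18, 12, 11, 8, 6, 4, 8, 10, 6, 21]⟩)
  (.leaf ⟨6, 6, true, [0, 19, 8, 16, 8, 19, 8, 16, 10], [8, 16, 8, 0, 19, 8, 0, 19, 2, 8, 10, 8, 6, 4, 0, 12, 10, 8, 10, 6, 23]⟩))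
  (.node (nat_lit 2875) (.leaf ⟨6, 6, true, [19, 19, 16, 8, 15, 8, 18, 8, 18], [13, 18, 14, 8, 19, 8, 19, 2, 11, 8, 11, 6, 8, 4, 6, 4, 0, 12, 8, 10, 6, 8, 10, 21]⟩)
  (.leaf ⟨6, 6, true, [12, 19, 8, 19, 8, 19, 8, 16, 10], [18, 14, 8, 19, 0, 2, 11, 4, 6, 8, 10, 4, 6, 8, 4, 6, 4, 13, 10, 8, 11, 6, 8, 10, 25]⟩)))
  (.node (nat_lit 2878) (.node (nat_lit 2877) (.leaf ⟨6, 6, true, [13, 8, 18, 8, 0, 18, 10], [18, 18, 10, 10, 8, 18, 18, 10, 6, 8, 11, 6, 8, 10, 4, 6, 8, 4, 6, 4, 12, 8, 10, 21]⟩)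
  (.leaf ⟨6, 6, true, [8, 11, 8, 18, 8, 18], [12, 6, 18, 8, 0, 18, 18, 4, 6, 8, 11, 4, 6, 8, 11, 4, 6, 8, 4, 6, 4, 0, 12, 10, 6, 8, 10, 20]⟩))
  (.node (nat_lit 2879) (.leaf ⟨6, 6, true, [14, 0, 18, 13, 18, 8, 6, 18], [8, 19, 8, 19, 6, 8, 18, 18, 12, 10, 6, 8, 10, 4, 6, 8, 10, 4, 6, 8, 4, 6, 4, 13, 11, 6, 8, 10, 22]⟩)
  (.leaf ⟨3, 6, true, [6, 18, 8, 18, 10, 8, 19, 19, 14], [18, 12, 8, 0, 19, 8, 19, 2, 10, 10, 6, 8, 11, 4, 6, 8, 10, 4, 6, 8, 4, 6, 4, 12, 8, 11, 6, 8, 10, 6]⟩))))))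

noncomputable def f2880 : FT := (.node (nat_lit 2896) (.node (nat_lit 2888) (.node (nat_lit 2884) (.node (nat_lit 2882) (.node (nat_lit 2881) (.leaf ⟨6, 3, true, [0, 15, 8, 18, 8, 6, 18, 8, 6], [19, 0, 19, 10, 8, 19, 2, 10, 13, 4, 6, 8, 10, 4, 6, 8, 4, 6, 4, 13, 8, 10, 22]⟩)
  (.leaf ⟨5, 6, true, [16, 14, 12, 8, 19, 8, 19, 14], [14, 6, 0, 18, 8, 18, 18, 6, 8, 11, 12, 4, 6, 8, 11, 4, 6, 8, 4, 6, 4, 11, 11]⟩))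
  (.node (nat_lit 2883) (.leaf ⟨6, 5, true, [0, 18, 8, 18, 10, 8, 6], [2, 19, 12, 19, 8, 19, 2, 10, 10, 4, 6, 8, 4, 6, 4, 10, 6, 8, 10, 6, 8, 11, 13]⟩)
  (.leaf ⟨6, 6, true, [16, 14, 10, 8, 19, 10, 8, 19, 2], [18, 18, 14, 8, 18, 18, 10, 8, 11, 4, 6, 8, 11, 4, 6, 8, 4, 6, 4, 0, 8, 10, 8, 10, 6, 8, 10, 6, 12]⟩)))
  (.node (nat_lit 2886) (.node (nat_lit 2885) (.leaf ⟨6, 6, true, [12, 18, 8, 6, 18, 8, 18, 11], [18, 2, 18, 8, 19, 10, 8, 19, 2, 10, 10, 6, 8, 11, 4, 6, 8, 10, 4, 6, 8, 4, 6, 4, 8, 11, 6, 8, 10]⟩)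
  (.leaf ⟨6, 6, true, [14, 6, 8, 18, 8, 18, 10], [15, 8, 18, 8, 0, 18, 18, 6, 8, 11, 4, 6, 8, 10, 4, 6, 8, 4, 6, 4, 0, 6, 8, 11, 6, 24]⟩))
  (.node (nat_lit 2887) (.leaf ⟨6, 6, true, [0, 18, 18, 8, 10, 6], [0, 15, 18, 10, 8, 18, 18, 6, 8, 10, 4, 6, 8, 11, 4, 6, 8, 4, 6, 4, 10, 10, 6, 8, 11, 22]⟩)
  (.leaf ⟨6, 6, true, [14, 8, 19, 6, 8, 6, 18, 8, 6], [13, 14, 8, 19, 8, 19, 2, 11, 8, 11, 4, 6, 8, 10, 4, 6, 8, 4, 6, 4, 0, 6, 13]⟩))))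
  (.node (nat_lit 2892) (.node (nat_lit 2890) (.node (nat_lit 2889) (.leaf ⟨6, 5, true, [14, 12, 8, 18, 8, 18, 12, 10], [10, 6, 8, 19, 8, 19, 2, 12, 10, 8, 10, 6, 8, 10, 4, 6, 8, 4, 6, 4, 11, 11, 6, 25]⟩)
  (.leaf ⟨5, 6, true, [8, 15, 18, 8, 18, 12, 18, 8, 6], [19, 8, 19, 8, 19, 2, 4, 6, 8, 10, 6, 4, 6, 8, 11, 4, 6, 8, 4, 6, 4, 10, 8, 11, 6, 8, 10, 6, 12]⟩))
  (.node (nat_lit 2891) (.leaf ⟨5, 6, true, [8, 19, 8, 19, 19, 14, 10], [18, 10, 8, 19, 19, 2, 10, 6, 8, 10, 6, 8, 11, 4, 6, 8, 4, 6, 4, 10, 6, 8, 11, 6, 8, 10, 6, 22]⟩)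
  (.leaf ⟨6, 5, true, [0, 19, 19, 8, 6, 18, 8, 18], [8, 2, 18, 18, 4, 6, 4, 8, 11, 6, 8, 10, 6, 22]⟩)))
  (.node (nat_lit 2894) (.node (nat_lit 2893) (.leaf ⟨6, 6, true, [2, 18, 8, 18, 8, 6, 18], [14, 8, 18, 0, 18, 4, 6, 8, 11, 8, 11, 4, 6, 8, 10, 4, 6, 8, 4, 6, 4, 13, 6, 8, 11, 13]⟩)
  (.leaf ⟨6, 6, true, [10, 12, 8, 19, 13, 8, 19, 8, 16], [0, 19, 15, 8, 19, 8, 19, 2, 10, 13, 8, 11, 4, 6, 8, 10, 4, 6, 8, 4, 6, 4, 12, 11, 6, 8, 10, 6, 12]⟩))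
  (.node (nat_lit 2895) (.leaf ⟨6, 6, true, [6, 18, 13, 18, 8, 6, 18, 8, 6], [18, 12, 8, 19, 8, 0, 19, 2, 12, 4, 6, 8, 11, 4, 6, 8, 4, 6, 4, 11, 22]⟩)
  (.leaf ⟨6, 6, true, [19, 8, 10, 8, 6, 18, 8, 6], [8, 19, 6, 8, 18, 18, 8, 11, 6, 8, 10, 4, 6, 8, 4, 6, 4, 0, 10, 8, 11, 6, 8, 11, 6]⟩)))))
  (.node (nat_lit 2904) (.node (nat_lit 2900) (.node (nat_lit 2898) (.node (nat_lit 2897) (.leaf ⟨6, 6, true, [18, 11, 8, 18, 8, 18, 10], [8, 15, 0, 18, 8, 18, 18, 11, 8, 11, 4, 6, 8, 10, 4, 6, 8, 4, 6, 4, 11, 12, 8, 10, 6, 8, 11, 13]⟩)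
  (.leaf ⟨6, 6, true, [14, 8, 6, 18, 10, 8, 19, 19, 15], [0, 2, 18, 18, 13, 10, 8, 10, 4, 6, 8, 10, 4, 6, 8, 4, 6, 4, 8, 11, 13, 6, 8, 11, 6]⟩))
  (.node (nat_lit 2899) (.leaf ⟨6, 6, true, [13, 10, 8, 19, 8, 19, 14], [8, 15, 18, 8, 2, 18, 18, 8, 11, 12, 6, 8, 11, 4, 6, 8, 4, 6, 4, 0, 8, 11, 13, 6, 8, 10, 21]⟩)
  (.leaf ⟨6, 6, true, [18, 13, 8, 0, 19, 8, 14, 6], [18, 0, 14, 8, 18, 18, 10, 4, 6, 8, 10, 4, 6, 8, 10, 4, 6, 8, 4, 6, 4, 0, 13, 10, 8, 10, 24]⟩)))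
  (.node (nat_lit 2902) (.node (nat_lit 2901) (.leaf ⟨6, 6, true, [10, 8, 6, 18, 12, 8, 6, 18], [0, 14, 8, 18, 18, 11, 8, 11, 12, 6, 8, 11, 4, 6, 8, 4, 6, 4, 10, 13, 8, 11, 21]⟩)
  (.leaf ⟨6, 6, true, [14, 8, 6, 18, 8, 19, 12, 16], [18, 10, 8, 19, 0, 2, 10, 8, 11, 11, 6, 8, 11, 4, 6, 8, 4, 6, 4, 11, 8, 10, 6, 8, 10, 6, 20]⟩))
  (.node (nat_lit 2903) (.leaf ⟨6, 6, true, [13, 15, 8, 19, 8, 19, 8, 6, 2], [6, 8, 18, 8, 19, 2, 11, 6, 8, 11, 6, 4, 6, 8, 11, 4, 6, 8, 4, 6, 4, 8, 10, 12, 6, 8, 10, 20]⟩)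
  (.leaf ⟨6, 6, true, [19, 11, 8, 16, 8, 19, 12, 19, 2], [8, 0, 19, 10, 10, 8, 19, 2, 6, 8, 10, 6, 8, 4, 6, 4, 12, 8, 10, 6, 8, 10, 13]⟩))))
  (.node (nat_lit 2908) (.node (nat_lit 2906) (.node (nat_lit 2905) (.leaf ⟨6, 6, true, [14, 8, 6, 18, 10, 8, 19, 6, 2], [15, 18, 18, 18, 8, 19, 2, 8, 10, 4, 6, 8, 4, 6, 4, 10, 8, 11, 6, 8, 10, 6, 24]⟩)
  (.leaf ⟨6, 6, true, [6, 18, 8, 18, 8, 19, 19, 14], [12, 8, 19, 6, 8, 18, 18, 11, 4, 6, 8, 11, 4, 6, 8, 10, 4, 6, 8, 4, 6, 4, 10, 8, 10, 6, 8, 10, 6, 13]⟩))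
  (.node (nat_lit 2907) (.leaf ⟨6, 6, true, [2, 18, 8, 10, 12, 18, 8, 18], [0, 14, 6, 18, 8, 0, 18, 18, 13, 8, 11, 4, 6, 8, 4, 6, 4, 10, 8, 11, 6, 8, 11, 23]⟩)
  (.leaf ⟨6, 6, true, [19, 19, 8, 16, 8, 19, 8, 19, 15], [14, 8, 18, 14, 8, 18, 18, 11, 8, 11, 6, 4, 6, 8, 10, 4, 6, 8, 4, 6, 4, 12, 8, 10, 6, 8, 10]⟩)))
  (.node (nat_lit 2910) (.node (nat_lit 2909) (.leaf ⟨6, 6, true, [12, 15, 8, 19, 19, 14, 10], [8, 18, 18, 10, 13, 8, 11, 6, 8, 10, 4, 6, 8, 4, 6, 4, 13, 6, 8, 11, 6, 25]⟩)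
  (.leaf ⟨6, 6, true, [0, 14, 18, 8, 0, 18, 8, 18, 11], [19, 15, 8, 19, 8, 19, 2, 10, 8, 10, 6, 8, 4, 6, 4, 0, 11, 6, 8, 10, 23]⟩))
  (.node (nat_lit 2911) (.leaf ⟨6, 6, true, [19, 19, 0, 19, 8, 16, 8, 19, 16], [6, 18, 18, 8, 19, 8, 19, 2, 13, 10, 8, 11, 4, 6, 8, 4, 6, 4, 10, 6]⟩)
  (.leaf ⟨6, 6, true, [8, 19, 8, 6, 18, 8, 6, 18], [8, 19, 19, 8, 19, 8, 19, 2, 11, 8, 10, 6, 8, 4, 6, 4, 8, 11, 13, 6, 8, 10, 25]⟩))))))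

noncomputable def f2912 : FT := (.node (nat_lit 2928) (.node (nat_lit 2920) (.node (nat_lit 2916) (.node (nat_lit 2914) (.node (nat_lit 2913) (.leaf ⟨6, 6, true, [13, 8, 6, 18, 8, 18, 10], [12, 8, 19, 8, 0, 19, 2, 8, 11, 12, 6, 8, 11, 4, 6, 8, 4, 6, 4, 0, 12, 11, 24]⟩)
  (.leaf ⟨6, 5, true, [12, 8, 19, 8, 0, 14, 6], [14, 18, 8, 0, 18, 18, 10, 10, 4, 6, 8, 11, 4, 6, 8, 10, 4, 6, 8, 4, 6, 4, 11, 13, 8, 10, 20]⟩))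
  (.node (nat_lit 2915) (.leaf ⟨5, 6, true, [0, 19, 6, 8, 6, 18, 10], [14, 10, 8, 18, 18, 4, 6, 8, 10, 10, 4, 6, 8, 11, 4, 6, 8, 4, 6, 4, 10, 6, 8, 11, 6, 8, 10, 12]⟩)
  (.leaf ⟨6, 6, true, [18, 0, 15, 8, 18, 8, 19, 12, 16], [15, 8, 19, 8, 19, 2, 10, 4, 6, 8, 11, 4, 6, 8, 10, 4, 6, 8, 4, 6, 4, 8, 11, 12, 6, 8, 11, 25]⟩)))
  (.node (nat_lit 2918) (.node (nat_lit 2917) (.leaf ⟨6, 6, true, [14, 13, 8, 18, 8, 18, 8, 18, 10, 10], [12, 16, 8, 19, 19, 2, 10, 6, 8, 10, 4, 6, 8, 4, 6, 4, 0, 12, 11, 6, 8, 10, 6, 25]⟩)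
  (.leaf ⟨6, 3, true, [19, 19, 11, 8, 19, 2], [8, 0, 19, 8, 0, 19, 2, 11, 11, 4, 6, 8, 4, 6, 4, 0, 11, 13, 6, 8, 10, 6, 12]⟩))
  (.node (nat_lit 2919) (.leaf ⟨3, 6, true, [18, 12, 18, 8, 19, 16], [19, 0, 14, 6, 8, 18, 18, 11, 11, 8, 11, 6, 8, 11, 4, 6, 8, 4, 6, 4, 11, 12, 6, 8, 11, 6, 21]⟩)
  (.leaf ⟨6, 6, true, [8, 18, 18, 10, 8, 6, 18], [16, 8, 19, 8, 19, 2, 10, 8, 11, 4, 6, 8, 10, 4, 6, 8, 4, 6, 4, 0, 10, 12, 8, 11, 25]⟩))))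
  (.node (nat_lit 2924) (.node (nat_lit 2922) (.node (nat_lit 2921) (.leaf ⟨6, 6, true, [19, 12, 16, 8, 19, 8, 19, 2], [12, 8, 0, 18, 8, 18, 18, 12, 10, 6, 8, 10, 4, 6, 8, 10, 4, 6, 8, 4, 6, 4, 10, 10, 6, 8, 10, 22]⟩)
  (.leaf ⟨6, 5, true, [10, 8, 19, 8, 16, 8, 19, 16], [0, 14, 18, 8, 0, 18, 18, 13, 10, 6, 8, 10, 4, 6, 8, 10, 4, 6, 8, 4, 6, 4, 11, 12, 8, 10, 25]⟩))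
  (.node (nat_lit 2923) (.leaf ⟨5, 6, true, [2, 18, 8, 18, 8, 18, 10], [12, 8, 19, 8, 19, 2, 10, 8, 11, 4, 6, 8, 4, 6, 4, 10, 6]⟩)
  (.leaf ⟨6, 6, true, [8, 19, 6, 8, 19, 8, 14, 6], [8, 18, 14, 10, 8, 18, 18, 11, 6, 4, 6, 8, 10, 4, 6, 8, 4, 6, 4, 8, 11, 6, 8, 10, 13]⟩)))
  (.node (nat_lit 2926) (.node (nat_lit 2925) (.leaf ⟨6, 6, true, [18, 8, 18, 8, 19, 19, 15, 8, 6], [8, 18, 18, 11, 8, 10, 4, 6, 8, 4, 6, 4, 0, 13, 6, 8, 11, 6, 20]⟩)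
  (.leaf ⟨6, 6, true, [16, 8, 6, 18, 8, 18, 10, 10], [0, 19, 8, 0, 19, 8, 19, 2, 8, 11, 4, 6, 8, 4, 6, 4, 11, 11, 8, 10, 12]⟩))
  (.node (nat_lit 2927) (.leaf ⟨6, 6, true, [18, 8, 19, 13, 8, 16, 8, 19, 6, 2], [8, 11, 8, 19, 8, 19, 2, 10, 13, 4, 6, 8, 10, 4, 6, 8, 11, 4, 6, 8, 4, 6, 4, 8, 11, 6, 8, 11, 12]⟩)
  (.leaf ⟨6, 6, true, [8, 18, 13, 8, 18, 8, 19, 8, 16], [8, 18, 18, 10, 8, 19, 2, 13, 11, 4, 6, 8, 11, 4, 6, 8, 4, 6, 4, 11, 13, 6, 8, 11, 22]⟩)))))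
  (.node (nat_lit 2936) (.node (nat_lit 2932) (.node (nat_lit 2930) (.node (nat_lit 2929) (.leaf ⟨6, 6, true, [8, 6, 18, 8, 19, 8, 19, 12, 14], [12, 14, 8, 19, 8, 19, 2, 10, 8, 10, 4, 6, 8, 10, 4, 6, 8, 4, 6, 4, 0, 6, 8, 11, 8, 11, 20]⟩)
  (.leaf ⟨6, 6, true, [19, 14, 6, 18, 8, 19, 16], [19, 8, 2, 19, 8, 19, 2, 11, 6, 4, 6, 8, 11, 4, 6, 8, 10, 4, 6, 8, 4, 6, 4, 8, 11, 6, 8, 11, 6, 24]⟩))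
  (.node (nat_lit 2931) (.leaf ⟨6, 6, true, [16, 8, 10, 6, 8, 18, 8, 19, 6, 2], [15, 8, 4, 6, 18, 8, 19, 2, 6, 4, 0, 13]⟩)
  (.leaf ⟨6, 6, true, [13, 8, 18, 8, 2, 18, 8, 18], [0, 2, 18, 8, 0, 18, 18, 8, 11, 13, 4, 6, 8, 10, 4, 6, 8, 4, 6, 4, 24]⟩)))
  (.node (nat_lit 2934) (.node (nat_lit 2933) (.leaf ⟨6, 6, true, [18, 10, 8, 18, 8, 19, 6, 8, 18], [0, 19, 8, 19, 10, 8, 19, 2, 4, 6, 8, 4, 6, 4, 12, 11, 6, 12]⟩)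
  (.leaf ⟨6, 6, true, [19, 10, 10, 8, 19, 8, 14, 6], [8, 18, 18, 18, 8, 18, 18, 12, 8, 10, 4, 6, 8, 11, 4, 6, 8, 4, 6, 4, 8, 10, 8, 10, 6, 21]⟩))
  (.node (nat_lit 2935) (.leaf ⟨6, 6, true, [13, 10, 8, 19, 19, 8, 16], [0, 19, 8, 19, 8, 0, 19, 2, 10, 10, 8, 11, 6, 8, 4, 6, 4, 8, 10, 8, 10, 6, 8, 10, 6]⟩)
  (.leaf ⟨6, 6, true, [13, 8, 18, 8, 18, 8, 19, 12, 16], [8, 0, 18, 18, 18, 11, 6, 4, 6, 8, 11, 4, 6, 8, 4, 6, 4, 11, 8, 11, 12, 6, 8, 11, 6, 20]⟩))))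
  (.node (nat_lit 2940) (.node (nat_lit 2938) (.node (nat_lit 2937) (.leaf ⟨6, 6, true, [0, 2, 18, 12, 8, 19, 8, 19, 2], [8, 18, 18, 10, 8, 19, 2, 10, 8, 10, 6, 8, 11, 4, 6, 8, 10, 4, 6, 8, 4, 6, 4, 12, 11, 8, 10, 6, 8, 10, 20]⟩)
  (.leaf ⟨6, 6, true, [8, 16, 12, 8, 19, 8, 16], [6, 8, 19, 8, 0, 19, 2, 11, 6, 8, 11, 4, 6, 8, 11, 4, 6, 8, 4, 6, 4, 0, 10, 8, 11, 6, 8, 10, 6, 22]⟩))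
  (.node (nat_lit 2939) (.leaf ⟨6, 6, true, [0, 19, 16, 13, 8, 15, 18, 8, 18], [12, 8, 19, 8, 19, 2, 8, 11, 6, 8, 11, 4, 6, 8, 4, 6, 4, 12, 11, 6, 8, 10, 24]⟩)
  (.leaf ⟨6, 6, true, [8, 18, 8, 18, 8, 18, 10, 10], [12, 19, 8, 0, 19, 8, 19, 2, 12, 10, 8, 6, 4, 13, 10, 8, 11, 6, 8, 10, 22]⟩)))
  (.node (nat_lit 2942) (.node (nat_lit 2941) (.leaf ⟨6, 6, true, [13, 8, 19, 8, 0, 19, 8, 16, 10], [16, 8, 19, 10, 8, 19, 2, 13, 8, 11, 6, 8, 11, 4, 6, 8, 11, 4, 6, 8, 4, 6, 4, 6, 8, 10, 6, 8, 11, 6]⟩)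
  (.leaf ⟨6, 6, true, [15, 13, 18, 8, 18, 8, 6, 18], [12, 6, 18, 8, 0, 18, 18, 6, 8, 11, 4, 6, 8, 4, 6, 4, 0, 11, 12, 6, 8, 11, 6, 20]⟩))
  (.node (nat_lit 2943) (.leaf ⟨6, 6, true, [8, 0, 19, 8, 16, 10, 8, 6, 18], [8, 0, 19, 8, 19, 0, 2, 10, 4, 6, 8, 10, 4, 6, 8, 4, 6, 4, 11, 8, 11, 6, 8, 11, 6, 13]⟩)
  (.leaf ⟨6, 6, true, [8, 10, 12, 6, 8, 18, 8, 18, 10], [19, 0, 19, 8, 19, 8, 19, 2, 6, 8, 11, 13, 4, 6, 8, 11, 4, 6, 8, 4, 6, 4, 0, 8, 11, 6, 12]⟩))))))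

noncomputable def f2944 : FT := (.node (nat_lit 2960) (.node (nat_lit 2952) (.node (nat_lit 2948) (.node (nat_lit 2946) (.node (nat_lit 2945) (.leaf ⟨6, 5, true, [2, 19, 19, 12, 8, 16], [8, 18, 10, 8, 18, 18, 6, 8, 10, 12, 4, 6, 8, 10, 4, 6, 8, 4, 6, 4, 11, 13, 8, 10]⟩)
  (.leaf ⟨5, 6, true, [14, 8, 19, 6, 8, 6, 18, 8, 6], [8, 0, 18, 10, 8, 18, 18, 10, 6, 8, 10, 6, 8, 11, 4, 6, 8, 4, 6, 4, 6, 8, 11, 8, 11, 24]⟩))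
  (.node (nat_lit 2947) (.leaf ⟨6, 6, true, [8, 18, 8, 10, 8, 18, 18, 8, 6], [0, 19, 11, 8, 19, 2, 11, 11, 8, 10, 6, 8, 11, 4, 6, 8, 4, 6, 4, 11, 8, 11, 13]⟩)
  (.leaf ⟨6, 6, true, [0, 19, 15, 19, 8, 6, 18, 8, 6], [18, 8, 19, 2, 10, 8, 11, 4, 6, 8, 11, 4, 6, 8, 4, 6, 4, 11, 8, 10, 24]⟩)))
  (.node (nat_lit 2950) (.node (nat_lit 2949) (.leaf ⟨6, 6, true, [19, 16, 13, 10, 8, 19, 8, 19, 2], [15, 18, 0, 14, 8, 18, 18, 10, 6, 8, 10, 6, 8, 11, 4, 6, 8, 4, 6, 4, 11, 11, 8, 11, 12]⟩)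
  (.leaf ⟨6, 6, true, [14, 18, 8, 18, 8, 18, 11], [16, 8, 0, 19, 8, 0, 19, 2, 10, 10, 4, 6, 8, 4, 6, 4, 10, 13, 8, 10, 21]⟩))
  (.node (nat_lit 2951) (.leaf ⟨6, 6, true, [8, 0, 18, 12, 18, 8, 19, 8, 16], [14, 12, 8, 18, 8, 18, 18, 4, 6, 8, 4, 6, 4, 0, 8, 11, 12, 6, 8, 11, 6, 24]⟩)
  (.leaf ⟨6, 6, true, [4, 6, 8, 19, 10, 8, 19, 8, 16], [6, 18, 18, 8, 19, 8, 19, 2, 13, 10, 6, 8, 11, 4, 6, 8, 4, 6, 4, 13, 8, 10, 24]⟩))))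
  (.node (nat_lit 2956) (.node (nat_lit 2954) (.node (nat_lit 2953) (.leaf ⟨6, 5, true, [0, 2, 18, 8, 6, 18, 10, 8, 18], [10, 12, 8, 0, 19, 8, 19, 2, 12, 11, 8, 10, 6, 8, 10, 4, 6, 8, 4, 6, 4, 10, 10, 6, 12]⟩)
  (.leaf ⟨5, 6, true, [0, 19, 15, 19, 8, 6, 18, 8, 6], [18, 8, 18, 18, 11, 4, 6, 8, 10, 4, 6, 8, 4, 6, 4, 6, 8, 11, 6, 8, 10, 6, 21]⟩))
  (.node (nat_lit 2955) (.leaf ⟨6, 6, true, [19, 15, 19, 12, 8, 19, 8, 6, 2], [8, 0, 18, 10, 10, 8, 18, 18, 6, 8, 10, 8, 10, 4, 6, 8, 4, 6, 4, 0, 8, 10, 6, 20]⟩)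
  (.leaf ⟨6, 6, true, [12, 8, 2, 18, 8, 18, 8, 18, 11], [8, 6, 18, 10, 8, 19, 2, 6, 8, 11, 4, 6, 8, 10, 4, 6, 8, 4, 6, 4, 0, 10, 13, 8, 11, 25]⟩)))
  (.node (nat_lit 2958) (.node (nat_lit 2957) (.leaf ⟨6, 6, true, [14, 6, 18, 8, 19, 12, 16], [14, 12, 8, 18, 8, 18, 18, 13, 10, 8, 11, 4, 6, 8, 4, 6, 4, 11, 12, 8, 10, 23]⟩)
  (.leaf ⟨6, 6, true, [16, 8, 15, 19, 8, 19, 8, 16, 10], [12, 18, 8, 18, 8, 18, 18, 6, 8, 11, 8, 11, 4, 6, 8, 4, 6, 4, 0, 8, 10, 6, 8, 10, 21]⟩))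
  (.node (nat_lit 2959) (.leaf ⟨6, 6, true, [12, 14, 8, 19, 12, 8, 19, 2], [16, 8, 19, 6, 8, 18, 18, 10, 13, 8, 10, 6, 8, 4, 6, 4, 12, 6, 8, 10, 6, 21]⟩)
  (.leaf ⟨6, 6, true, [8, 2, 18, 8, 18], [19, 0, 2, 10, 13, 8, 10, 6, 8, 4, 6, 4, 6, 8, 10, 6, 8, 11, 6]⟩)))))
  (.node (nat_lit 2968) (.node (nat_lit 2964) (.node (nat_lit 2962) (.node (nat_lit 2961) (.leaf ⟨6, 6, true, [13, 19, 8, 19, 2], [8, 18, 18, 11, 6, 8, 11, 4, 6, 8, 10, 4, 6, 8, 4, 6, 4, 11, 6, 8, 11, 6, 8, 10, 22]⟩)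
  (.leaf ⟨6, 6, true, [14, 18, 8, 19, 16], [19, 0, 2, 8, 11, 6, 8, 4, 6, 4, 0, 8, 11, 6, 8, 11, 24]⟩))
  (.node (nat_lit 2963) (.leaf ⟨6, 6, true, [14, 18, 8, 15, 18, 8, 19, 19, 2], [6, 8, 18, 8, 0, 18, 18, 10, 8, 10, 6, 8, 10, 4, 6, 8, 4, 6, 4, 13, 11, 8, 10, 6, 8, 10, 23]⟩)
  (.leaf ⟨6, 6, true, [12, 19, 6, 8, 19, 8, 14, 6], [19, 6, 8, 0, 18, 18, 11, 11, 8, 10, 6, 8, 11, 4, 6, 8, 4, 6, 4, 12, 6, 8, 11, 12]⟩)))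
  (.node (nat_lit 2966) (.node (nat_lit 2965) (.leaf ⟨6, 6, true, [19, 15, 8, 10, 6], [0, 18, 18, 14, 8, 18, 18, 12, 10, 8, 10, 6, 8, 4, 6, 4, 0, 13, 10, 8, 11, 6, 8, 11, 23]⟩)
  (.leaf ⟨6, 6, true, [14, 18, 12, 18, 8, 19, 16], [6, 18, 8, 0, 19, 8, 19, 2, 12, 11, 6, 8, 4, 6, 4, 10, 8, 10]⟩))
  (.node (nat_lit 2967) (.leaf ⟨6, 6, true, [11, 8, 0, 19, 6, 18, 8, 6], [8, 14, 18, 18, 8, 19, 2, 6, 8, 10, 13, 4, 6, 8, 10, 4, 6, 8, 4, 6, 4, 8, 11, 11, 6, 8, 11, 22]⟩)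
  (.leaf ⟨6, 6, true, [12, 10, 6, 8, 19, 16], [10, 8, 19, 8, 0, 19, 2, 13, 4, 6, 8, 11, 4, 6, 8, 4, 6, 4, 10, 8, 11, 11, 6, 8, 11, 23]⟩))))
  (.node (nat_lit 2972) (.node (nat_lit 2970) (.node (nat_lit 2969) (.leaf ⟨6, 6, true, [19, 19, 8, 19, 12, 8, 16], [6, 18, 18, 8, 19, 8, 19, 2, 6, 8, 10, 6, 8, 4, 6, 4, 12, 11, 8, 10, 13]⟩)
  (.leaf ⟨6, 6, true, [19, 6, 8, 10, 12, 18, 8, 18], [0, 15, 18, 8, 0, 18, 18, 12, 10, 6, 8, 10, 4, 6, 8, 10, 4, 6, 8, 4, 6, 4, 10, 8, 11, 6, 8, 10, 23]⟩))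
  (.node (nat_lit 2971) (.leaf ⟨6, 6, true, [12, 8, 19, 6, 8, 18, 8, 19, 19, 2], [18, 8, 19, 19, 2, 10, 10, 6, 8, 4, 6, 4, 0, 11, 8, 11, 6, 22]⟩)
  (.leaf ⟨6, 6, true, [2, 19, 19, 8, 16, 10], [8, 18, 8, 18, 18, 11, 6, 4, 6, 8, 11, 6, 8, 10, 4, 6, 8, 4, 6, 4, 11, 8, 10, 6, 8, 10, 6, 13]⟩)))
  (.node (nat_lit 2974) (.node (nat_lit 2973) (.leaf ⟨6, 6, true, [8, 18, 8, 18, 8, 19, 14, 8, 6], [15, 18, 8, 19, 8, 19, 2, 12, 10, 4, 6, 8, 4, 6, 4, 6, 8, 11, 6, 21]⟩)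
  (.leaf ⟨2, 7, true, [2], []⟩))
  (.node (nat_lit 2975) (.leaf ⟨7, 2, true, [], [0, 18, 11, 6]⟩)
  (.leaf ⟨7, 7, false, [13], []⟩))))))

noncomputable def f2976 : FT := (.node (nat_lit 2992) (.node (nat_lit 2984) (.node (nat_lit 2980) (.node (nat_lit 2978) (.node (nat_lit 2977) (.leaf ⟨7, 7, false, [2, 0, 18, 11, 25], []⟩)
  (.leaf ⟨7, 6, true, [10, 10], [6, 18, 8, 18, 18, 12, 8, 11, 4, 6, 8, 10, 4, 6, 8, 4, 6, 4, 8, 11, 13, 6, 8, 11, 6, 21]⟩))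
  (.node (nat_lit 2979) (.leaf ⟨6, 7, true, [15, 8, 0, 18], [2, 0, 18, 6, 8, 11, 4, 6, 8, 11, 4, 6, 8, 4, 6, 4, 6, 8, 11, 21]⟩)
  (.leaf ⟨7, 6, true, [15, 18, 8, 19, 14, 10], [10, 10, 8, 19, 2, 10, 10, 4, 6, 8, 11, 4, 6, 8, 10, 4, 6, 8, 4, 6, 4, 11, 8, 11, 6, 8, 11, 6, 21]⟩)))
  (.node (nat_lit 2982) (.node (nat_lit 2981) (.leaf ⟨6, 7, true, [0, 2, 18, 8, 6, 18, 8, 6], [8, 10, 8, 19, 0, 2, 11, 4, 6, 8, 4, 6, 4, 6, 8, 10, 20]⟩)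
  (.leaf ⟨7, 7, true, [14, 10, 8, 16], [10, 10, 4, 6, 8, 11, 4, 6, 8, 11, 4, 6, 8, 4, 6, 4, 10, 8, 11, 11, 6, 8, 11, 25]⟩))
  (.node (nat_lit 2983) (.leaf ⟨7, 6, true, [12, 15, 8, 0, 18, 10], [10, 8, 19, 14, 8, 19, 0, 2, 12, 4, 6, 8, 10, 4, 6, 8, 10, 4, 6, 8, 4, 6, 4, 12, 8, 11, 22]⟩)
  (.leaf ⟨6, 7, true, [12, 0, 14, 8, 18, 8, 6, 18], [10, 8, 18, 0, 18, 4, 6, 8, 11, 12, 4, 6, 8, 11, 4, 6, 8, 4, 6, 4, 11, 11, 8, 10, 6, 8, 11, 23]⟩))))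
  (.node (nat_lit 2988) (.node (nat_lit 2986) (.node (nat_lit 2985) (.leaf ⟨7, 6, true, [14, 18, 8, 10, 8, 19, 2], [8, 19, 2, 4, 6, 8, 11, 6, 4, 6, 8, 10, 4, 6, 8, 4, 6, 4, 6, 8, 11, 6, 12]⟩)
  (.leaf ⟨6, 7, true, [0, 15, 8, 18, 18, 10, 8, 6], [18, 14, 8, 19, 0, 2, 6, 8, 10, 6, 4, 6, 8, 11, 4, 6, 8, 4, 6, 4, 13, 6, 8, 10, 6, 24]⟩))
  (.node (nat_lit 2987) (.leaf ⟨7, 6, true, [19, 19, 19, 8, 16, 10, 8, 6], [10, 8, 19, 0, 2, 11, 6, 8, 10, 4, 6, 8, 11, 4, 6, 8, 4, 6, 4, 8, 11, 8, 11, 6, 21]⟩)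
  (.leaf ⟨6, 7, true, [15, 0, 18], [8, 18, 0, 18, 10, 13, 8, 11, 4, 6, 8, 4, 6, 4, 0, 13, 8, 10, 24]⟩)))
  (.node (nat_lit 2990) (.node (nat_lit 2989) (.leaf ⟨7, 6, true, [19, 19, 19, 10, 8, 16], [10, 10, 8, 19, 0, 2, 10, 10, 6, 8, 10, 4, 6, 8, 11, 4, 6, 8, 4, 6, 4, 10, 6, 8, 10, 6, 8, 11, 21]⟩)
  (.leaf ⟨6, 7, true, [14, 8, 0, 18], [10, 8, 19, 0, 2, 8, 11, 6, 4, 6, 8, 11, 4, 6, 8, 4, 6, 4, 6, 8, 10, 6, 8, 11, 6, 20]⟩))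
  (.node (nat_lit 2991) (.leaf ⟨7, 3, true, [19, 19, 6, 18, 8, 10, 6], [12, 10, 8, 19, 0, 2, 8, 11, 6, 8, 11, 4, 6, 8, 11, 4, 6, 8, 4, 6, 4, 0, 10, 10, 6, 8, 10, 21]⟩)
  (.leaf ⟨3, 7, true, [15, 18, 10, 8, 19, 2], [12, 15, 8, 18, 18, 13, 4, 6, 8, 11, 4, 6, 8, 4, 6, 4, 8, 11, 13, 6, 8, 10, 6, 23]⟩)))))
  (.node (nat_lit 3000) (.node (nat_lit 2996) (.node (nat_lit 2994) (.node (nat_lit 2993) (.leaf ⟨7, 6, true, [6, 18, 12, 8, 0, 18], [12, 18, 8, 0, 19, 2, 8, 10, 8, 10, 4, 6, 8, 4, 6, 4, 12, 6, 8, 10, 25]⟩)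
  (.leaf ⟨6, 7, true, [8, 14, 8, 0, 18], [12, 18, 8, 0, 19, 2, 8, 10, 12, 4, 6, 8, 10, 4, 6, 8, 4, 6, 4, 10, 13, 8, 11, 6, 8, 10, 25]⟩))
  (.node (nat_lit 2995) (.leaf ⟨7, 6, true, [8, 10, 8, 6], [10, 6, 8, 0, 19, 8, 19, 2, 11, 6, 8, 11, 4, 6, 8, 11, 4, 6, 8, 4, 6, 4, 8, 11, 6, 8, 10, 6, 12]⟩)
  (.leaf ⟨6, 7, true, [11, 8, 19, 14, 6], [2, 0, 18, 8, 11, 8, 11, 4, 6, 8, 11, 4, 6, 8, 4, 6, 4, 8, 11, 6, 25]⟩)))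
  (.node (nat_lit 2998) (.node (nat_lit 2997) (.leaf ⟨7, 7, true, [19, 19, 0, 14, 6], [15, 18, 8, 19, 2, 13, 10, 4, 6, 8, 11, 4, 6, 8, 4, 6, 4, 10, 6, 8, 10, 6, 8, 11, 25]⟩)
  (.leaf ⟨5, 7, true, [8, 19, 8, 16, 8, 19, 8, 19, 2], [6, 8, 11, 12, 4, 6, 8, 11, 4, 6, 8, 4, 6, 4, 13, 8, 10, 6, 8, 11, 13]⟩))
  (.node (nat_lit 2999) (.leaf ⟨7, 5, true, [11, 8, 6], [8, 0, 14, 18, 18, 8, 19, 2, 8, 10, 6, 8, 10, 4, 6, 8, 11, 4, 6, 8, 4, 6, 4, 10, 10, 6, 8, 10, 24]⟩)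
  (.leaf ⟨5, 7, true, [16, 8, 6, 18, 8, 19, 8, 19, 2], [2, 0, 18, 10, 6, 8, 10, 4, 6, 8, 11, 4, 6, 8, 4, 6, 4, 11, 11, 8, 10, 25]⟩))))
  (.node (nat_lit 3004) (.node (nat_lit 3002) (.node (nat_lit 3001) (.leaf ⟨7, 5, true, [12, 16, 2], [8, 0, 18, 8, 18, 18, 10, 4, 6, 8, 10, 4, 6, 8, 10, 4, 6, 8, 4, 6, 4, 0, 11, 6, 8, 10, 6, 13]⟩)
  (.leaf ⟨7, 7, false, [2, 18, 18, 6, 13], []⟩))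
  (.node (nat_lit 3003) (.leaf ⟨5, 7, true, [13, 8, 19, 10, 8, 19, 8, 6, 2], [19, 19, 19, 2, 10, 8, 10, 10, 4, 6, 8, 11, 4, 6, 8, 4, 6, 4, 12, 8, 11, 6, 8, 10, 6, 24]⟩)
  (.leaf ⟨7, 5, true, [12, 8, 15, 8, 16], [15, 18, 18, 18, 8, 19, 2, 8, 11, 6, 8, 10, 4, 6, 8, 10, 4, 6, 8, 4, 6, 4, 8, 11, 6, 8, 10, 6, 13]⟩)))
  (.node (nat_lit 3006) (.node (nat_lit 3005) (.leaf ⟨6, 7, true, [18, 8, 18, 8, 19, 2], [12, 15, 8, 18, 18, 13, 4, 6, 8, 11, 4, 6, 8, 4, 6, 4, 12, 8, 11, 6, 8, 10, 13]⟩)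
  (.leaf ⟨7, 6, true, [19, 19, 19, 12, 8, 14, 6], [19, 0, 2, 11, 8, 11, 6, 8, 10, 4, 6, 8, 4, 6, 4, 0, 12, 8, 11, 6, 8, 10]⟩))
  (.node (nat_lit 3007) (.leaf ⟨6, 7, true, [18, 18, 8, 19, 12, 14], [12, 14, 8, 18, 18, 11, 6, 8, 11, 6, 8, 10, 4, 6, 8, 4, 6, 4, 8, 11, 13, 6, 8, 10, 6, 21]⟩)
  (.leaf ⟨7, 6, true, [15, 19, 19, 8, 10, 8, 19, 2], [12, 15, 8, 18, 18, 12, 8, 10, 4, 6, 8, 4, 6, 4, 0, 8, 11, 13, 6, 8, 10, 25]⟩))))))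

noncomputable def f3008 : FT := (.node (nat_lit 3024) (.node (nat_lit 3016) (.node (nat_lit 3012) (.node (nat_lit 3010) (.node (nat_lit 3009) (.leaf ⟨5, 7, true, [12, 8, 11, 8, 6], [18, 8, 0, 19, 2, 4, 6, 8, 10, 8, 10, 4, 6, 8, 4, 6, 4, 0, 6, 8, 10, 6, 8, 11, 6, 22]⟩)
  (.leaf ⟨7, 5, true, [6, 18, 8, 0, 18, 12, 10], [12, 8, 11, 4, 6, 8, 10, 4, 6, 8, 4, 6, 4, 11, 13, 6, 8, 10, 25]⟩))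
  (.node (nat_lit 3011) (.leaf ⟨4, 7, true, [15, 8, 16], [11, 8, 19, 0, 2, 8, 11, 13, 6, 8, 11, 4, 6, 8, 4, 6, 4, 6, 8, 11, 22]⟩)
  (.leaf ⟨7, 4, true, [19, 19, 12, 19, 8, 16], [6, 8, 10, 10, 4, 6, 8, 11, 4, 6, 8, 4, 6, 4, 10, 8, 10, 6, 8, 10, 6, 25]⟩)))
  (.node (nat_lit 3014) (.node (nat_lit 3013) (.leaf ⟨6, 7, true, [18, 18, 18, 10, 6], [2, 18, 18, 8, 10, 8, 10, 4, 6, 8, 4, 6, 4, 10, 6, 8, 11, 6, 8, 10, 12]⟩)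
  (.leaf ⟨7, 6, true, [19, 19, 12, 19, 8, 6, 2], [18, 0, 18, 13, 10, 8, 11, 6, 8, 10, 4, 6, 8, 4, 6, 4, 10, 6, 8, 10]⟩))
  (.node (nat_lit 3015) (.leaf ⟨4, 7, true, [8, 2, 0, 18], [12, 10, 8, 19, 0, 2, 11, 8, 11, 12, 6, 8, 11, 4, 6, 8, 4, 6, 4, 0, 11, 8, 11, 6, 8, 10, 25]⟩)
  (.leaf ⟨7, 4, true, [19, 19, 12, 19, 2], [8, 18, 8, 0, 19, 2, 8, 11, 4, 6, 8, 4, 6, 4, 8, 10, 12, 6, 8, 10]⟩))))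
  (.node (nat_lit 3020) (.node (nat_lit 3018) (.node (nat_lit 3017) (.leaf ⟨7, 7, false, [0, 18, 18, 18, 11, 8, 6, 4, 0, 22], []⟩)
  (.leaf ⟨6, 7, true, [0, 14, 18, 8, 6, 18, 8, 6], [10, 10, 8, 18, 0, 18, 8, 11, 12, 6, 8, 11, 4, 6, 8, 4, 6, 4, 0, 11, 8, 10, 6, 8, 10, 12]⟩))
  (.node (nat_lit 3019) (.leaf ⟨7, 6, true, [6, 18, 8, 0, 18, 10], [12, 8, 6, 18, 8, 0, 18, 18, 4, 6, 8, 10, 6, 8, 11, 4, 6, 8, 4, 6, 4, 8, 11, 8, 11, 6, 8, 10, 25]⟩)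
  (.leaf ⟨5, 7, true, [19, 14, 6, 18, 8, 18], [8, 10, 8, 19, 0, 2, 10, 8, 11, 13, 4, 6, 8, 10, 4, 6, 8, 4, 6, 4, 10, 8, 11, 11, 6, 8, 11, 20]⟩)))
  (.node (nat_lit 3022) (.node (nat_lit 3021) (.leaf ⟨7, 5, true, [6, 18, 8, 0, 18], [19, 0, 2, 8, 11, 13, 4, 6, 8, 10, 4, 6, 8, 4, 6, 4, 13, 11, 6, 8, 10, 22]⟩)
  (.leaf ⟨6, 7, true, [12, 18, 8, 18, 18, 10, 8, 6], [8, 19, 0, 2, 10, 8, 10, 4, 6, 8, 11, 4, 6, 8, 4, 6, 4, 8, 10, 25]⟩))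
  (.node (nat_lit 3023) (.leaf ⟨7, 6, true, [14, 8, 18, 18, 10, 8, 18], [18, 14, 8, 19, 10, 8, 19, 2, 10, 8, 11, 4, 6, 8, 11, 4, 6, 8, 4, 6, 4, 0, 10, 8, 11, 13, 6, 8, 10, 25]⟩)
  (.leaf ⟨6, 7, true, [18, 13, 14, 8, 6, 18, 8, 18], [10, 10, 8, 18, 0, 18, 12, 8, 10, 4, 6, 8, 4, 6, 4, 0, 11, 12, 6, 8, 11, 6, 20]⟩)))))
  (.node (nat_lit 3032) (.node (nat_lit 3028) (.node (nat_lit 3026) (.node (nat_lit 3025) (.leaf ⟨7, 6, true, [8, 18, 8, 6, 0, 18, 8, 6], [8, 15, 18, 14, 8, 18, 18, 12, 8, 10, 6, 8, 11, 4, 6, 8, 4, 6, 4, 12, 8, 11, 6, 22]⟩)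
  (.leaf ⟨5, 7, true, [8, 19, 19, 12, 14], [8, 0, 2, 18, 18, 11, 8, 11, 6, 8, 4, 6, 4, 0, 11, 11, 8, 11, 6, 8, 11, 21]⟩))
  (.node (nat_lit 3027) (.leaf ⟨7, 5, true, [8, 16, 8, 0, 19, 8, 16, 10], [19, 0, 2, 10, 8, 10, 6, 8, 4, 6, 4, 8, 10, 6, 8, 11, 23]⟩)
  (.leaf ⟨5, 7, true, [16, 8, 15, 19, 8, 19, 2], [8, 0, 2, 18, 18, 10, 4, 6, 8, 4, 6, 4, 0, 8, 11, 13]⟩)))
  (.node (nat_lit 3030) (.node (nat_lit 3029) (.leaf ⟨7, 5, true, [8, 11, 8, 19, 19, 14], [8, 2, 18, 18, 12, 10, 8, 4, 6, 4, 10, 6, 8, 10, 6, 8, 11, 12]⟩)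
  (.leaf ⟨5, 7, true, [16, 8, 0, 19, 8, 6, 2], [18, 0, 18, 13, 10, 8, 11, 4, 6, 8, 10, 4, 6, 8, 4, 6, 4, 0, 8, 11, 8, 11, 6, 13]⟩))
  (.node (nat_lit 3031) (.leaf ⟨7, 5, true, [13, 8, 16, 8, 0, 19, 6, 2], [19, 0, 2, 12, 6, 8, 11, 4, 6, 8, 10, 4, 6, 8, 4, 6, 4, 0, 11, 11, 8, 10, 6, 8, 11, 13]⟩)
  (.leaf ⟨6, 7, true, [18, 13, 11, 8, 6, 18], [8, 2, 18, 18, 8, 10, 8, 4, 6, 4, 13, 10, 8, 10, 6, 8, 10, 12]⟩))))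
  (.node (nat_lit 3036) (.node (nat_lit 3034) (.node (nat_lit 3033) (.leaf ⟨7, 6, true, [8, 16, 8, 6, 0, 18, 8, 6], [8, 0, 19, 10, 8, 19, 2, 13, 10, 8, 10, 4, 6, 8, 10, 4, 6, 8, 4, 6, 4, 13, 10, 8, 11, 6, 8, 10, 6]⟩)
  (.leaf ⟨5, 7, true, [6, 8, 19, 8, 19, 12, 14], [8, 2, 18, 18, 11, 12, 6, 8, 11, 4, 6, 8, 4, 6, 4, 11, 12, 8, 10, 6, 8, 11, 20]⟩))
  (.node (nat_lit 3035) (.leaf ⟨7, 5, true, [14, 6, 8, 6, 18, 8, 19, 2], [14, 8, 18, 18, 8, 10, 6, 8, 4, 6, 4, 10, 10, 6, 12]⟩)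
  (.leaf ⟨6, 7, true, [15, 8, 19, 19, 14, 8, 6], [8, 0, 2, 18, 18, 8, 4, 6, 4, 10, 6, 8, 10]⟩)))
  (.node (nat_lit 3038) (.node (nat_lit 3037) (.leaf ⟨7, 6, true, [12, 10, 8, 19, 8, 19, 15], [18, 18, 18, 18, 8, 19, 2, 11, 6, 8, 4, 6, 4, 0, 13, 10, 8, 11, 13]⟩)
  (.leaf ⟨5, 7, true, [8, 0, 14, 6, 18, 8, 18], [10, 10, 8, 18, 0, 18, 11, 8, 10, 4, 6, 8, 10, 4, 6, 8, 4, 6, 4, 0, 10, 13, 8, 10, 13]⟩))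
  (.node (nat_lit 3039) (.leaf ⟨7, 5, true, [10, 13, 8, 19, 8, 19, 14], [13, 14, 8, 18, 8, 18, 18, 13, 4, 6, 8, 11, 4, 6, 8, 4, 6, 4, 0, 8, 10, 10, 6, 8, 10, 24]⟩)
  (.leaf ⟨5, 7, true, [0, 15, 8, 18, 8, 19, 6, 2], [19, 0, 2, 11, 8, 6, 4, 10, 8, 10, 6, 25]⟩))))))

noncomputable def f3040 : FT := (.node (nat_lit 3056) (.node (nat_lit 3048) (.node (nat_lit 3044) (.node (nat_lit 3042) (.node (nat_lit 3041) (.leaf ⟨7, 5, true, [19, 14, 8, 18, 8, 19, 19, 2], [19, 16, 8, 19, 19, 2, 8, 10, 13, 4, 6, 8, 10, 4, 6, 8, 4, 6, 4, 13, 6, 8, 11, 6]⟩)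
  (.leaf ⟨6, 7, true, [18, 13, 18, 8, 6, 18], [18, 0, 18, 12, 8, 10, 6, 8, 4, 6, 4, 0, 8, 10, 22]⟩))
  (.node (nat_lit 3043) (.leaf ⟨7, 6, true, [10, 8, 19, 8, 19, 14, 10], [12, 8, 2, 18, 8, 0, 18, 18, 13, 8, 11, 4, 6, 8, 4, 6, 4, 0, 10, 6, 8, 11, 6, 8, 10, 20]⟩)
  (.leaf ⟨5, 7, true, [19, 15, 12, 19, 8, 19, 12, 8, 16], [18, 12, 8, 18, 8, 0, 18, 18, 6, 8, 10, 6, 8, 11, 4, 6, 8, 11, 4, 6, 8, 4, 6, 4, 8, 11, 6, 8, 10, 6, 23]⟩)))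
  (.node (nat_lit 3046) (.node (nat_lit 3045) (.leaf ⟨7, 5, true, [6, 0, 18, 8, 18, 8, 18, 11], [19, 15, 19, 8, 19, 2, 6, 8, 11, 4, 6, 8, 11, 4, 6, 8, 4, 6, 4, 0, 10, 8, 10, 6, 8, 10, 6, 12]⟩)
  (.leaf ⟨5, 7, true, [0, 19, 8, 16], [2, 19, 12, 19, 8, 19, 2, 13, 8, 10, 6, 8, 11, 4, 6, 8, 4, 6, 4, 11, 25]⟩))
  (.node (nat_lit 3047) (.leaf ⟨7, 5, true, [8, 18, 8, 0, 19, 8, 16, 10], [12, 18, 8, 19, 2, 11, 8, 10, 6, 8, 4, 6, 4, 11, 8, 11, 6]⟩)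
  (.leaf ⟨5, 7, true, [8, 18, 8, 15, 8, 18, 8, 18], [10, 8, 19, 2, 6, 8, 10, 6, 8, 11, 4, 6, 8, 4, 6, 4, 0, 11, 11, 8, 10, 24]⟩))))
  (.node (nat_lit 3052) (.node (nat_lit 3050) (.node (nat_lit 3049) (.leaf ⟨7, 5, true, [6, 18, 4, 6, 8, 19, 6, 2], [15, 19, 8, 19, 8, 19, 2, 12, 8, 11, 4, 6, 8, 4, 6, 4, 12, 11, 8, 11]⟩)
  (.leaf ⟨5, 7, true, [6, 18, 18, 8, 11, 8, 6], [18, 12, 8, 19, 8, 0, 19, 2, 11, 11, 4, 6, 8, 4, 6, 4, 0, 10, 8, 11, 6, 8, 11, 20]⟩))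
  (.node (nat_lit 3051) (.leaf ⟨7, 5, true, [18, 2, 18, 13, 8, 18, 8, 6, 18], [0, 18, 11, 13, 6, 8, 10, 4, 6, 8, 4, 6, 4, 0, 11, 11, 6, 12]⟩)
  (.leaf ⟨6, 7, true, [18, 8, 19, 8, 16], [12, 8, 18, 8, 0, 18, 18, 10, 13, 4, 6, 8, 10, 4, 6, 8, 11, 4, 6, 8, 4, 6, 4, 13, 11, 6, 8, 10, 24]⟩)))
  (.node (nat_lit 3054) (.node (nat_lit 3053) (.leaf ⟨7, 6, true, [6, 18, 8, 18, 12, 10, 8, 18], [12, 15, 8, 19, 8, 0, 19, 2, 8, 11, 8, 11, 4, 6, 8, 4, 6, 4, 8, 10, 8, 10, 12]⟩)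
  (.leaf ⟨6, 7, true, [18, 10, 10, 8, 19, 19, 15], [8, 18, 8, 0, 19, 2, 6, 8, 10, 8, 10, 4, 6, 8, 4, 6, 4, 11, 13, 8, 10, 21]⟩))
  (.node (nat_lit 3055) (.leaf ⟨7, 6, true, [18, 10, 8, 16, 8, 19, 19, 2], [8, 6, 18, 8, 19, 0, 2, 8, 10, 8, 4, 6, 4, 11, 13, 6, 8, 10, 6, 20]⟩)
  (.leaf ⟨6, 7, true, [18, 8, 18, 8, 18, 14, 8, 0, 18], [8, 18, 0, 14, 8, 18, 18, 8, 11, 6, 8, 11, 4, 6, 8, 11, 4, 6, 8, 4, 6, 4, 12, 11, 6, 8, 10, 22]⟩)))))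
  (.node (nat_lit 3064) (.node (nat_lit 3060) (.node (nat_lit 3058) (.node (nat_lit 3057) (.leaf ⟨7, 6, true, [6, 18, 8, 19, 19, 15], [14, 8, 18, 0, 18, 6, 8, 10, 6, 8, 11, 4, 6, 8, 4, 6, 4, 0, 6, 8, 11, 6, 24]⟩)
  (.leaf ⟨6, 7, true, [0, 19, 10, 8, 19, 8, 19, 8, 16], [8, 18, 8, 18, 8, 18, 18, 4, 6, 8, 10, 10, 4, 6, 8, 10, 4, 6, 8, 4, 6, 4, 13, 8, 10, 6, 20]⟩))
  (.node (nat_lit 3059) (.leaf ⟨7, 6, true, [14, 10, 8, 19, 6, 8, 19, 6, 2], [8, 19, 2, 8, 11, 13, 6, 8, 11, 4, 6, 8, 4, 6, 4, 0, 6, 8, 11, 6, 21]⟩)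
  (.leaf ⟨6, 7, true, [15, 13, 19, 6, 8, 18, 8, 18, 10], [15, 8, 6, 18, 8, 19, 2, 12, 10, 6, 8, 11, 4, 6, 8, 4, 6, 4, 8, 10, 10, 6, 8, 11, 20]⟩)))
  (.node (nat_lit 3062) (.node (nat_lit 3061) (.leaf ⟨7, 6, true, [6, 18, 8, 19, 6, 2], [0, 19, 6, 8, 18, 18, 8, 10, 12, 4, 6, 8, 10, 4, 6, 8, 4, 6, 4, 10, 10, 6, 8, 11, 25]⟩)
  (.leaf ⟨5, 7, true, [19, 13, 15, 8, 19, 8, 19, 8, 14, 6], [2, 18, 18, 11, 12, 8, 10, 6, 8, 4, 6, 4, 10, 8, 11, 6, 20]⟩))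
  (.node (nat_lit 3063) (.leaf ⟨7, 5, true, [8, 11, 8, 19, 8, 19, 14], [13, 19, 8, 19, 8, 19, 2, 4, 12, 11, 6, 24]⟩)
  (.leaf ⟨5, 7, true, [18, 14, 18, 18, 10, 8, 19, 6, 2], [18, 0, 18, 12, 4, 6, 8, 10, 4, 6, 8, 4, 6, 4, 0, 12, 11, 22]⟩))))
  (.node (nat_lit 3068) (.node (nat_lit 3066) (.node (nat_lit 3065) (.leaf ⟨7, 5, true, [12, 10, 8, 18, 10, 8, 0, 18], [12, 18, 8, 18, 18, 4, 6, 8, 10, 8, 10, 4, 6, 8, 4, 6, 4, 12, 8, 10, 23]⟩)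
  (.leaf ⟨6, 7, true, [13, 6, 18, 8, 2, 18, 8, 18], [18, 14, 18, 18, 8, 19, 2, 0, 11, 8, 11, 12, 6, 8, 11, 22]⟩))
  (.node (nat_lit 3067) (.leaf ⟨7, 6, true, [12, 10, 6, 8, 19, 19, 15], [12, 8, 19, 8, 19, 2, 4, 6, 8, 4, 6, 4, 0, 8, 11, 8, 11, 6, 8, 11, 20]⟩)
  (.leaf ⟨6, 7, true, [19, 8, 19, 8, 19, 8, 19, 15], [18, 14, 18, 18, 8, 19, 2, 12, 11, 8, 10, 6, 8, 4, 6, 4, 13, 10, 8, 11, 6, 8, 10, 13]⟩)))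
  (.node (nat_lit 3070) (.node (nat_lit 3069) (.leaf ⟨7, 6, true, [14, 8, 6, 0, 18, 10, 8, 6], [12, 8, 0, 18, 8, 18, 18, 10, 6, 8, 10, 4, 6, 8, 11, 4, 6, 8, 4, 6, 4, 0, 11, 6, 8, 10, 22]⟩)
  (.leaf ⟨6, 7, true, [16, 8, 19, 8, 16], [10, 10, 8, 18, 0, 18, 8, 4, 6, 4, 0, 10, 10, 8, 11, 22]⟩))
  (.node (nat_lit 3071) (.leaf ⟨7, 6, true, [10, 6, 8, 19, 19, 14, 10], [0, 18, 10, 8, 18, 18, 10, 4, 6, 8, 11, 12, 4, 6, 8, 11, 4, 6, 8, 4, 6, 4, 11, 11, 6]⟩)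
  (.leaf ⟨6, 7, true, [19, 10, 8, 16, 8, 19, 12, 19, 2], [18, 2, 18, 8, 18, 18, 10, 6, 8, 10, 4, 6, 8, 10, 4, 6, 8, 4, 6, 4, 0, 12, 8, 10, 6, 21]⟩))))))

noncomputable def f3072 : FT := (.node (nat_lit 3088) (.node (nat_lit 3080) (.node (nat_lit 3076) (.node (nat_lit 3074) (.node (nat_lit 3073) (.leaf ⟨7, 6, true, [12, 6, 18, 8, 0, 19, 6, 2], [18, 8, 19, 8, 19, 2, 12, 10, 6, 8, 11, 4, 6, 8, 4, 6, 4, 10, 8, 11, 11, 6, 8, 11]⟩)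
  (.leaf ⟨6, 7, true, [0, 14, 18, 8, 18, 8, 18, 10, 10], [10, 8, 19, 0, 2, 13, 11, 4, 6, 8, 11, 4, 6, 8, 4, 6, 4, 8, 10, 13, 6, 8, 10, 22]⟩))
  (.node (nat_lit 3075) (.leaf ⟨7, 6, true, [8, 18, 8, 6, 0, 18], [0, 2, 18, 8, 0, 18, 18, 12, 11, 8, 6, 4, 0, 8, 11, 8, 11, 6, 22]⟩)
  (.leaf ⟨6, 7, true, [0, 19, 16, 8, 19, 13, 19, 8, 16], [10, 8, 18, 0, 18, 12, 6, 8, 11, 4, 6, 8, 10, 4, 6, 8, 4, 6, 4, 0, 11, 8, 10, 6, 8, 10, 6, 23]⟩)))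
  (.node (nat_lit 3078) (.node (nat_lit 3077) (.leaf ⟨7, 6, true, [10, 13, 8, 18, 8, 0, 18, 10], [12, 8, 19, 8, 19, 8, 19, 2, 11, 13, 4, 6, 8, 11, 4, 6, 8, 4, 6, 4, 0, 8, 11, 12, 6, 8, 11, 6, 13]⟩)
  (.leaf ⟨6, 7, true, [0, 2, 18, 8, 18, 8, 6], [0, 15, 18, 8, 19, 2, 11, 11, 8, 10, 6, 8, 4, 6, 4, 10, 6, 8, 10, 6, 25]⟩))
  (.node (nat_lit 3079) (.leaf ⟨7, 6, true, [16, 14, 8, 19, 10, 8, 19, 2], [6, 18, 8, 0, 19, 8, 19, 2, 10, 8, 10, 6, 8, 10, 4, 6, 8, 4, 6, 4, 11, 11, 8, 10, 6, 8, 11, 12]⟩)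
  (.leaf ⟨6, 7, true, [19, 0, 19, 8, 19, 8, 16], [14, 10, 8, 18, 18, 6, 4, 6, 8, 10, 6, 8, 11, 4, 6, 8, 4, 6, 4, 0, 13, 8, 10, 6, 13]⟩))))
  (.node (nat_lit 3084) (.node (nat_lit 3082) (.node (nat_lit 3081) (.leaf ⟨7, 6, true, [18, 14, 8, 19, 8, 19, 15], [19, 16, 8, 19, 6, 18, 8, 19, 2, 10, 4, 6, 8, 10, 4, 6, 8, 10, 4, 6, 8, 4, 6, 4, 8, 10, 6, 8, 10, 25]⟩)
  (.leaf ⟨3, 7, true, [8, 11, 8, 18, 8, 19, 8, 19, 2], [12, 11, 8, 19, 0, 2, 8, 11, 6, 8, 4, 6, 4, 11, 12, 6, 8, 11, 6, 23]⟩))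
  (.node (nat_lit 3083) (.leaf ⟨7, 3, true, [16, 14, 8, 19, 19, 15], [8, 18, 8, 19, 8, 19, 2, 10, 12, 8, 11, 4, 6, 8, 4, 6, 4, 6, 8, 10, 8, 10, 6, 20]⟩)
  (.leaf ⟨6, 7, true, [8, 19, 8, 19, 2], [12, 11, 8, 19, 0, 2, 8, 10, 8, 10, 4, 6, 8, 4, 6, 4, 0, 10, 8, 11, 6, 8, 11, 6, 13]⟩)))
  (.node (nat_lit 3086) (.node (nat_lit 3085) (.leaf ⟨7, 6, true, [11, 11, 8, 19, 10, 8, 19, 2], [8, 18, 0, 18, 10, 4, 6, 8, 10, 4, 6, 8, 10, 4, 6, 8, 4, 6, 4, 0, 13, 10, 8, 11, 6, 8, 10, 25]⟩)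
  (.leaf ⟨6, 7, true, [6, 18, 8, 11, 8, 18, 8, 18], [18, 14, 18, 18, 8, 19, 2, 8, 4, 6, 4, 0, 10, 8, 10, 6, 8, 10, 6, 21]⟩))
  (.node (nat_lit 3087) (.leaf ⟨7, 6, true, [15, 19, 8, 19, 8, 19, 15], [12, 18, 8, 6, 18, 8, 19, 2, 8, 11, 13, 6, 8, 10, 4, 6, 8, 4, 6, 4, 0, 10, 8, 11, 11, 6, 8, 11, 20]⟩)
  (.leaf ⟨6, 7, true, [0, 15, 18, 8, 6, 18, 10], [18, 18, 0, 18, 6, 8, 11, 4, 6, 8, 4, 6, 4, 10, 10, 6, 24]⟩)))))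
  (.node (nat_lit 3096) (.node (nat_lit 3092) (.node (nat_lit 3090) (.node (nat_lit 3089) (.leaf ⟨7, 6, true, [15, 19, 8, 19, 8, 10, 8, 19, 2], [18, 18, 18, 8, 19, 2, 6, 8, 11, 6, 8, 10, 4, 6, 8, 10, 4, 6, 8, 4, 6, 4, 11, 8, 11, 6, 8, 10, 24]⟩)
  (.leaf ⟨6, 7, true, [6, 18, 8, 18, 10, 8, 18], [0, 14, 8, 18, 18, 8, 11, 13, 6, 8, 10, 4, 6, 8, 4, 6, 4, 0, 8, 11, 12, 6, 8, 11, 12]⟩))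
  (.node (nat_lit 3091) (.leaf ⟨7, 6, true, [18, 14, 8, 19, 19, 15], [19, 19, 12, 10, 8, 19, 2, 8, 11, 6, 4, 6, 8, 10, 4, 6, 8, 4, 6, 4, 13, 8, 10, 25]⟩)
  (.leaf ⟨7, 6, true, [18, 18, 18, 8, 19, 12, 19, 2], [0, 18, 10, 8, 18, 18, 10, 8, 10, 4, 6, 8, 11, 4, 6, 8, 4, 6, 4, 13, 10, 8, 11, 6, 8, 10, 12]⟩)))
  (.node (nat_lit 3094) (.node (nat_lit 3093) (.leaf ⟨6, 7, true, [14, 8, 18, 8, 18, 11], [0, 18, 8, 18, 8, 19, 2, 10, 10, 4, 6, 8, 11, 4, 6, 8, 4, 6, 4, 10, 6, 8, 10, 6, 8, 11, 23]⟩)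
  (.leaf ⟨6, 7, true, [8, 10, 4, 6, 8, 6, 18], [15, 19, 19, 8, 19, 2, 4, 6, 8, 10, 4, 6, 8, 10, 4, 6, 8, 4, 6, 4, 0, 12, 6, 8, 11, 6, 25]⟩))
  (.node (nat_lit 3095) (.leaf ⟨7, 6, true, [19, 8, 10, 8, 19, 2], [15, 8, 18, 8, 18, 8, 19, 2, 13, 10, 8, 11, 6, 8, 10, 4, 6, 8, 4, 6, 4, 0, 8, 11, 8, 11, 6, 8, 11]⟩)
  (.leaf ⟨6, 7, true, [2, 18, 8, 0, 15, 18, 8, 19, 6, 2], [14, 0, 19, 8, 19, 2, 8, 10, 8, 10, 6, 8, 4, 6, 4, 10, 8, 10, 6, 8, 11, 12]⟩))))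
  (.node (nat_lit 3100) (.node (nat_lit 3098) (.node (nat_lit 3097) (.leaf ⟨7, 6, true, [15, 13, 19, 6, 8, 6, 18], [18, 18, 12, 18, 8, 18, 18, 11, 11, 8, 10, 4, 6, 8, 11, 4, 6, 8, 4, 6, 4, 12, 11, 8, 10, 22]⟩)
  (.leaf ⟨6, 7, true, [15, 18, 18, 8, 19, 8, 16], [8, 19, 8, 19, 8, 19, 2, 4, 6, 8, 10, 4, 6, 8, 4, 6, 4, 0, 11, 12, 8, 10, 6, 8, 11, 13]⟩))
  (.node (nat_lit 3099) (.leaf ⟨7, 6, true, [6, 18, 4, 6, 8, 16, 8, 19, 16], [10, 6, 8, 0, 19, 8, 19, 2, 12, 4, 6, 8, 10, 4, 6, 8, 11, 4, 6, 8, 4, 6, 4, 12, 11, 6, 22]⟩)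
  (.leaf ⟨6, 7, true, [19, 13, 10, 8, 19, 10, 8, 16], [12, 8, 2, 18, 8, 18, 18, 6, 8, 11, 13, 4, 6, 8, 10, 4, 6, 8, 4, 6, 4, 6, 8, 10, 8, 10, 6, 21]⟩)))
  (.node (nat_lit 3102) (.node (nat_lit 3101) (.leaf ⟨7, 6, true, [2, 19, 19, 8, 16, 8, 19, 16], [18, 18, 8, 19, 10, 8, 19, 2, 11, 4, 6, 8, 10, 4, 6, 8, 4, 6, 4, 0, 8, 11, 8, 11, 6, 22]⟩)
  (.leaf ⟨6, 7, true, [12, 0, 19, 8, 19, 12, 8, 16], [19, 19, 10, 8, 6, 18, 8, 19, 2, 6, 4, 6, 8, 10, 6, 8, 11, 4, 6, 8, 4, 6, 4, 8, 10, 6, 13]⟩))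
  (.node (nat_lit 3103) (.leaf ⟨7, 6, true, [6, 18, 13, 18, 10, 8, 6, 18], [18, 12, 8, 18, 8, 0, 18, 18, 11, 6, 8, 4, 6, 4, 10, 25]⟩)
  (.leaf ⟨6, 7, true, [8, 18, 13, 10, 8, 18, 8, 18, 10], [8, 10, 8, 19, 0, 2, 8, 11, 6, 8, 10, 4, 6, 8, 10, 4, 6, 8, 4, 6, 4, 11, 13, 6, 8, 11, 6, 25]⟩))))))

noncomputable def f3104 : FT := (.node (nat_lit 3120) (.node (nat_lit 3112) (.node (nat_lit 3108) (.node (nat_lit 3106) (.node (nat_lit 3105) (.leaf ⟨7, 6, true, [19, 19, 15], [18, 8, 18, 8, 19, 19, 2, 8, 10, 4, 6, 8, 10, 4, 6, 8, 4, 6, 4, 0, 12, 8, 11, 20]⟩)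
  (.leaf ⟨6, 7, true, [8, 19, 13, 19, 8, 15, 8, 6], [11, 8, 19, 0, 2, 10, 6, 8, 10, 4, 6, 8, 11, 4, 6, 8, 4, 6, 4, 0, 6, 8, 10, 8, 10, 6, 24]⟩))
  (.node (nat_lit 3107) (.leaf ⟨7, 6, true, [19, 8, 19, 15], [15, 12, 18, 8, 18, 18, 8, 10, 4, 6, 8, 10, 4, 6, 8, 4, 6, 4, 0, 8, 11, 8, 11, 6, 13]⟩)
  (.leaf ⟨6, 7, true, [10, 8, 18, 13, 18, 8, 19, 8, 19, 2], [19, 14, 8, 19, 8, 19, 2, 11, 11, 4, 6, 8, 4, 6, 4, 0, 11, 11, 8, 11, 13]⟩)))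
  (.node (nat_lit 3110) (.node (nat_lit 3109) (.leaf ⟨7, 6, true, [12, 6, 18, 8, 18, 8, 18, 12, 10], [6, 8, 18, 8, 19, 8, 19, 2, 13, 4, 6, 8, 10, 4, 6, 8, 11, 4, 6, 8, 4, 6, 4, 10, 8, 10, 10, 6, 8, 11]⟩)
  (.leaf ⟨6, 7, true, [16, 8, 0, 15, 8, 18, 8, 18, 11], [15, 8, 0, 15, 18, 8, 18, 18, 8, 11, 12, 4, 6, 8, 11, 4, 6, 8, 4, 6, 4, 13, 8, 11, 6, 13]⟩))
  (.node (nat_lit 3111) (.leaf ⟨7, 6, true, [13, 6, 18, 10, 8, 18, 8, 18, 10], [19, 6, 18, 8, 19, 8, 19, 2, 11, 8, 10, 6, 8, 10, 4, 6, 8, 4, 6, 4, 11, 6, 8, 11, 6, 8, 10, 12]⟩)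
  (.leaf ⟨6, 7, true, [18, 8, 18, 8, 2, 18, 8, 19, 6, 2], [8, 19, 14, 8, 19, 0, 2, 13, 10, 8, 11, 6, 8, 11, 4, 6, 8, 4, 6, 4, 8, 11, 12, 6, 8, 11, 20]⟩))))
  (.node (nat_lit 3116) (.node (nat_lit 3114) (.node (nat_lit 3113) (.leaf ⟨7, 6, true, [8, 15, 13, 19, 6, 8, 6, 18], [14, 8, 18, 0, 18, 10, 6, 8, 11, 12, 4, 6, 8, 11, 4, 6, 8, 4, 6, 4, 10, 10, 8, 11, 12]⟩)
  (.leaf ⟨6, 7, true, [14, 18, 8, 19, 8, 19, 14, 8, 6], [8, 0, 19, 12, 19, 8, 0, 19, 2, 13, 8, 11, 4, 6, 8, 10, 4, 6, 8, 4, 6, 4, 13, 6, 8, 10, 6, 21]⟩))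
  (.node (nat_lit 3115) (.leaf ⟨7, 6, true, [2, 19, 19, 8, 11, 8, 19, 8, 16], [10, 8, 19, 19, 2, 6, 8, 10, 8, 10, 4, 6, 8, 4, 6, 4, 0, 11, 12, 8, 10, 6, 8, 11, 22]⟩)
  (.leaf ⟨7, 6, true, [12, 10, 8, 19, 13, 8, 19, 8, 16], [19, 0, 14, 6, 8, 18, 18, 11, 11, 8, 11, 4, 6, 8, 11, 4, 6, 8, 4, 6, 4, 12, 10, 8, 10]⟩)))
  (.node (nat_lit 3118) (.node (nat_lit 3117) (.leaf ⟨6, 7, true, [6, 8, 0, 15, 18, 8, 18], [12, 15, 8, 19, 8, 0, 19, 2, 10, 13, 8, 10, 6, 8, 4, 6, 4, 12, 8, 10, 21]⟩)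
  (.leaf ⟨7, 6, true, [0, 14, 8, 6, 18, 10, 8, 19, 16], [0, 14, 18, 8, 0, 18, 18, 12, 11, 6, 8, 10, 4, 6, 8, 10, 4, 6, 8, 4, 6, 4, 13, 6, 8, 11, 23]⟩))
  (.node (nat_lit 3119) (.leaf ⟨6, 7, true, [18, 4, 14, 8, 6], [18, 8, 0, 19, 8, 19, 2, 6, 8, 11, 13, 4, 6, 8, 10, 4, 6, 8, 4, 6, 4, 11, 6, 21]⟩)
  (.leaf ⟨6, 7, true, [0, 19, 16, 8, 19, 8, 16], [19, 19, 8, 19, 8, 19, 2, 10, 4, 6, 8, 11, 4, 6, 8, 4, 6, 4, 12, 6, 8, 11, 6, 12]⟩)))))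
  (.node (nat_lit 3128) (.node (nat_lit 3124) (.node (nat_lit 3122) (.node (nat_lit 3121) (.leaf ⟨7, 6, true, [11, 11, 8, 0, 18, 8, 18, 8, 18], [19, 10, 8, 19, 8, 19, 2, 4, 6, 8, 10, 4, 6, 8, 11, 4, 6, 8, 4, 6, 4, 11, 8, 11, 6, 8, 10, 6, 13]⟩)
  (.leaf ⟨6, 7, true, [18, 18, 12, 8, 16, 8, 19, 16], [18, 0, 18, 10, 6, 8, 11, 6, 8, 10, 4, 6, 8, 4, 6, 4, 0, 8, 11, 13, 6, 8, 11, 25]⟩))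
  (.node (nat_lit 3123) (.leaf ⟨7, 6, true, [18, 8, 15, 8, 19, 19, 2], [19, 8, 19, 10, 8, 19, 2, 11, 8, 11, 6, 8, 10, 4, 6, 8, 4, 6, 4, 0, 10, 10, 6, 13]⟩)
  (.leaf ⟨7, 6, true, [18, 18, 18, 8, 15, 18, 8, 18, 10], [12, 8, 0, 19, 8, 19, 2, 10, 13, 6, 8, 10, 4, 6, 8, 11, 4, 6, 8, 4, 6, 4, 8, 11, 12, 6, 8, 11, 6, 20]⟩)))
  (.node (nat_lit 3126) (.node (nat_lit 3125) (.leaf ⟨6, 7, true, [8, 16, 10, 8, 6, 18, 8, 18, 10], [11, 8, 19, 8, 0, 19, 2, 12, 6, 8, 10, 4, 6, 8, 10, 4, 6, 8, 4, 6, 4, 11, 12, 6, 8, 11, 23]⟩)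
  (.leaf ⟨7, 6, true, [15, 8, 18, 8, 18], [0, 19, 8, 19, 8, 0, 19, 2, 8, 10, 6, 8, 11, 4, 6, 8, 11, 4, 6, 8, 4, 6, 4, 6, 21]⟩))
  (.node (nat_lit 3127) (.leaf ⟨6, 7, true, [14, 12, 18, 8, 18, 8, 19, 16], [8, 6, 18, 18, 18, 8, 19, 2, 11, 6, 4, 6, 8, 10, 4, 6, 8, 11, 4, 6, 8, 4, 6, 4, 6, 8, 10, 6, 8, 11, 6, 25]⟩)
  (.leaf ⟨7, 6, true, [18, 8, 6, 18, 12, 8, 19, 8, 19, 2], [0, 19, 2, 19, 8, 19, 2, 10, 6, 8, 11, 4, 6, 8, 10, 4, 6, 8, 4, 6, 4, 0, 10, 8, 10, 6, 8, 10, 23]⟩))))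
  (.node (nat_lit 3132) (.node (nat_lit 3130) (.node (nat_lit 3129) (.leaf ⟨6, 7, true, [19, 16, 8, 19, 19, 15], [0, 15, 12, 18, 8, 0, 18, 18, 8, 11, 8, 11, 6, 8, 11, 4, 6, 8, 4, 6, 4, 12, 8, 10, 6, 8, 11, 23]⟩)
  (.leaf ⟨7, 6, true, [8, 2, 18, 8, 19, 19, 14, 10], [8, 0, 19, 8, 19, 8, 0, 19, 2, 10, 8, 4, 6, 4, 11, 13, 8, 10, 6, 8, 11, 20]⟩))
  (.node (nat_lit 3131) (.leaf ⟨6, 7, true, [0, 14, 12, 18, 8, 18, 8, 19, 16], [0, 19, 12, 8, 19, 8, 0, 19, 2, 11, 13, 4, 6, 8, 10, 4, 6, 8, 4, 6, 4, 6, 21]⟩)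
  (.leaf ⟨7, 6, true, [18, 8, 15, 8, 18, 8, 18, 11], [14, 18, 8, 18, 18, 12, 10, 6, 8, 11, 4, 6, 8, 4, 6, 4, 10, 8, 11, 6, 23]⟩)))
  (.node (nat_lit 3134) (.node (nat_lit 3133) (.leaf ⟨6, 7, true, [19, 16, 8, 19, 13, 19, 8, 16], [13, 19, 8, 19, 8, 19, 2, 4, 6, 8, 10, 6, 4, 6, 8, 11, 4, 6, 8, 4, 6, 4, 12, 10, 8, 10, 23]⟩)
  (.leaf ⟨7, 6, true, [16, 12, 8, 2, 19, 8, 19, 8, 16], [19, 19, 2, 11, 6, 8, 10, 4, 6, 8, 10, 4, 6, 8, 4, 6, 4, 13, 10, 8, 11, 6, 8, 10, 23]⟩))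
  (.node (nat_lit 3135) (.leaf ⟨6, 7, true, [18, 18, 18, 8, 18, 8, 19, 2], [12, 2, 18, 8, 18, 18, 8, 10, 8, 6, 4, 12, 8, 10, 6, 8, 11, 22]⟩)
  (.leaf ⟨7, 4, true, [18, 14, 8, 18, 8, 18, 11], [8, 0, 18, 18, 13, 10, 8, 11, 4, 6, 8, 10, 4, 6, 8, 4, 6, 4, 0, 11, 12, 6, 8, 11, 23]⟩))))))



end Cfsg.Agent.Lib.ThD
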