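import Cfsg.Agent.Lib.DCEDefs

set_option autoImplicit false
set_option maxRecDepth 100000

namespace Cfsg.Agent.Lib.ThD
open Cfsg.Agent.Lib.PermNet Cfsg.Agent.Lib.DCE

noncomputable def f3136 : FT := (.node (nat_lit 3152) (.node (nat_lit 3144) (.node (nat_lit 3140) (.node (nat_lit 3138) (.node (nat_lit 3137) (.leaf ⟨4, 7, true, [18, 8, 2, 19, 6, 8, 19, 8, 16], [0, 14, 6, 8, 18, 18, 12, 11, 4, 6, 8, 4, 6, 4, 11, 8, 11, 12, 6, 8, 11, 20]⟩)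
  (.leaf ⟨7, 5, true, [19, 6, 8, 19, 6, 8, 18], [0, 19, 6, 8, 18, 18, 10, 8, 10, 10, 4, 6, 8, 11, 4, 6, 8, 4, 6, 4, 13, 10, 8, 11, 6, 8, 11, 25]⟩))
  (.node (nat_lit 3139) (.leaf ⟨5, 7, true, [11, 11, 8, 19, 8, 16], [8, 18, 18, 10, 10, 4, 6, 8, 11, 4, 6, 8, 11, 4, 6, 8, 4, 6, 4, 6, 8, 11, 6, 21]⟩)
  (.leaf ⟨6, 7, true, [10, 6, 8, 19, 8, 19, 8, 16], [8, 19, 8, 0, 19, 2, 13, 10, 8, 11, 6, 8, 11, 4, 6, 8, 4, 6, 4, 10, 10, 8, 11]⟩)))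
  (.node (nat_lit 3142) (.node (nat_lit 3141) (.leaf ⟨7, 6, true, [8, 14, 8, 6, 18, 8, 19, 19, 2], [14, 8, 18, 10, 8, 18, 18, 8, 11, 8, 11, 6, 8, 10, 4, 6, 8, 4, 6, 4, 12, 8, 10, 6, 8, 10, 22]⟩)
  (.leaf ⟨7, 6, true, [18, 10, 8, 18, 8, 18, 8, 18], [0, 14, 8, 18, 0, 18, 10, 8, 10, 4, 6, 8, 11, 4, 6, 8, 4, 6, 4, 8, 11, 11, 6, 8, 11, 22]⟩))
  (.node (nat_lit 3143) (.leaf ⟨6, 7, true, [8, 19, 8, 19, 6, 8, 19, 6, 2], [10, 8, 0, 18, 10, 8, 18, 18, 4, 6, 8, 10, 6, 8, 11, 4, 6, 8, 4, 6, 4, 8, 11, 8, 11, 6, 25]⟩)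
  (.leaf ⟨7, 6, true, [15, 8, 18, 8, 19, 19, 10, 8, 16], [4, 6, 18, 8, 19, 2, 10, 10, 8, 11, 4, 6, 8, 4, 6, 4, 10, 12, 8, 11, 6, 21]⟩))))
  (.node (nat_lit 3148) (.node (nat_lit 3146) (.node (nat_lit 3145) (.leaf ⟨6, 7, true, [0, 14, 8, 18, 8, 18, 10, 8, 6], [18, 18, 18, 18, 8, 19, 2, 13, 10, 8, 11, 6, 8, 4, 6, 4, 10, 8, 11, 23]⟩)
  (.leaf ⟨7, 6, true, [11, 11, 8, 18, 8, 18, 10], [8, 16, 8, 0, 19, 8, 0, 19, 2, 4, 6, 8, 11, 8, 11, 4, 6, 8, 4, 6, 4, 8, 11, 6, 8, 11, 24]⟩))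
  (.node (nat_lit 3147) (.leaf ⟨6, 7, true, [8, 15, 18, 8, 18, 8, 18, 10], [10, 8, 18, 0, 14, 8, 18, 18, 6, 8, 11, 13, 4, 6, 8, 10, 4, 6, 8, 4, 6, 4, 12, 8, 10, 6, 13]⟩)
  (.leaf ⟨7, 6, true, [8, 15, 18, 8, 6, 18, 10, 8, 18], [10, 8, 0, 19, 8, 19, 2, 8, 10, 8, 4, 6, 4, 10, 12, 6, 8, 10, 23]⟩)))
  (.node (nat_lit 3150) (.node (nat_lit 3149) (.leaf ⟨6, 7, true, [14, 8, 19, 12, 8, 19, 8, 16, 10], [0, 19, 10, 8, 19, 2, 11, 8, 10, 4, 6, 8, 10, 4, 6, 8, 4, 6, 4, 0, 12, 6, 8, 11, 6]⟩)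
  (.leaf ⟨7, 6, true, [14, 8, 6, 18, 10, 8, 19, 16], [2, 18, 8, 19, 10, 8, 19, 2, 6, 8, 11, 6, 4, 6, 8, 10, 4, 6, 8, 4, 6, 4, 10, 13, 8, 11, 6, 8, 10, 22]⟩))
  (.node (nat_lit 3151) (.leaf ⟨6, 7, true, [12, 8, 18, 8, 2, 18, 8, 18], [8, 19, 10, 10, 8, 19, 2, 13, 11, 8, 11, 4, 6, 8, 4, 6, 4, 10, 10, 6, 8, 11, 23]⟩)
  (.leaf ⟨7, 6, true, [12, 10, 8, 19, 8, 19, 8, 16], [0, 15, 12, 18, 8, 18, 18, 10, 4, 6, 8, 11, 4, 6, 8, 10, 4, 6, 8, 4, 6, 4, 12, 8, 11, 12]⟩)))))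
  (.node (nat_lit 3160) (.node (nat_lit 3156) (.node (nat_lit 3154) (.node (nat_lit 3153) (.leaf ⟨6, 7, true, [14, 4, 6, 8, 19, 12, 19, 2], [8, 19, 19, 2, 6, 8, 11, 8, 11, 4, 6, 8, 11, 4, 6, 8, 4, 6, 4, 12, 8, 10, 6, 8, 11, 24]⟩)
  (.leaf ⟨7, 6, true, [18, 8, 11, 8, 19, 19, 15, 8, 6], [15, 8, 0, 15, 18, 8, 18, 18, 11, 8, 10, 6, 8, 10, 4, 6, 8, 4, 6, 4, 10, 13, 8, 11, 6, 8, 10, 25]⟩))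
  (.node (nat_lit 3155) (.leaf ⟨6, 7, true, [15, 13, 19, 8, 19, 8, 19, 8, 16, 10], [11, 8, 19, 15, 19, 8, 19, 2, 12, 10, 8, 10, 6, 8, 4, 6, 4, 13, 11, 8, 10, 6, 8, 10, 13]⟩)
  (.leaf ⟨6, 7, true, [0, 2, 18, 18, 8, 10, 6], [8, 18, 8, 0, 19, 2, 12, 10, 8, 6, 4, 10, 13, 8, 10, 6, 23]⟩)))
  (.node (nat_lit 3158) (.node (nat_lit 3157) (.leaf ⟨7, 6, true, [16, 8, 19, 8, 19, 8, 19, 2], [8, 19, 15, 19, 8, 19, 2, 12, 4, 6, 8, 10, 4, 6, 8, 10, 4, 6, 8, 4, 6, 4, 11, 13, 6, 8, 11, 6, 24]⟩)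
  (.leaf ⟨7, 6, true, [15, 11, 8, 19, 8, 19, 14], [8, 16, 8, 6, 18, 8, 19, 2, 13, 8, 11, 6, 8, 10, 4, 6, 8, 4, 6, 4, 8, 11, 13, 6, 8, 11, 6, 25]⟩))
  (.node (nat_lit 3159) (.leaf ⟨6, 7, true, [0, 19, 8, 19, 8, 0, 14, 8, 6], [15, 0, 18, 8, 18, 18, 11, 6, 8, 4, 6, 4, 0, 10, 13, 8, 11, 6, 8, 10, 20]⟩)
  (.leaf ⟨7, 6, true, [13, 4, 14, 8, 19, 8, 19, 8, 6, 2], [12, 8, 19, 8, 19, 8, 19, 2, 10, 13, 8, 11, 4, 6, 8, 4, 6, 4, 0, 8, 11, 8, 11]⟩))))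
  (.node (nat_lit 3164) (.node (nat_lit 3162) (.node (nat_lit 3161) (.leaf ⟨6, 7, true, [8, 10, 12, 4, 6, 8, 18, 8, 18], [6, 8, 18, 8, 19, 19, 2, 10, 8, 11, 4, 6, 8, 10, 4, 6, 8, 4, 6, 4, 0, 8, 10, 6, 8, 10, 13]⟩)
  (.leaf ⟨7, 6, true, [2, 18, 8, 0, 18, 8, 18, 12, 10], [14, 8, 19, 19, 2, 11, 8, 10, 4, 6, 8, 4, 6, 4, 0, 13, 10, 8, 11, 6, 8, 11, 12]⟩))
  (.node (nat_lit 3163) (.leaf ⟨6, 7, true, [8, 19, 15, 19, 8, 0, 19, 14, 8, 6], [6, 18, 8, 0, 18, 18, 13, 6, 8, 11, 4, 6, 8, 4, 6, 4, 0, 8, 11, 13, 6, 8, 10, 12]⟩)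
  (.leaf ⟨7, 6, true, [14, 8, 0, 19, 19, 10, 8, 16], [19, 10, 10, 8, 19, 8, 19, 2, 10, 8, 10, 13, 4, 6, 8, 10, 4, 6, 8, 4, 6, 4, 12, 6, 8, 11, 6]⟩)))
  (.node (nat_lit 3166) (.node (nat_lit 3165) (.leaf ⟨6, 7, true, [18, 18, 8, 19, 19, 15], [0, 19, 19, 8, 19, 2, 6, 4, 6, 8, 11, 6, 8, 10, 4, 6, 8, 4, 6, 4, 6, 8, 11, 6, 8, 10, 6, 21]⟩)
  (.leaf ⟨7, 6, true, [6, 18, 8, 18, 8, 18, 10, 8, 18], [14, 10, 8, 19, 0, 2, 10, 13, 8, 11, 6, 8, 10, 4, 6, 8, 4, 6, 4, 10, 8, 11, 13, 6, 8, 10, 20]⟩))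
  (.node (nat_lit 3167) (.leaf ⟨6, 7, true, [0, 19, 6, 8, 18, 8, 18, 10], [0, 15, 18, 10, 8, 18, 18, 4, 6, 8, 10, 4, 6, 8, 4, 6, 4, 13, 10, 8, 11, 24]⟩)
  (.leaf ⟨7, 5, true, [8, 18, 13, 18, 8, 19, 14, 8, 6], [8, 11, 8, 19, 8, 19, 2, 10, 4, 6, 8, 11, 4, 6, 8, 10, 4, 6, 8, 4, 6, 4, 8, 11, 12]⟩))))))

noncomputable def f3168 : FT := (.node (nat_lit 3184) (.node (nat_lit 3176) (.node (nat_lit 3172) (.node (nat_lit 3170) (.node (nat_lit 3169) (.leaf ⟨5, 7, true, [18, 18, 18, 8, 19, 8, 19, 2], [4, 6, 18, 8, 19, 2, 11, 4, 6, 8, 4, 6, 4, 6, 8, 10, 8, 10, 23]⟩)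
  (.leaf ⟨7, 6, true, [11, 12, 8, 19, 8, 19, 14], [15, 18, 8, 19, 8, 19, 2, 10, 6, 8, 4, 6, 4, 11, 13, 6, 8, 10, 6, 13]⟩))
  (.node (nat_lit 3171) (.leaf ⟨6, 7, true, [10, 12, 0, 19, 8, 19, 8, 6, 2], [18, 14, 8, 19, 0, 2, 11, 6, 8, 4, 6, 4, 10, 8, 11, 11, 6, 8, 11, 22]⟩)
  (.leaf ⟨7, 6, true, [13, 18, 8, 18, 8, 18, 12, 10], [18, 18, 8, 19, 2, 10, 8, 11, 4, 6, 8, 11, 4, 6, 8, 4, 6, 4, 0, 10, 12, 6, 8, 10, 22]⟩)))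
  (.node (nat_lit 3174) (.node (nat_lit 3173) (.leaf ⟨6, 7, true, [8, 0, 19, 6, 8, 19, 8, 19, 2], [16, 8, 19, 6, 18, 8, 19, 2, 4, 6, 8, 10, 4, 6, 8, 10, 4, 6, 8, 4, 6, 4, 10, 8, 10, 6, 13]⟩)
  (.leaf ⟨7, 5, true, [13, 19, 8, 16, 8, 6, 18], [8, 6, 18, 12, 18, 8, 18, 18, 12, 4, 6, 8, 10, 4, 6, 8, 4, 6, 4, 8, 11, 8, 11, 6, 8, 11, 21]⟩))
  (.node (nat_lit 3175) (.leaf ⟨5, 7, true, [14, 0, 19, 12, 8, 19, 8, 6, 2], [14, 18, 18, 8, 19, 8, 19, 2, 13, 6, 8, 10, 4, 6, 8, 4, 6, 4, 11, 6, 8, 11, 13]⟩)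
  (.leaf ⟨7, 6, true, [14, 18, 12, 8, 18, 8, 18, 10], [0, 19, 8, 14, 6, 8, 18, 18, 10, 6, 8, 4, 6, 4, 8, 10, 12, 6, 8, 10, 23]⟩))))
  (.node (nat_lit 3180) (.node (nat_lit 3178) (.node (nat_lit 3177) (.leaf ⟨6, 7, true, [0, 14, 18, 12, 18, 8, 19, 8, 6, 2], [15, 8, 19, 8, 19, 2, 10, 6, 8, 11, 6, 8, 10, 4, 6, 8, 4, 6, 4, 0, 8, 11, 12, 6, 8, 11, 13]⟩)
  (.leaf ⟨7, 6, true, [18, 8, 14, 8, 19, 19, 14, 8, 6], [8, 18, 8, 19, 8, 19, 2, 4, 6, 4, 6, 8, 11, 6, 8, 10, 4, 6, 8, 4, 6, 4, 12, 8, 10, 24]⟩))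
  (.node (nat_lit 3179) (.leaf ⟨6, 7, true, [15, 18, 8, 6, 18, 8, 18, 10, 8, 6], [12, 18, 8, 2, 18, 18, 10, 6, 8, 11, 6, 8, 10, 4, 6, 8, 4, 6, 4, 0, 11, 8, 11, 6, 8, 11, 23]⟩)
  (.leaf ⟨7, 5, true, [8, 11, 8, 19, 8, 19, 8, 14, 6], [10, 8, 4, 6, 18, 8, 19, 2, 11, 8, 10, 6, 8, 4, 6, 4, 10, 10, 6, 13]⟩)))
  (.node (nat_lit 3182) (.node (nat_lit 3181) (.leaf ⟨5, 7, true, [2, 19, 19, 8, 16], [10, 8, 0, 19, 8, 19, 2, 4, 6, 8, 10, 4, 6, 8, 10, 4, 6, 8, 4, 6, 4, 0, 12, 8, 11, 6, 25]⟩)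
  (.leaf ⟨7, 6, true, [18, 8, 14, 8, 19, 19, 8, 16, 10], [11, 11, 8, 0, 19, 8, 19, 2, 11, 8, 11, 4, 6, 8, 10, 4, 6, 8, 4, 6, 4, 0, 10, 8, 10, 12]⟩))
  (.node (nat_lit 3183) (.leaf ⟨6, 7, true, [8, 19, 19, 16, 10, 8, 19, 16], [6, 8, 4, 6, 18, 8, 19, 2, 12, 11, 8, 10, 4, 6, 8, 4, 6, 4, 6, 8, 11, 6, 8, 10, 6, 21]⟩)
  (.leaf ⟨7, 6, true, [18, 8, 6, 18, 8, 4, 14, 6], [15, 0, 19, 8, 19, 8, 19, 2, 0, 8, 11, 13, 6, 8, 11, 6, 24]⟩)))))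
  (.node (nat_lit 3192) (.node (nat_lit 3188) (.node (nat_lit 3186) (.node (nat_lit 3185) (.leaf ⟨6, 7, true, [8, 14, 8, 19, 8, 19, 12, 8, 16], [19, 11, 8, 19, 2, 10, 6, 8, 11, 4, 6, 8, 4, 6, 4, 8, 11, 12, 6, 8, 11, 22]⟩)
  (.leaf ⟨7, 6, true, [8, 10, 8, 19, 12, 19, 8, 16], [15, 0, 19, 8, 19, 10, 8, 19, 2, 10, 4, 6, 8, 4, 6, 4, 0, 10, 8, 11, 11, 6, 8, 11, 24]⟩))
  (.node (nat_lit 3187) (.leaf ⟨6, 7, true, [12, 19, 6, 8, 18, 8, 18, 12, 10], [15, 11, 8, 0, 19, 8, 19, 2, 8, 11, 6, 8, 11, 4, 6, 8, 4, 6, 4, 13, 10, 6, 8, 11, 22]⟩)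
  (.leaf ⟨7, 6, true, [18, 8, 15, 8, 18, 8, 19, 19, 2], [18, 8, 18, 8, 2, 18, 18, 4, 6, 8, 10, 13, 4, 6, 8, 10, 4, 6, 8, 4, 6, 4, 8, 11, 13, 6, 8, 11, 24]⟩)))
  (.node (nat_lit 3190) (.node (nat_lit 3189) (.leaf ⟨6, 7, true, [14, 18, 8, 15, 18, 12, 8, 18], [8, 15, 12, 18, 8, 18, 18, 11, 8, 10, 6, 8, 11, 4, 6, 8, 4, 6, 4, 0, 11, 6, 8, 11, 6, 20]⟩)
  (.leaf ⟨7, 6, true, [12, 15, 8, 18, 8, 18, 10, 10], [18, 13, 18, 8, 19, 8, 19, 2, 4, 6, 8, 11, 8, 11, 4, 6, 8, 4, 6, 4, 0, 8, 10, 12, 6, 8, 10, 25]⟩))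
  (.node (nat_lit 3191) (.leaf ⟨6, 7, true, [2, 0, 18, 18, 8, 19, 14, 8, 6], [18, 8, 15, 18, 8, 0, 18, 18, 11, 6, 8, 11, 4, 6, 8, 4, 6, 4, 0, 10, 8, 11, 13, 6, 8, 10, 22]⟩)
  (.leaf ⟨7, 6, true, [15, 19, 6, 8, 18, 8, 18], [6, 18, 14, 8, 18, 18, 8, 10, 13, 4, 6, 8, 10, 4, 6, 8, 4, 6, 4, 8, 10, 10, 6, 8, 11, 22]⟩))))
  (.node (nat_lit 3196) (.node (nat_lit 3194) (.node (nat_lit 3193) (.leaf ⟨6, 7, true, [12, 0, 15, 8, 18, 8, 0, 19, 6, 2], [12, 0, 19, 6, 8, 18, 18, 8, 10, 10, 4, 6, 8, 10, 4, 6, 8, 4, 6, 4, 13, 10, 8, 10, 25]⟩)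
  (.leaf ⟨7, 6, true, [0, 15, 18, 8, 19, 8, 16], [18, 8, 18, 8, 19, 2, 11, 11, 8, 11, 4, 6, 8, 11, 4, 6, 8, 4, 6, 4, 8, 10, 6, 8, 10, 22]⟩))
  (.node (nat_lit 3195) (.leaf ⟨6, 7, true, [13, 18, 8, 19, 14, 8, 6], [18, 18, 18, 10, 8, 19, 2, 11, 6, 4, 6, 8, 10, 6, 8, 11, 4, 6, 8, 4, 6, 4, 13, 10, 8, 11, 6, 8, 10, 6, 12]⟩)
  (.leaf ⟨7, 6, true, [12, 10, 8, 19, 12, 19, 8, 16], [19, 19, 6, 8, 18, 18, 11, 6, 4, 6, 8, 10, 4, 6, 8, 11, 4, 6, 8, 4, 6, 4, 11, 24]⟩)))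
  (.node (nat_lit 3198) (.node (nat_lit 3197) (.leaf ⟨6, 7, true, [12, 2, 18, 8, 18, 8, 19, 6, 2], [19, 8, 15, 8, 19, 8, 19, 2, 11, 6, 8, 4, 6, 4, 11, 11, 8, 11, 6, 8, 11, 12]⟩)
  (.leaf ⟨7, 6, true, [13, 0, 18, 8, 18, 4, 14, 8, 6], [19, 8, 0, 19, 2, 12, 10, 8, 10, 4, 6, 8, 4, 6, 4, 10, 12, 8, 11, 6, 13]⟩))
  (.node (nat_lit 3199) (.leaf ⟨6, 7, true, [16, 14, 8, 19, 8, 19, 8, 14, 6], [11, 8, 19, 8, 19, 2, 8, 10, 6, 8, 11, 4, 6, 8, 4, 6, 4, 0, 6, 8, 10, 8, 10, 23]⟩)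
  (.leaf ⟨7, 6, true, [19, 6, 18, 13, 8, 16, 8, 6, 18], [19, 12, 19, 8, 19, 2, 13, 10, 8, 11, 4, 6, 8, 11, 4, 6, 8, 4, 6, 4, 10, 24]⟩))))))

noncomputable def f3200 : FT := (.node (nat_lit 3216) (.node (nat_lit 3208) (.node (nat_lit 3204) (.node (nat_lit 3202) (.node (nat_lit 3201) (.leaf ⟨6, 7, true, [2, 18, 13, 8, 19, 6, 8, 18], [4, 6, 18, 8, 19, 8, 19, 2, 10, 4, 6, 8, 10, 4, 6, 8, 10, 4, 6, 8, 4, 6, 4, 8, 11, 6, 8, 10, 23]⟩)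
  (.leaf ⟨7, 6, true, [10, 8, 19, 13, 19, 10, 8, 16], [18, 8, 19, 2, 11, 8, 10, 4, 6, 8, 4, 6, 4, 11, 11, 8, 10, 22]⟩))
  (.node (nat_lit 3203) (.leaf ⟨6, 7, true, [10, 12, 6, 8, 18, 8, 18], [8, 0, 19, 12, 19, 8, 0, 19, 2, 10, 8, 10, 4, 6, 8, 10, 4, 6, 8, 4, 6, 4, 0, 13, 10, 8, 10, 6, 8, 10, 21]⟩)
  (.leaf ⟨7, 6, true, [8, 19, 6, 8, 6, 0, 18], [14, 0, 19, 8, 19, 2, 12, 6, 8, 10, 4, 6, 8, 4, 6, 4, 0, 8, 10, 13, 6, 8, 10, 23]⟩)))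
  (.node (nat_lit 3206) (.node (nat_lit 3205) (.leaf ⟨6, 7, true, [8, 18, 8, 11, 8, 19, 16], [0, 19, 6, 8, 19, 8, 19, 2, 8, 11, 6, 8, 10, 4, 6, 8, 4, 6, 4, 8, 11, 6, 8, 11, 6, 23]⟩)
  (.leaf ⟨7, 6, true, [19, 6, 8, 14, 12, 18, 8, 18], [18, 18, 8, 19, 10, 8, 19, 2, 8, 11, 13, 6, 8, 10, 4, 6, 8, 4, 6, 4, 0, 8, 10, 13, 6, 8, 10, 20]⟩))
  (.node (nat_lit 3207) (.leaf ⟨6, 7, true, [15, 8, 19, 6, 8, 6, 18, 8, 18], [19, 10, 6, 8, 19, 19, 2, 11, 8, 11, 6, 8, 11, 4, 6, 8, 4, 6, 4, 8, 11, 12, 6, 8, 11, 6, 24]⟩)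
  (.leaf ⟨7, 6, true, [18, 10, 12, 18, 8, 19, 8, 16], [0, 19, 8, 0, 19, 8, 19, 2, 8, 10, 4, 6, 8, 10, 4, 6, 8, 4, 6, 4, 0, 10, 10, 6, 12]⟩))))
  (.node (nat_lit 3212) (.node (nat_lit 3210) (.node (nat_lit 3209) (.leaf ⟨6, 7, true, [10, 10, 8, 18, 8, 18, 8, 18, 10, 10], [15, 8, 19, 10, 8, 19, 2, 11, 12, 8, 10, 6, 8, 4, 6, 4, 13, 11, 6, 8, 10, 21]⟩)
  (.leaf ⟨7, 6, true, [18, 13, 8, 18, 4, 6, 8, 6, 18], [14, 12, 8, 0, 19, 8, 19, 2, 11, 11, 4, 6, 8, 4, 6, 4, 0, 11, 11, 6, 8, 11, 25]⟩))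
  (.node (nat_lit 3211) (.leaf ⟨6, 7, true, [0, 18, 4, 6, 8, 18, 8, 18], [16, 12, 0, 19, 8, 19, 2, 10, 8, 10, 6, 8, 10, 4, 6, 8, 4, 6, 4, 8, 11, 13, 6, 8, 10, 21]⟩)
  (.leaf ⟨7, 6, true, [0, 18, 8, 18, 8, 6, 0, 18], [10, 6, 8, 19, 8, 19, 2, 8, 10, 6, 8, 11, 4, 6, 8, 11, 4, 6, 8, 4, 6, 4, 0, 13, 10, 8, 11, 6, 8, 10, 21]⟩)))
  (.node (nat_lit 3214) (.node (nat_lit 3213) (.leaf ⟨6, 7, true, [16, 10, 8, 19, 8, 19, 15], [0, 19, 8, 14, 6, 8, 18, 18, 11, 8, 10, 4, 6, 8, 4, 6, 4, 0, 8, 11, 13, 6, 8, 11, 6, 20]⟩)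
  (.leaf ⟨7, 6, true, [18, 8, 10, 8, 19, 2], [15, 0, 19, 8, 19, 2, 6, 8, 4, 6, 4, 10, 8, 10, 10, 6, 8, 11, 13]⟩))
  (.node (nat_lit 3215) (.leaf ⟨6, 7, true, [8, 15, 8, 0, 19, 8, 19, 8, 16], [18, 14, 10, 8, 18, 18, 8, 6, 4, 0, 13, 6, 8, 10, 6]⟩)
  (.leaf ⟨7, 6, true, [0, 18, 18, 8, 6, 18, 8, 18, 11], [12, 15, 8, 19, 8, 19, 2, 11, 8, 11, 4, 6, 8, 11, 4, 6, 8, 4, 6, 4, 0, 13, 11, 8, 10, 6, 8, 11, 24]⟩)))))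
  (.node (nat_lit 3224) (.node (nat_lit 3220) (.node (nat_lit 3218) (.node (nat_lit 3217) (.leaf ⟨6, 7, true, [18, 8, 6, 18, 10, 8, 19, 16], [0, 19, 6, 18, 8, 19, 2, 4, 6, 8, 4, 6, 4, 0, 10, 8, 11, 6, 8, 10, 6, 24]⟩)
  (.leaf ⟨7, 5, true, [18, 8, 18, 12, 18, 8, 19, 12, 16], [0, 18, 18, 18, 10, 13, 4, 6, 8, 10, 4, 6, 8, 4, 6, 4, 13, 11, 6, 8, 11, 22]⟩))
  (.node (nat_lit 3219) (.leaf ⟨5, 7, true, [14, 12, 19, 8, 6, 18, 8, 6], [13, 14, 8, 0, 19, 8, 19, 2, 10, 4, 6, 8, 11, 4, 6, 8, 4, 6, 4, 0, 12, 11, 8, 10, 25]⟩)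
  (.leaf ⟨7, 5, true, [12, 0, 19, 11, 8, 19, 8, 14, 6], [0, 14, 4, 6, 8, 18, 18, 8, 11, 6, 8, 10, 4, 6, 8, 4, 6, 4, 8, 10, 8, 10]⟩)))
  (.node (nat_lit 3222) (.node (nat_lit 3221) (.leaf ⟨5, 7, true, [18, 8, 15, 8, 18, 8, 19, 19, 2], [12, 18, 8, 6, 18, 8, 19, 2, 12, 8, 10, 6, 8, 4, 6, 4, 13, 6, 8, 10, 6, 22]⟩)
  (.leaf ⟨7, 6, true, [14, 8, 6, 18, 12, 8, 6, 18], [19, 8, 2, 19, 8, 19, 2, 4, 6, 8, 10, 4, 6, 8, 4, 6, 4, 0, 6, 8, 11, 8, 11, 24]⟩))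
  (.node (nat_lit 3223) (.leaf ⟨6, 7, true, [18, 2, 18, 8, 19, 8, 19, 8, 14, 6], [19, 16, 8, 0, 19, 8, 19, 2, 12, 11, 6, 8, 10, 4, 6, 8, 4, 6, 4, 12, 10, 6, 8, 10, 13]⟩)
  (.leaf ⟨7, 6, true, [14, 12, 19, 8, 6, 18, 8, 6], [8, 0, 18, 18, 10, 8, 19, 2, 12, 4, 6, 8, 11, 4, 6, 8, 4, 6, 4, 13, 8, 11, 23]⟩))))
  (.node (nat_lit 3228) (.node (nat_lit 3226) (.node (nat_lit 3225) (.leaf ⟨6, 7, true, [13, 0, 18, 8, 18, 8, 19, 19, 14], [12, 14, 8, 6, 18, 8, 19, 2, 8, 6, 4, 0, 11, 13, 8, 10, 20]⟩)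
  (.leaf ⟨7, 6, true, [13, 8, 0, 15, 18, 8, 19, 8, 19, 2], [8, 18, 8, 0, 19, 8, 19, 2, 4, 6, 8, 11, 4, 6, 8, 11, 4, 6, 8, 4, 6, 4, 0, 6, 8, 11, 6, 8, 10, 24]⟩))
  (.node (nat_lit 3227) (.leaf ⟨6, 7, true, [0, 18, 18, 12, 8, 10, 6], [0, 19, 19, 14, 8, 19, 0, 2, 13, 8, 10, 6, 8, 4, 6, 4, 11, 8, 10, 6, 8, 11, 13]⟩)
  (.leaf ⟨7, 6, true, [14, 6, 8, 18, 8, 19, 19, 2], [14, 6, 0, 18, 8, 18, 18, 11, 11, 6, 8, 4, 6, 4, 13, 10, 8, 11, 21]⟩)))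
  (.node (nat_lit 3230) (.node (nat_lit 3229) (.leaf ⟨6, 7, true, [6, 18, 8, 19, 0, 14, 8, 6], [8, 0, 19, 6, 8, 18, 18, 8, 10, 6, 4, 6, 8, 11, 4, 6, 8, 4, 6, 4, 10, 8, 11, 13, 6, 8, 10, 21]⟩)
  (.leaf ⟨7, 6, true, [8, 0, 18], [19, 15, 8, 6, 18, 8, 19, 2, 13, 11, 8, 11, 6, 8, 4, 6, 4, 11, 6, 8, 10]⟩))
  (.node (nat_lit 3231) (.leaf ⟨6, 7, true, [12, 14, 8, 19, 12, 8, 19, 8, 16], [0, 19, 8, 19, 8, 19, 2, 8, 10, 6, 4, 6, 8, 11, 4, 6, 8, 4, 6, 4, 10, 10, 6, 8, 10, 25]⟩)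
  (.leaf ⟨7, 6, true, [18, 8, 18, 10, 10, 8, 18], [0, 19, 6, 8, 18, 18, 10, 8, 11, 6, 8, 4, 6, 4, 0, 10, 8, 11, 6, 8, 11, 22]⟩))))))

noncomputable def f3232 : FT := (.node (nat_lit 3248) (.node (nat_lit 3240) (.node (nat_lit 3236) (.node (nat_lit 3234) (.node (nat_lit 3233) (.leaf ⟨6, 7, true, [11, 8, 16, 8, 6, 18, 8, 18], [15, 18, 12, 8, 19, 8, 19, 2, 4, 6, 8, 11, 13, 4, 6, 8, 11, 4, 6, 8, 4, 6, 4, 0, 11, 8, 11, 6, 8, 11, 6, 22]⟩)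
  (.leaf ⟨7, 6, true, [14, 8, 0, 15, 18, 8, 6, 18], [15, 8, 19, 8, 19, 2, 12, 8, 10, 4, 6, 8, 4, 6, 4, 0, 12, 6, 8, 11, 24]⟩))
  (.node (nat_lit 3235) (.leaf ⟨6, 7, true, [6, 18, 8, 19, 14], [6, 8, 0, 19, 8, 19, 2, 13, 10, 4, 6, 8, 10, 4, 6, 8, 10, 4, 6, 8, 4, 6, 4, 11, 8, 11, 6, 24]⟩)
  (.leaf ⟨7, 6, true, [13, 19, 14, 8, 19, 8, 19, 14], [13, 0, 19, 8, 19, 8, 0, 19, 2, 10, 8, 10, 6, 8, 10, 4, 6, 8, 4, 6, 4, 8, 10, 8, 10, 6, 8, 10, 13]⟩)))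
  (.node (nat_lit 3238) (.node (nat_lit 3237) (.leaf ⟨6, 7, true, [6, 18, 8, 18, 10], [6, 18, 10, 8, 19, 0, 2, 11, 8, 10, 4, 6, 8, 4, 6, 4, 8, 11, 6, 23]⟩)
  (.leaf ⟨5, 7, true, [19, 19, 13, 19, 8, 19, 8, 6, 2], [19, 15, 19, 10, 8, 19, 2, 4, 6, 8, 4, 6, 4, 11, 13, 6, 8, 11, 24]⟩))
  (.node (nat_lit 3239) (.leaf ⟨7, 5, true, [0, 15, 8, 6, 18, 8, 18, 8, 6], [12, 11, 8, 19, 8, 0, 19, 2, 11, 4, 6, 8, 11, 4, 6, 8, 4, 6, 4, 0, 11, 8, 11, 6, 8, 11, 6, 12]⟩)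
  (.leaf ⟨7, 6, true, [0, 19, 8, 2, 19, 8, 19, 8, 16], [8, 6, 18, 8, 19, 2, 12, 11, 8, 4, 6, 4, 0, 8, 10, 8, 10, 6, 20]⟩))))
  (.node (nat_lit 3244) (.node (nat_lit 3242) (.node (nat_lit 3241) (.leaf ⟨6, 7, true, [18, 8, 11, 8, 19, 8, 19, 2], [0, 19, 10, 8, 19, 0, 2, 11, 8, 4, 6, 4, 11, 6, 8, 10, 25]⟩)
  (.leaf ⟨6, 7, true, [15, 12, 0, 19, 8, 6, 18, 8, 6], [12, 19, 8, 19, 0, 2, 11, 4, 6, 8, 4, 6, 4, 0, 11, 13, 6, 8, 11, 25]⟩))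
  (.node (nat_lit 3243) (.leaf ⟨7, 6, true, [8, 19, 10, 8, 19, 8, 16], [8, 14, 0, 19, 11, 8, 19, 2, 8, 11, 6, 8, 11, 4, 6, 8, 4, 6, 4, 0, 12, 8, 10, 6, 8, 10, 23]⟩)
  (.leaf ⟨4, 7, true, [2, 18, 8, 14, 12, 18, 8, 18], [6, 18, 8, 19, 0, 2, 8, 10, 8, 10, 4, 6, 8, 10, 4, 6, 8, 4, 6, 4, 0, 8, 11, 13, 6, 8, 11, 24]⟩)))
  (.node (nat_lit 3246) (.node (nat_lit 3245) (.leaf ⟨7, 4, true, [19, 12, 19, 8, 19, 12, 8, 16], [19, 10, 8, 6, 18, 8, 19, 2, 6, 8, 10, 8, 10, 4, 6, 8, 10, 4, 6, 8, 4, 6, 4, 0, 11, 6, 23]⟩)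
  (.leaf ⟨5, 7, true, [11, 11, 8, 6], [8, 0, 19, 10, 10, 8, 19, 2, 4, 6, 4, 11, 12, 6, 8, 11, 6, 23]⟩))
  (.node (nat_lit 3247) (.leaf ⟨7, 5, true, [19, 19, 12, 8, 11, 8, 19, 2], [2, 0, 18, 11, 8, 11, 6, 8, 11, 4, 6, 8, 4, 6, 4, 10, 13, 8, 11, 6, 23]⟩)
  (.leaf ⟨6, 7, true, [8, 18, 8, 16, 8, 19, 19, 14, 8, 6], [13, 19, 8, 19, 8, 19, 2, 8, 10, 6, 8, 11, 4, 6, 8, 4, 6, 4, 0, 8, 11, 6, 8, 10, 21]⟩)))))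
  (.node (nat_lit 3256) (.node (nat_lit 3252) (.node (nat_lit 3250) (.node (nat_lit 3249) (.leaf ⟨7, 6, true, [19, 0, 19, 16, 8, 6, 18, 8, 6], [11, 8, 19, 15, 19, 8, 19, 2, 10, 8, 11, 4, 6, 8, 10, 4, 6, 8, 4, 6, 4, 10, 6, 13]⟩)
  (.leaf ⟨4, 7, true, [19, 19, 8, 15, 18, 8, 0, 18], [8, 0, 14, 18, 18, 8, 19, 2, 8, 10, 8, 10, 6, 8, 10, 4, 6, 8, 4, 6, 4, 0, 13, 11, 8, 10, 6, 8, 11, 25]⟩))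
  (.node (nat_lit 3251) (.leaf ⟨7, 4, true, [2], [18, 10, 8, 19, 19, 2, 13, 8, 11, 6, 8, 4, 6, 4, 0, 11, 8, 11, 12, 6, 8, 11, 21]⟩)
  (.leaf ⟨6, 7, true, [18, 8, 18, 8, 19, 19, 14, 10], [19, 10, 6, 8, 19, 8, 19, 2, 4, 6, 4, 8, 11, 6, 20]⟩)))
  (.node (nat_lit 3254) (.node (nat_lit 3253) (.leaf ⟨7, 6, true, [10, 12, 18, 8, 19, 6, 8, 18, 10], [15, 0, 15, 18, 8, 19, 2, 6, 8, 11, 6, 8, 10, 4, 6, 8, 4, 6, 4, 6, 8, 10, 25]⟩)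
  (.leaf ⟨6, 7, true, [0, 19, 16, 8, 0, 19, 14, 6], [10, 8, 0, 18, 8, 18, 18, 6, 4, 6, 8, 10, 4, 6, 8, 4, 6, 4, 11, 8, 10, 6, 8, 11, 22]⟩))
  (.node (nat_lit 3255) (.leaf ⟨7, 6, true, [18, 14, 8, 19, 6, 18, 8, 10, 6], [12, 8, 0, 18, 8, 18, 18, 13, 8, 11, 6, 8, 10, 4, 6, 8, 4, 6, 4, 10, 13, 8, 10, 6, 23]⟩)
  (.leaf ⟨6, 7, true, [19, 6, 8, 18, 8, 19, 19, 2], [12, 19, 8, 19, 8, 19, 2, 8, 6, 4, 0, 11, 20]⟩))))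
  (.node (nat_lit 3260) (.node (nat_lit 3258) (.node (nat_lit 3257) (.leaf ⟨7, 6, true, [19, 13, 16, 8, 19, 8, 6, 2], [15, 0, 18, 8, 18, 18, 11, 8, 11, 4, 6, 8, 11, 4, 6, 8, 4, 6, 4, 0, 11, 8, 10, 21]⟩)
  (.leaf ⟨7, 4, true, [0, 19, 16], [11, 8, 19, 15, 19, 8, 19, 2, 13, 4, 6, 8, 11, 4, 6, 8, 4, 6, 4, 0, 12, 8, 11, 6, 23]⟩))
  (.node (nat_lit 3259) (.leaf ⟨4, 7, true, [12, 19, 8, 19, 16, 10, 8, 19, 6, 2], [19, 19, 8, 6, 18, 8, 19, 2, 13, 4, 6, 8, 10, 4, 6, 8, 11, 4, 6, 8, 4, 6, 4, 8, 10, 6, 8, 10, 12]⟩)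
  (.leaf ⟨7, 4, true, [14, 18, 8, 19, 16], [6, 18, 18, 8, 19, 10, 8, 19, 2, 8, 11, 8, 11, 4, 6, 8, 10, 4, 6, 8, 4, 6, 4, 11, 8, 11, 6, 8, 11, 6, 12]⟩)))
  (.node (nat_lit 3262) (.node (nat_lit 3261) (.leaf ⟨4, 7, true, [14, 8, 19, 10, 8, 19, 8, 14, 6], [14, 0, 14, 8, 18, 18, 8, 10, 4, 6, 8, 10, 4, 6, 8, 4, 6, 4, 0, 10, 8, 10, 10, 6, 8, 11, 22]⟩)
  (.leaf ⟨7, 7, true, [14, 4, 6, 8, 18, 8, 10, 8, 18], [19, 16, 8, 2, 19, 8, 19, 2, 11, 13, 8, 10, 4, 6, 8, 4, 6, 4, 13, 6, 8, 10, 6, 22]⟩))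
  (.node (nat_lit 3263) (.leaf ⟨2, 8, true, [14], []⟩)
  (.leaf ⟨8, 2, true, [], [0, 18, 6]⟩))))))

noncomputable def f3264 : FT := (.node (nat_lit 3280) (.node (nat_lit 3272) (.node (nat_lit 3268) (.node (nat_lit 3266) (.node (nat_lit 3265) (.leaf ⟨8, 8, false, [2, 0, 18, 11, 20], []⟩)
  (.leaf ⟨8, 7, true, [10], [10]⟩))
  (.node (nat_lit 3267) (.leaf ⟨7, 8, true, [11], [4, 0, 11]⟩)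
  (.leaf ⟨8, 8, true, [10, 10], [12, 10]⟩)))
  (.node (nat_lit 3270) (.node (nat_lit 3269) (.leaf ⟨8, 8, true, [11], [4, 0, 11, 12]⟩)
  (.leaf ⟨8, 6, true, [12, 10], [2, 19, 12, 19, 8, 19, 2, 13, 6, 8, 11, 4, 6, 8, 10, 4, 6, 8, 4, 6, 4, 10, 6, 8, 11, 25]⟩))
  (.node (nat_lit 3271) (.leaf ⟨6, 8, true, [15, 8, 0, 18, 10, 10], [2, 0, 18, 10, 10, 4, 6, 8, 10, 4, 6, 8, 4, 6, 4, 6, 8, 10, 6, 8, 11]⟩)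
  (.leaf ⟨8, 6, true, [12, 11], [2, 19, 12, 19, 8, 19, 2, 11, 4, 6, 8, 11, 4, 6, 8, 10, 4, 6, 8, 4, 6, 4, 8, 11, 13, 6, 8, 11, 6, 21]⟩))))
  (.node (nat_lit 3276) (.node (nat_lit 3274) (.node (nat_lit 3273) (.leaf ⟨6, 8, true, [2, 0, 18, 8, 10, 6], [2, 0, 18, 6, 8, 10, 6, 8, 11, 4, 6, 8, 4, 6, 4, 8, 11, 6, 8, 11, 6, 24]⟩)
  (.leaf ⟨8, 6, true, [11, 11], [12, 6, 18, 8, 18, 18, 4, 6, 8, 11, 12, 4, 6, 8, 11, 4, 6, 8, 4, 6, 4, 13, 8, 10, 6, 8, 11, 25]⟩))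
  (.node (nat_lit 3275) (.leaf ⟨6, 8, true, [2, 0, 18, 8, 6], [2, 0, 18, 13, 10, 8, 10, 4, 6, 8, 4, 6, 4, 8, 11, 8, 11, 6, 21]⟩)
  (.leaf ⟨8, 6, true, [15, 18, 12, 8, 19, 2], [19, 8, 19, 8, 19, 2, 8, 10, 12, 4, 6, 8, 10, 4, 6, 8, 4, 6, 4, 11, 6, 8, 11, 6, 25]⟩)))
  (.node (nat_lit 3278) (.node (nat_lit 3277) (.leaf ⟨6, 8, true, [15, 8, 19, 0, 14, 6], [6, 18, 10, 8, 18, 18, 11, 4, 6, 8, 11, 4, 6, 8, 11, 4, 6, 8, 4, 6, 4, 0, 13, 8, 10, 6, 8, 11, 23]⟩)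
  (.leaf ⟨8, 8, true, [19, 19, 19, 15, 8, 10, 6], [12, 11, 8, 19, 0, 2, 8, 10, 4, 6, 8, 10, 4, 6, 8, 4, 6, 4, 13, 10, 8, 11, 6, 8, 10]⟩))
  (.node (nat_lit 3279) (.leaf ⟨8, 8, true, [19, 19, 19, 12, 8, 16], [8, 18, 8, 0, 19, 2, 8, 10, 6, 8, 11, 4, 6, 8, 4, 6, 4, 0, 12, 10, 8, 10, 6, 8, 10, 20]⟩)
  (.leaf ⟨8, 6, true, [15, 8, 11, 8, 16], [8, 11, 8, 19, 8, 0, 19, 2, 11, 6, 4, 6, 8, 11, 4, 6, 8, 4, 6, 4, 13, 8, 11, 6, 8, 10, 21]⟩)))))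
  (.node (nat_lit 3288) (.node (nat_lit 3284) (.node (nat_lit 3282) (.node (nat_lit 3281) (.leaf ⟨6, 8, true, [15, 13, 8, 18, 8, 18], [12, 10, 6, 8, 4, 6, 4, 0, 12, 11, 6, 8, 10, 23]⟩)
  (.leaf ⟨8, 8, true, [11, 13, 8, 10, 6], [6, 8, 10, 6, 8, 11, 4, 6, 8, 11, 4, 6, 8, 4, 6, 4, 6, 8, 11, 6, 12]⟩))
  (.node (nat_lit 3283) (.leaf ⟨8, 8, true, [14, 13, 10, 8, 16], [6, 8, 10, 6, 8, 11, 4, 6, 8, 11, 4, 6, 8, 4, 6, 4, 8, 11, 6, 12]⟩)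
  (.leaf ⟨8, 8, true, [19, 19, 19, 12, 14], [10, 10, 8, 19, 0, 2, 8, 10, 8, 10, 4, 6, 8, 10, 4, 6, 8, 4, 6, 4, 0, 11, 8, 11, 6, 8, 11, 6, 24]⟩)))
  (.node (nat_lit 3286) (.node (nat_lit 3285) (.leaf ⟨8, 6, true, [15, 12, 8, 16], [10, 10, 8, 19, 19, 2, 12, 6, 8, 10, 4, 6, 8, 11, 4, 6, 8, 4, 6, 4, 10, 8, 11, 11, 6, 8, 11, 20]⟩)
  (.leaf ⟨6, 8, true, [8, 14, 12, 18, 8, 19, 6, 2], [11, 8, 10, 6, 8, 11, 4, 6, 8, 4, 6, 4, 10, 6, 8, 11, 6, 25]⟩))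
  (.node (nat_lit 3287) (.leaf ⟨8, 6, true, [14, 12, 8, 0, 18], [10, 8, 19, 19, 2, 4, 6, 8, 10, 4, 6, 8, 10, 4, 6, 8, 4, 6, 4, 8, 11, 11, 6, 8, 11, 24]⟩)
  (.leaf ⟨6, 8, true, [0, 15, 8, 10, 12, 18, 8, 18], [8, 18, 8, 0, 19, 2, 8, 11, 6, 8, 11, 4, 6, 8, 10, 4, 6, 8, 4, 6, 4, 10, 8, 10, 6, 8, 11, 13]⟩))))
  (.node (nat_lit 3292) (.node (nat_lit 3290) (.node (nat_lit 3289) (.leaf ⟨8, 6, true, [14, 4, 0, 14, 8, 6], [15, 0, 15, 18, 8, 19, 2, 10, 4, 6, 8, 11, 4, 6, 8, 4, 6, 4, 8, 10, 6, 8, 10, 20]⟩)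
  (.leaf ⟨6, 8, true, [0, 15, 8, 18, 8, 18, 10], [10, 8, 18, 0, 18, 13, 11, 8, 10, 4, 6, 8, 10, 4, 6, 8, 4, 6, 4, 10, 8, 11, 22]⟩))
  (.node (nat_lit 3291) (.leaf ⟨8, 6, true, [15, 0, 18, 10, 8, 6], [15, 8, 0, 19, 8, 19, 2, 11, 11, 6, 8, 4, 6, 4, 11, 13, 6, 8, 10]⟩)
  (.leaf ⟨6, 8, true, [0, 15, 8, 18, 8, 18], [12, 10, 8, 19, 0, 2, 11, 6, 4, 6, 8, 10, 6, 8, 11, 4, 6, 8, 4, 6, 4, 13, 10, 8, 11, 24]⟩)))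
  (.node (nat_lit 3294) (.node (nat_lit 3293) (.leaf ⟨8, 6, true, [19, 19, 13, 19, 8, 16, 10], [18, 14, 8, 19, 0, 2, 6, 8, 4, 6, 4, 0, 8, 10, 23]⟩)
  (.leaf ⟨6, 8, true, [2, 0, 18], [11, 8, 19, 0, 2, 11, 8, 11, 4, 6, 8, 10, 4, 6, 8, 4, 6, 4, 0, 10, 13, 8, 11, 22]⟩))
  (.node (nat_lit 3295) (.leaf ⟨8, 8, true, [16, 8, 15, 8, 6], [10, 6, 8, 10, 4, 6, 8, 10, 4, 6, 8, 4, 6, 4, 0, 10, 10, 6, 22]⟩)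
  (.leaf ⟨8, 8, true, [14, 10, 8, 16], [10, 10, 4, 6, 8, 11, 4, 6, 8, 11, 4, 6, 8, 4, 6, 4, 13, 10, 8, 11, 6, 8, 10, 13]⟩))))))

noncomputable def f3296 : FT := (.node (nat_lit 3312) (.node (nat_lit 3304) (.node (nat_lit 3300) (.node (nat_lit 3298) (.node (nat_lit 3297) (.leaf ⟨8, 6, true, [15, 18, 8, 19, 14, 10], [18, 18, 8, 6, 18, 8, 19, 2, 12, 11, 6, 8, 4, 6, 4, 12, 10, 8, 10, 6, 8, 10, 23]⟩)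
  (.leaf ⟨6, 8, true, [0, 2, 18, 13, 8, 19, 8, 16], [10, 8, 18, 0, 18, 11, 8, 11, 4, 6, 8, 10, 4, 6, 8, 4, 6, 4, 11, 11, 6, 8, 11, 21]⟩))
  (.node (nat_lit 3299) (.leaf ⟨8, 6, true, [19, 19, 6, 8, 18, 12, 10], [8, 19, 0, 2, 10, 13, 8, 11, 4, 6, 8, 4, 6, 4, 13, 8, 11, 6, 8, 10, 12]⟩)
  (.leaf ⟨6, 8, true, [2, 18, 8, 11, 8, 19, 2], [12, 0, 15, 8, 18, 18, 13, 8, 11, 4, 6, 8, 4, 6, 4, 8, 10, 10, 6, 8, 10, 25]⟩)))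
  (.node (nat_lit 3302) (.node (nat_lit 3301) (.leaf ⟨8, 8, false, [12, 10, 8, 19, 0, 2, 10, 13, 8, 10, 6, 8, 4, 6, 4, 0, 12, 8, 10, 6, 8, 11, 13], []⟩)
  (.leaf ⟨8, 6, true, [19, 19, 6, 8, 18, 10, 10], [8, 18, 8, 0, 19, 2, 11, 6, 4, 6, 8, 10, 4, 6, 8, 11, 4, 6, 8, 4, 6, 4, 13, 8, 10, 6, 8, 11, 23]⟩))
  (.node (nat_lit 3303) (.leaf ⟨6, 8, true, [12, 14, 8, 0, 18], [18, 8, 0, 19, 2, 10, 13, 8, 11, 4, 6, 8, 10, 4, 6, 8, 4, 6, 4, 8, 10, 6, 8, 10, 6, 21]⟩)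
  (.leaf ⟨8, 7, true, [12, 15, 8, 0, 18, 10], [10, 10, 8, 18, 0, 18, 11, 13, 8, 10, 6, 8, 4, 6, 4, 12, 10, 6, 8, 11, 22]⟩))))
  (.node (nat_lit 3308) (.node (nat_lit 3306) (.node (nat_lit 3305) (.leaf ⟨7, 8, true, [8, 14, 18, 18, 6], [0, 15, 18, 8, 19, 2, 10, 13, 8, 10, 4, 6, 8, 4, 6, 4, 0, 8, 11, 13, 6, 8, 10, 6, 23]⟩)
  (.leaf ⟨8, 6, true, [19, 19, 6, 18, 8, 6], [10, 10, 8, 18, 0, 18, 11, 13, 6, 8, 11, 4, 6, 8, 4, 6, 4, 12, 8, 10, 6, 8, 11, 13]⟩))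
  (.node (nat_lit 3307) (.leaf ⟨6, 8, true, [14, 8, 18, 8, 19, 2], [12, 0, 15, 8, 18, 18, 8, 11, 8, 11, 4, 6, 8, 4, 6, 4, 0, 11, 13, 8, 10, 6, 8, 11, 23]⟩)
  (.leaf ⟨8, 7, true, [19, 19, 19, 8, 16, 10, 8, 6], [10, 10, 8, 18, 0, 18, 8, 10, 6, 8, 10, 4, 6, 8, 4, 6, 4, 8, 10, 8, 10, 6, 8, 10, 13]⟩)))
  (.node (nat_lit 3310) (.node (nat_lit 3309) (.leaf ⟨7, 8, true, [19, 19, 19, 8, 16, 10], [10, 8, 18, 0, 18, 12, 11, 6, 8, 10, 4, 6, 8, 10, 4, 6, 8, 4, 6, 4, 10, 13, 8, 11, 24]⟩)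
  (.leaf ⟨8, 6, true, [19, 19, 19, 10, 8, 16], [8, 18, 0, 18, 11, 12, 8, 10, 6, 8, 4, 6, 4, 8, 10, 6, 8, 10, 22]⟩))
  (.node (nat_lit 3311) (.leaf ⟨6, 8, true, [8, 15, 0, 18, 8, 6], [18, 14, 8, 19, 0, 2, 4, 6, 4, 12, 10, 25]⟩)
  (.leaf ⟨8, 6, true, [19, 19, 19, 8, 16, 10], [12, 10, 8, 19, 0, 2, 6, 8, 11, 6, 4, 6, 8, 11, 4, 6, 8, 4, 6, 4, 12, 11, 8, 10, 22]⟩)))))
  (.node (nat_lit 3320) (.node (nat_lit 3316) (.node (nat_lit 3314) (.node (nat_lit 3313) (.leaf ⟨6, 8, true, [15, 18, 10, 8, 19, 2], [0, 15, 18, 8, 19, 2, 10, 8, 11, 11, 6, 8, 11, 4, 6, 8, 4, 6, 4, 11, 8, 11, 6, 8, 11, 20]⟩)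
  (.leaf ⟨8, 3, true, [19, 19, 6, 18, 8, 10, 6], [12, 10, 8, 19, 0, 2, 12, 8, 10, 6, 8, 4, 6, 4, 12, 8, 11, 6, 8, 10, 13]⟩))
  (.node (nat_lit 3315) (.leaf ⟨3, 8, true, [15, 8, 0, 18], [10, 10, 8, 19, 0, 2, 6, 8, 11, 8, 11, 4, 6, 8, 4, 6, 4, 0, 6, 8, 10, 6, 8, 11, 23]⟩)
  (.leaf ⟨8, 7, true, [6, 18, 12, 8, 0, 18], [10, 8, 18, 0, 18, 12, 8, 11, 4, 6, 8, 4, 6, 4, 0, 12, 11, 6, 8, 10, 6, 12]⟩)))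
  (.node (nat_lit 3318) (.node (nat_lit 3317) (.leaf ⟨7, 8, true, [19, 19, 6, 18, 10, 8, 6], [8, 18, 8, 0, 19, 2, 6, 4, 0, 12, 6, 8, 10, 6, 25]⟩)
  (.leaf ⟨8, 6, true, [19, 19, 6, 18, 10, 8, 6], [8, 10, 8, 19, 0, 2, 8, 10, 6, 8, 11, 4, 6, 8, 10, 4, 6, 8, 4, 6, 4, 10, 6, 8, 11, 23]⟩))
  (.node (nat_lit 3319) (.leaf ⟨6, 8, true, [12, 15, 8, 0, 18], [18, 8, 0, 19, 2, 12, 11, 8, 4, 6, 4, 0, 23]⟩)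
  (.leaf ⟨8, 8, true, [19, 19, 19, 14, 10, 8, 6], [12, 18, 8, 0, 19, 2, 6, 4, 0, 12, 11, 23]⟩))))
  (.node (nat_lit 3324) (.node (nat_lit 3322) (.node (nat_lit 3321) (.leaf ⟨8, 8, true, [6, 18, 10, 8, 0, 18], [10, 8, 18, 0, 18, 12, 8, 11, 4, 6, 8, 4, 6, 4, 0, 12, 11, 6, 8, 10, 6, 13]⟩)
  (.leaf ⟨8, 6, true, [19, 19, 19, 8, 14, 10, 6], [10, 8, 19, 0, 2, 8, 10, 6, 8, 10, 4, 6, 8, 11, 4, 6, 8, 4, 6, 4, 10, 10, 8, 11, 25]⟩))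
  (.node (nat_lit 3323) (.leaf ⟨6, 8, true, [15, 12, 18, 8, 19, 2], [12, 0, 14, 8, 18, 18, 11, 4, 6, 8, 11, 4, 6, 8, 4, 6, 4, 12, 6, 8, 11, 20]⟩)
  (.leaf ⟨8, 8, false, [12, 8, 18, 8, 2, 18, 18, 4, 6, 8, 10, 12, 4, 6, 8, 10, 4, 6, 8, 4, 6, 4, 12, 8, 10, 6, 12], []⟩)))
  (.node (nat_lit 3326) (.node (nat_lit 3325) (.leaf ⟨8, 3, true, [19, 19, 19, 8, 15, 8, 6], [18, 8, 18, 8, 19, 2, 11, 6, 8, 11, 6, 8, 10, 4, 6, 8, 4, 6, 4, 10, 13, 8, 11, 25]⟩)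
  (.leaf ⟨3, 8, true, [8, 6, 18, 8, 18, 8, 19, 14, 6], [10, 10, 8, 18, 0, 18, 11, 13, 6, 8, 11, 4, 6, 8, 10, 4, 6, 8, 4, 6, 4, 8, 11, 13, 6, 8, 10, 24]⟩))
  (.node (nat_lit 3327) (.leaf ⟨8, 3, true, [19, 19, 13, 19, 8, 15, 8, 6], [0, 18, 10, 10, 8, 18, 18, 6, 8, 11, 8, 11, 4, 6, 8, 11, 4, 6, 8, 4, 6, 4, 13, 8, 10, 6, 8, 11, 20]⟩)
  (.leaf ⟨3, 8, true, [15, 8, 19, 19, 16, 8, 6, 18, 10], [12, 10, 8, 19, 0, 2, 10, 8, 11, 6, 8, 11, 4, 6, 8, 4, 6, 4, 0, 12, 11, 6, 8, 10, 25]⟩))))))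

noncomputable def f3328 : FT := (.node (nat_lit 3344) (.node (nat_lit 3336) (.node (nat_lit 3332) (.node (nat_lit 3330) (.node (nat_lit 3329) (.leaf ⟨8, 6, true, [19, 14, 6, 18, 8, 18, 10], [10, 8, 19, 0, 2, 4, 12, 8, 10, 13]⟩)
  (.leaf ⟨6, 8, true, [12, 2, 0, 18, 8, 6], [8, 10, 8, 19, 0, 2, 13, 10, 8, 11, 4, 6, 8, 10, 4, 6, 8, 4, 6, 4, 10, 6, 8, 10, 6, 8, 11, 24]⟩))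
  (.node (nat_lit 3331) (.leaf ⟨8, 6, true, [10, 6], [10, 8, 19, 19, 2, 10, 6, 8, 10, 4, 6, 8, 10, 4, 6, 8, 4, 6, 4, 0, 13, 10, 8, 10, 21]⟩)
  (.leaf ⟨6, 8, true, [15, 8, 18, 18, 10, 8, 6], [10, 6, 8, 10, 4, 6, 8, 11, 4, 6, 8, 4, 6, 4, 0, 8, 10, 8, 10, 6, 8, 10, 23]⟩)))
  (.node (nat_lit 3334) (.node (nat_lit 3333) (.leaf ⟨8, 6, true, [8, 10, 6], [10, 6, 8, 0, 19, 8, 19, 2, 4, 6, 8, 11, 13, 4, 6, 8, 11, 4, 6, 8, 4, 6, 4, 0, 11, 8, 10, 6, 8, 10, 24]⟩)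
  (.leaf ⟨6, 8, true, [0, 2, 18, 8, 19, 14, 6], [13, 11, 6, 8, 11, 4, 6, 8, 4, 6, 4, 11, 13, 6, 8, 10, 6]⟩))
  (.node (nat_lit 3335) (.leaf ⟨8, 8, true, [10, 10, 6], [10, 4, 6, 8, 10, 4, 6, 8, 10, 4, 6, 8, 4, 6, 4, 0, 11, 13, 6, 8, 11, 6]⟩)
  (.leaf ⟨8, 6, true, [12, 10, 6], [10, 8, 19, 19, 2, 11, 8, 11, 6, 8, 4, 6, 4, 0, 8, 11, 11, 6, 8, 11, 13]⟩))))
  (.node (nat_lit 3340) (.node (nat_lit 3338) (.node (nat_lit 3337) (.leaf ⟨6, 8, true, [8, 0, 14, 12, 18, 8, 19, 6, 2], [10, 4, 6, 8, 11, 4, 6, 8, 4, 6, 4, 11, 8, 11, 6, 23]⟩)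
  (.leaf ⟨8, 6, true, [8, 10, 8, 6], [10, 8, 19, 19, 2, 10, 8, 10, 6, 8, 4, 6, 4, 0, 8, 11, 12, 6, 8, 11, 12]⟩))
  (.node (nat_lit 3339) (.leaf ⟨6, 8, true, [2, 18, 8, 6, 18, 8, 6], [8, 10, 6, 8, 4, 6, 4, 12, 11, 8, 11, 12]⟩)
  (.leaf ⟨8, 6, true, [13, 8, 10, 6], [10, 8, 19, 10, 8, 19, 2, 6, 8, 10, 8, 10, 4, 6, 8, 10, 4, 6, 8, 4, 6, 4, 0, 8, 10, 8, 10, 21]⟩)))
  (.node (nat_lit 3342) (.node (nat_lit 3341) (.leaf ⟨6, 8, true, [0, 15, 13, 8, 18, 8, 18], [6, 8, 11, 8, 11, 4, 6, 8, 10, 4, 6, 8, 4, 6, 4, 11, 12, 8, 10, 13]⟩)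
  (.leaf ⟨6, 8, true, [18, 10, 8, 6, 18, 8, 19, 19, 2], [8, 15, 8, 0, 19, 8, 19, 2, 12, 10, 4, 6, 8, 4, 6, 4, 10, 6, 8, 10]⟩))
  (.node (nat_lit 3343) (.leaf ⟨8, 6, true, [6, 18, 18, 8, 19, 16], [19, 19, 8, 19, 8, 19, 2, 8, 11, 6, 8, 11, 4, 6, 8, 11, 4, 6, 8, 4, 6, 4, 6, 12]⟩)
  (.leaf ⟨6, 8, true, [8, 18, 8, 18, 8, 18, 10], [18, 8, 19, 14, 8, 19, 0, 2, 12, 11, 6, 8, 4, 6, 4, 13, 8, 10, 6, 8, 11, 24]⟩)))))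
  (.node (nat_lit 3352) (.node (nat_lit 3348) (.node (nat_lit 3346) (.node (nat_lit 3345) (.leaf ⟨8, 6, true, [14, 8, 19, 6, 8, 19, 16], [12, 11, 8, 19, 19, 2, 11, 8, 11, 6, 8, 11, 4, 6, 8, 4, 6, 4, 0, 13, 11, 8, 10, 6, 8, 11, 13]⟩)
  (.leaf ⟨6, 8, true, [13, 0, 19, 8, 19, 8, 0, 14, 6], [2, 18, 8, 0, 18, 18, 13, 8, 10, 4, 6, 8, 4, 6, 4, 11, 13, 8, 10, 22]⟩))
  (.node (nat_lit 3347) (.leaf ⟨8, 6, true, [14, 8, 19, 14, 6, 8, 19, 19, 14], [18, 8, 19, 6, 8, 18, 18, 12, 8, 11, 6, 8, 10, 4, 6, 8, 4, 6, 4, 11, 13, 6, 8, 11, 20]⟩)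
  (.leaf ⟨6, 8, true, [2, 18, 8, 18, 18, 10, 8, 6], [19, 0, 2, 8, 11, 11, 6, 8, 11, 4, 6, 8, 4, 6, 4, 11, 6, 24]⟩)))
  (.node (nat_lit 3350) (.node (nat_lit 3349) (.leaf ⟨8, 6, true, [19, 8, 19, 19, 14], [19, 12, 19, 8, 19, 2, 6, 8, 11, 13, 4, 6, 8, 11, 4, 6, 8, 4, 6, 4, 13, 8, 11, 6, 8, 10, 21]⟩)
  (.leaf ⟨6, 8, true, [11, 8, 6, 0, 18, 8, 6], [18, 18, 8, 19, 2, 8, 10, 8, 10, 6, 8, 10, 4, 6, 8, 4, 6, 4, 0, 13, 11, 6, 8, 10, 21]⟩))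
  (.node (nat_lit 3351) (.leaf ⟨8, 6, true, [11, 8, 6, 18, 8, 19, 19, 2], [18, 18, 4, 6, 8, 4, 6, 4, 0, 11, 6, 8, 11, 6, 23]⟩)
  (.leaf ⟨6, 8, true, [18, 8, 19, 19, 15], [12, 0, 14, 8, 18, 8, 18, 18, 6, 8, 10, 8, 10, 4, 6, 8, 10, 4, 6, 8, 4, 6, 4, 0, 13, 6, 8, 10, 22]⟩))))
  (.node (nat_lit 3356) (.node (nat_lit 3354) (.node (nat_lit 3353) (.leaf ⟨8, 6, true, [8, 6, 18, 8, 19, 19, 15], [14, 8, 18, 0, 18, 12, 11, 8, 4, 6, 4, 6, 8, 11, 6]⟩)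
  (.leaf ⟨6, 8, true, [15, 18, 18, 8, 19, 6, 2], [8, 18, 8, 6, 18, 8, 19, 2, 12, 4, 6, 8, 10, 4, 6, 8, 4, 6, 4, 8, 10, 8, 10, 6, 8, 10, 21]⟩))
  (.node (nat_lit 3355) (.leaf ⟨8, 6, true, [6, 18, 8, 18, 13, 10, 8, 18], [8, 15, 18, 10, 8, 18, 18, 12, 10, 6, 8, 4, 6, 4, 0, 11, 8, 11, 6, 8, 10, 6, 24]⟩)
  (.leaf ⟨6, 8, true, [12, 19, 11, 8, 19, 8, 16, 10], [19, 8, 19, 10, 10, 8, 19, 2, 11, 6, 8, 11, 4, 6, 8, 4, 6, 4, 0, 12, 6, 8, 10, 21]⟩)))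
  (.node (nat_lit 3358) (.node (nat_lit 3357) (.leaf ⟨8, 6, true, [6, 18, 8, 18, 12, 10, 8, 18], [2, 0, 18, 8, 18, 18, 10, 8, 10, 6, 4, 6, 8, 11, 4, 6, 8, 4, 6, 4, 10, 13, 8, 10, 6, 24]⟩)
  (.leaf ⟨6, 8, true, [19, 19, 15, 8, 10, 6], [15, 0, 19, 8, 19, 8, 19, 2, 13, 11, 4, 6, 8, 11, 4, 6, 8, 4, 6, 4, 10, 10, 8, 11, 20]⟩))
  (.node (nat_lit 3359) (.leaf ⟨8, 6, true, [2, 19, 19, 13, 8, 19, 8, 16], [12, 18, 8, 19, 0, 2, 12, 11, 8, 10, 4, 6, 8, 4, 6, 4, 10, 13, 8, 11, 6, 21]⟩)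
  (.leaf ⟨6, 8, true, [18, 13, 8, 18, 8, 19, 8, 19, 2], [16, 8, 0, 19, 10, 8, 19, 2, 8, 10, 8, 4, 6, 4, 11, 8, 11, 6, 8, 10, 25]⟩))))))

noncomputable def f3360 : FT := (.node (nat_lit 3376) (.node (nat_lit 3368) (.node (nat_lit 3364) (.node (nat_lit 3362) (.node (nat_lit 3361) (.leaf ⟨8, 6, true, [18, 18, 18, 8, 19, 19, 14, 8, 6], [12, 15, 8, 19, 0, 2, 8, 11, 13, 4, 6, 8, 11, 4, 6, 8, 4, 6, 4, 0, 11, 8, 10, 6, 23]⟩)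
  (.leaf ⟨6, 8, true, [15, 8, 10, 6], [0, 14, 18, 8, 18, 18, 8, 4, 6, 4, 0, 10, 6, 8, 10, 6, 23]⟩))
  (.node (nat_lit 3363) (.leaf ⟨8, 6, true, [13, 14, 8, 18, 8, 18, 11], [19, 2, 4, 6, 4, 0, 11, 13, 6, 8, 11, 6, 23]⟩)
  (.leaf ⟨6, 8, true, [8, 18, 8, 0, 15, 18, 8, 18], [19, 6, 8, 18, 18, 12, 11, 4, 6, 8, 4, 6, 4, 0, 12, 11, 6, 8, 10, 6, 23]⟩)))
  (.node (nat_lit 3366) (.node (nat_lit 3365) (.leaf ⟨8, 6, true, [0, 14, 12, 18, 8, 19, 6, 2], [19, 8, 16, 8, 19, 8, 19, 2, 12, 6, 8, 10, 4, 6, 8, 10, 4, 6, 8, 4, 6, 4, 6, 8, 10, 6, 22]⟩)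
  (.leaf ⟨6, 8, true, [8, 15, 8, 19, 8, 19, 8, 6, 2], [2, 18, 8, 19, 6, 8, 18, 18, 11, 8, 10, 6, 8, 11, 4, 6, 8, 4, 6, 4, 0, 13, 10, 8, 10, 24]⟩))
  (.node (nat_lit 3367) (.leaf ⟨8, 6, true, [0, 14, 10, 8, 18, 8, 4, 14, 6], [12, 8, 2, 18, 8, 18, 18, 11, 6, 4, 6, 8, 10, 4, 6, 8, 11, 4, 6, 8, 4, 6, 4, 12, 8, 11, 6, 8, 10, 6, 24]⟩)
  (.leaf ⟨6, 8, true, [2, 18, 13, 8, 18, 10, 8, 18], [15, 18, 8, 19, 0, 2, 12, 10, 8, 10, 6, 8, 4, 6, 4, 0, 8, 11, 8, 11, 6, 8, 10]⟩))))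
  (.node (nat_lit 3372) (.node (nat_lit 3370) (.node (nat_lit 3369) (.leaf ⟨8, 6, true, [0, 15, 12, 18, 8, 19, 12, 16], [8, 19, 6, 8, 18, 18, 12, 4, 6, 8, 11, 4, 6, 8, 4, 6, 4, 13, 11, 8, 10, 6, 8, 10, 12]⟩)
  (.leaf ⟨6, 8, true, [15, 13, 8, 19, 10, 8, 19, 2], [19, 8, 6, 18, 10, 8, 19, 2, 13, 11, 4, 6, 8, 11, 4, 6, 8, 4, 6, 4, 11, 8, 10, 6, 8, 10, 6, 20]⟩))
  (.node (nat_lit 3371) (.leaf ⟨8, 6, true, [15, 19, 19, 8, 6, 18, 8, 6], [0, 14, 18, 8, 0, 18, 18, 10, 6, 8, 11, 4, 6, 8, 4, 6, 4, 0, 10, 6, 8, 10, 21]⟩)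
  (.leaf ⟨6, 8, true, [8, 19, 8, 19, 8, 16, 10], [16, 8, 19, 10, 8, 19, 2, 11, 8, 11, 6, 4, 6, 8, 10, 4, 6, 8, 4, 6, 4, 8, 11, 8, 11, 6, 25]⟩)))
  (.node (nat_lit 3374) (.node (nat_lit 3373) (.leaf ⟨8, 6, true, [6, 18, 8, 19, 19, 15], [8, 11, 8, 19, 8, 19, 2, 10, 8, 11, 6, 8, 4, 6, 4, 12, 8, 10, 6, 8, 10, 20]⟩)
  (.leaf ⟨6, 8, true, [16, 13, 8, 19, 8, 19, 2], [16, 8, 19, 6, 18, 8, 19, 2, 10, 8, 11, 4, 6, 8, 11, 4, 6, 8, 4, 6, 4, 6, 8, 11, 8, 11, 12]⟩))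
  (.node (nat_lit 3375) (.leaf ⟨8, 6, true, [8, 2, 18, 8, 6, 18], [15, 8, 0, 15, 18, 8, 18, 18, 13, 6, 8, 10, 4, 6, 8, 4, 6, 4, 10, 6, 8, 11, 6, 8, 10, 20]⟩)
  (.leaf ⟨6, 8, true, [12, 18, 8, 6, 18, 8, 19, 16], [15, 18, 0, 14, 8, 18, 18, 10, 8, 11, 6, 8, 10, 4, 6, 8, 4, 6, 4, 0, 10, 10, 8, 11, 22]⟩)))))
  (.node (nat_lit 3384) (.node (nat_lit 3380) (.node (nat_lit 3378) (.node (nat_lit 3377) (.leaf ⟨8, 6, true, [14, 8, 19, 19, 16, 10, 8, 6, 18], [12, 0, 2, 18, 8, 0, 18, 18, 8, 11, 8, 11, 4, 6, 8, 4, 6, 4, 0, 12, 11, 6, 8, 10, 6, 12]⟩)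
  (.leaf ⟨6, 8, true, [8, 18, 8, 18, 8, 19, 19, 15], [8, 19, 8, 19, 6, 8, 18, 18, 13, 11, 6, 8, 10, 4, 6, 8, 4, 6, 4, 10, 13, 8, 10, 6, 12]⟩))
  (.node (nat_lit 3379) (.leaf ⟨8, 6, true, [12, 14, 8, 18, 10, 8, 18], [13, 16, 8, 19, 8, 0, 19, 2, 6, 8, 11, 6, 8, 10, 4, 6, 8, 10, 4, 6, 8, 4, 6, 4, 10, 12, 8, 11, 6, 21]⟩)
  (.leaf ⟨6, 8, true, [18, 18, 8, 6, 18, 8, 18, 8, 6], [8, 0, 2, 18, 8, 0, 18, 18, 11, 13, 6, 8, 10, 4, 6, 8, 4, 6, 4, 0, 8, 11, 13, 6, 8, 11, 6, 25]⟩)))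
  (.node (nat_lit 3382) (.node (nat_lit 3381) (.leaf ⟨8, 6, true, [13, 14, 8, 18, 10, 8, 18], [15, 12, 0, 19, 8, 19, 8, 19, 2, 10, 13, 4, 6, 8, 10, 4, 6, 8, 4, 6, 4, 8, 10, 8, 10, 6, 12]⟩)
  (.leaf ⟨6, 8, true, [19, 14, 6, 8, 18, 8, 18, 11], [6, 18, 8, 2, 18, 18, 12, 8, 11, 6, 8, 10, 4, 6, 8, 4, 6, 4, 0, 6, 8, 10, 8, 10, 20]⟩))
  (.node (nat_lit 3383) (.leaf ⟨8, 6, true, [6, 18, 8, 18, 12, 8, 19, 8, 16], [14, 4, 6, 18, 8, 19, 2, 11, 6, 8, 4, 6, 4, 0, 13, 8, 11, 6, 8, 10]⟩)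
  (.leaf ⟨6, 8, true, [14, 8, 19, 8, 19, 8, 14, 6], [6, 0, 18, 8, 18, 18, 12, 11, 8, 10, 6, 8, 10, 4, 6, 8, 4, 6, 4, 8, 11, 6, 8, 11, 22]⟩))))
  (.node (nat_lit 3388) (.node (nat_lit 3386) (.node (nat_lit 3385) (.leaf ⟨8, 6, true, [12, 18, 8, 16, 8, 19, 12, 19, 2], [19, 12, 14, 8, 19, 0, 2, 6, 8, 11, 4, 6, 8, 11, 4, 6, 8, 4, 6, 4, 0, 13, 6, 8, 10, 12]⟩)
  (.leaf ⟨6, 8, true, [14, 6, 8, 18, 8, 19, 19, 2], [10, 10, 8, 18, 0, 18, 11, 8, 6, 4, 8, 11, 12]⟩))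
  (.node (nat_lit 3387) (.leaf ⟨8, 6, true, [18, 8, 0, 18, 8, 6], [18, 18, 11, 8, 19, 8, 19, 2, 8, 10, 6, 4, 6, 8, 11, 4, 6, 8, 4, 6, 4, 10, 6, 8, 11, 6, 8, 10, 22]⟩)
  (.leaf ⟨6, 8, true, [8, 14, 6, 8, 19, 19, 14, 8, 6], [2, 19, 12, 19, 8, 19, 2, 10, 4, 6, 8, 10, 4, 6, 8, 4, 6, 4, 6, 8, 11, 6, 8, 10, 6, 12]⟩)))
  (.node (nat_lit 3390) (.node (nat_lit 3389) (.leaf ⟨8, 6, true, [4, 6, 8, 19, 8, 19, 2], [11, 8, 18, 10, 8, 18, 18, 11, 6, 4, 6, 8, 11, 4, 6, 8, 4, 6, 4, 8, 11, 6, 13]⟩)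
  (.leaf ⟨6, 8, true, [6, 18, 8, 0, 18, 4, 14, 8, 6], [0, 19, 6, 18, 8, 19, 2, 8, 10, 4, 6, 8, 11, 4, 6, 8, 4, 6, 4, 0, 11, 8, 11, 24]⟩))
  (.node (nat_lit 3391) (.leaf ⟨8, 6, true, [12, 6, 18, 8, 18, 10, 8, 18], [10, 10, 8, 18, 18, 11, 13, 4, 6, 8, 11, 4, 6, 8, 4, 6, 4, 0, 11, 11, 8, 11, 6, 8, 11, 22]⟩)
  (.leaf ⟨6, 8, true, [8, 0, 18, 18, 8, 18, 8, 6], [6, 18, 10, 8, 18, 18, 12, 10, 6, 8, 11, 4, 6, 8, 4, 6, 4, 8, 10, 6, 25]⟩))))))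

noncomputable def f3392 : FT := (.node (nat_lit 3408) (.node (nat_lit 3400) (.node (nat_lit 3396) (.node (nat_lit 3394) (.node (nat_lit 3393) (.leaf ⟨8, 6, true, [12, 8, 19, 8, 19, 2], [8, 0, 18, 8, 18, 8, 19, 2, 11, 8, 4, 6, 4, 0, 11, 13, 6, 8, 11, 6, 22]⟩)
  (.leaf ⟨6, 8, true, [10, 6, 8, 19, 6, 8, 6, 18], [13, 19, 10, 8, 19, 8, 19, 2, 6, 8, 11, 13, 4, 6, 8, 11, 4, 6, 8, 4, 6, 4, 0, 11, 8, 11, 12, 6, 8, 11, 6, 20]⟩))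
  (.node (nat_lit 3395) (.leaf ⟨8, 6, true, [8, 6, 0, 18, 12, 18, 8, 19, 6, 2], [19, 8, 6, 18, 8, 19, 2, 10, 10, 4, 6, 8, 10, 4, 6, 8, 4, 6, 4, 13, 8, 10, 6, 8, 11, 25]⟩)
  (.leaf ⟨6, 8, true, [8, 0, 19, 19, 8, 15, 8, 6], [6, 18, 10, 8, 19, 2, 4, 6, 8, 10, 10, 4, 6, 8, 10, 4, 6, 8, 4, 6, 4, 10, 10, 8, 11, 20]⟩)))
  (.node (nat_lit 3398) (.node (nat_lit 3397) (.leaf ⟨8, 6, true, [13, 6, 0, 18, 8, 18, 8, 18, 11], [0, 18, 18, 14, 8, 18, 18, 10, 6, 8, 10, 4, 6, 8, 4, 6, 4, 0, 12, 8, 11, 22]⟩)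
  (.leaf ⟨6, 8, true, [14, 0, 19, 11, 8, 19, 14, 8, 6], [18, 8, 19, 0, 2, 6, 8, 11, 6, 8, 10, 4, 6, 8, 4, 6, 4, 0, 11, 8, 11, 12, 6, 8, 11, 21]⟩))
  (.node (nat_lit 3399) (.leaf ⟨8, 6, true, [14, 18, 8, 19, 16], [18, 8, 18, 8, 18, 18, 10, 13, 4, 6, 8, 10, 4, 6, 8, 4, 6, 4, 12, 8, 11, 6, 8, 10, 6, 12]⟩)
  (.leaf ⟨6, 8, true, [12, 8, 18, 8, 2, 18, 8, 19, 19, 2], [18, 8, 6, 18, 8, 19, 0, 2, 4, 6, 8, 10, 8, 10, 4, 6, 8, 4, 6, 4, 12, 10, 8, 10, 6, 13]⟩))))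
  (.node (nat_lit 3404) (.node (nat_lit 3402) (.node (nat_lit 3401) (.leaf ⟨8, 6, true, [14, 8, 18, 8, 19, 16], [8, 19, 8, 19, 8, 19, 2, 8, 10, 6, 8, 10, 4, 6, 8, 11, 4, 6, 8, 4, 6, 4, 12, 11, 6, 8, 10, 6, 22]⟩)
  (.leaf ⟨6, 8, true, [6, 18, 8, 18, 14, 8, 19, 19, 2], [12, 19, 8, 14, 6, 8, 18, 18, 6, 8, 11, 6, 4, 6, 8, 10, 4, 6, 8, 4, 6, 4, 11, 11, 6, 8, 11, 21]⟩))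
  (.node (nat_lit 3403) (.leaf ⟨8, 6, true, [0, 14, 4, 6, 8, 19, 6, 2], [19, 19, 8, 19, 2, 10, 8, 10, 4, 6, 8, 4, 6, 4, 0, 6, 8, 10, 8, 10, 6, 12]⟩)
  (.leaf ⟨6, 8, true, [18, 12, 18, 8, 6, 18, 8, 6], [8, 18, 14, 10, 8, 18, 18, 10, 6, 8, 11, 4, 6, 8, 4, 6, 4, 0, 6, 8, 10, 6, 24]⟩)))
  (.node (nat_lit 3406) (.node (nat_lit 3405) (.leaf ⟨8, 6, true, [8, 15, 19, 6, 8, 6, 18, 10], [18, 14, 8, 19, 10, 8, 19, 2, 13, 10, 8, 11, 6, 8, 10, 4, 6, 8, 4, 6, 4, 10, 10, 6, 23]⟩)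
  (.leaf ⟨6, 8, true, [18, 18, 8, 19, 14, 10], [12, 0, 15, 8, 18, 18, 8, 10, 8, 10, 6, 8, 10, 4, 6, 8, 4, 6, 4, 0, 11, 13, 8, 10, 6, 8, 11, 21]⟩))
  (.node (nat_lit 3407) (.leaf ⟨8, 6, true, [6, 18, 8, 0, 18], [18, 14, 8, 19, 0, 2, 10, 8, 11, 6, 8, 10, 4, 6, 8, 4, 6, 4, 13, 10, 8, 11, 6, 8, 10, 6, 12]⟩)
  (.leaf ⟨6, 8, true, [6, 4, 6, 8, 18, 8, 18], [18, 14, 8, 18, 18, 11, 8, 11, 12, 6, 8, 11, 4, 6, 8, 4, 6, 4, 0, 8, 10, 6, 8, 11, 6, 13]⟩)))))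
  (.node (nat_lit 3416) (.node (nat_lit 3412) (.node (nat_lit 3410) (.node (nat_lit 3409) (.leaf ⟨8, 6, true, [13, 15, 19, 19, 8, 19, 8, 16, 10], [6, 8, 18, 8, 19, 19, 2, 11, 6, 8, 10, 10, 4, 6, 8, 11, 4, 6, 8, 4, 6, 4, 11, 6, 8, 11, 6, 8, 10, 13]⟩)
  (.leaf ⟨6, 8, true, [0, 2, 18, 8, 16, 8, 19, 19, 2], [18, 0, 18, 11, 4, 6, 8, 10, 4, 6, 8, 11, 4, 6, 8, 4, 6, 4, 8, 11, 13, 6, 8, 10, 13]⟩))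
  (.node (nat_lit 3411) (.leaf ⟨8, 6, true, [10, 8, 19, 10, 8, 19, 2], [8, 0, 18, 8, 18, 8, 19, 2, 11, 8, 4, 6, 4, 0, 10, 8, 11, 13, 6, 8, 10, 23]⟩)
  (.leaf ⟨6, 8, true, [18, 10, 8, 19, 19, 2], [15, 18, 18, 8, 18, 18, 12, 10, 6, 8, 10, 4, 6, 8, 4, 6, 4, 8, 11, 6, 8, 10, 6, 20]⟩)))
  (.node (nat_lit 3414) (.node (nat_lit 3413) (.leaf ⟨8, 6, true, [8, 0, 14, 8, 18, 10, 8, 18], [0, 18, 8, 18, 18, 8, 10, 8, 10, 6, 8, 10, 4, 6, 8, 4, 6, 4, 11, 8, 11, 6, 8, 10, 6, 25]⟩)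
  (.leaf ⟨6, 8, true, [0, 19, 6, 8, 18, 10, 10], [8, 0, 14, 18, 18, 8, 19, 2, 11, 6, 8, 4, 6, 4, 0, 10, 13, 8, 11, 6, 23]⟩))
  (.node (nat_lit 3415) (.leaf ⟨8, 6, true, [13, 6, 0, 18, 8, 18, 10, 8, 18], [2, 18, 8, 19, 8, 0, 19, 2, 6, 4, 6, 8, 11, 4, 6, 8, 10, 4, 6, 8, 4, 6, 4, 8, 10, 8, 10, 6, 8, 10, 20]⟩)
  (.leaf ⟨6, 8, true, [13, 18, 8, 18, 8, 18, 8, 6], [8, 18, 8, 18, 8, 19, 2, 13, 10, 6, 8, 10, 4, 6, 8, 10, 4, 6, 8, 4, 6, 4, 12, 10, 8, 10, 6, 8, 10, 21]⟩))))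
  (.node (nat_lit 3420) (.node (nat_lit 3418) (.node (nat_lit 3417) (.leaf ⟨8, 6, true, [0, 2, 18, 8, 18], [0, 18, 8, 18, 18, 6, 8, 11, 6, 4, 6, 8, 11, 4, 6, 8, 4, 6, 4, 13, 6, 8, 11, 6, 24]⟩)
  (.leaf ⟨6, 8, true, [6, 8, 18, 8, 2, 18, 8, 19, 6, 2], [10, 8, 18, 0, 18, 11, 6, 8, 10, 6, 4, 6, 8, 11, 4, 6, 8, 4, 6, 4, 12]⟩))
  (.node (nat_lit 3419) (.leaf ⟨8, 6, true, [8, 18, 0, 18], [19, 10, 8, 19, 8, 0, 19, 2, 13, 8, 10, 6, 8, 4, 6, 4, 6, 8, 11, 6, 8, 10, 6, 23]⟩)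
  (.leaf ⟨6, 8, true, [0, 2, 18, 8, 2, 18, 8, 18, 10], [16, 8, 2, 19, 8, 19, 2, 10, 8, 11, 4, 6, 8, 4, 6, 4, 0, 12, 8, 11, 6, 8, 10, 12]⟩)))
  (.node (nat_lit 3422) (.node (nat_lit 3421) (.leaf ⟨8, 6, true, [14, 8, 19, 19, 15], [0, 19, 8, 19, 8, 19, 2, 13, 6, 8, 11, 4, 6, 8, 4, 6, 4, 0, 8, 10, 6, 8, 11, 6]⟩)
  (.leaf ⟨6, 8, true, [19, 19, 19, 8, 19, 14, 10], [14, 0, 19, 11, 8, 19, 2, 12, 10, 8, 4, 6, 4, 0, 8, 11, 6, 12]⟩))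
  (.node (nat_lit 3423) (.leaf ⟨8, 6, true, [15, 8, 19, 19, 16, 8, 6, 18, 10], [12, 0, 19, 8, 0, 19, 8, 19, 2, 8, 11, 13, 4, 6, 8, 10, 4, 6, 8, 4, 6, 4, 11, 13, 6, 8, 11, 6, 21]⟩)
  (.leaf ⟨6, 8, true, [8, 15, 19, 6, 8, 18, 8, 18], [15, 19, 19, 19, 8, 19, 2, 8, 10, 8, 10, 4, 6, 8, 4, 6, 4, 13, 10, 6, 8, 11, 21]⟩))))))

noncomputable def f3424 : FT := (.node (nat_lit 3440) (.node (nat_lit 3432) (.node (nat_lit 3428) (.node (nat_lit 3426) (.node (nat_lit 3425) (.leaf ⟨8, 6, true, [12, 8, 2, 18, 8, 18], [8, 2, 19, 8, 19, 2, 6, 4, 6, 8, 11, 6, 8, 10, 4, 6, 8, 4, 6, 4, 10, 8, 11, 13, 6, 8, 10, 22]⟩)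
  (.leaf ⟨6, 8, true, [13, 0, 18, 8, 18, 8, 18, 8, 6], [8, 0, 18, 8, 18, 8, 19, 2, 10, 12, 8, 11, 4, 6, 8, 4, 6, 4, 12, 8, 11, 20]⟩))
  (.node (nat_lit 3427) (.leaf ⟨8, 6, true, [0, 14, 8, 18, 12, 10, 8, 18], [0, 18, 8, 18, 18, 13, 8, 10, 6, 8, 11, 4, 6, 8, 4, 6, 4, 13, 11, 6, 8, 10, 20]⟩)
  (.leaf ⟨6, 8, true, [19, 0, 19, 10, 8, 19, 12, 8, 16], [18, 8, 18, 8, 19, 19, 2, 13, 10, 6, 8, 11, 4, 6, 8, 4, 6, 4, 13, 6, 8, 11, 6, 20]⟩)))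
  (.node (nat_lit 3430) (.node (nat_lit 3429) (.leaf ⟨8, 6, true, [14, 8, 18, 10, 8, 18], [12, 2, 18, 8, 18, 18, 8, 10, 8, 10, 6, 8, 4, 6, 4, 13, 11, 8, 10, 6, 8, 11, 20]⟩)
  (.leaf ⟨6, 8, true, [19, 19, 6, 8, 16, 8, 19, 19, 2], [8, 19, 12, 19, 8, 0, 19, 2, 11, 13, 6, 8, 10, 4, 6, 8, 4, 6, 4, 0, 10, 6, 8, 11, 12]⟩))
  (.node (nat_lit 3431) (.leaf ⟨8, 6, true, [12, 6, 18, 8, 19, 19, 15], [18, 2, 18, 8, 19, 10, 8, 19, 2, 11, 12, 6, 8, 11, 4, 6, 8, 4, 6, 4, 12, 8, 10, 6, 8, 11, 20]⟩)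
  (.leaf ⟨6, 8, true, [13, 0, 18, 8, 18, 8, 18], [19, 0, 2, 10, 13, 4, 6, 8, 10, 4, 6, 8, 4, 6, 4, 8, 11, 8, 11, 6, 8, 10]⟩))))
  (.node (nat_lit 3436) (.node (nat_lit 3434) (.node (nat_lit 3433) (.leaf ⟨8, 6, true, [12, 18, 8, 0, 18], [0, 18, 8, 18, 18, 10, 13, 4, 6, 8, 10, 4, 6, 8, 4, 6, 4, 12, 8, 10, 12]⟩)
  (.leaf ⟨6, 8, true, [18, 18, 18, 8, 18, 8, 18], [10, 10, 8, 19, 8, 19, 2, 11, 6, 8, 10, 4, 6, 8, 4, 6, 4, 8, 10, 6, 8, 10, 6, 21]⟩))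
  (.node (nat_lit 3435) (.leaf ⟨8, 6, true, [6, 18, 12, 18, 8, 19, 8, 6, 2], [15, 8, 18, 18, 10, 8, 19, 2, 11, 8, 10, 4, 6, 8, 11, 4, 6, 8, 4, 6, 4, 0, 10, 6, 8, 10, 12]⟩)
  (.leaf ⟨6, 8, true, [18, 10, 10, 8, 0, 18], [10, 8, 19, 0, 2, 12, 11, 8, 10, 6, 8, 10, 4, 6, 8, 4, 6, 4, 13, 10, 8, 11, 6, 8, 10]⟩)))
  (.node (nat_lit 3438) (.node (nat_lit 3437) (.leaf ⟨8, 6, true, [19, 19, 19, 8, 14, 6], [19, 0, 2, 11, 12, 6, 8, 11, 4, 6, 8, 4, 6, 4, 0, 10, 6, 8, 11, 6, 8, 10, 6, 23]⟩)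
  (.leaf ⟨6, 8, true, [18, 4, 0, 14, 8, 6], [18, 14, 8, 19, 0, 2, 8, 11, 12, 6, 8, 11, 4, 6, 8, 4, 6, 4, 10, 6, 8, 11, 6, 8, 10, 6, 21]⟩))
  (.node (nat_lit 3439) (.leaf ⟨8, 6, true, [12, 6, 18, 8, 0, 18], [18, 14, 8, 19, 0, 2, 11, 11, 6, 8, 11, 4, 6, 8, 4, 6, 4, 12, 11, 8, 10, 6, 8, 10, 22]⟩)
  (.leaf ⟨6, 8, true, [14, 8, 16, 8, 19, 6, 8, 6, 18], [12, 0, 14, 8, 18, 18, 8, 11, 4, 6, 8, 11, 4, 6, 8, 4, 6, 4, 10, 8, 11, 22]⟩)))))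
  (.node (nat_lit 3448) (.node (nat_lit 3444) (.node (nat_lit 3442) (.node (nat_lit 3441) (.leaf ⟨8, 6, true, [6, 8, 16, 8, 6, 0, 18, 10], [0, 19, 6, 18, 8, 19, 2, 12, 10, 6, 8, 4, 6, 4, 13, 11, 8, 10, 6, 8, 11, 13]⟩)
  (.leaf ⟨6, 8, true, [12, 0, 18, 8, 18, 8, 18, 10], [19, 0, 2, 10, 6, 8, 11, 4, 6, 8, 4, 6, 4, 13, 6, 8, 11, 6, 24]⟩))
  (.node (nat_lit 3443) (.leaf ⟨8, 6, true, [18, 8, 6, 0, 18], [0, 18, 8, 18, 18, 11, 8, 10, 4, 6, 8, 4, 6, 4, 6, 8, 10, 8, 10]⟩)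
  (.leaf ⟨6, 8, true, [8, 0, 18, 12, 18, 8, 6], [18, 10, 10, 8, 18, 18, 11, 8, 11, 4, 6, 8, 10, 4, 6, 8, 4, 6, 4, 10, 13, 8, 11, 23]⟩)))
  (.node (nat_lit 3446) (.node (nat_lit 3445) (.leaf ⟨8, 6, true, [2, 18, 8, 18, 8, 6], [8, 15, 19, 8, 19, 2, 11, 11, 4, 6, 8, 4, 6, 4, 11, 20]⟩)
  (.leaf ⟨6, 8, true, [0, 18, 8, 11, 12, 8, 18, 8, 18], [0, 18, 18, 10, 8, 19, 2, 13, 8, 10, 4, 6, 8, 4, 6, 4, 13, 6, 8, 10, 25]⟩))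
  (.node (nat_lit 3447) (.leaf ⟨8, 6, true, [19, 16], [19, 16, 8, 19, 19, 2, 8, 11, 12, 6, 8, 11, 4, 6, 8, 4, 6, 4, 0, 6, 8, 10]⟩)
  (.leaf ⟨6, 8, true, [19, 8, 0, 19, 8, 19, 8, 16], [15, 18, 8, 19, 10, 8, 19, 2, 12, 4, 6, 8, 11, 4, 6, 8, 4, 6, 4, 6, 8, 11, 6, 13]⟩))))
  (.node (nat_lit 3452) (.node (nat_lit 3450) (.node (nat_lit 3449) (.leaf ⟨8, 6, true, [14, 10, 8, 18, 8, 4, 14, 6], [19, 6, 8, 19, 8, 19, 2, 8, 10, 6, 8, 11, 4, 6, 8, 4, 6, 4, 0, 8, 11, 8, 11, 21]⟩)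
  (.leaf ⟨6, 8, true, [8, 15, 19, 10, 8, 19, 2], [0, 14, 8, 18, 18, 12, 6, 8, 11, 4, 6, 8, 4, 6, 4, 10, 8, 11, 6, 8, 10, 13]⟩))
  (.node (nat_lit 3451) (.leaf ⟨8, 6, true, [10, 8, 19, 8, 10, 8, 19, 2], [16, 8, 19, 8, 19, 2, 12, 8, 11, 4, 6, 8, 4, 6, 4, 0, 12, 6, 8, 11, 6, 22]⟩)
  (.leaf ⟨6, 8, true, [18, 12, 8, 19, 6, 8, 6, 18], [19, 8, 19, 8, 19, 8, 19, 2, 10, 8, 11, 4, 6, 8, 10, 4, 6, 8, 4, 6, 4, 0, 13, 6, 8, 11, 6, 24]⟩)))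
  (.node (nat_lit 3454) (.node (nat_lit 3453) (.leaf ⟨8, 6, true, [15, 13, 18, 8, 19, 8, 14, 6], [12, 8, 18, 8, 19, 19, 2, 8, 11, 6, 8, 10, 4, 6, 8, 4, 6, 4, 13, 6, 8, 11, 13]⟩)
  (.leaf ⟨6, 8, true, [6, 8, 0, 19, 8, 16, 10], [12, 10, 8, 19, 0, 2, 10, 6, 8, 4, 6, 4, 10, 8, 10, 25]⟩))
  (.node (nat_lit 3455) (.leaf ⟨8, 6, true, [8, 10, 6, 8, 19, 19, 15], [11, 8, 18, 8, 0, 18, 18, 10, 13, 8, 11, 4, 6, 8, 10, 4, 6, 8, 4, 6, 4, 8, 11, 12, 6, 8, 11, 24]⟩)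
  (.leaf ⟨6, 8, true, [18, 8, 18, 13, 8, 19, 8, 16], [12, 0, 19, 8, 19, 2, 11, 11, 8, 11, 6, 8, 4, 6, 4, 12, 6, 8, 10, 25]⟩))))))

noncomputable def f3456 : FT := (.node (nat_lit 3472) (.node (nat_lit 3464) (.node (nat_lit 3460) (.node (nat_lit 3458) (.node (nat_lit 3457) (.leaf ⟨8, 6, true, [13, 11, 8, 6, 18], [18, 8, 11, 12, 4, 6, 8, 11, 4, 6, 8, 4, 6, 4, 11, 6, 8, 11, 6, 24]⟩)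
  (.leaf ⟨6, 8, true, [0, 18, 18, 8, 19, 14, 8, 10, 6], [12, 19, 8, 19, 2, 13, 8, 10, 6, 8, 4, 6, 4, 8, 11, 13, 6, 8, 11, 6, 23]⟩))
  (.node (nat_lit 3459) (.leaf ⟨8, 6, true, [12, 0, 14, 8, 18, 10, 8, 18], [0, 18, 8, 18, 18, 11, 11, 8, 11, 6, 8, 11, 4, 6, 8, 4, 6, 4, 12, 10, 6, 8, 11, 12]⟩)
  (.leaf ⟨6, 8, true, [12, 0, 18, 11, 8, 18, 8, 18, 10], [0, 19, 11, 8, 19, 2, 12, 8, 10, 4, 6, 8, 4, 6, 4, 8, 11, 12, 6, 8, 11, 6, 20]⟩)))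
  (.node (nat_lit 3462) (.node (nat_lit 3461) (.leaf ⟨8, 6, true, [12, 8, 0, 2, 18, 8, 6, 18], [0, 18, 8, 18, 18, 8, 6, 4, 8, 11, 6, 8, 11, 6, 13]⟩)
  (.leaf ⟨6, 8, true, [18, 8, 11, 8, 19, 16], [18, 11, 11, 6, 8, 4, 6, 4, 0, 6, 8, 11]⟩))
  (.node (nat_lit 3463) (.leaf ⟨8, 6, true, [10, 8, 19, 6, 2], [19, 16, 8, 19, 19, 2, 8, 11, 4, 6, 8, 4, 6, 4, 0, 12, 10, 6, 8, 11, 24]⟩)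
  (.leaf ⟨6, 8, true, [15, 19, 6, 8, 18, 8, 18, 10], [18, 0, 19, 19, 8, 19, 2, 13, 11, 8, 11, 6, 8, 4, 6, 4, 11, 12, 8, 10, 6, 8, 11, 23]⟩))))
  (.node (nat_lit 3468) (.node (nat_lit 3466) (.node (nat_lit 3465) (.leaf ⟨8, 6, true, [19, 16, 10, 8, 19, 8, 19, 8, 6, 2], [8, 19, 8, 19, 0, 2, 11, 8, 11, 4, 6, 8, 10, 4, 6, 8, 4, 6, 4, 0, 12, 11, 6, 8, 10, 6, 25]⟩)
  (.leaf ⟨6, 8, true, [8, 0, 15, 8, 18, 8, 18, 10], [18, 14, 10, 8, 19, 19, 2, 8, 10, 8, 6, 4, 0, 8, 10, 10, 6, 8, 10, 24]⟩))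
  (.node (nat_lit 3467) (.leaf ⟨8, 6, true, [11, 8, 6, 18, 13, 8, 19, 8, 14, 6], [0, 19, 8, 19, 8, 0, 19, 2, 12, 11, 6, 8, 4, 6, 4, 13, 10, 8, 10, 6, 8, 10, 22]⟩)
  (.leaf ⟨6, 8, true, [18, 18, 8, 2, 18, 8, 18, 10], [12, 8, 19, 8, 19, 2, 10, 6, 8, 10, 4, 6, 8, 4, 6, 4, 0, 6, 8, 10, 8, 10, 22]⟩)))
  (.node (nat_lit 3470) (.node (nat_lit 3469) (.leaf ⟨8, 6, true, [19, 10, 6, 8, 18, 8, 19, 16], [18, 18, 10, 10, 8, 18, 18, 8, 11, 12, 6, 8, 11, 4, 6, 8, 4, 6, 4, 8, 11, 6, 8, 11, 12]⟩)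
  (.leaf ⟨6, 8, true, [12, 6, 8, 18, 8, 19, 6, 2], [18, 11, 8, 19, 19, 2, 6, 8, 11, 4, 6, 8, 4, 6, 4, 0, 13, 10, 8, 11, 6, 8, 11, 25]⟩))
  (.node (nat_lit 3471) (.leaf ⟨8, 6, true, [0, 19, 8, 0, 19, 8, 14, 10, 6], [12, 19, 8, 0, 19, 2, 13, 8, 11, 6, 8, 4, 6, 4, 0, 8, 11, 6, 8, 11, 6, 13]⟩)
  (.leaf ⟨6, 8, true, [8, 0, 2, 18, 8, 18, 10], [18, 18, 10, 8, 19, 2, 10, 4, 6, 8, 10, 4, 6, 8, 4, 6, 4, 0, 8, 11, 6, 8, 10, 12]⟩)))))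
  (.node (nat_lit 3480) (.node (nat_lit 3476) (.node (nat_lit 3474) (.node (nat_lit 3473) (.leaf ⟨8, 6, true, [8, 18, 12, 18, 8, 10, 6], [19, 6, 8, 0, 18, 18, 10, 6, 8, 10, 4, 6, 8, 4, 6, 4, 13, 10, 8, 11, 6, 8, 10, 21]⟩)
  (.leaf ⟨6, 8, true, [6, 18, 8, 19, 6, 2], [15, 18, 8, 19, 8, 19, 2, 11, 6, 8, 10, 6, 4, 6, 8, 11, 4, 6, 8, 4, 6, 4, 13, 11, 8, 10, 6, 8, 10, 22]⟩))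
  (.node (nat_lit 3475) (.leaf ⟨8, 6, true, [0, 19, 15, 13, 19, 8, 19, 8, 16, 10], [19, 0, 14, 6, 8, 18, 18, 6, 8, 10, 4, 6, 8, 10, 4, 6, 8, 4, 6, 4, 0, 11, 11, 8, 11, 24]⟩)
  (.leaf ⟨6, 8, true, [8, 0, 18, 10, 8, 18, 8, 18, 10], [15, 19, 10, 8, 19, 2, 10, 10, 6, 8, 11, 4, 6, 8, 10, 4, 6, 8, 4, 6, 4, 10, 10, 6, 12]⟩)))
  (.node (nat_lit 3478) (.node (nat_lit 3477) (.leaf ⟨8, 6, true, [8, 19, 8, 16, 8, 19, 8, 19, 14], [15, 18, 0, 14, 8, 18, 18, 8, 10, 6, 8, 11, 4, 6, 8, 11, 4, 6, 8, 4, 6, 4, 11, 8, 11, 6, 12]⟩)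
  (.leaf ⟨6, 8, true, [8, 14, 8, 6, 0, 18, 8, 6], [12, 8, 0, 18, 8, 18, 18, 10, 8, 10, 4, 6, 8, 11, 4, 6, 8, 4, 6, 4, 13, 6, 8, 11, 6, 21]⟩))
  (.node (nat_lit 3479) (.leaf ⟨8, 6, true, [18, 8, 15, 8, 18, 8, 18, 11], [8, 0, 2, 18, 18, 10, 8, 11, 6, 8, 4, 6, 4, 0, 8, 11, 8, 11, 21]⟩)
  (.leaf ⟨6, 8, true, [6, 8, 19, 8, 19, 14, 8, 6], [10, 10, 8, 19, 2, 11, 4, 6, 8, 11, 4, 6, 8, 10, 4, 6, 8, 4, 6, 4, 13, 8, 11, 6, 8, 10, 24]⟩))))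
  (.node (nat_lit 3484) (.node (nat_lit 3482) (.node (nat_lit 3481) (.leaf ⟨8, 6, true, [16, 8, 19, 10, 6, 8, 6, 18, 8, 18], [18, 18, 8, 18, 8, 19, 2, 4, 6, 8, 10, 4, 6, 8, 10, 4, 6, 8, 4, 6, 4, 0, 8, 10, 12]⟩)
  (.leaf ⟨6, 8, true, [11, 8, 0, 18, 8, 18, 8, 18, 10, 10], [10, 8, 18, 8, 18, 8, 19, 2, 4, 6, 8, 10, 8, 10, 4, 6, 8, 4, 6, 4, 10, 6, 8, 10, 6, 8, 11, 25]⟩))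
  (.node (nat_lit 3483) (.leaf ⟨8, 6, true, [18, 4, 6, 8, 18, 8, 18, 11], [6, 18, 12, 8, 19, 8, 19, 2, 13, 11, 6, 8, 10, 4, 6, 8, 4, 6, 4, 10, 8, 11, 6, 8, 10, 6, 22]⟩)
  (.leaf ⟨6, 8, true, [8, 0, 19, 6, 8, 18, 10], [8, 18, 8, 18, 8, 19, 0, 2, 10, 8, 10, 4, 6, 8, 10, 4, 6, 8, 4, 6, 4, 6, 21]⟩)))
  (.node (nat_lit 3486) (.node (nat_lit 3485) (.leaf ⟨8, 6, true, [0, 18, 18, 8, 19, 8, 16], [12, 0, 19, 8, 0, 19, 2, 8, 11, 12, 6, 8, 11, 4, 6, 8, 4, 6, 4, 11, 8, 10, 6, 8, 11, 6, 22]⟩)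
  (.leaf ⟨6, 8, true, [18, 0, 18, 10, 8, 6], [12, 18, 8, 19, 8, 19, 2, 10, 10, 6, 8, 4, 6, 4, 8, 10, 6, 8, 11, 6, 21]⟩))
  (.node (nat_lit 3487) (.leaf ⟨8, 6, true, [13, 8, 6, 18, 8, 16, 8, 19, 16], [6, 0, 18, 10, 8, 18, 18, 4, 6, 8, 10, 8, 10, 4, 6, 8, 4, 6, 4, 0, 6, 8, 11, 6, 21]⟩)
  (.leaf ⟨6, 8, true, [14, 0, 19, 11, 8, 19, 8, 6, 2], [0, 19, 2, 11, 11, 6, 8, 4, 6, 4, 0, 11, 8, 11, 6, 24]⟩))))))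

noncomputable def f3488 : FT := (.node (nat_lit 3504) (.node (nat_lit 3496) (.node (nat_lit 3492) (.node (nat_lit 3490) (.node (nat_lit 3489) (.leaf ⟨8, 6, true, [19, 10, 6, 8, 18, 8, 19, 8, 16], [0, 19, 12, 10, 8, 19, 2, 10, 6, 8, 11, 12, 4, 6, 8, 11, 4, 6, 8, 4, 6, 4, 12, 6, 8, 11, 23]⟩)
  (.leaf ⟨6, 8, true, [13, 18, 8, 19, 19, 8, 15, 8, 6], [18, 18, 8, 6, 18, 8, 19, 2, 4, 6, 8, 11, 4, 6, 8, 10, 4, 6, 8, 4, 6, 4, 0, 10, 12, 8, 11, 20]⟩))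
  (.node (nat_lit 3491) (.leaf ⟨8, 6, true, [19, 8, 6, 18, 12, 8, 6, 18], [6, 18, 18, 8, 18, 8, 19, 2, 6, 8, 10, 8, 10, 4, 6, 8, 10, 4, 6, 8, 4, 6, 4, 10, 8, 10, 6, 8, 11, 21]⟩)
  (.leaf ⟨6, 8, true, [18, 8, 0, 18, 8, 18, 11], [19, 19, 19, 8, 19, 2, 12, 11, 8, 10, 6, 8, 10, 4, 6, 8, 4, 6, 4, 10, 12, 6, 8, 10, 23]⟩)))
  (.node (nat_lit 3494) (.node (nat_lit 3493) (.leaf ⟨8, 6, true, [10, 8, 19, 19, 8, 16], [0, 19, 2, 19, 8, 19, 2, 11, 8, 10, 4, 6, 8, 11, 4, 6, 8, 4, 6, 4, 0, 11, 6, 12]⟩)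
  (.leaf ⟨6, 8, true, [19, 6, 8, 18, 8, 19, 6, 8, 18], [19, 2, 19, 8, 6, 18, 8, 19, 2, 10, 6, 8, 11, 6, 4, 6, 8, 10, 4, 6, 8, 4, 6, 4, 13, 6, 8, 10, 6, 13]⟩))
  (.node (nat_lit 3495) (.leaf ⟨8, 6, true, [0, 15, 8, 18, 8, 19, 0, 14, 6], [8, 18, 10, 8, 19, 19, 2, 8, 10, 6, 8, 11, 4, 6, 8, 11, 4, 6, 8, 4, 6, 4, 11, 6, 8, 10, 6, 22]⟩)
  (.leaf ⟨6, 8, true, [16, 8, 19, 6, 8, 19, 12, 19, 2], [8, 19, 10, 6, 8, 19, 19, 2, 6, 8, 10, 6, 8, 11, 4, 6, 8, 4, 6, 4, 11, 8, 11, 6, 8, 11, 6, 24]⟩))))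
  (.node (nat_lit 3500) (.node (nat_lit 3498) (.node (nat_lit 3497) (.leaf ⟨8, 6, true, [12, 18, 8, 19, 12, 8, 19, 2], [12, 0, 14, 8, 18, 18, 10, 12, 8, 11, 4, 6, 8, 4, 6, 4, 10, 6, 8, 11, 25]⟩)
  (.leaf ⟨6, 8, true, [6, 8, 18, 13, 8, 0, 18, 8, 18], [13, 19, 8, 16, 8, 19, 19, 2, 11, 8, 11, 12, 6, 8, 11, 4, 6, 8, 4, 6, 4, 0, 8, 10, 8, 10, 6, 8, 10, 6, 23]⟩))
  (.node (nat_lit 3499) (.leaf ⟨8, 6, true, [14, 8, 19, 19, 8, 16], [0, 18, 8, 18, 8, 19, 2, 12, 4, 6, 8, 11, 4, 6, 8, 4, 6, 4, 11, 13, 6, 8, 11, 6, 20]⟩)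
  (.leaf ⟨6, 8, true, [18, 0, 19, 19, 13, 8, 19, 8, 16], [8, 16, 8, 19, 8, 0, 19, 2, 12, 8, 11, 6, 8, 10, 4, 6, 8, 4, 6, 4, 11, 22]⟩)))
  (.node (nat_lit 3502) (.node (nat_lit 3501) (.leaf ⟨8, 6, true, [8, 0, 19, 19, 8, 10, 8, 16], [12, 0, 18, 8, 0, 18, 18, 12, 10, 8, 6, 4, 0, 11, 8, 11, 6, 8, 11, 12]⟩)
  (.leaf ⟨6, 8, true, [18, 14, 18, 8, 18, 8, 6, 18, 10], [15, 19, 8, 6, 18, 8, 19, 2, 13, 8, 11, 6, 8, 11, 4, 6, 8, 11, 4, 6, 8, 4, 6, 4, 8, 10, 8, 10, 6, 8, 10, 13]⟩))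
  (.node (nat_lit 3503) (.leaf ⟨8, 6, true, [19, 0, 19, 16, 8, 16, 8, 19, 16], [0, 18, 18, 18, 13, 8, 10, 4, 6, 8, 4, 6, 4, 6, 8, 11, 6, 8, 10, 6, 24]⟩)
  (.leaf ⟨6, 8, true, [2, 18, 13, 8, 19, 8, 19, 2], [19, 12, 16, 8, 19, 8, 19, 2, 13, 8, 11, 6, 8, 4, 6, 4, 0, 8, 11, 6, 8, 11, 24]⟩)))))
  (.node (nat_lit 3512) (.node (nat_lit 3508) (.node (nat_lit 3506) (.node (nat_lit 3505) (.leaf ⟨8, 6, true, [2, 18, 13, 8, 18, 8, 6, 18], [18, 10, 8, 19, 19, 2, 8, 11, 11, 6, 8, 11, 4, 6, 8, 4, 6, 4, 8, 11, 8, 11, 6, 8, 11, 13]⟩)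
  (.leaf ⟨6, 8, true, [0, 19, 13, 6, 8, 19, 8, 19, 2], [8, 18, 8, 2, 18, 18, 10, 8, 11, 4, 6, 8, 10, 4, 6, 8, 4, 6, 4, 12, 11, 6, 8, 10, 20]⟩))
  (.node (nat_lit 3507) (.leaf ⟨8, 6, true, [13, 6, 18, 8, 15, 18, 8, 19, 6, 2], [10, 8, 18, 8, 18, 18, 6, 8, 10, 8, 10, 4, 6, 8, 10, 4, 6, 8, 4, 6, 4, 10, 8, 11, 6, 8, 10, 6, 12]⟩)
  (.leaf ⟨6, 8, true, [18, 18, 11, 8, 19, 8, 19, 14], [8, 11, 8, 19, 8, 19, 2, 8, 6, 4, 0, 8, 11, 8, 11, 21]⟩)))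
  (.node (nat_lit 3510) (.node (nat_lit 3509) (.leaf ⟨8, 6, true, [19, 13, 19, 8, 19, 8, 14, 10, 6], [0, 19, 12, 19, 8, 19, 2, 13, 11, 8, 10, 4, 6, 8, 10, 4, 6, 8, 4, 6, 4, 8, 10, 6, 8, 11, 6, 13]⟩)
  (.leaf ⟨6, 8, true, [14, 8, 18, 10, 8, 18], [15, 8, 19, 10, 8, 19, 2, 11, 6, 8, 10, 4, 6, 8, 4, 6, 4, 0, 10, 13, 8, 11, 6, 8, 10, 25]⟩))
  (.node (nat_lit 3511) (.leaf ⟨8, 6, true, [14, 18, 8, 0, 18, 8, 18], [8, 18, 18, 18, 11, 8, 11, 6, 4, 6, 8, 10, 4, 6, 8, 4, 6, 4, 11, 13, 6, 8, 11, 6, 22]⟩)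
  (.leaf ⟨6, 8, true, [15, 8, 18, 14, 8, 18, 8, 18, 10], [0, 2, 4, 6, 8, 10, 6, 8, 11, 4, 6, 8, 4, 6, 4, 0, 6, 8, 11, 6, 8, 10]⟩))))
  (.node (nat_lit 3516) (.node (nat_lit 3514) (.node (nat_lit 3513) (.leaf ⟨8, 6, true, [12, 8, 19, 8, 16, 8, 19, 16], [10, 10, 8, 19, 2, 4, 6, 8, 11, 13, 4, 6, 8, 11, 4, 6, 8, 4, 6, 4, 0, 13, 10, 6, 8, 11, 21]⟩)
  (.leaf ⟨6, 8, true, [10, 8, 16, 10, 8, 19, 6, 2], [18, 10, 8, 19, 2, 11, 6, 4, 6, 8, 11, 4, 6, 8, 4, 6, 4, 8, 10, 6, 13]⟩))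
  (.node (nat_lit 3515) (.leaf ⟨8, 6, true, [8, 16, 8, 6, 18, 8, 19, 16], [14, 8, 18, 18, 10, 8, 19, 2, 6, 8, 11, 12, 4, 6, 8, 11, 4, 6, 8, 4, 6, 4, 8, 11, 6, 8, 11, 22]⟩)
  (.leaf ⟨6, 8, true, [8, 4, 14, 6], [13, 14, 8, 0, 19, 8, 19, 2, 8, 10, 8, 10, 4, 6, 8, 10, 4, 6, 8, 4, 6, 4, 11, 13, 6, 8, 11, 24]⟩)))
  (.node (nat_lit 3518) (.node (nat_lit 3517) (.leaf ⟨8, 6, true, [19, 8, 6, 18, 8, 19, 10, 8, 16], [13, 14, 8, 19, 8, 0, 19, 2, 11, 8, 11, 4, 6, 8, 4, 6, 4, 0, 12, 10, 6, 20]⟩)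
  (.leaf ⟨6, 8, true, [18, 8, 0, 18, 10, 10], [16, 8, 0, 19, 8, 19, 2, 11, 4, 6, 8, 10, 4, 6, 8, 11, 4, 6, 8, 4, 6, 4, 11, 12, 6, 8, 11]⟩))
  (.node (nat_lit 3519) (.leaf ⟨8, 6, true, [18, 13, 18, 8, 18, 8, 19, 6, 2], [0, 2, 18, 18, 12, 6, 8, 10, 4, 6, 8, 10, 4, 6, 8, 4, 6, 4, 10, 6, 8, 10, 6, 8, 11, 23]⟩)
  (.leaf ⟨6, 8, true, [12, 0, 15, 8, 18, 8, 18, 10], [13, 15, 8, 19, 8, 19, 2, 12, 6, 8, 10, 4, 6, 8, 4, 6, 4, 10, 8, 11, 6, 8, 10, 6, 20]⟩))))))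

noncomputable def f3520 : FT := (.node (nat_lit 3536) (.node (nat_lit 3528) (.node (nat_lit 3524) (.node (nat_lit 3522) (.node (nat_lit 3521) (.leaf ⟨8, 6, true, [18, 18, 13, 10, 8, 6, 18], [18, 2, 18, 8, 19, 8, 19, 2, 6, 8, 4, 6, 4, 0, 11, 6, 8, 11, 6, 22]⟩)
  (.leaf ⟨6, 8, true, [6, 18, 12, 8, 0, 18, 8, 18], [0, 19, 6, 18, 8, 19, 2, 13, 10, 6, 8, 10, 4, 6, 8, 10, 4, 6, 8, 4, 6, 4, 10, 8, 11, 6, 8, 11, 6, 24]⟩))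
  (.node (nat_lit 3523) (.leaf ⟨8, 6, true, [13, 0, 19, 8, 16, 8, 19, 16], [0, 15, 18, 8, 2, 18, 18, 10, 6, 8, 11, 6, 4, 6, 8, 10, 4, 6, 8, 4, 6, 4, 13, 6, 8, 10, 21]⟩)
  (.leaf ⟨6, 8, true, [6, 0, 18, 8, 18, 8, 18, 11], [19, 0, 19, 8, 19, 2, 12, 4, 6, 8, 10, 4, 6, 8, 10, 4, 6, 8, 4, 6, 4, 12, 10, 12]⟩)))
  (.node (nat_lit 3526) (.node (nat_lit 3525) (.leaf ⟨8, 6, true, [2, 18, 8, 18, 8, 15, 18, 8, 18], [18, 11, 8, 19, 8, 19, 2, 11, 6, 8, 10, 4, 6, 8, 4, 6, 4, 0, 13, 6, 8, 10, 6, 22]⟩)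
  (.leaf ⟨6, 8, true, [10, 13, 8, 16, 8, 6, 18, 8, 18], [12, 0, 18, 8, 18, 18, 8, 10, 8, 10, 6, 8, 4, 6, 4, 0, 8, 11, 12, 6, 8, 11]⟩))
  (.node (nat_lit 3527) (.leaf ⟨8, 6, true, [10, 8, 19, 6, 8, 18, 8, 19, 19, 2], [11, 8, 18, 14, 8, 18, 18, 4, 6, 8, 10, 4, 6, 8, 10, 4, 6, 8, 4, 6, 4, 0, 10, 6, 8, 11, 6, 8, 10, 20]⟩)
  (.leaf ⟨6, 8, true, [6, 18, 8, 18, 10, 8, 6, 18], [8, 19, 15, 19, 8, 19, 2, 12, 11, 6, 8, 4, 6, 4, 0, 11, 8, 11, 6, 13]⟩))))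
  (.node (nat_lit 3532) (.node (nat_lit 3530) (.node (nat_lit 3529) (.leaf ⟨8, 6, true, [6, 18, 18, 8, 18, 8, 19, 19, 14], [15, 18, 8, 2, 18, 18, 6, 8, 11, 13, 4, 6, 8, 10, 4, 6, 8, 4, 6, 4, 10, 6, 8, 10, 6, 8, 11, 25]⟩)
  (.leaf ⟨6, 8, true, [0, 14, 18, 18, 8, 10, 6], [18, 0, 14, 8, 18, 18, 11, 8, 11, 4, 6, 8, 10, 4, 6, 8, 4, 6, 4, 0, 11, 13, 6, 8, 10, 6, 13]⟩))
  (.node (nat_lit 3531) (.leaf ⟨8, 6, true, [8, 2, 18, 8, 18, 12, 8, 6, 18], [18, 8, 19, 8, 19, 2, 4, 6, 8, 10, 12, 4, 6, 8, 10, 4, 6, 8, 4, 6, 4, 13, 6, 8, 11, 6, 23]⟩)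
  (.leaf ⟨6, 8, true, [19, 19, 12, 16, 8, 19, 19, 14], [19, 13, 10, 8, 19, 8, 19, 2, 10, 4, 6, 8, 11, 12, 4, 6, 8, 11, 4, 6, 8, 4, 6, 4, 8, 10, 12, 6, 8, 10, 22]⟩)))
  (.node (nat_lit 3534) (.node (nat_lit 3533) (.leaf ⟨8, 6, true, [19, 19, 16, 8, 19, 8, 6, 2], [0, 19, 11, 8, 19, 2, 11, 8, 11, 6, 8, 11, 4, 6, 8, 4, 6, 4, 0, 10, 12, 8, 11, 6, 21]⟩)
  (.leaf ⟨3, 8, true, [8, 15, 18, 8, 18, 8, 18], [12, 18, 8, 2, 18, 18, 11, 4, 6, 8, 11, 4, 6, 8, 11, 4, 6, 8, 4, 6, 4, 0, 12, 6, 8, 11, 25]⟩))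
  (.node (nat_lit 3535) (.leaf ⟨8, 3, true, [10, 12, 18, 8, 18, 8, 18, 10], [19, 8, 19, 10, 8, 19, 2, 6, 4, 6, 8, 10, 4, 6, 8, 4, 6, 4, 11, 6, 8, 11, 6, 12]⟩)
  (.leaf ⟨6, 8, true, [2, 19, 19, 12, 8, 19, 8, 16], [12, 19, 8, 16, 8, 19, 19, 2, 13, 8, 11, 6, 8, 10, 4, 6, 8, 4, 6, 4, 12, 6, 8, 11, 20]⟩)))))
  (.node (nat_lit 3544) (.node (nat_lit 3540) (.node (nat_lit 3538) (.node (nat_lit 3537) (.leaf ⟨8, 6, true, [18, 8, 18, 12, 8, 19, 8, 16], [15, 11, 8, 19, 8, 19, 2, 10, 4, 6, 8, 11, 4, 6, 8, 11, 4, 6, 8, 4, 6, 4, 10, 13, 8, 10, 23]⟩)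
  (.leaf ⟨3, 8, true, [19, 19, 12, 8, 16, 8, 19, 19, 14], [13, 18, 8, 19, 6, 8, 18, 18, 8, 11, 4, 6, 8, 10, 4, 6, 8, 4, 6, 4, 0, 11, 11, 8, 10, 6, 8, 11, 22]⟩))
  (.node (nat_lit 3539) (.leaf ⟨8, 3, true, [0, 19, 10, 8, 19, 8, 19, 8, 16], [8, 6, 18, 8, 19, 0, 2, 4, 6, 8, 11, 13, 4, 6, 8, 10, 4, 6, 8, 4, 6, 4, 11, 8, 11, 6, 8, 10]⟩)
  (.leaf ⟨6, 8, true, [0, 19, 19, 12, 8, 16, 8, 19, 19, 2], [8, 19, 19, 0, 19, 8, 19, 2, 10, 10, 4, 6, 8, 4, 6, 4, 0, 8, 11, 13, 6, 8, 10, 13]⟩)))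
  (.node (nat_lit 3542) (.node (nat_lit 3541) (.leaf ⟨8, 6, true, [18, 8, 18, 18, 8, 6, 18, 8, 6], [15, 18, 8, 2, 18, 18, 4, 6, 4, 6, 8, 11, 6, 8, 10, 4, 6, 8, 4, 6, 4, 12, 10, 6, 8, 10, 23]⟩)
  (.leaf ⟨6, 8, true, [8, 15, 8, 19, 6, 8, 18, 8, 18], [19, 19, 8, 19, 8, 19, 2, 11, 6, 4, 6, 8, 11, 6, 8, 10, 4, 6, 8, 4, 6, 4, 0, 11, 8, 11, 6, 8, 10, 6]⟩))
  (.node (nat_lit 3543) (.leaf ⟨8, 6, true, [19, 6, 8, 18, 8, 6, 18], [8, 6, 18, 8, 19, 2, 8, 11, 6, 8, 11, 4, 6, 8, 4, 6, 4, 0, 10, 8, 10, 6, 20]⟩)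
  (.leaf ⟨6, 8, true, [18, 18, 8, 2, 18, 8, 19, 16], [11, 8, 0, 18, 8, 18, 18, 11, 8, 10, 4, 6, 8, 4, 6, 4, 6, 8, 10, 6, 8, 11, 13]⟩))))
  (.node (nat_lit 3548) (.node (nat_lit 3546) (.node (nat_lit 3545) (.leaf ⟨8, 6, true, [18, 4, 6, 8, 19, 6, 2], [8, 0, 19, 2, 10, 4, 6, 8, 11, 12, 4, 6, 8, 11, 4, 6, 8, 4, 6, 4, 10, 25]⟩)
  (.leaf ⟨8, 7, true, [18, 18, 18, 8, 19, 19, 14, 10], [18, 8, 18, 10, 8, 18, 18, 12, 10, 8, 10, 6, 8, 4, 6, 4, 8, 10, 6, 8, 10, 6, 23]⟩))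
  (.node (nat_lit 3547) (.leaf ⟨7, 8, true, [19, 8, 19, 13, 16, 8, 6, 18, 10], [18, 14, 8, 19, 8, 19, 2, 13, 10, 8, 11, 6, 8, 11, 4, 6, 8, 4, 6, 4, 13, 10, 8, 11, 6, 8, 11, 25]⟩)
  (.leaf ⟨6, 8, true, [19, 19, 8, 0, 19, 12, 8, 14, 6], [15, 18, 10, 8, 18, 18, 8, 10, 6, 8, 10, 4, 6, 8, 4, 6, 4, 10, 8, 10, 23]⟩)))
  (.node (nat_lit 3550) (.node (nat_lit 3549) (.leaf ⟨8, 6, true, [18, 8, 0, 18, 8, 18, 8, 18, 11], [19, 14, 8, 19, 8, 0, 19, 2, 4, 6, 8, 10, 8, 10, 4, 6, 8, 4, 6, 4, 0, 8, 11, 8, 11, 22]⟩)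
  (.leaf ⟨6, 8, true, [8, 11, 8, 18, 8, 18, 10], [0, 19, 8, 14, 6, 8, 18, 18, 13, 10, 8, 11, 6, 8, 10, 4, 6, 8, 4, 6, 4, 11, 8, 10, 6, 8, 10, 6]⟩))
  (.node (nat_lit 3551) (.leaf ⟨8, 6, true, [8, 10, 6, 8, 18, 8, 19, 16], [6, 8, 6, 18, 8, 0, 18, 18, 11, 6, 8, 10, 4, 6, 8, 10, 4, 6, 8, 4, 6, 4, 0, 11, 8, 11, 6, 24]⟩)
  (.leaf ⟨6, 8, true, [8, 0, 15, 18, 8, 6, 18, 10], [18, 10, 10, 8, 18, 18, 6, 4, 6, 8, 11, 6, 8, 10, 4, 6, 8, 4, 6, 4, 0, 11, 11, 6, 25]⟩))))))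

noncomputable def f3552 : FT := (.node (nat_lit 3568) (.node (nat_lit 3560) (.node (nat_lit 3556) (.node (nat_lit 3554) (.node (nat_lit 3553) (.leaf ⟨8, 6, true, [19, 16, 8, 16, 8, 19, 19, 2], [15, 18, 8, 2, 18, 18, 12, 10, 8, 10, 4, 6, 8, 10, 4, 6, 8, 4, 6, 4, 12, 8, 11, 6, 24]⟩)
  (.leaf ⟨6, 8, true, [10, 4, 6, 8, 6, 18, 8, 18], [16, 8, 19, 6, 8, 18, 18, 13, 11, 4, 6, 8, 11, 4, 6, 8, 4, 6, 4, 11, 8, 11, 6, 8, 11, 25]⟩))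
  (.node (nat_lit 3555) (.leaf ⟨8, 6, true, [18, 8, 10, 6, 8, 19, 16], [14, 8, 19, 10, 8, 19, 2, 6, 8, 10, 4, 6, 8, 10, 4, 6, 8, 4, 6, 4, 11, 8, 10, 20]⟩)
  (.leaf ⟨6, 8, true, [10, 6, 8, 19, 12, 19, 8, 16], [6, 8, 0, 19, 8, 19, 2, 4, 6, 8, 10, 10, 4, 6, 8, 11, 4, 6, 8, 4, 6, 4, 8, 11, 13, 6, 8, 11, 6, 21]⟩)))
  (.node (nat_lit 3558) (.node (nat_lit 3557) (.leaf ⟨8, 6, true, [11, 8, 18, 14, 8, 18, 8, 18, 10], [0, 18, 18, 10, 13, 8, 10, 6, 8, 4, 6, 4, 0, 10, 10, 6, 8, 11, 23]⟩)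
  (.leaf ⟨6, 8, true, [15, 8, 16, 8, 19, 19, 14, 10], [12, 16, 8, 19, 19, 2, 8, 10, 8, 10, 6, 8, 4, 6, 4, 0, 10, 13, 8, 10, 6, 25]⟩))
  (.node (nat_lit 3559) (.leaf ⟨8, 6, true, [12, 18, 8, 19, 6, 8, 19, 8, 6, 2], [6, 18, 8, 18, 18, 8, 10, 6, 8, 4, 6, 4, 11, 11, 6, 8, 11, 23]⟩)
  (.leaf ⟨6, 8, true, [18, 8, 18, 8, 10, 8, 18], [18, 11, 8, 19, 8, 19, 2, 12, 11, 4, 6, 8, 4, 6, 4, 6, 20]⟩))))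
  (.node (nat_lit 3564) (.node (nat_lit 3562) (.node (nat_lit 3561) (.leaf ⟨8, 6, true, [8, 10, 12, 18, 8, 18], [14, 0, 19, 8, 19, 2, 13, 10, 4, 6, 8, 10, 4, 6, 8, 10, 4, 6, 8, 4, 6, 4, 10, 13, 8, 11, 6, 8, 10, 12]⟩)
  (.leaf ⟨6, 8, true, [0, 14, 18, 8, 18, 8, 19, 14, 6], [14, 8, 19, 19, 19, 8, 19, 2, 11, 11, 6, 8, 4, 6, 4, 0, 12, 10, 6, 8, 11, 24]⟩))
  (.node (nat_lit 3563) (.leaf ⟨8, 6, true, [12, 19, 8, 16, 8, 19, 16], [19, 15, 19, 8, 6, 18, 8, 19, 2, 11, 6, 8, 11, 4, 6, 8, 11, 4, 6, 8, 4, 6, 4, 0, 8, 11, 6, 22]⟩)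
  (.leaf ⟨6, 8, true, [8, 14, 18, 18, 8, 19, 16], [8, 19, 19, 0, 19, 8, 19, 2, 11, 8, 10, 6, 8, 10, 4, 6, 8, 4, 6, 4, 8, 11, 6, 8, 11, 6, 24]⟩)))
  (.node (nat_lit 3566) (.node (nat_lit 3565) (.leaf ⟨8, 6, true, [15, 18, 8, 18, 8, 18, 10, 8, 6], [15, 19, 8, 19, 2, 12, 4, 6, 8, 10, 4, 6, 8, 11, 4, 6, 8, 4, 6, 4, 11, 11, 8, 10, 6, 8, 11, 25]⟩)
  (.leaf ⟨6, 8, true, [8, 15, 8, 18, 8, 18, 10], [8, 6, 18, 8, 19, 0, 2, 11, 6, 4, 6, 8, 11, 6, 8, 10, 4, 6, 8, 4, 6, 4, 0, 11, 11, 8, 10, 6, 8, 11, 21]⟩))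
  (.node (nat_lit 3567) (.leaf ⟨8, 6, true, [14, 8, 6, 18, 8, 19, 19, 14, 10], [15, 18, 18, 18, 8, 19, 2, 6, 8, 11, 12, 4, 6, 8, 11, 4, 6, 8, 4, 6, 4, 11, 6, 8, 11, 6, 13]⟩)
  (.leaf ⟨6, 8, true, [8, 0, 2, 18, 12, 18, 8, 6], [12, 0, 18, 8, 18, 18, 10, 4, 6, 8, 11, 4, 6, 8, 10, 4, 6, 8, 4, 6, 4, 12, 6, 8, 10, 6]⟩)))))
  (.node (nat_lit 3576) (.node (nat_lit 3572) (.node (nat_lit 3570) (.node (nat_lit 3569) (.leaf ⟨8, 6, true, [2, 18, 8, 18, 8, 18, 8, 0, 18], [14, 0, 18, 18, 8, 19, 2, 8, 10, 12, 6, 8, 10, 4, 6, 8, 4, 6, 4, 10, 8, 11, 6, 8, 10, 21]⟩)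
  (.leaf ⟨8, 6, true, [10, 8, 10, 8, 19, 8, 19, 8, 16], [12, 18, 8, 18, 8, 18, 18, 12, 10, 8, 10, 4, 6, 8, 10, 4, 6, 8, 4, 6, 4, 13, 10, 8, 11, 6, 8, 10, 6, 25]⟩))
  (.node (nat_lit 3571) (.leaf ⟨6, 8, true, [12, 6, 8, 18, 8, 18, 12, 8, 18], [0, 19, 15, 8, 19, 8, 19, 2, 12, 11, 6, 8, 10, 4, 6, 8, 4, 6, 4, 8, 11, 20]⟩)
  (.leaf ⟨6, 8, true, [15, 18, 18, 8, 18, 4, 14, 8, 6], [10, 8, 19, 2, 11, 8, 4, 6, 4, 11, 6, 13]⟩)))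
  (.node (nat_lit 3574) (.node (nat_lit 3573) (.leaf ⟨8, 6, true, [12, 19, 8, 14, 6], [8, 19, 2, 4, 6, 8, 10, 12, 4, 6, 8, 10, 4, 6, 8, 4, 6, 4, 10, 6, 8, 10, 6, 13]⟩)
  (.leaf ⟨6, 8, true, [14, 12, 18, 8, 6, 18, 8, 18], [13, 16, 8, 19, 6, 18, 8, 19, 2, 10, 13, 8, 11, 4, 6, 8, 4, 6, 4, 0, 10, 6, 8, 10, 6, 23]⟩))
  (.node (nat_lit 3575) (.leaf ⟨8, 6, true, [19, 8, 15, 19, 12, 8, 19, 2], [14, 6, 8, 18, 8, 19, 19, 2, 13, 8, 11, 6, 8, 10, 4, 6, 8, 4, 6, 4, 10, 12, 6, 8, 10, 20]⟩)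
  (.leaf ⟨6, 8, true, [8, 11, 8, 19, 8, 16, 10], [11, 8, 19, 10, 8, 19, 2, 12, 11, 8, 10, 6, 8, 4, 6, 4, 8, 10, 10, 6, 8, 11, 20]⟩))))
  (.node (nat_lit 3580) (.node (nat_lit 3578) (.node (nat_lit 3577) (.leaf ⟨8, 6, true, [12, 19, 6, 8, 18, 8, 18, 11], [14, 12, 8, 19, 8, 19, 2, 13, 11, 8, 11, 4, 6, 8, 4, 6, 4, 8, 11, 11, 6, 8, 11, 23]⟩)
  (.leaf ⟨6, 8, true, [14, 12, 18, 8, 19, 6, 2], [19, 8, 19, 2, 4, 6, 4, 8, 11, 12, 6, 8, 11, 24]⟩))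
  (.node (nat_lit 3579) (.leaf ⟨8, 6, true, [14, 10, 8, 18, 8, 0, 18], [8, 18, 18, 10, 8, 19, 0, 2, 10, 10, 8, 11, 4, 6, 8, 4, 6, 4, 10, 10, 8, 11, 13]⟩)
  (.leaf ⟨6, 8, true, [8, 0, 19, 12, 16], [15, 18, 12, 8, 19, 8, 19, 2, 11, 8, 10, 6, 8, 10, 4, 6, 8, 4, 6, 4, 0, 12, 8, 11, 6, 25]⟩)))
  (.node (nat_lit 3582) (.node (nat_lit 3581) (.leaf ⟨8, 6, true, [18, 8, 19, 6, 8, 18, 8, 6], [12, 0, 19, 8, 19, 8, 0, 19, 2, 8, 10, 8, 10, 4, 6, 8, 4, 6, 4, 11, 8, 11, 6, 25]⟩)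
  (.leaf ⟨6, 8, true, [6, 18, 8, 18, 8, 18], [14, 0, 19, 8, 19, 2, 10, 10, 6, 8, 10, 4, 6, 8, 11, 4, 6, 8, 4, 6, 4, 10, 13, 8, 10, 6, 20]⟩))
  (.node (nat_lit 3583) (.leaf ⟨8, 6, true, [12, 18, 13, 8, 19, 6, 8, 18], [6, 8, 18, 18, 8, 19, 8, 19, 2, 8, 10, 8, 4, 6, 4, 0, 12, 11, 6, 8, 10, 6, 25]⟩)
  (.leaf ⟨6, 8, true, [18, 8, 14, 18, 18, 12, 8, 6, 18], [0, 14, 18, 18, 8, 19, 2, 13, 8, 11, 4, 6, 8, 4, 6, 4, 0, 13, 6, 8, 10, 6, 25]⟩))))))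

noncomputable def f3584 : FT := (.node (nat_lit 3600) (.node (nat_lit 3592) (.node (nat_lit 3588) (.node (nat_lit 3586) (.node (nat_lit 3585) (.leaf ⟨8, 6, true, [16, 8, 19, 8, 19, 12, 8, 16], [19, 16, 8, 2, 19, 8, 19, 2, 13, 10, 6, 8, 10, 4, 6, 8, 10, 4, 6, 8, 4, 6, 4, 11, 8, 11, 12, 6, 8, 11, 24]⟩)
  (.leaf ⟨6, 8, true, [13, 19, 6, 18, 8, 19, 8, 14, 6], [15, 19, 19, 19, 8, 19, 2, 12, 11, 6, 8, 4, 6, 4, 0, 10, 12, 8, 11, 6, 22]⟩))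
  (.node (nat_lit 3587) (.leaf ⟨8, 6, true, [18, 8, 15, 18, 12, 8, 6, 18], [8, 19, 10, 8, 19, 2, 10, 8, 10, 6, 8, 10, 4, 6, 8, 4, 6, 4, 0, 11, 6, 8, 10, 13]⟩)
  (.leaf ⟨6, 8, true, [12, 19, 6, 8, 19, 19, 2], [8, 15, 18, 8, 0, 18, 18, 10, 8, 11, 6, 8, 11, 4, 6, 8, 4, 6, 4, 10, 10, 13]⟩)))
  (.node (nat_lit 3590) (.node (nat_lit 3589) (.leaf ⟨8, 6, true, [6, 8, 0, 18, 12, 8, 18, 8, 6], [18, 8, 4, 6, 18, 8, 19, 2, 13, 6, 8, 10, 4, 6, 8, 4, 6, 4, 0, 6, 8, 11, 6, 8, 10]⟩)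
  (.leaf ⟨6, 8, true, [18, 18, 12, 0, 18, 8, 6], [18, 18, 6, 8, 10, 6, 4, 6, 8, 11, 4, 6, 8, 4, 6, 4, 10, 8, 10, 6, 8, 11, 21]⟩))
  (.node (nat_lit 3591) (.leaf ⟨8, 6, true, [18, 18, 18, 8, 11, 8, 19, 8, 16], [12, 19, 8, 16, 8, 19, 19, 2, 11, 13, 8, 10, 6, 8, 4, 6, 4, 12, 11, 12]⟩)
  (.leaf ⟨6, 8, true, [8, 0, 19, 13, 19, 8, 16], [12, 6, 18, 8, 0, 18, 18, 12, 8, 11, 4, 6, 8, 4, 6, 4, 8, 11, 8, 11, 6, 8, 10]⟩))))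
  (.node (nat_lit 3596) (.node (nat_lit 3594) (.node (nat_lit 3593) (.leaf ⟨8, 6, true, [12, 18, 8, 6, 18, 10, 8, 6, 18], [6, 18, 8, 0, 18, 18, 12, 8, 11, 4, 6, 8, 10, 4, 6, 8, 4, 6, 4, 8, 10, 8, 10, 6, 8, 10, 6]⟩)
  (.leaf ⟨6, 8, true, [12, 18, 8, 0, 19, 8, 16, 10], [0, 19, 12, 10, 8, 19, 2, 8, 10, 6, 8, 11, 4, 6, 8, 4, 6, 4, 12, 10, 6, 23]⟩))
  (.node (nat_lit 3595) (.leaf ⟨8, 6, true, [15, 18, 12, 10, 8, 18, 8, 18], [14, 10, 8, 18, 18, 11, 8, 10, 6, 8, 10, 4, 6, 8, 4, 6, 4, 0, 11, 6, 8, 11, 25]⟩)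
  (.leaf ⟨6, 8, true, [8, 18, 8, 6, 18, 8, 19, 19, 12, 14], [18, 11, 8, 0, 19, 8, 19, 2, 11, 6, 8, 11, 4, 6, 8, 4, 6, 4, 0, 12, 8, 10, 21]⟩)))
  (.node (nat_lit 3598) (.node (nat_lit 3597) (.leaf ⟨8, 6, true, [8, 18, 4, 6, 8, 19, 6, 2], [13, 18, 8, 19, 10, 8, 19, 2, 11, 6, 8, 11, 6, 8, 10, 4, 6, 8, 4, 6, 4, 12, 8, 10, 6, 8, 11]⟩)
  (.leaf ⟨6, 8, true, [8, 18, 10, 8, 19, 19, 15], [12, 18, 8, 19, 0, 2, 4, 6, 8, 11, 8, 11, 4, 6, 8, 4, 6, 4, 0, 11, 8, 10, 20]⟩))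
  (.node (nat_lit 3599) (.leaf ⟨8, 6, true, [18, 8, 18, 13, 8, 19, 8, 16], [0, 18, 18, 14, 8, 18, 18, 6, 8, 10, 8, 10, 4, 6, 8, 10, 4, 6, 8, 4, 6, 4, 0, 8, 11, 13, 6, 8, 10, 12]⟩)
  (.leaf ⟨6, 8, true, [19, 8, 19, 19, 14, 8, 6], [18, 12, 8, 19, 8, 19, 2, 11, 12, 6, 8, 11, 4, 6, 8, 4, 6, 4, 10, 10, 6, 8, 11, 22]⟩)))))
  (.node (nat_lit 3608) (.node (nat_lit 3604) (.node (nat_lit 3602) (.node (nat_lit 3601) (.leaf ⟨8, 6, true, [19, 19, 11, 8, 19, 8, 6, 2], [19, 0, 2, 13, 4, 6, 8, 10, 4, 6, 8, 4, 6, 4, 13, 6, 8, 11, 13]⟩)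
  (.leaf ⟨6, 8, true, [4, 14, 6], [15, 12, 18, 8, 0, 18, 18, 12, 10, 6, 8, 10, 4, 6, 8, 10, 4, 6, 8, 4, 6, 4, 8, 10, 6, 8, 10, 12]⟩))
  (.node (nat_lit 3603) (.leaf ⟨8, 6, true, [15, 0, 18, 8, 18, 8, 18, 10, 10], [13, 18, 8, 19, 6, 8, 18, 18, 12, 11, 6, 8, 4, 6, 4, 8, 10, 8, 10]⟩)
  (.leaf ⟨6, 8, true, [12, 16, 13, 8, 19, 8, 19, 2], [15, 8, 19, 10, 8, 19, 2, 12, 4, 6, 8, 11, 4, 6, 8, 10, 4, 6, 8, 4, 6, 4, 0, 10, 13, 8, 11, 6, 8, 10, 25]⟩)))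
  (.node (nat_lit 3606) (.node (nat_lit 3605) (.leaf ⟨8, 6, true, [18, 18, 12, 8, 2, 18, 8, 18], [19, 2, 12, 11, 4, 6, 8, 4, 6, 4, 11, 8, 11, 12, 6, 8, 11, 6, 21]⟩)
  (.leaf ⟨6, 8, true, [6, 18, 18, 8, 18, 4, 14, 8, 6], [8, 19, 19, 19, 8, 19, 2, 12, 10, 6, 8, 11, 4, 6, 8, 4, 6, 4, 11, 6, 22]⟩))
  (.node (nat_lit 3607) (.leaf ⟨8, 6, true, [12, 19, 8, 19, 8, 15, 19, 8, 19, 2], [12, 11, 8, 18, 8, 18, 18, 10, 4, 6, 8, 11, 6, 8, 10, 4, 6, 8, 4, 6, 4, 0, 8, 10, 10, 6, 8, 10, 13]⟩)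
  (.leaf ⟨6, 8, true, [19, 6, 8, 18, 8, 18], [18, 12, 18, 8, 18, 18, 4, 6, 8, 10, 4, 6, 8, 4, 6, 4, 8, 10, 6, 8, 10, 6, 22]⟩))))
  (.node (nat_lit 3612) (.node (nat_lit 3610) (.node (nat_lit 3609) (.leaf ⟨8, 6, true, [16, 8, 19, 6, 8, 10, 6, 8, 18], [8, 18, 8, 18, 8, 19, 0, 2, 13, 11, 6, 8, 10, 4, 6, 8, 10, 4, 6, 8, 4, 6, 4, 13, 8, 11, 12]⟩)
  (.leaf ⟨6, 8, true, [19, 12, 8, 6, 18, 8, 19, 8, 19, 2], [14, 18, 12, 18, 8, 18, 18, 6, 8, 11, 13, 4, 6, 8, 10, 4, 6, 8, 4, 6, 4, 8, 10, 10, 6, 8, 11, 22]⟩))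
  (.node (nat_lit 3611) (.leaf ⟨8, 6, true, [8, 6, 18, 8, 0, 18, 8, 18, 11], [12, 18, 8, 0, 19, 8, 19, 2, 13, 4, 6, 8, 10, 4, 6, 8, 4, 6, 4, 12, 11, 8, 10, 6, 8, 10, 24]⟩)
  (.leaf ⟨8, 6, true, [11, 11, 8, 19, 10, 8, 19, 2], [12, 10, 8, 19, 0, 2, 4, 6, 8, 11, 13, 4, 6, 8, 11, 4, 6, 8, 4, 6, 4, 0, 13, 11, 8, 11, 13]⟩)))
  (.node (nat_lit 3614) (.node (nat_lit 3613) (.leaf ⟨6, 8, true, [10, 13, 8, 19, 8, 19, 2], [6, 18, 18, 8, 19, 2, 13, 6, 8, 10, 4, 6, 8, 11, 4, 6, 8, 4, 6, 4, 8, 10, 6, 8, 11, 6, 22]⟩)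
  (.leaf ⟨6, 8, true, [0, 15, 13, 8, 18, 8, 19, 6, 2], [2, 4, 6, 8, 11, 13, 4, 6, 8, 10, 4, 6, 8, 4, 6, 4, 6, 8, 11, 6, 8, 10, 6, 23]⟩))
  (.node (nat_lit 3615) (.leaf ⟨8, 6, true, [8, 0, 18, 8, 18, 8, 18, 11], [13, 0, 19, 8, 19, 8, 19, 2, 6, 8, 10, 6, 8, 11, 4, 6, 8, 10, 4, 6, 8, 4, 6, 4, 8, 11]⟩)
  (.leaf ⟨6, 8, true, [19, 16, 8, 19, 8, 19, 15], [12, 0, 18, 8, 18, 18, 4, 6, 8, 4, 6, 4, 0, 13, 10, 8, 11, 6, 8, 10, 12]⟩))))))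

noncomputable def f3616 : FT := (.node (nat_lit 3632) (.node (nat_lit 3624) (.node (nat_lit 3620) (.node (nat_lit 3618) (.node (nat_lit 3617) (.leaf ⟨8, 6, true, [8, 2, 18, 8, 0, 18, 8, 18, 11], [12, 0, 18, 8, 18, 18, 11, 8, 10, 6, 8, 4, 6, 4, 8, 10, 8, 10, 6, 8, 10]⟩)
  (.leaf ⟨6, 8, true, [2, 18, 18, 8, 10, 6], [10, 8, 6, 18, 8, 19, 2, 6, 8, 4, 6, 4, 0, 13, 11, 8, 10, 6, 8, 10, 22]⟩))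
  (.node (nat_lit 3619) (.leaf ⟨8, 6, true, [16, 8, 19, 12, 8, 16], [0, 15, 12, 18, 8, 18, 18, 10, 6, 8, 11, 4, 6, 8, 4, 6, 4, 0, 11, 13, 6, 8, 10, 6, 22]⟩)
  (.leaf ⟨6, 8, true, [19, 13, 8, 19, 10, 8, 19, 2], [14, 0, 19, 11, 8, 19, 2, 10, 4, 6, 8, 11, 4, 6, 8, 4, 6, 4, 0, 6, 8, 11, 8, 11, 12]⟩)))
  (.node (nat_lit 3622) (.node (nat_lit 3621) (.leaf ⟨8, 6, true, [18, 18, 10, 8, 18, 8, 18, 10], [10, 8, 19, 19, 2, 8, 11, 11, 6, 8, 11, 4, 6, 8, 4, 6, 4, 10, 8, 10, 10, 6, 8, 11, 13]⟩)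
  (.leaf ⟨3, 8, true, [13, 18, 8, 19, 8, 0, 14, 6], [15, 11, 8, 0, 19, 8, 19, 2, 8, 10, 6, 8, 4, 6, 4, 10, 8, 11, 21]⟩))
  (.node (nat_lit 3623) (.leaf ⟨8, 3, true, [14, 6, 8, 0, 18, 8, 18, 8, 18, 10], [11, 11, 8, 19, 8, 19, 2, 8, 10, 6, 8, 10, 4, 6, 8, 4, 6, 4, 0, 8, 11, 6, 8, 11, 6, 25]⟩)
  (.leaf ⟨6, 8, true, [18, 18, 0, 18, 8, 18, 8, 18, 10], [6, 8, 6, 18, 8, 19, 2, 13, 4, 6, 8, 10, 4, 6, 8, 11, 4, 6, 8, 4, 6, 4, 10, 6, 8, 11, 6, 22]⟩))))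
  (.node (nat_lit 3628) (.node (nat_lit 3626) (.node (nat_lit 3625) (.leaf ⟨8, 6, true, [19, 13, 8, 19, 8, 19, 14], [18, 8, 18, 8, 19, 8, 19, 2, 11, 13, 8, 10, 6, 8, 4, 6, 4, 8, 11, 13, 6, 8, 11, 25]⟩)
  (.leaf ⟨6, 8, true, [0, 15, 13, 18, 8, 18, 8, 18], [11, 8, 19, 2, 6, 4, 0, 6, 8, 10, 6, 8, 11, 6, 20]⟩))
  (.node (nat_lit 3627) (.leaf ⟨8, 6, true, [16, 10, 8, 19, 10, 8, 19, 2], [19, 8, 0, 19, 10, 8, 19, 2, 10, 8, 11, 6, 8, 4, 6, 4, 10, 6, 8, 10, 6, 25]⟩)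
  (.leaf ⟨6, 8, true, [13, 0, 14, 8, 18, 8, 19, 16], [8, 18, 8, 18, 8, 19, 2, 13, 11, 8, 11, 4, 6, 8, 4, 6, 4, 10, 8, 10, 6, 8, 10, 6, 23]⟩)))
  (.node (nat_lit 3630) (.node (nat_lit 3629) (.leaf ⟨8, 6, true, [19, 15, 13, 19, 8, 19, 8, 16, 10], [19, 19, 8, 6, 18, 8, 19, 2, 12, 11, 4, 6, 8, 10, 4, 6, 8, 4, 6, 4, 10, 6, 8, 10, 6]⟩)
  (.leaf ⟨6, 8, true, [18, 18, 12, 8, 16, 8, 19, 19, 2], [8, 18, 10, 8, 18, 18, 11, 8, 11, 4, 6, 8, 4, 6, 4, 11, 11, 8, 11, 13]⟩))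
  (.node (nat_lit 3631) (.leaf ⟨8, 6, true, [10, 8, 18, 8, 18, 8, 6, 18], [18, 8, 18, 8, 0, 18, 18, 4, 6, 8, 11, 8, 11, 4, 6, 8, 4, 6, 4, 0, 11, 12, 6, 8, 11, 20]⟩)
  (.leaf ⟨6, 8, true, [18, 18, 8, 0, 18, 8, 6], [16, 12, 0, 19, 8, 19, 2, 11, 11, 8, 10, 6, 8, 4, 6, 4, 10, 8, 11, 6, 13]⟩)))))
  (.node (nat_lit 3640) (.node (nat_lit 3636) (.node (nat_lit 3634) (.node (nat_lit 3633) (.leaf ⟨8, 6, true, [8, 18, 8, 6, 18, 8, 19, 16], [19, 8, 19, 2, 11, 8, 11, 12, 6, 8, 11, 4, 6, 8, 4, 6, 4, 0, 13, 10, 8, 11, 6, 8, 11, 20]⟩)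
  (.leaf ⟨6, 8, true, [8, 18, 14, 8, 19, 6, 18, 8, 6], [18, 18, 18, 8, 19, 2, 11, 4, 6, 8, 10, 4, 6, 8, 11, 4, 6, 8, 4, 6, 4, 11, 8, 10, 13]⟩))
  (.node (nat_lit 3635) (.leaf ⟨8, 6, true, [8, 19, 8, 14, 6], [14, 0, 19, 11, 8, 19, 2, 4, 6, 8, 11, 4, 6, 8, 10, 4, 6, 8, 4, 6, 4, 10, 8, 11, 6, 8, 11, 6, 24]⟩)
  (.leaf ⟨6, 8, true, [18, 8, 18, 8, 19, 14], [0, 19, 8, 19, 8, 0, 19, 2, 13, 11, 6, 8, 11, 4, 6, 8, 11, 4, 6, 8, 4, 6, 4, 8, 10, 13, 6, 8, 10, 23]⟩)))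
  (.node (nat_lit 3638) (.node (nat_lit 3637) (.leaf ⟨8, 6, true, [19, 10, 8, 19, 12, 8, 19, 2], [8, 10, 8, 19, 0, 2, 11, 6, 4, 6, 8, 10, 4, 6, 8, 4, 6, 4, 8, 11, 11, 6, 8, 11, 22]⟩)
  (.leaf ⟨4, 8, true, [19, 19, 12, 8, 16], [12, 6, 0, 18, 8, 18, 18, 10, 4, 6, 8, 11, 4, 6, 8, 10, 4, 6, 8, 4, 6, 4, 6, 8, 11, 6, 8, 10, 24]⟩))
  (.node (nat_lit 3639) (.leaf ⟨8, 4, true, [12, 2, 0, 18, 8, 6], [12, 0, 19, 8, 19, 8, 0, 19, 2, 10, 6, 8, 10, 4, 6, 8, 11, 4, 6, 8, 4, 6, 4, 0, 12, 6, 8, 11, 25]⟩)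
  (.leaf ⟨4, 8, true, [14, 18, 18, 13, 8, 18, 8, 6, 18], [0, 2, 18, 18, 11, 6, 8, 11, 4, 6, 8, 11, 4, 6, 8, 4, 6, 4, 13, 8, 11, 6, 8, 10, 22]⟩))))
  (.node (nat_lit 3644) (.node (nat_lit 3642) (.node (nat_lit 3641) (.leaf ⟨8, 4, true, [19, 19, 19, 8, 11, 8, 16], [18, 8, 0, 19, 10, 8, 19, 2, 11, 13, 6, 8, 10, 4, 6, 8, 4, 6, 4, 10, 10, 6, 8, 10, 23]⟩)
  (.leaf ⟨5, 8, true, [0, 14, 12, 18, 8, 19, 6, 2], [2, 0, 18, 6, 8, 11, 8, 11, 4, 6, 8, 10, 4, 6, 8, 4, 6, 4, 8, 10, 6, 8, 10, 13]⟩))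
  (.node (nat_lit 3643) (.leaf ⟨8, 5, true, [8, 16, 14], [15, 0, 19, 8, 19, 8, 19, 2, 4, 6, 8, 4, 6, 4, 0, 10, 8, 11, 6, 8, 10, 12]⟩)
  (.leaf ⟨5, 8, true, [0, 18, 8, 6, 18, 10, 8, 6, 18], [12, 14, 8, 18, 18, 11, 11, 4, 6, 8, 4, 6, 4, 0, 12, 11, 6, 8, 10, 6, 20]⟩)))
  (.node (nat_lit 3646) (.node (nat_lit 3645) (.leaf ⟨8, 5, true, [15, 18, 10, 8, 19, 2], [8, 0, 19, 8, 19, 0, 2, 12, 10, 4, 6, 8, 11, 4, 6, 8, 4, 6, 4, 6, 8, 11, 8, 11, 6, 22]⟩)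
  (.leaf ⟨5, 8, true, [11, 12, 8, 10, 6], [12, 11, 8, 19, 0, 2, 8, 11, 8, 11, 4, 6, 8, 10, 4, 6, 8, 4, 6, 4, 12, 10, 6, 8, 11, 21]⟩))
  (.node (nat_lit 3647) (.leaf ⟨8, 5, true, [19, 19, 19, 12, 8, 14, 6], [8, 11, 8, 11, 6, 8, 4, 6, 4, 0, 8, 11, 8, 11, 6, 8, 11, 13]⟩)
  (.leaf ⟨5, 8, true, [16, 8, 19, 10, 8, 19, 8, 6, 2], [19, 19, 19, 2, 4, 6, 8, 10, 6, 8, 11, 4, 6, 8, 4, 6, 4, 8, 10, 6, 8, 11, 6, 20]⟩))))))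

noncomputable def f3648 : FT := (.node (nat_lit 3664) (.node (nat_lit 3656) (.node (nat_lit 3652) (.node (nat_lit 3650) (.node (nat_lit 3649) (.leaf ⟨8, 5, true, [10, 13, 8, 10, 6], [6, 18, 12, 8, 19, 8, 19, 2, 11, 8, 10, 6, 8, 4, 6, 4, 13, 10, 8, 10, 6, 8, 10, 23]⟩)
  (.leaf ⟨5, 8, true, [8, 18, 8, 19, 19, 8, 10, 8, 16], [12, 0, 14, 8, 18, 18, 12, 10, 8, 10, 4, 6, 8, 10, 4, 6, 8, 4, 6, 4, 8, 10, 6, 8, 10, 6, 13]⟩))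
  (.node (nat_lit 3651) (.leaf ⟨8, 5, true, [15, 12, 18, 8, 19, 2], [13, 19, 10, 8, 19, 8, 19, 2, 13, 4, 6, 8, 11, 4, 6, 8, 10, 4, 6, 8, 4, 6, 4, 11, 6, 8, 11, 6, 8, 10, 12]⟩)
  (.leaf ⟨5, 8, true, [19, 19, 12, 19, 8, 6, 2], [8, 19, 0, 2, 11, 8, 6, 4, 0, 12, 6, 8, 10, 6, 23]⟩)))
  (.node (nat_lit 3654) (.node (nat_lit 3653) (.leaf ⟨8, 5, true, [19, 19, 12, 19, 8, 6, 2], [8, 19, 0, 2, 11, 8, 4, 6, 4, 0, 12, 6, 8, 10, 6, 23]⟩)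
  (.leaf ⟨5, 8, true, [18, 18, 13, 18, 8, 18, 8, 19, 6, 2], [4, 6, 8, 10, 12, 4, 6, 8, 10, 4, 6, 8, 4, 6, 4, 10, 8, 10, 6, 8, 10, 12]⟩))
  (.node (nat_lit 3655) (.leaf ⟨8, 5, true, [16, 14], [0, 19, 15, 8, 19, 8, 19, 2, 4, 0, 11, 12, 6, 8, 11, 13]⟩)
  (.leaf ⟨4, 8, true, [15, 8, 0, 18, 8, 18, 8, 18, 10], [18, 12, 2, 18, 8, 18, 18, 10, 8, 10, 6, 8, 11, 4, 6, 8, 4, 6, 4, 10, 13, 8, 11, 24]⟩))))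
  (.node (nat_lit 3660) (.node (nat_lit 3658) (.node (nat_lit 3657) (.leaf ⟨8, 4, true, [19, 14, 6, 18, 8, 18], [8, 0, 18, 10, 10, 8, 18, 18, 4, 6, 8, 10, 4, 6, 8, 4, 6, 4, 10, 6, 8, 11, 6, 13]⟩)
  (.leaf ⟨4, 8, true, [12, 11, 8, 10, 6], [11, 8, 19, 0, 2, 8, 10, 8, 4, 6, 4, 11, 13, 6, 8, 11, 12]⟩))
  (.node (nat_lit 3659) (.leaf ⟨8, 4, true, [19, 19, 19, 14, 8, 6], [6, 8, 10, 8, 10, 4, 6, 8, 10, 4, 6, 8, 4, 6, 4, 0, 13, 10, 8, 11, 6, 8, 11, 21]⟩)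
  (.leaf ⟨5, 8, true, [0, 15, 18, 8, 18, 10, 8, 6], [12, 6, 0, 18, 8, 18, 18, 11, 11, 6, 8, 4, 6, 4, 12, 11, 6, 8, 10, 6, 23]⟩)))
  (.node (nat_lit 3662) (.node (nat_lit 3661) (.leaf ⟨8, 5, true, [19, 19, 19, 8, 16], [18, 11, 8, 19, 19, 2, 12, 11, 4, 6, 8, 10, 4, 6, 8, 4, 6, 4, 0, 6, 8, 10, 6, 8, 11, 6, 21]⟩)
  (.leaf ⟨5, 8, true, [13, 14, 8, 16], [8, 19, 0, 2, 11, 8, 10, 4, 6, 8, 10, 4, 6, 8, 4, 6, 4, 0, 11, 6, 8, 11, 6, 22]⟩))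
  (.node (nat_lit 3663) (.leaf ⟨8, 5, true, [6, 18, 8, 0, 18, 12, 10], [11, 13, 8, 10, 6, 8, 4, 6, 4, 12, 10, 6, 8, 10, 20]⟩)
  (.leaf ⟨5, 8, true, [19, 19, 13, 19, 8, 16], [8, 10, 8, 19, 0, 2, 10, 8, 11, 13, 4, 6, 8, 10, 4, 6, 8, 4, 6, 4, 13, 11, 8, 10, 6, 8, 10, 24]⟩)))))
  (.node (nat_lit 3672) (.node (nat_lit 3668) (.node (nat_lit 3666) (.node (nat_lit 3665) (.leaf ⟨8, 5, true, [19, 19, 13, 19, 8, 16], [8, 10, 8, 19, 0, 2, 10, 8, 11, 13, 6, 8, 10, 4, 6, 8, 4, 6, 4, 13, 11, 8, 10, 6, 8, 10, 24]⟩)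
  (.leaf ⟨5, 8, true, [16, 14], [8, 18, 0, 18, 6, 8, 10, 13, 4, 6, 8, 10, 4, 6, 8, 4, 6, 4, 10, 10, 8, 11, 25]⟩))
  (.node (nat_lit 3667) (.leaf ⟨8, 5, true, [19, 19, 19, 14], [13, 4, 6, 8, 11, 4, 6, 8, 4, 6, 4, 0, 10, 6, 8, 10, 6, 25]⟩)
  (.leaf ⟨5, 8, true, [19, 19, 12, 6, 8, 18], [8, 10, 8, 19, 0, 2, 10, 8, 11, 13, 4, 6, 8, 10, 4, 6, 8, 4, 6, 4, 11, 11, 8, 11, 24]⟩)))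
  (.node (nat_lit 3670) (.node (nat_lit 3669) (.leaf ⟨8, 5, true, [19, 19, 12, 6, 8, 18], [8, 10, 8, 19, 0, 2, 10, 8, 11, 13, 6, 8, 10, 4, 6, 8, 4, 6, 4, 11, 11, 8, 11, 24]⟩)
  (.leaf ⟨5, 8, true, [15, 0, 19, 10, 6, 8, 19, 6, 2], [19, 19, 19, 2, 11, 8, 10, 6, 8, 10, 4, 6, 8, 4, 6, 4, 0, 13, 6, 8, 11, 6, 12]⟩))
  (.node (nat_lit 3671) (.leaf ⟨8, 5, true, [6, 8, 10, 8, 6], [13, 16, 8, 19, 6, 8, 18, 18, 13, 6, 8, 11, 4, 6, 8, 10, 4, 6, 8, 4, 6, 4, 10, 8, 10, 6, 8, 10, 23]⟩)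
  (.leaf ⟨5, 8, true, [0, 18, 8, 6, 18, 10, 8, 19, 6, 2], [19, 19, 19, 2, 11, 6, 4, 6, 8, 11, 4, 6, 8, 4, 6, 4, 12, 8, 11, 6, 8, 10, 6, 12]⟩))))
  (.node (nat_lit 3676) (.node (nat_lit 3674) (.node (nat_lit 3673) (.leaf ⟨8, 5, true, [12, 15, 8, 16], [19, 10, 8, 6, 18, 8, 19, 2, 4, 6, 8, 11, 4, 6, 8, 11, 4, 6, 8, 4, 6, 4, 0, 8, 11, 13, 6, 8, 11, 6, 22]⟩)
  (.leaf ⟨5, 8, true, [13, 8, 6, 18, 8, 16, 8, 19, 16], [18, 14, 18, 18, 8, 19, 2, 10, 6, 8, 11, 4, 6, 8, 4, 6, 4, 0, 10, 6, 8, 11, 6, 8, 10, 6, 22]⟩))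
  (.node (nat_lit 3675) (.leaf ⟨8, 5, true, [13, 6, 18, 8, 0, 18], [19, 8, 16, 8, 19, 19, 2, 6, 8, 10, 8, 10, 4, 6, 8, 10, 4, 6, 8, 4, 6, 4, 0, 11, 6, 8, 10, 22]⟩)
  (.leaf ⟨5, 8, true, [19, 14, 6, 18, 8, 19, 6, 2], [12, 6, 18, 8, 18, 18, 13, 8, 11, 6, 8, 11, 4, 6, 8, 11, 4, 6, 8, 4, 6, 4, 8, 11, 11, 6, 8, 11, 23]⟩)))
  (.node (nat_lit 3678) (.node (nat_lit 3677) (.leaf ⟨8, 5, true, [13, 19, 8, 19, 2], [19, 16, 8, 19, 6, 8, 18, 18, 6, 4, 6, 8, 11, 6, 8, 10, 4, 6, 8, 4, 6, 4, 11, 13, 8, 10, 13]⟩)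
  (.leaf ⟨5, 8, true, [19, 13, 6, 8, 18, 8, 6, 18], [0, 14, 8, 18, 18, 10, 12, 6, 8, 10, 4, 6, 8, 11, 4, 6, 8, 4, 6, 4, 11, 13, 6, 8, 10]⟩))
  (.node (nat_lit 3679) (.leaf ⟨8, 5, true, [8, 18, 10, 8, 18, 8, 19, 2], [6, 18, 10, 8, 19, 0, 2, 11, 13, 6, 8, 11, 4, 6, 8, 4, 6, 4, 0, 11, 8, 11, 12, 6, 8, 11, 6, 22]⟩)
  (.leaf ⟨5, 8, true, [10, 8, 18, 8, 19, 19, 14, 8, 6], [19, 16, 8, 0, 19, 8, 19, 2, 10, 8, 11, 13, 6, 8, 10, 4, 6, 8, 4, 6, 4, 10, 20]⟩))))))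

noncomputable def f3680 : FT := (.node (nat_lit 3696) (.node (nat_lit 3688) (.node (nat_lit 3684) (.node (nat_lit 3682) (.node (nat_lit 3681) (.leaf ⟨8, 5, true, [18, 14, 18, 18, 8, 10, 6, 8, 18], [12, 18, 8, 2, 18, 18, 12, 4, 6, 8, 11, 4, 6, 8, 10, 4, 6, 8, 4, 6, 4, 0, 10, 8, 11, 6, 8, 11, 6, 20]⟩)
  (.leaf ⟨4, 8, true, [14, 6, 8, 16, 8, 19, 12, 19, 2], [8, 0, 2, 18, 18, 12, 11, 8, 6, 4, 0, 6, 8, 10, 6, 23]⟩))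
  (.node (nat_lit 3683) (.leaf ⟨8, 4, true, [12, 8, 18, 8, 0, 18], [18, 0, 18, 12, 11, 4, 6, 8, 4, 6, 4, 0, 13, 10, 8, 11, 6, 8, 10, 6]⟩)
  (.leaf ⟨5, 8, true, [2, 18, 8, 14, 6, 8, 0, 18], [15, 8, 19, 0, 2, 11, 13, 8, 10, 6, 8, 4, 6, 4, 13, 11, 6, 8, 10, 24]⟩)))
  (.node (nat_lit 3686) (.node (nat_lit 3685) (.leaf ⟨8, 5, true, [13, 16, 8, 19, 19, 8, 16], [8, 15, 8, 0, 19, 8, 19, 2, 10, 10, 4, 6, 8, 11, 4, 6, 8, 4, 6, 4, 11, 8, 11, 6, 8, 10, 6, 24]⟩)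
  (.leaf ⟨5, 8, true, [16, 10, 8, 19, 8, 19, 2], [12, 18, 8, 0, 19, 2, 10, 10, 4, 6, 8, 11, 4, 6, 8, 10, 4, 6, 8, 4, 6, 4, 12, 8, 11, 6, 8, 10, 25]⟩))
  (.node (nat_lit 3687) (.leaf ⟨8, 5, true, [10, 6, 8, 19, 8, 19, 15], [6, 8, 19, 8, 0, 19, 2, 8, 10, 6, 8, 10, 4, 6, 8, 4, 6, 4, 11, 12, 6, 8, 11, 23]⟩)
  (.leaf ⟨5, 8, true, [13, 4, 14, 6, 8, 19, 8, 19, 2], [15, 19, 19, 11, 8, 19, 2, 11, 6, 8, 10, 4, 6, 8, 11, 4, 6, 8, 4, 6, 4, 8, 11, 13, 6, 8, 11, 22]⟩))))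
  (.node (nat_lit 3692) (.node (nat_lit 3690) (.node (nat_lit 3689) (.leaf ⟨8, 5, true, [13, 8, 16, 8, 6, 0, 18], [15, 0, 19, 8, 19, 2, 11, 13, 8, 10, 6, 8, 4, 6, 4, 11, 8, 11, 12, 6, 8, 11, 6]⟩)
  (.leaf ⟨4, 8, true, [14, 8, 18, 12, 10, 8, 18, 10], [18, 0, 18, 4, 6, 8, 11, 6, 8, 10, 4, 6, 8, 4, 6, 4, 0, 6, 8, 10, 6, 8, 11, 6, 21]⟩))
  (.node (nat_lit 3691) (.leaf ⟨8, 4, true, [19, 12, 8, 11, 8, 19, 2], [19, 16, 8, 19, 19, 2, 12, 10, 8, 10, 4, 6, 8, 4, 6, 4, 0, 10, 6, 8, 10, 23]⟩)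
  (.leaf ⟨5, 8, true, [8, 15, 8, 0, 18], [15, 11, 8, 19, 8, 19, 2, 10, 8, 11, 11, 6, 8, 11, 4, 6, 8, 4, 6, 4, 12, 11, 6, 25]⟩)))
  (.node (nat_lit 3694) (.node (nat_lit 3693) (.leaf ⟨8, 5, true, [15, 11, 8, 18, 8, 6, 18, 10], [12, 15, 8, 18, 18, 11, 11, 8, 11, 6, 8, 4, 6, 4, 13, 10, 8, 11, 24]⟩)
  (.leaf ⟨5, 8, true, [13, 11, 8, 19, 8, 19, 2], [8, 2, 18, 18, 8, 11, 6, 8, 4, 6, 4, 0, 12, 10, 8, 10, 6, 8, 10]⟩))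
  (.node (nat_lit 3695) (.leaf ⟨8, 5, true, [19, 8, 0, 15, 8, 6], [19, 0, 2, 11, 8, 10, 4, 6, 8, 4, 6, 4, 0, 11, 8, 11, 6, 8, 10, 6, 13]⟩)
  (.leaf ⟨5, 8, true, [13, 11, 8, 18, 8, 0, 18], [19, 0, 2, 11, 6, 8, 11, 4, 6, 8, 4, 6, 4, 12, 8, 10, 6, 8, 10, 20]⟩)))))
  (.node (nat_lit 3704) (.node (nat_lit 3700) (.node (nat_lit 3698) (.node (nat_lit 3697) (.leaf ⟨8, 5, true, [8, 18, 12, 14, 8, 19, 19, 14], [8, 0, 2, 18, 18, 11, 13, 8, 10, 6, 8, 11, 4, 6, 8, 4, 6, 4, 12, 10, 21]⟩)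
  (.leaf ⟨5, 8, true, [8, 18, 8, 18, 8, 11, 8, 19, 19, 2], [8, 19, 0, 2, 12, 4, 6, 8, 10, 4, 6, 8, 4, 6, 4, 0, 10, 8, 10, 6, 8, 10, 6, 25]⟩))
  (.node (nat_lit 3699) (.leaf ⟨8, 5, true, [12, 18, 8, 0, 19, 6, 2], [8, 19, 15, 19, 8, 19, 2, 8, 10, 10, 4, 6, 8, 10, 4, 6, 8, 4, 6, 4, 12, 8, 10, 6, 8, 10, 24]⟩)
  (.leaf ⟨4, 8, true, [18, 13, 14, 8, 19, 19, 15], [8, 0, 2, 18, 18, 4, 6, 8, 10, 10, 4, 6, 8, 11, 4, 6, 8, 4, 6, 4, 11, 11, 20]⟩)))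
  (.node (nat_lit 3702) (.node (nat_lit 3701) (.leaf ⟨8, 4, true, [11, 8, 16, 8, 6, 0, 18, 8, 6], [8, 19, 0, 2, 11, 13, 6, 8, 10, 4, 6, 8, 4, 6, 4, 0, 11, 8, 10, 6, 8, 11, 6, 23]⟩)
  (.leaf ⟨5, 8, true, [6, 8, 0, 18, 12, 18, 8, 6], [18, 14, 18, 18, 8, 19, 2, 6, 8, 10, 10, 4, 6, 8, 11, 4, 6, 8, 4, 6, 4, 8, 10, 8, 10, 6, 8, 10, 22]⟩))
  (.node (nat_lit 3703) (.leaf ⟨8, 5, true, [19, 8, 19, 2], [13, 11, 8, 18, 8, 18, 18, 11, 13, 8, 10, 6, 8, 11, 4, 6, 8, 4, 6, 4, 8, 11, 13, 6, 8, 11, 6]⟩)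
  (.leaf ⟨5, 8, true, [0, 19, 8, 19, 8, 15, 19, 8, 19, 2], [18, 14, 18, 18, 8, 19, 2, 6, 8, 10, 13, 4, 6, 8, 10, 4, 6, 8, 4, 6, 4, 12, 11, 8, 10, 6, 8, 10, 12]⟩))))
  (.node (nat_lit 3708) (.node (nat_lit 3706) (.node (nat_lit 3705) (.leaf ⟨8, 5, true, [8, 19, 8, 19, 2], [8, 19, 19, 0, 19, 8, 19, 2, 12, 8, 11, 4, 6, 8, 10, 4, 6, 8, 4, 6, 4, 0, 13, 6, 8, 10, 6, 25]⟩)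
  (.leaf ⟨5, 8, true, [10, 8, 18, 10, 8, 0, 18], [19, 14, 8, 6, 18, 8, 19, 2, 11, 8, 10, 6, 8, 10, 4, 6, 8, 4, 6, 4, 0, 13, 10, 6, 8, 11, 12]⟩))
  (.node (nat_lit 3707) (.leaf ⟨8, 5, true, [6, 18, 8, 18, 13, 8, 19, 8, 16], [6, 18, 10, 8, 18, 18, 6, 4, 6, 8, 10, 6, 8, 11, 4, 6, 8, 4, 6, 4, 11, 11, 23]⟩)
  (.leaf ⟨5, 8, true, [18, 8, 19, 10, 8, 19, 8, 16], [18, 14, 18, 8, 18, 18, 12, 11, 4, 6, 8, 4, 6, 4, 12, 11, 22]⟩)))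
  (.node (nat_lit 3710) (.node (nat_lit 3709) (.leaf ⟨8, 5, true, [6, 8, 19, 19, 2], [8, 19, 10, 8, 19, 2, 10, 12, 8, 11, 4, 6, 8, 4, 6, 4, 0, 10, 8, 11, 6, 13]⟩)
  (.leaf ⟨5, 8, true, [12, 8, 18, 8, 19, 19, 8, 16], [6, 18, 8, 18, 18, 11, 8, 10, 6, 8, 11, 4, 6, 8, 4, 6, 4, 10, 13, 8, 11, 6, 8, 10, 13]⟩))
  (.node (nat_lit 3711) (.leaf ⟨8, 5, true, [18, 8, 0, 18], [14, 8, 19, 6, 18, 8, 19, 2, 10, 8, 4, 6, 4, 0, 11, 12, 6, 8, 11, 23]⟩)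
  (.leaf ⟨5, 8, true, [10, 12, 10, 8, 19, 8, 19, 2], [8, 2, 18, 18, 12, 10, 8, 10, 6, 8, 4, 6, 4, 0, 6, 8, 10, 6, 8, 11, 21]⟩))))))

noncomputable def f3712 : FT := (.node (nat_lit 3728) (.node (nat_lit 3720) (.node (nat_lit 3716) (.node (nat_lit 3714) (.node (nat_lit 3713) (.leaf ⟨8, 5, true, [13, 6, 8, 19, 8, 19, 2], [8, 2, 18, 18, 11, 4, 6, 8, 11, 4, 6, 8, 10, 4, 6, 8, 4, 6, 4, 12, 10, 8, 10, 6, 8, 10, 25]⟩)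
  (.leaf ⟨5, 8, true, [13, 6, 18, 8, 0, 18, 8, 18], [14, 10, 8, 18, 0, 18, 13, 10, 6, 8, 10, 4, 6, 8, 10, 4, 6, 8, 4, 6, 4, 11, 6, 24]⟩))
  (.node (nat_lit 3715) (.leaf ⟨8, 5, true, [0, 14, 8, 6, 18, 8, 19, 16], [13, 16, 8, 0, 19, 8, 19, 2, 11, 13, 4, 6, 8, 11, 4, 6, 8, 10, 4, 6, 8, 4, 6, 4, 10, 8, 10, 22]⟩)
  (.leaf ⟨5, 8, true, [8, 0, 2, 18, 8, 6, 18, 10], [10, 10, 8, 19, 0, 2, 8, 10, 6, 8, 10, 4, 6, 8, 4, 6, 4, 8, 11, 11, 6, 8, 11, 21]⟩)))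
  (.node (nat_lit 3718) (.node (nat_lit 3717) (.leaf ⟨8, 5, true, [10, 8, 18, 8, 10, 8, 0, 18], [13, 10, 8, 19, 8, 19, 2, 13, 11, 4, 6, 8, 10, 4, 6, 8, 10, 4, 6, 8, 4, 6, 4, 10, 8, 11, 24]⟩)
  (.leaf ⟨5, 8, true, [14, 8, 18, 10, 12, 8, 18, 8, 18, 10], [15, 8, 18, 18, 10, 13, 8, 10, 4, 6, 8, 4, 6, 4, 10, 8, 11, 11, 6, 8, 11, 12]⟩))
  (.node (nat_lit 3719) (.leaf ⟨8, 5, true, [18, 10, 8, 18, 8, 19, 2], [19, 19, 8, 6, 18, 8, 19, 2, 11, 8, 6, 4, 0, 6, 8, 11, 6, 13]⟩)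
  (.leaf ⟨5, 8, true, [19, 8, 19, 6, 8, 19, 19, 14], [8, 0, 19, 6, 8, 18, 18, 12, 10, 8, 10, 6, 8, 4, 6, 4, 0, 13, 10, 6, 8, 11, 22]⟩))))
  (.node (nat_lit 3724) (.node (nat_lit 3722) (.node (nat_lit 3721) (.leaf ⟨8, 5, true, [8, 0, 14, 6, 18, 8, 19, 16], [15, 0, 19, 8, 19, 8, 19, 2, 10, 8, 4, 6, 4, 6, 12]⟩)
  (.leaf ⟨5, 8, true, [2, 0, 18, 8, 6], [18, 8, 0, 19, 2, 13, 6, 8, 11, 4, 6, 8, 4, 6, 4, 11, 13, 6, 8, 10, 6, 24]⟩))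
  (.node (nat_lit 3723) (.leaf ⟨8, 5, true, [6, 18, 8, 0, 18, 10], [10, 8, 18, 0, 18, 10, 4, 6, 8, 11, 12, 4, 6, 8, 11, 4, 6, 8, 4, 6, 4, 8, 11, 6, 8, 11, 6, 24]⟩)
  (.leaf ⟨5, 8, true, [12, 19, 8, 0, 19, 8, 19, 8, 6, 2], [14, 8, 18, 0, 18, 10, 8, 10, 6, 4, 6, 8, 11, 4, 6, 8, 4, 6, 4, 11, 13, 8, 10, 6, 8, 11, 20]⟩)))
  (.node (nat_lit 3726) (.node (nat_lit 3725) (.leaf ⟨8, 5, true, [19, 8, 16, 8, 0, 19, 8, 16], [18, 8, 19, 19, 2, 6, 4, 6, 8, 11, 6, 8, 10, 4, 6, 8, 4, 6, 4, 0, 10, 10, 8, 11, 12]⟩)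
  (.leaf ⟨5, 8, true, [10, 8, 6, 18, 8, 6, 18, 10], [18, 14, 8, 19, 0, 2, 6, 8, 11, 4, 6, 8, 10, 4, 6, 8, 4, 6, 4, 13, 6, 8, 10, 6, 25]⟩))
  (.node (nat_lit 3727) (.leaf ⟨8, 5, true, [12, 11, 8, 19, 8, 19, 14], [8, 19, 12, 19, 8, 0, 19, 2, 11, 12, 8, 10, 6, 8, 11, 4, 6, 8, 4, 6, 4, 12, 6, 8, 10, 6, 12]⟩)
  (.leaf ⟨5, 8, true, [15, 19, 8, 19, 8, 16, 8, 19, 19, 2], [19, 12, 19, 8, 19, 8, 19, 2, 8, 10, 6, 8, 10, 4, 6, 8, 4, 6, 4, 12, 8, 10, 6, 20]⟩)))))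
  (.node (nat_lit 3736) (.node (nat_lit 3732) (.node (nat_lit 3730) (.node (nat_lit 3729) (.leaf ⟨8, 5, true, [0, 18, 12, 18, 8, 19, 14, 8, 6], [8, 19, 14, 8, 19, 0, 2, 10, 13, 8, 10, 4, 6, 8, 4, 6, 4, 0, 11, 8, 11, 6, 8, 10, 6, 25]⟩)
  (.leaf ⟨8, 5, true, [6, 8, 19, 19, 12, 10, 8, 16], [15, 19, 19, 19, 8, 19, 2, 13, 10, 6, 8, 10, 4, 6, 8, 10, 4, 6, 8, 4, 6, 4, 12, 11, 6, 8, 10, 22]⟩))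
  (.node (nat_lit 3731) (.leaf ⟨5, 8, true, [18, 8, 10, 8, 19, 2], [8, 19, 19, 12, 19, 8, 19, 2, 13, 8, 11, 6, 8, 10, 4, 6, 8, 4, 6, 4, 10, 8, 11, 6, 8, 11, 6]⟩)
  (.leaf ⟨5, 8, true, [19, 11, 8, 19, 14, 10], [8, 0, 15, 18, 8, 0, 18, 18, 10, 6, 8, 11, 12, 4, 6, 8, 11, 4, 6, 8, 4, 6, 4, 11, 13, 6, 8, 10, 6, 24]⟩)))
  (.node (nat_lit 3734) (.node (nat_lit 3733) (.leaf ⟨8, 5, true, [12, 15], [19, 19, 0, 2, 4, 6, 8, 11, 6, 8, 10, 4, 6, 8, 4, 6, 4, 10, 13, 8, 11, 6, 8, 10, 12]⟩)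
  (.leaf ⟨5, 8, true, [16, 8, 19, 12, 8, 19, 8, 16, 10], [18, 18, 8, 6, 18, 8, 19, 2, 12, 4, 6, 8, 11, 4, 6, 8, 10, 4, 6, 8, 4, 6, 4, 0, 10, 8, 10, 6, 21]⟩))
  (.node (nat_lit 3735) (.leaf ⟨8, 5, true, [10, 13, 8, 19, 6, 8, 18], [12, 0, 18, 8, 0, 18, 18, 8, 11, 6, 8, 11, 4, 6, 8, 11, 4, 6, 8, 4, 6, 4, 0, 8, 11, 13, 6, 8, 11, 24]⟩)
  (.leaf ⟨8, 5, true, [8, 18, 8, 19, 19, 8, 16], [19, 10, 6, 8, 19, 19, 2, 11, 8, 11, 4, 6, 8, 11, 4, 6, 8, 4, 6, 4, 11, 11, 25]⟩))))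
  (.node (nat_lit 3740) (.node (nat_lit 3738) (.node (nat_lit 3737) (.leaf ⟨5, 8, true, [13, 0, 19, 8, 16, 8, 6, 0, 18], [12, 2, 18, 8, 19, 8, 19, 2, 4, 6, 8, 10, 4, 6, 8, 11, 4, 6, 8, 4, 6, 4, 13, 10, 8, 11, 6, 8, 10, 20]⟩)
  (.leaf ⟨8, 5, true, [19, 19, 19, 15], [8, 18, 18, 18, 8, 18, 18, 10, 4, 6, 8, 11, 4, 6, 8, 11, 4, 6, 8, 4, 6, 4, 12, 10, 6, 8, 11, 25]⟩))
  (.node (nat_lit 3739) (.leaf ⟨5, 8, true, [10, 12, 19, 6, 8, 6, 18, 8, 6], [12, 0, 15, 8, 18, 18, 11, 8, 11, 6, 8, 10, 4, 6, 8, 4, 6, 4, 0, 11, 11, 6, 8, 11, 24]⟩)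
  (.leaf ⟨8, 5, true, [12, 16, 13, 8, 19, 8, 19, 2], [11, 8, 18, 10, 8, 18, 18, 10, 8, 10, 6, 4, 6, 8, 11, 4, 6, 8, 4, 6, 4, 12, 10, 8, 10, 6, 25]⟩)))
  (.node (nat_lit 3742) (.node (nat_lit 3741) (.leaf ⟨5, 8, true, [13, 19, 6, 8, 18, 8, 18, 11], [12, 18, 8, 6, 18, 8, 19, 2, 13, 4, 6, 8, 10, 4, 6, 8, 11, 4, 6, 8, 4, 6, 4, 12, 10, 6, 8, 10, 21]⟩)
  (.leaf ⟨3, 9, true, [6, 4, 6, 8, 19, 14, 6], []⟩))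
  (.node (nat_lit 3743) (.leaf ⟨9, 3, true, [], [0, 18, 18, 10, 10, 8, 6, 4, 6]⟩)
  (.leaf ⟨9, 9, false, [19, 19, 19, 2, 13, 8, 11, 4, 6, 8, 10, 4, 6, 8, 4, 6, 4, 10, 13, 8, 11, 6, 8, 10, 13], []⟩))))))

noncomputable def f3744 : FT := (.node (nat_lit 3760) (.node (nat_lit 3752) (.node (nat_lit 3748) (.node (nat_lit 3746) (.node (nat_lit 3745) (.leaf ⟨9, 9, false, [19, 19, 19, 2, 13, 8, 11, 6, 8, 4, 6, 4, 0, 11, 8, 11, 12, 6, 8, 11, 6, 13], []⟩)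
  (.leaf ⟨9, 6, true, [12, 10], [12, 8, 19, 8, 19, 8, 19, 2, 11, 8, 11, 12, 6, 8, 11, 4, 6, 8, 4, 6, 4, 0, 12, 8, 10, 6, 20]⟩))
  (.node (nat_lit 3747) (.leaf ⟨6, 9, true, [15, 19, 19, 19, 8, 16], [19, 19, 19, 2, 12, 10, 6, 8, 4, 6, 4, 11, 25]⟩)
  (.leaf ⟨9, 6, true, [11, 11], [8, 19, 19, 8, 19, 8, 19, 2, 4, 6, 8, 4, 6, 4, 12, 10, 6, 8, 10, 24]⟩)))
  (.node (nat_lit 3750) (.node (nat_lit 3749) (.leaf ⟨6, 9, true, [19, 19, 12, 8, 19, 2], [4, 6, 8, 11, 4, 6, 8, 11, 4, 6, 8, 4, 6, 4, 0, 8, 11, 13, 6, 8, 11, 23]⟩)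
  (.leaf ⟨9, 5, true, [15, 8, 11, 8, 16], [15, 0, 15, 8, 18, 18, 13, 8, 10, 6, 8, 4, 6, 4, 0, 8, 11, 12, 6, 8, 11, 6, 24]⟩))
  (.node (nat_lit 3751) (.leaf ⟨5, 9, true, [12, 15, 8, 19, 8, 19, 14, 8, 6], [2, 0, 18, 4, 6, 8, 11, 4, 6, 8, 11, 4, 6, 8, 4, 6, 4, 0, 11, 13, 6, 8, 11, 6, 12]⟩)
  (.leaf ⟨9, 6, true, [11, 13, 8, 10, 6], [2, 18, 8, 15, 19, 8, 19, 2, 12, 11, 8, 6, 4, 0, 12, 10, 6, 8, 11, 12]⟩))))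
  (.node (nat_lit 3756) (.node (nat_lit 3754) (.node (nat_lit 3753) (.leaf ⟨6, 9, true, [8, 19, 10, 6, 8, 6, 18, 8, 18], [19, 19, 19, 2, 11, 8, 4, 6, 4, 6, 8, 10, 8, 10, 22]⟩)
  (.leaf ⟨9, 6, true, [14, 8, 18, 18, 10, 6], [12, 0, 19, 8, 19, 8, 19, 2, 11, 8, 11, 6, 8, 4, 6, 4, 8, 11, 13, 6, 8, 10, 25]⟩))
  (.node (nat_lit 3755) (.leaf ⟨6, 9, true, [19, 19, 13, 10, 8, 19, 2], [12, 0, 15, 8, 18, 18, 12, 6, 8, 10, 4, 6, 8, 4, 6, 4, 0, 8, 11, 13, 6, 8, 10, 6, 23]⟩)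
  (.leaf ⟨9, 7, true, [14, 13, 10, 8, 16], [18, 8, 0, 19, 2, 13, 8, 10, 6, 8, 4, 6, 4, 0, 10, 13, 8, 11, 21]⟩)))
  (.node (nat_lit 3758) (.node (nat_lit 3757) (.leaf ⟨7, 9, true, [13, 16, 8, 0, 19, 8, 14, 6], [10, 6, 8, 10, 4, 6, 8, 11, 4, 6, 8, 4, 6, 4, 11, 12, 6, 8, 11, 21]⟩)
  (.leaf ⟨9, 6, true, [14, 12, 8, 0, 18], [0, 18, 8, 6, 18, 8, 19, 2, 10, 8, 11, 4, 6, 8, 11, 4, 6, 8, 4, 6, 4, 11, 8, 11, 6, 8, 11, 6, 13]⟩))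
  (.node (nat_lit 3759) (.leaf ⟨6, 9, true, [19, 14, 6, 18, 8, 19, 14], [0, 14, 10, 8, 18, 18, 10, 13, 4, 6, 8, 10, 4, 6, 8, 11, 4, 6, 8, 4, 6, 4, 10, 6, 8, 11, 6, 8, 10, 24]⟩)
  (.leaf ⟨9, 9, false, [15, 8, 18, 18, 10, 6, 8, 10, 4, 6, 8, 4, 6, 4, 13, 6, 8, 10, 6, 13], []⟩)))))
  (.node (nat_lit 3768) (.node (nat_lit 3764) (.node (nat_lit 3762) (.node (nat_lit 3761) (.leaf ⟨9, 8, true, [16, 8, 15, 8, 6], [6, 18, 12, 18, 8, 18, 18, 10, 10, 6, 8, 11, 4, 6, 8, 10, 4, 6, 8, 4, 6, 4, 8, 11, 13, 6, 8, 10, 23]⟩)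
  (.leaf ⟨8, 9, true, [19, 0, 14, 8, 6, 18, 8, 18], [19, 19, 19, 2, 10, 13, 8, 11, 6, 8, 4, 6, 4, 6, 20]⟩))
  (.node (nat_lit 3763) (.leaf ⟨9, 6, true, [12, 10, 8, 10, 6], [19, 13, 10, 8, 19, 8, 19, 2, 12, 8, 10, 6, 8, 11, 4, 6, 8, 4, 6, 4, 11, 11, 8, 11, 12]⟩)
  (.leaf ⟨6, 9, true, [0, 2, 18, 8, 19, 19, 14, 8, 6], [8, 11, 8, 11, 4, 6, 8, 4, 6, 4, 11, 11, 8, 11]⟩)))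
  (.node (nat_lit 3766) (.node (nat_lit 3765) (.leaf ⟨9, 5, true, [14, 10, 8, 16], [14, 8, 0, 18, 8, 18, 18, 6, 8, 11, 12, 4, 6, 8, 11, 4, 6, 8, 4, 6, 4, 10, 6, 8, 11, 6, 8, 10, 6, 21]⟩)
  (.leaf ⟨5, 9, true, [13, 0, 18, 8, 0, 18, 8, 18, 10], [19, 19, 19, 2, 10, 8, 10, 4, 6, 8, 10, 4, 6, 8, 4, 6, 4, 8, 11]⟩))
  (.node (nat_lit 3767) (.leaf ⟨9, 6, true, [19, 19, 19, 10, 8, 16], [12, 16, 8, 19, 8, 19, 2, 10, 8, 10, 4, 6, 8, 4, 6, 4, 8, 11, 13, 6, 8, 10, 21]⟩)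
  (.leaf ⟨6, 9, true, [18, 8, 0, 19, 10, 6, 8, 19, 16], [19, 19, 0, 2, 8, 10, 12, 6, 8, 10, 4, 6, 8, 4, 6, 4, 13, 11, 8, 11, 21]⟩))))
  (.node (nat_lit 3772) (.node (nat_lit 3770) (.node (nat_lit 3769) (.leaf ⟨9, 9, true, [8, 14, 18, 18, 6], [15, 18, 8, 19, 2, 11, 6, 8, 11, 4, 6, 8, 10, 4, 6, 8, 4, 6, 4, 13, 8, 11, 21]⟩)
  (.leaf ⟨6, 9, true, [15, 0, 15, 12, 8, 18, 8, 18], [6, 18, 18, 8, 19, 2, 10, 4, 6, 8, 11, 4, 6, 8, 4, 6, 4, 0, 6, 8, 11, 6, 8, 10, 6, 12]⟩))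
  (.node (nat_lit 3771) (.leaf ⟨9, 6, true, [19, 19, 6, 8, 18, 8, 6], [19, 10, 10, 8, 19, 8, 19, 2, 12, 4, 6, 8, 10, 4, 6, 8, 11, 4, 6, 8, 4, 6, 4, 11, 8, 10, 6, 8, 10, 23]⟩)
  (.leaf ⟨6, 9, true, [16, 8, 6, 18, 10], [13, 8, 10, 6, 8, 4, 6, 4, 8, 10, 8, 10, 6, 20]⟩)))
  (.node (nat_lit 3774) (.node (nat_lit 3773) (.leaf ⟨9, 6, true, [8, 11, 8, 6], [8, 0, 19, 2, 10, 10, 8, 4, 6, 4, 12, 6, 8, 11, 6, 22]⟩)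
  (.leaf ⟨6, 9, true, [19, 15, 19, 12, 8, 19, 8, 16, 10], [11, 13, 8, 10, 4, 6, 8, 4, 6, 4, 11, 8, 10, 6, 8, 10, 6, 22]⟩))
  (.node (nat_lit 3775) (.leaf ⟨9, 6, true, [15, 8, 16], [6, 18, 8, 19, 8, 19, 2, 10, 8, 11, 4, 6, 8, 11, 4, 6, 8, 4, 6, 4, 8, 11, 13, 6, 8, 11, 20]⟩)
  (.leaf ⟨6, 9, true, [12, 6, 8, 6, 18, 8, 18, 10], [8, 10, 8, 19, 0, 2, 11, 8, 6, 4, 11, 11, 6]⟩))))))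

noncomputable def f3776 : FT := (.node (nat_lit 3792) (.node (nat_lit 3784) (.node (nat_lit 3780) (.node (nat_lit 3778) (.node (nat_lit 3777) (.leaf ⟨9, 6, true, [6, 18, 8, 18, 8, 19, 2], [0, 14, 10, 8, 18, 0, 18, 12, 11, 8, 6, 4, 13, 8, 10, 6, 24]⟩)
  (.leaf ⟨6, 9, true, [19, 6, 8, 19, 19, 14], [8, 18, 8, 0, 19, 2, 12, 11, 8, 6, 4, 0, 12, 10, 6, 8, 11, 13]⟩))
  (.node (nat_lit 3779) (.leaf ⟨9, 6, true, [19, 19, 19, 14, 8, 6], [6, 18, 8, 19, 8, 19, 2, 8, 11, 6, 8, 11, 6, 4, 6, 8, 11, 4, 6, 8, 4, 6, 4, 8, 10, 8, 10, 6, 8, 10, 22]⟩)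
  (.leaf ⟨6, 9, true, [4, 6, 8, 6, 18, 10], [10, 4, 6, 8, 4, 6, 4, 0, 8, 10, 6, 8, 11, 25]⟩)))
  (.node (nat_lit 3782) (.node (nat_lit 3781) (.leaf ⟨9, 6, true, [8, 16, 14], [18, 12, 14, 8, 18, 18, 10, 13, 6, 8, 10, 4, 6, 8, 4, 6, 4, 12, 10, 6, 20]⟩)
  (.leaf ⟨6, 9, true, [12, 11, 8, 19, 8, 19, 14, 10], [12, 0, 14, 8, 18, 18, 6, 8, 10, 12, 4, 6, 8, 10, 4, 6, 8, 4, 6, 4, 12, 8, 11, 6, 22]⟩))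
  (.node (nat_lit 3783) (.leaf ⟨9, 6, true, [6, 18, 8, 0, 18, 10, 8, 6], [12, 10, 8, 19, 0, 2, 12, 10, 4, 6, 8, 4, 6, 4, 0, 12, 10, 8, 10, 6, 8, 10, 20]⟩)
  (.leaf ⟨6, 9, true, [12, 0, 19, 13, 8, 19, 10, 8, 16], [0, 14, 8, 18, 18, 12, 8, 10, 4, 6, 8, 4, 6, 4, 6, 8, 10, 8, 10, 23]⟩))))
  (.node (nat_lit 3788) (.node (nat_lit 3786) (.node (nat_lit 3785) (.leaf ⟨9, 6, true, [15, 19, 12, 19, 8, 19, 2], [18, 18, 10, 10, 8, 18, 18, 12, 11, 6, 8, 10, 4, 6, 8, 4, 6, 4, 13, 6, 8, 10, 12]⟩)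
  (.leaf ⟨9, 9, false, [4, 6, 18, 8, 19, 8, 19, 2, 12, 11, 8, 11, 6, 8, 4, 6, 4, 10, 8, 11, 6, 8, 11, 6, 24], []⟩))
  (.node (nat_lit 3787) (.leaf ⟨9, 6, true, [14, 4, 6, 8, 18, 12, 18, 8, 6], [0, 19, 19, 14, 8, 19, 0, 2, 6, 4, 6, 8, 10, 6, 8, 11, 4, 6, 8, 4, 6, 4, 0, 13, 10, 8, 10, 20]⟩)
  (.leaf ⟨6, 9, true, [8, 18, 12, 18, 8, 18], [12, 0, 19, 8, 19, 8, 0, 19, 2, 4, 6, 8, 11, 8, 11, 4, 6, 8, 4, 6, 4, 12, 11, 8, 10, 20]⟩)))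
  (.node (nat_lit 3790) (.node (nat_lit 3789) (.leaf ⟨9, 7, true, [18, 13, 18, 8, 18, 10], [18, 0, 19, 8, 19, 8, 19, 2, 13, 11, 4, 6, 8, 11, 4, 6, 8, 4, 6, 4, 6, 8, 10, 21]⟩)
  (.leaf ⟨7, 9, true, [18, 10, 8, 18, 8, 0, 18], [8, 18, 12, 18, 8, 0, 18, 18, 13, 8, 11, 6, 21]⟩))
  (.node (nat_lit 3791) (.leaf ⟨9, 6, true, [11, 8, 0, 18, 8, 18, 8, 18, 10, 10], [18, 12, 18, 8, 18, 18, 4, 6, 8, 11, 4, 6, 8, 4, 6, 4, 10, 13, 8, 10, 12]⟩)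
  (.leaf ⟨6, 9, true, [18, 18, 18, 8, 16, 14, 8, 19, 19, 2], [19, 8, 15, 19, 10, 8, 19, 2, 12, 11, 4, 6, 8, 10, 4, 6, 8, 4, 6, 4, 0, 8, 11, 6]⟩)))))
  (.node (nat_lit 3800) (.node (nat_lit 3796) (.node (nat_lit 3794) (.node (nat_lit 3793) (.leaf ⟨9, 7, true, [15, 8, 16, 8, 19, 8, 19, 2], [15, 0, 15, 8, 18, 18, 11, 11, 8, 11, 6, 8, 11, 4, 6, 8, 4, 6, 4, 8, 11, 22]⟩)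
  (.leaf ⟨7, 9, true, [18, 10, 8, 18, 8, 18, 8, 19, 19, 2], [15, 18, 8, 19, 2, 10, 10, 4, 6, 8, 4, 6, 4, 0, 10, 8, 10, 22]⟩))
  (.node (nat_lit 3795) (.leaf ⟨9, 5, true, [13, 18, 14, 8, 19, 8, 19, 14], [0, 19, 15, 8, 19, 8, 19, 2, 12, 11, 8, 11, 4, 6, 8, 4, 6, 4, 11, 13, 8, 10, 23]⟩)
  (.leaf ⟨5, 9, true, [6, 18, 8, 19, 14, 10, 8, 6], [8, 18, 8, 0, 19, 2, 10, 10, 4, 6, 8, 10, 4, 6, 8, 4, 6, 4, 10, 12, 8, 11, 6, 23]⟩)))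
  (.node (nat_lit 3798) (.node (nat_lit 3797) (.leaf ⟨9, 7, true, [12, 10, 8, 19, 8, 6, 2], [15, 8, 18, 18, 11, 13, 8, 10, 6, 8, 11, 4, 6, 8, 4, 6, 4, 8, 10, 13, 6, 8, 10, 13]⟩)
  (.leaf ⟨7, 9, true, [8, 18, 8, 14, 8, 19, 19, 2], [19, 13, 16, 8, 19, 8, 19, 2, 11, 8, 4, 6, 4, 11, 11, 6]⟩))
  (.node (nat_lit 3799) (.leaf ⟨9, 5, true, [13, 14, 8, 19, 6, 8, 19, 6, 2], [19, 16, 8, 19, 6, 8, 18, 18, 10, 10, 6, 8, 11, 4, 6, 8, 10, 4, 6, 8, 4, 6, 4, 0, 6, 8, 10, 8, 10, 25]⟩)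
  (.leaf ⟨5, 9, true, [8, 15, 13, 19, 8, 19, 8, 16, 10], [0, 18, 8, 6, 18, 8, 19, 2, 10, 8, 11, 6, 8, 10, 4, 6, 8, 4, 6, 4, 8, 11, 8, 11, 6, 22]⟩))))
  (.node (nat_lit 3804) (.node (nat_lit 3802) (.node (nat_lit 3801) (.leaf ⟨5, 9, true, [6, 18, 18, 8, 19, 8, 19, 8, 16], [8, 18, 8, 0, 19, 2, 11, 6, 8, 11, 4, 6, 8, 4, 6, 4, 8, 10, 13, 6, 8, 10, 25]⟩)
  (.leaf ⟨9, 5, true, [10, 8, 18, 12, 8, 0, 18], [0, 14, 18, 8, 0, 18, 18, 11, 13, 6, 8, 11, 4, 6, 8, 4, 6, 4, 0, 11, 8, 10, 6, 8, 11, 24]⟩))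
  (.node (nat_lit 3803) (.leaf ⟨6, 9, true, [8, 18, 12, 8, 0, 18], [0, 15, 18, 8, 19, 2, 12, 8, 11, 4, 6, 8, 10, 4, 6, 8, 4, 6, 4, 0, 12, 10, 6, 8, 11, 24]⟩)
  (.leaf ⟨9, 6, true, [6, 18, 8, 0, 18, 8, 6], [2, 19, 12, 19, 8, 19, 2, 11, 8, 4, 6, 4, 10, 10, 6, 23]⟩)))
  (.node (nat_lit 3806) (.node (nat_lit 3805) (.leaf ⟨6, 9, true, [14, 8, 0, 19, 8, 19, 12, 8, 16], [12, 6, 18, 8, 18, 18, 6, 8, 11, 4, 6, 8, 10, 4, 6, 8, 4, 6, 4, 0, 12, 10, 6, 8, 11, 24]⟩)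
  (.leaf ⟨9, 6, true, [13, 6, 18, 8, 0, 18], [18, 10, 8, 19, 8, 19, 2, 11, 11, 8, 10, 4, 6, 8, 11, 4, 6, 8, 4, 6, 4, 8, 11, 6, 23]⟩))
  (.node (nat_lit 3807) (.leaf ⟨9, 9, true, [11, 8, 10, 6], [8, 10, 4, 6, 8, 4, 6, 4, 12, 11, 6, 8, 10, 12]⟩)
  (.leaf ⟨9, 6, true, [14, 10, 8, 19, 19, 15], [18, 12, 8, 19, 6, 8, 18, 18, 11, 6, 4, 6, 8, 11, 4, 6, 8, 4, 6, 4, 8, 11, 11, 6, 8, 11, 21]⟩))))))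

noncomputable def f3808 : FT := (.node (nat_lit 3824) (.node (nat_lit 3816) (.node (nat_lit 3812) (.node (nat_lit 3810) (.node (nat_lit 3809) (.leaf ⟨6, 9, true, [14, 8, 0, 18, 8, 18, 8, 6, 18], [18, 12, 8, 0, 19, 8, 19, 2, 6, 8, 10, 6, 8, 11, 4, 6, 8, 4, 6, 4, 10, 6, 8, 11, 6, 8, 10, 21]⟩)
  (.leaf ⟨9, 6, true, [0, 14, 10, 8, 18, 8, 18, 11], [8, 6, 18, 8, 19, 0, 2, 13, 10, 8, 11, 6, 8, 10, 4, 6, 8, 4, 6, 4, 10, 10, 24]⟩))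
  (.node (nat_lit 3811) (.leaf ⟨6, 9, true, [18, 10, 8, 18, 8, 0, 18, 10], [13, 18, 8, 18, 8, 18, 18, 11, 11, 4, 6, 8, 4, 6, 4, 0, 10, 8, 11, 23]⟩)
  (.leaf ⟨9, 6, true, [0, 15, 12, 18, 8, 19, 14, 8, 6], [0, 14, 6, 8, 18, 18, 11, 8, 10, 4, 6, 8, 10, 4, 6, 8, 4, 6, 4, 0, 10, 10]⟩)))
  (.node (nat_lit 3814) (.node (nat_lit 3813) (.leaf ⟨6, 9, true, [18, 18, 8, 6, 18, 8, 18, 10, 10], [14, 8, 18, 18, 10, 8, 19, 2, 4, 6, 8, 10, 13, 4, 6, 8, 10, 4, 6, 8, 4, 6, 4, 11, 12, 8, 10, 13]⟩)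
  (.leaf ⟨9, 6, true, [14, 13, 8, 18, 8, 6, 18], [8, 10, 6, 8, 19, 19, 2, 13, 6, 8, 10, 4, 6, 8, 4, 6, 4, 0, 12, 10, 8, 10, 6, 8, 10, 25]⟩))
  (.node (nat_lit 3815) (.leaf ⟨6, 9, true, [10, 8, 18, 8, 18, 11], [6, 8, 18, 8, 19, 19, 2, 10, 10, 6, 8, 11, 4, 6, 8, 11, 4, 6, 8, 4, 6, 4, 11, 8, 10, 6, 8, 11, 6, 23]⟩)
  (.leaf ⟨9, 6, true, [14, 10, 8, 18, 8, 18, 11], [15, 12, 0, 19, 8, 19, 8, 19, 2, 4, 6, 8, 10, 8, 10, 4, 6, 8, 4, 6, 4, 10, 13, 8, 11, 20]⟩))))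
  (.node (nat_lit 3820) (.node (nat_lit 3818) (.node (nat_lit 3817) (.leaf ⟨6, 9, true, [6, 8, 19, 6, 8, 19, 6, 2], [12, 8, 2, 18, 8, 18, 18, 13, 10, 4, 6, 8, 11, 4, 6, 8, 4, 6, 4, 13, 11, 8, 10, 6, 8, 11, 22]⟩)
  (.leaf ⟨9, 6, true, [0, 15, 12, 18, 8, 19, 14, 6], [0, 19, 2, 19, 8, 19, 2, 10, 4, 6, 8, 10, 4, 6, 8, 4, 6, 4, 0, 8, 11, 8, 11, 6, 24]⟩))
  (.node (nat_lit 3819) (.leaf ⟨6, 9, true, [13, 15, 8, 19, 6, 8, 19, 14, 6], [13, 10, 8, 0, 19, 8, 19, 2, 6, 8, 11, 6, 8, 10, 4, 6, 8, 10, 4, 6, 8, 4, 6, 4, 11, 8, 10, 6, 8, 10, 6, 12]⟩)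
  (.leaf ⟨9, 6, true, [14, 10, 8, 18, 10, 8, 18], [0, 18, 8, 18, 8, 18, 18, 10, 13, 8, 11, 6, 8, 4, 6, 4, 0, 10, 8, 11, 6, 8, 10]⟩)))
  (.node (nat_lit 3822) (.node (nat_lit 3821) (.leaf ⟨6, 9, true, [18, 18, 8, 15, 8, 18, 8, 18, 10], [8, 15, 12, 18, 8, 18, 18, 8, 11, 8, 11, 4, 6, 8, 11, 4, 6, 8, 4, 6, 4, 8, 11, 6, 8, 11, 22]⟩)
  (.leaf ⟨9, 6, true, [13, 8, 15, 18, 8, 19, 6, 2], [18, 8, 16, 8, 19, 19, 2, 12, 6, 8, 11, 4, 6, 8, 4, 6, 4, 13, 6, 8, 10, 6, 20]⟩))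
  (.node (nat_lit 3823) (.leaf ⟨6, 9, true, [8, 15, 18, 18, 8, 16, 8, 19, 16], [19, 10, 10, 8, 19, 8, 19, 2, 10, 10, 4, 6, 8, 11, 4, 6, 8, 4, 6, 4, 12, 10, 8, 10, 6, 20]⟩)
  (.leaf ⟨9, 6, true, [10, 12, 8, 6, 18, 8, 19, 6, 2], [12, 11, 8, 19, 2, 12, 10, 8, 6, 4, 6, 21]⟩)))))
  (.node (nat_lit 3832) (.node (nat_lit 3828) (.node (nat_lit 3826) (.node (nat_lit 3825) (.leaf ⟨6, 9, true, [18, 2, 18, 8, 19, 14, 6], [13, 10, 8, 18, 8, 18, 18, 10, 6, 8, 10, 4, 6, 8, 11, 4, 6, 8, 4, 6, 4, 8, 10, 12, 6, 8, 10, 22]⟩)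
  (.leaf ⟨9, 6, true, [15, 19, 12, 6, 8, 18, 8, 18], [6, 18, 8, 2, 18, 18, 10, 8, 10, 6, 8, 10, 4, 6, 8, 4, 6, 4, 0, 8, 11, 8, 11, 6]⟩))
  (.node (nat_lit 3827) (.leaf ⟨6, 9, true, [2, 18, 8, 6, 18, 10, 8, 18], [10, 12, 8, 19, 8, 0, 19, 2, 12, 11, 4, 6, 8, 10, 4, 6, 8, 4, 6, 4, 13, 8, 11, 6, 25]⟩)
  (.leaf ⟨9, 6, true, [6, 8, 14, 6, 8, 19, 19, 2], [19, 8, 19, 8, 19, 8, 19, 2, 6, 8, 11, 13, 4, 6, 8, 10, 4, 6, 8, 4, 6, 4, 10, 13, 6, 8, 10, 13]⟩)))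
  (.node (nat_lit 3830) (.node (nat_lit 3829) (.leaf ⟨6, 9, true, [15, 0, 18, 12, 8, 18, 8, 18], [8, 18, 18, 10, 8, 19, 2, 4, 6, 8, 11, 12, 4, 6, 8, 11, 4, 6, 8, 4, 6, 4, 11, 13, 8, 10, 6, 8, 11, 25]⟩)
  (.leaf ⟨9, 6, true, [6, 18, 13, 8, 18, 14, 8, 0, 18], [18, 8, 15, 18, 14, 8, 18, 18, 4, 6, 8, 10, 4, 6, 8, 10, 4, 6, 8, 4, 6, 4, 10, 10, 6, 20]⟩))
  (.node (nat_lit 3831) (.leaf ⟨6, 9, true, [19, 19, 12, 8, 16, 8, 19, 19, 15], [19, 11, 8, 19, 2, 11, 8, 10, 6, 8, 11, 4, 6, 8, 4, 6, 4, 0, 12, 6, 8, 11, 6, 25]⟩)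
  (.leaf ⟨9, 6, true, [13, 18, 14, 18, 8, 19, 14, 6], [2, 12, 10, 4, 6, 8, 10, 4, 6, 8, 4, 6, 4, 8, 10, 6, 8, 11, 6, 24]⟩))))
  (.node (nat_lit 3836) (.node (nat_lit 3834) (.node (nat_lit 3833) (.leaf ⟨6, 9, true, [15, 8, 0, 19, 8, 10, 6, 8, 18], [8, 14, 0, 19, 11, 8, 19, 2, 10, 4, 6, 8, 11, 6, 8, 10, 4, 6, 8, 4, 6, 4, 8, 10, 8, 10, 6, 8, 10, 22]⟩)
  (.leaf ⟨9, 6, true, [0, 2, 18, 8, 6, 0, 18, 8, 6], [8, 14, 0, 19, 11, 8, 19, 2, 11, 8, 10, 6, 8, 10, 4, 6, 8, 4, 6, 4, 8, 11, 12, 6, 8, 11, 6, 25]⟩))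
  (.node (nat_lit 3835) (.leaf ⟨6, 9, true, [18, 12, 18, 13, 8, 18, 8, 18, 10], [0, 19, 2, 11, 6, 4, 6, 8, 11, 6, 8, 10, 4, 6, 8, 4, 6, 4, 11, 8, 11, 12, 6, 8, 11, 25]⟩)
  (.leaf ⟨9, 6, true, [13, 18, 8, 19, 19, 15, 8, 6], [19, 19, 8, 19, 8, 19, 2, 8, 10, 4, 6, 8, 11, 4, 6, 8, 4, 6, 4, 0, 10, 8, 10, 6, 20]⟩)))
  (.node (nat_lit 3838) (.node (nat_lit 3837) (.leaf ⟨6, 9, true, [19, 6, 8, 18, 4, 14, 8, 6], [15, 18, 8, 18, 18, 11, 13, 8, 10, 4, 6, 8, 11, 4, 6, 8, 4, 6, 4, 12, 6, 8, 11, 6, 22]⟩)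
  (.leaf ⟨9, 6, true, [13, 8, 18, 8, 6, 18, 10], [8, 19, 10, 8, 19, 2, 11, 6, 8, 11, 6, 4, 6, 8, 11, 4, 6, 8, 4, 6, 4, 11, 11, 6, 8, 11, 20]⟩))
  (.node (nat_lit 3839) (.leaf ⟨6, 9, true, [19, 8, 15, 19, 10, 8, 19, 2], [19, 19, 8, 0, 19, 2, 13, 8, 11, 6, 8, 4, 6, 4, 0, 13, 11, 8, 10, 6, 8, 11, 21]⟩)
  (.leaf ⟨9, 5, true, [8, 15, 19, 8, 0, 19, 8, 16, 10], [19, 14, 10, 8, 19, 0, 2, 12, 6, 8, 10, 4, 6, 8, 10, 4, 6, 8, 4, 6, 4, 8, 10, 12, 6, 8, 10, 21]⟩))))))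

noncomputable def f3840 : FT := (.node (nat_lit 3856) (.node (nat_lit 3848) (.node (nat_lit 3844) (.node (nat_lit 3842) (.node (nat_lit 3841) (.leaf ⟨5, 9, true, [11, 8, 18, 8, 19, 8, 6, 2], [19, 19, 8, 6, 18, 8, 19, 2, 10, 12, 8, 11, 4, 6, 8, 4, 6, 4, 0, 13, 8, 11, 6, 8, 10, 23]⟩)
  (.leaf ⟨9, 6, true, [8, 18, 14, 8, 18, 8, 18, 10], [12, 8, 18, 8, 18, 18, 8, 11, 6, 8, 11, 4, 6, 8, 4, 6, 4, 0, 11, 13, 6, 8, 11, 25]⟩))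
  (.node (nat_lit 3843) (.leaf ⟨6, 9, true, [8, 0, 18, 18, 8, 18, 8, 6, 18], [8, 15, 18, 8, 2, 18, 18, 13, 4, 6, 8, 11, 4, 6, 8, 4, 6, 4, 0, 13, 11, 6, 8, 11, 20]⟩)
  (.leaf ⟨9, 6, true, [10, 12, 8, 6, 18, 8, 19, 2], [15, 8, 0, 19, 8, 19, 2, 12, 6, 8, 10, 4, 6, 8, 4, 6, 4, 8, 11, 6, 8, 10, 6, 13]⟩)))
  (.node (nat_lit 3846) (.node (nat_lit 3845) (.leaf ⟨6, 9, true, [18, 18, 10, 8, 19, 8, 6, 2], [14, 6, 8, 18, 8, 19, 19, 2, 10, 8, 11, 4, 6, 8, 11, 4, 6, 8, 4, 6, 4, 0, 10, 13, 8, 11]⟩)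
  (.leaf ⟨9, 6, true, [12, 10, 6, 8, 19, 8, 19, 2], [0, 14, 12, 8, 18, 8, 18, 18, 11, 8, 11, 6, 8, 10, 4, 6, 8, 4, 6, 4, 12, 8, 11, 20]⟩))
  (.node (nat_lit 3847) (.leaf ⟨6, 9, true, [13, 19, 8, 19, 14, 8, 6], [10, 8, 19, 0, 2, 10, 10, 4, 6, 8, 4, 6, 4, 0, 10, 8, 10, 10, 6, 8, 11, 21]⟩)
  (.leaf ⟨9, 6, true, [13, 10, 6, 8, 19, 8, 19, 14], [19, 13, 16, 8, 19, 8, 19, 2, 6, 8, 10, 8, 10, 4, 6, 8, 4, 6, 4, 12, 8, 10]⟩))))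
  (.node (nat_lit 3852) (.node (nat_lit 3850) (.node (nat_lit 3849) (.leaf ⟨6, 9, true, [13, 8, 19, 8, 19, 8, 19, 14], [12, 0, 15, 8, 18, 18, 11, 13, 8, 10, 6, 8, 4, 6, 4, 12, 8, 10, 6, 8, 10, 24]⟩)
  (.leaf ⟨9, 6, true, [0, 2, 18, 8, 18, 14, 8, 0, 18], [8, 15, 8, 19, 8, 0, 19, 2, 11, 12, 8, 10, 6, 8, 11, 4, 6, 8, 4, 6, 4, 8, 10, 6, 8, 11, 20]⟩))
  (.node (nat_lit 3851) (.leaf ⟨6, 9, true, [12, 8, 19, 6, 8, 6, 18], [8, 19, 19, 12, 19, 8, 19, 2, 11, 6, 8, 10, 13, 4, 6, 8, 10, 4, 6, 8, 4, 6, 4, 11, 13, 8, 10, 6, 8, 11, 20]⟩)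
  (.leaf ⟨9, 6, true, [14, 8, 19, 14, 6, 8, 19, 19, 15], [14, 8, 0, 19, 8, 19, 2, 11, 6, 8, 10, 4, 6, 8, 10, 4, 6, 8, 4, 6, 4, 12, 6, 8, 10, 23]⟩)))
  (.node (nat_lit 3854) (.node (nat_lit 3853) (.leaf ⟨6, 9, true, [18, 18, 13, 8, 18, 8, 4, 14, 6], [0, 19, 10, 10, 8, 19, 2, 10, 4, 6, 8, 10, 4, 6, 8, 4, 6, 4, 13, 10, 6, 8, 11, 20]⟩)
  (.leaf ⟨9, 6, true, [8, 18, 10, 8, 18, 8, 4, 14, 6], [13, 18, 8, 0, 19, 8, 19, 2, 4, 6, 8, 11, 8, 11, 4, 6, 8, 10, 4, 6, 8, 4, 6, 4, 10, 8, 11, 13, 6, 8, 10, 21]⟩))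
  (.node (nat_lit 3855) (.leaf ⟨6, 9, true, [11, 8, 18, 8, 18, 8, 18, 12, 10], [16, 8, 0, 19, 8, 19, 2, 10, 4, 6, 8, 10, 4, 6, 8, 11, 4, 6, 8, 4, 6, 4, 8, 10, 10, 6, 8, 11, 24]⟩)
  (.leaf ⟨9, 6, true, [12, 8, 18, 8, 19, 8, 19, 14], [12, 11, 8, 0, 19, 8, 19, 2, 4, 6, 8, 10, 10, 4, 6, 8, 10, 4, 6, 8, 4, 6, 4, 10, 10, 21]⟩)))))
  (.node (nat_lit 3864) (.node (nat_lit 3860) (.node (nat_lit 3858) (.node (nat_lit 3857) (.leaf ⟨6, 9, true, [18, 18, 8, 18, 8, 18, 11], [0, 19, 8, 19, 14, 8, 19, 0, 2, 10, 10, 6, 8, 11, 4, 6, 8, 4, 6, 4, 6, 8, 10, 6, 8, 11, 6, 20]⟩)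
  (.leaf ⟨9, 6, true, [10, 12, 0, 19, 8, 19, 8, 14, 6], [0, 19, 8, 19, 8, 19, 2, 8, 11, 4, 6, 8, 10, 4, 6, 8, 4, 6, 4, 0, 8, 11, 21]⟩))
  (.node (nat_lit 3859) (.leaf ⟨6, 9, true, [12, 19, 8, 16, 8, 6, 18, 10], [8, 19, 6, 18, 8, 19, 2, 10, 6, 8, 10, 4, 6, 8, 11, 4, 6, 8, 4, 6, 4, 0, 11, 11, 8, 11, 6, 8, 11]⟩)
  (.leaf ⟨9, 6, true, [16, 8, 15, 19, 6, 8, 19, 16], [19, 8, 15, 19, 10, 8, 19, 2, 11, 8, 11, 12, 6, 8, 11, 4, 6, 8, 4, 6, 4, 0, 8, 10, 12, 6, 8, 10, 13]⟩)))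
  (.node (nat_lit 3862) (.node (nat_lit 3861) (.leaf ⟨6, 9, true, [0, 19, 13, 6, 8, 18, 8, 18], [8, 6, 18, 10, 8, 19, 2, 13, 10, 8, 11, 6, 8, 10, 4, 6, 8, 4, 6, 4, 11, 12, 6, 8, 11, 20]⟩)
  (.leaf ⟨9, 6, true, [0, 19, 12, 19, 8, 16, 8, 19, 6, 2], [8, 4, 6, 18, 8, 19, 2, 8, 11, 13, 6, 8, 11, 4, 6, 8, 10, 4, 6, 8, 4, 6, 4, 11, 8, 11, 6, 8, 10, 6, 12]⟩))
  (.node (nat_lit 3863) (.leaf ⟨6, 9, true, [15, 0, 19, 8, 19, 8, 19, 8, 16], [0, 2, 18, 8, 0, 18, 18, 4, 6, 8, 4, 6, 4, 8, 11, 12, 6, 8, 11, 12]⟩)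
  (.leaf ⟨9, 6, true, [0, 19, 8, 0, 19, 8, 19, 8, 6, 2], [8, 18, 18, 8, 19, 8, 19, 2, 10, 8, 10, 4, 6, 8, 11, 4, 6, 8, 4, 6, 4, 8, 11, 11, 6, 8, 11, 20]⟩))))
  (.node (nat_lit 3868) (.node (nat_lit 3866) (.node (nat_lit 3865) (.leaf ⟨6, 9, true, [18, 18, 12, 18, 8, 19, 14, 6], [18, 8, 19, 8, 19, 2, 6, 8, 10, 13, 4, 6, 8, 10, 4, 6, 8, 4, 6, 4, 13, 8, 11]⟩)
  (.leaf ⟨9, 6, true, [13, 18, 8, 4, 14, 6], [18, 18, 18, 18, 8, 19, 2, 10, 12, 8, 11, 4, 6, 8, 4, 6, 4, 0, 12, 10, 25]⟩))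
  (.node (nat_lit 3867) (.leaf ⟨6, 9, true, [8, 18, 10, 10, 8, 18], [0, 14, 18, 8, 18, 18, 4, 6, 8, 10, 8, 10, 4, 6, 8, 10, 4, 6, 8, 4, 6, 4, 12, 8, 10, 6, 21]⟩)
  (.leaf ⟨9, 6, true, [15, 18, 18, 8, 6, 18], [10, 6, 8, 19, 8, 19, 2, 12, 8, 10, 6, 8, 11, 4, 6, 8, 4, 6, 4, 6, 8, 11, 8, 11, 13]⟩)))
  (.node (nat_lit 3870) (.node (nat_lit 3869) (.leaf ⟨6, 9, true, [18, 18, 8, 19, 14, 6], [8, 14, 18, 18, 8, 19, 2, 4, 6, 8, 10, 4, 6, 8, 10, 4, 6, 8, 4, 6, 4, 0, 10, 10, 6, 8, 11, 21]⟩)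
  (.leaf ⟨9, 6, true, [14, 8, 19, 10, 6, 8, 19, 6, 2], [8, 0, 15, 18, 8, 0, 18, 18, 13, 8, 10, 4, 6, 8, 4, 6, 4, 13, 10, 8, 10, 6, 8, 10, 13]⟩))
  (.node (nat_lit 3871) (.leaf ⟨6, 9, true, [6, 18, 18, 8, 19, 12, 8, 16], [14, 6, 8, 18, 18, 11, 8, 11, 4, 6, 8, 4, 6, 4, 12, 11, 8, 11, 20]⟩)
  (.leaf ⟨9, 6, true, [18, 11, 8, 6, 18, 8, 19, 16], [8, 0, 18, 18, 10, 8, 19, 2, 6, 8, 11, 6, 4, 6, 8, 10, 4, 6, 8, 4, 6, 4, 11, 8, 10, 6, 21]⟩))))))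

noncomputable def f3872 : FT := (.node (nat_lit 3888) (.node (nat_lit 3880) (.node (nat_lit 3876) (.node (nat_lit 3874) (.node (nat_lit 3873) (.leaf ⟨6, 9, true, [10, 8, 16, 8, 19, 16], [14, 8, 19, 8, 19, 2, 13, 8, 11, 4, 6, 8, 4, 6, 4, 0, 10, 6, 8, 10, 6, 8, 11, 25]⟩)
  (.leaf ⟨9, 7, true, [19, 0, 14, 8, 6, 18, 8, 19, 6, 2], [10, 8, 18, 8, 18, 18, 10, 6, 8, 10, 6, 8, 4, 6, 4, 0, 8, 11, 13, 6, 8, 11, 23]⟩))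
  (.node (nat_lit 3875) (.leaf ⟨7, 9, true, [8, 19, 8, 10, 8, 19, 8, 16], [8, 18, 6, 8, 19, 8, 19, 2, 11, 13, 6, 8, 11, 4, 6, 8, 10, 4, 6, 8, 4, 6, 4, 8, 11, 6, 8, 10, 6, 13]⟩)
  (.leaf ⟨9, 6, true, [19, 10, 12, 0, 19, 8, 19, 8, 6, 2], [8, 0, 19, 12, 19, 8, 0, 19, 2, 11, 4, 6, 8, 11, 4, 6, 8, 11, 4, 6, 8, 4, 6, 4, 0, 10, 8, 11, 6, 25]⟩)))
  (.node (nat_lit 3878) (.node (nat_lit 3877) (.leaf ⟨6, 9, true, [0, 15, 12, 18, 8, 6, 0, 18], [18, 14, 8, 19, 19, 2, 13, 11, 8, 10, 6, 8, 10, 4, 6, 8, 4, 6, 4, 8, 11, 11, 6, 8, 11, 21]⟩)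
  (.leaf ⟨9, 6, true, [10, 8, 18, 8, 6, 18, 8, 18], [19, 19, 11, 8, 19, 2, 10, 6, 4, 6, 8, 11, 4, 6, 8, 4, 6, 4, 11, 12, 8, 10, 13]⟩))
  (.node (nat_lit 3879) (.leaf ⟨6, 9, true, [0, 19, 19, 8, 19, 12, 8, 16], [10, 8, 4, 6, 18, 8, 19, 2, 8, 11, 12, 4, 6, 8, 11, 4, 6, 8, 4, 6, 4, 8, 11, 8, 11, 6]⟩)
  (.leaf ⟨9, 6, true, [2, 19, 6, 8, 19, 16], [10, 6, 8, 0, 19, 8, 19, 2, 12, 10, 6, 8, 4, 6, 4, 10, 6, 8, 11, 25]⟩))))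
  (.node (nat_lit 3884) (.node (nat_lit 3882) (.node (nat_lit 3881) (.leaf ⟨6, 9, true, [18, 10, 8, 19, 12, 19, 8, 16], [12, 8, 18, 8, 18, 18, 10, 6, 8, 10, 4, 6, 8, 11, 4, 6, 8, 4, 6, 4, 11, 13, 6, 8, 10, 21]⟩)
  (.leaf ⟨9, 6, true, [18, 18, 18, 10, 8, 6, 18, 8, 6], [0, 15, 12, 18, 8, 18, 18, 11, 8, 10, 6, 8, 10, 4, 6, 8, 4, 6, 4, 10, 6, 8, 10, 22]⟩))
  (.node (nat_lit 3883) (.leaf ⟨6, 9, true, [18, 18, 8, 15, 8, 18, 8, 18], [10, 8, 4, 6, 18, 8, 19, 2, 11, 6, 8, 11, 4, 6, 8, 10, 4, 6, 8, 4, 6, 4, 13, 8, 11, 6, 8, 10, 20]⟩)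
  (.leaf ⟨9, 6, true, [15, 18, 14, 8, 18, 8, 18], [19, 19, 8, 0, 19, 2, 8, 10, 8, 10, 4, 6, 8, 10, 4, 6, 8, 4, 6, 4, 0, 8, 11, 6, 8, 11, 6]⟩)))
  (.node (nat_lit 3886) (.node (nat_lit 3885) (.leaf ⟨6, 9, true, [14, 13, 8, 10, 6], [11, 8, 19, 2, 11, 8, 10, 4, 6, 8, 11, 4, 6, 8, 4, 6, 4, 0, 11, 8, 10, 6, 8, 11, 24]⟩)
  (.leaf ⟨9, 6, true, [8, 10, 8, 19, 8, 19, 8, 6, 2], [15, 12, 0, 19, 8, 19, 2, 13, 10, 4, 6, 8, 10, 4, 6, 8, 10, 4, 6, 8, 4, 6, 4, 8, 10, 10, 6, 8, 10, 13]⟩))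
  (.node (nat_lit 3887) (.leaf ⟨6, 9, true, [12, 19, 6, 18, 8, 19, 8, 16], [19, 8, 15, 0, 19, 8, 19, 2, 6, 8, 10, 4, 6, 8, 11, 4, 6, 8, 4, 6, 4, 0, 10, 8, 11]⟩)
  (.leaf ⟨9, 6, true, [13, 19, 14, 8, 19, 8, 19, 15], [8, 19, 14, 8, 19, 0, 2, 11, 11, 4, 6, 8, 4, 6, 4, 11, 8, 11, 6, 8, 10, 13]⟩)))))
  (.node (nat_lit 3896) (.node (nat_lit 3892) (.node (nat_lit 3890) (.node (nat_lit 3889) (.leaf ⟨6, 9, true, [18, 14, 8, 18, 18, 10, 8, 19, 16], [2, 18, 8, 15, 19, 8, 19, 2, 6, 8, 11, 6, 4, 6, 8, 11, 4, 6, 8, 4, 6, 4, 11, 8, 10, 6, 8, 10, 6, 21]⟩)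
  (.leaf ⟨9, 6, true, [18, 13, 8, 18, 8, 18, 10], [0, 14, 18, 8, 0, 18, 18, 10, 4, 6, 8, 10, 4, 6, 8, 4, 6, 4, 0, 12, 8, 10, 21]⟩))
  (.node (nat_lit 3891) (.leaf ⟨6, 9, true, [8, 18, 12, 8, 18, 8, 18], [0, 18, 18, 11, 8, 10, 4, 6, 8, 10, 4, 6, 8, 4, 6, 4, 0, 10, 10, 6, 8, 11]⟩)
  (.leaf ⟨9, 6, true, [8, 19, 15, 19, 12, 8, 19, 8, 16], [13, 14, 8, 19, 8, 19, 2, 8, 10, 10, 4, 6, 8, 10, 4, 6, 8, 4, 6, 4, 13, 6, 8, 10]⟩)))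
  (.node (nat_lit 3894) (.node (nat_lit 3893) (.leaf ⟨6, 9, true, [0, 18, 12, 8, 18], [13, 10, 8, 0, 19, 8, 19, 2, 11, 11, 8, 10, 6, 8, 4, 6, 4, 10, 10, 6, 13]⟩)
  (.leaf ⟨9, 6, true, [18, 11, 8, 18, 8, 18, 11], [8, 19, 10, 6, 8, 19, 19, 2, 10, 10, 4, 6, 8, 11, 4, 6, 8, 10, 4, 6, 8, 4, 6, 4, 12, 10, 8, 10, 6, 8, 10, 24]⟩))
  (.node (nat_lit 3895) (.leaf ⟨6, 9, true, [15, 8, 19, 15, 19, 8, 19, 8, 16], [10, 12, 8, 19, 8, 0, 19, 2, 13, 6, 8, 10, 4, 6, 8, 4, 6, 4, 12, 8, 10, 6, 8, 10, 24]⟩)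
  (.leaf ⟨9, 5, true, [0, 15, 8, 18, 8, 18, 8, 19, 19, 2], [13, 18, 8, 18, 8, 19, 19, 2, 12, 6, 8, 11, 4, 6, 8, 4, 6, 4, 10, 8, 11, 21]⟩))))
  (.node (nat_lit 3900) (.node (nat_lit 3898) (.node (nat_lit 3897) (.leaf ⟨5, 9, true, [13, 18, 14, 8, 6, 18, 8, 19, 2], [15, 18, 8, 19, 0, 2, 8, 11, 11, 6, 8, 11, 4, 6, 8, 4, 6, 4, 11, 8, 10, 6, 8, 10, 6, 23]⟩)
  (.leaf ⟨9, 6, true, [19, 12, 16, 8, 19, 19, 14, 10], [14, 8, 18, 8, 18, 18, 6, 8, 10, 10, 4, 6, 8, 10, 4, 6, 8, 4, 6, 4, 10, 13, 8, 10, 23]⟩))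
  (.node (nat_lit 3899) (.leaf ⟨6, 9, true, [11, 8, 18, 8, 0, 18, 8, 18, 10], [8, 15, 8, 0, 19, 8, 19, 2, 13, 10, 8, 11, 6, 8, 11, 4, 6, 8, 4, 6, 4, 13, 8, 11, 6, 23]⟩)
  (.leaf ⟨9, 6, true, [0, 19, 16, 8, 15, 18, 12, 8, 18], [8, 15, 19, 10, 8, 19, 2, 13, 8, 11, 6, 8, 10, 4, 6, 8, 4, 6, 4, 10, 13, 8, 10, 6, 12]⟩)))
  (.node (nat_lit 3902) (.node (nat_lit 3901) (.leaf ⟨6, 9, true, [8, 18, 4, 6, 8, 19, 14, 6], [19, 19, 11, 8, 19, 2, 11, 11, 4, 6, 8, 4, 6, 4, 10, 6, 12]⟩)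
  (.leaf ⟨9, 6, true, [8, 15, 18, 8, 18, 4, 14, 8, 10, 6], [18, 8, 18, 8, 0, 18, 18, 4, 6, 8, 11, 8, 11, 4, 6, 8, 4, 6, 4, 0, 13, 11, 8, 11, 24]⟩))
  (.node (nat_lit 3903) (.leaf ⟨6, 9, true, [8, 19, 19, 8, 14, 10, 6], [13, 0, 19, 8, 19, 8, 19, 2, 12, 10, 8, 10, 6, 8, 4, 6, 4, 10, 6, 8, 10, 6, 8, 11, 25]⟩)
  (.leaf ⟨9, 6, true, [14, 8, 19, 8, 10, 8, 19, 2], [14, 10, 8, 19, 0, 2, 10, 8, 10, 6, 8, 11, 4, 6, 8, 4, 6, 4, 13, 8, 11, 21]⟩))))))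

noncomputable def f3904 : FT := (.node (nat_lit 3920) (.node (nat_lit 3912) (.node (nat_lit 3908) (.node (nat_lit 3906) (.node (nat_lit 3905) (.leaf ⟨6, 9, true, [10, 8, 19, 12, 16, 8, 19, 19, 2], [11, 8, 18, 8, 19, 19, 2, 8, 6, 4, 0, 11, 8, 10, 6, 8, 11, 6]⟩)
  (.leaf ⟨9, 6, true, [0, 14, 4, 6, 18, 8, 19, 8, 6, 2], [8, 11, 8, 0, 19, 8, 19, 2, 11, 12, 8, 10, 4, 6, 8, 11, 4, 6, 8, 4, 6, 4, 8, 10, 10, 6, 8, 10, 23]⟩))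
  (.node (nat_lit 3907) (.leaf ⟨6, 9, true, [8, 6, 18, 10, 10, 8, 6, 18], [8, 6, 18, 8, 0, 18, 18, 13, 11, 8, 11, 6, 8, 4, 6, 4, 8, 10, 8, 10, 6, 8, 10, 25]⟩)
  (.leaf ⟨9, 6, true, [19, 16, 14, 8, 19, 19, 14, 8, 6], [12, 6, 0, 18, 8, 18, 18, 11, 8, 10, 4, 6, 8, 10, 4, 6, 8, 4, 6, 4, 12, 10, 6, 8, 10]⟩)))
  (.node (nat_lit 3910) (.node (nat_lit 3909) (.leaf ⟨6, 9, true, [13, 8, 19, 10, 8, 19, 2], [19, 19, 6, 8, 18, 18, 4, 6, 8, 11, 13, 4, 6, 8, 11, 4, 6, 8, 4, 6, 4, 10, 8, 11, 13, 6, 8, 10]⟩)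
  (.leaf ⟨9, 6, true, [13, 0, 19, 8, 16, 8, 19, 19, 2], [0, 18, 8, 18, 8, 18, 18, 8, 10, 6, 8, 10, 4, 6, 8, 11, 4, 6, 8, 4, 6, 4, 12, 6, 8, 10, 13]⟩))
  (.node (nat_lit 3911) (.leaf ⟨6, 9, true, [13, 15, 18, 18, 8, 6, 18], [8, 18, 12, 18, 8, 0, 18, 18, 10, 4, 6, 8, 11, 4, 6, 8, 11, 4, 6, 8, 4, 6, 4, 0, 10, 12, 8, 11, 25]⟩)
  (.leaf ⟨9, 6, true, [11, 13, 8, 19, 8, 19, 2], [15, 8, 19, 8, 19, 2, 12, 8, 10, 6, 8, 10, 4, 6, 8, 4, 6, 4, 13, 8, 11, 12]⟩))))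
  (.node (nat_lit 3916) (.node (nat_lit 3914) (.node (nat_lit 3913) (.leaf ⟨6, 9, true, [13, 18, 8, 19, 19, 14, 8, 6], [18, 14, 8, 19, 0, 2, 12, 6, 8, 11, 4, 6, 8, 10, 4, 6, 8, 4, 6, 4, 12, 11, 8, 11, 24]⟩)
  (.leaf ⟨9, 6, true, [12, 10, 8, 18, 8, 0, 18], [12, 6, 18, 8, 18, 18, 10, 10, 8, 4, 6, 4, 12, 11, 6, 20]⟩))
  (.node (nat_lit 3915) (.leaf ⟨6, 9, true, [8, 10, 8, 19, 19, 14], [10, 10, 8, 19, 0, 2, 8, 11, 6, 8, 10, 4, 6, 8, 4, 6, 4, 11, 13, 6, 8, 10, 23]⟩)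
  (.leaf ⟨9, 6, true, [12, 11, 8, 6, 18, 8, 6], [14, 10, 8, 18, 8, 18, 18, 4, 6, 8, 10, 8, 10, 4, 6, 8, 4, 6, 4, 0, 13, 11, 8, 10, 6, 8, 10, 12]⟩)))
  (.node (nat_lit 3918) (.node (nat_lit 3917) (.leaf ⟨6, 9, true, [19, 11, 8, 19, 8, 16], [18, 10, 8, 19, 19, 2, 4, 6, 8, 4, 6, 4, 8, 11, 13, 6, 8, 10, 6, 21]⟩)
  (.leaf ⟨9, 6, true, [16, 10, 8, 6, 18, 8, 18], [6, 18, 10, 8, 19, 0, 2, 10, 6, 8, 10, 6, 8, 4, 6, 4, 11, 8, 11, 6, 8, 10, 21]⟩))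
  (.node (nat_lit 3919) (.leaf ⟨6, 9, true, [19, 16, 8, 19, 8, 19, 8, 6, 2], [13, 18, 8, 19, 6, 8, 18, 18, 12, 8, 10, 4, 6, 8, 11, 4, 6, 8, 4, 6, 4, 6, 21]⟩)
  (.leaf ⟨9, 6, true, [18, 14, 8, 18, 10, 8, 19, 19, 15], [15, 8, 6, 18, 8, 19, 2, 11, 8, 6, 4, 10, 6, 8, 11, 6, 8, 10, 13]⟩)))))
  (.node (nat_lit 3928) (.node (nat_lit 3924) (.node (nat_lit 3922) (.node (nat_lit 3921) (.leaf ⟨6, 9, true, [12, 19, 8, 19, 0, 14, 8, 6], [19, 15, 19, 8, 6, 18, 8, 19, 2, 11, 11, 8, 11, 6, 8, 11, 21]⟩)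
  (.leaf ⟨9, 6, true, [10, 8, 18, 10], [13, 14, 8, 19, 8, 0, 19, 2, 4, 6, 8, 11, 8, 11, 4, 6, 8, 4, 6, 4, 8, 11, 6, 8, 11, 6, 25]⟩))
  (.node (nat_lit 3923) (.leaf ⟨6, 9, true, [8, 19, 13, 8, 16, 8, 6, 18], [12, 8, 0, 19, 8, 19, 2, 11, 4, 6, 8, 10, 4, 6, 8, 11, 4, 6, 8, 4, 6, 4, 10, 6, 8, 11, 6, 22]⟩)
  (.leaf ⟨9, 6, true, [10, 8, 19, 0, 14, 6], [8, 18, 18, 18, 6, 8, 11, 4, 6, 8, 11, 4, 6, 8, 4, 6, 4, 10, 8, 11, 11, 6, 8, 11, 22]⟩)))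
  (.node (nat_lit 3926) (.node (nat_lit 3925) (.leaf ⟨6, 9, true, [19, 12, 8, 19, 8, 19, 8, 14, 6], [15, 8, 18, 18, 13, 8, 11, 6, 8, 4, 6, 4, 13, 10, 8, 10, 6, 8, 10, 22]⟩)
  (.leaf ⟨9, 6, true, [19, 19, 16, 13, 8, 19, 8, 16], [18, 14, 8, 18, 18, 4, 6, 8, 10, 8, 10, 4, 6, 8, 4, 6, 4, 0, 8, 10, 6, 8, 10, 6]⟩))
  (.node (nat_lit 3927) (.leaf ⟨6, 9, true, [8, 19, 6, 8, 19, 12, 16], [19, 16, 8, 19, 10, 8, 19, 2, 11, 6, 8, 10, 6, 4, 6, 8, 11, 4, 6, 8, 4, 6, 4, 10, 6, 8, 11, 6, 8, 10, 23]⟩)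
  (.leaf ⟨9, 6, true, [8, 18, 4, 6, 8, 16, 8, 19, 16], [0, 18, 8, 18, 8, 19, 2, 13, 10, 8, 11, 6, 8, 10, 4, 6, 8, 4, 6, 4, 12, 8, 10, 6, 23]⟩))))
  (.node (nat_lit 3932) (.node (nat_lit 3930) (.node (nat_lit 3929) (.leaf ⟨6, 9, true, [19, 6, 18, 12, 8, 19, 8, 16], [14, 8, 18, 8, 2, 18, 18, 6, 8, 11, 4, 6, 8, 11, 4, 6, 8, 4, 6, 4, 8, 11, 13, 6, 8, 11, 6, 25]⟩)
  (.leaf ⟨9, 6, true, [18, 8, 6, 18, 12, 8, 19, 8, 16], [18, 8, 15, 19, 8, 19, 2, 6, 8, 10, 4, 6, 8, 10, 4, 6, 8, 4, 6, 4, 0, 12, 8, 11, 6, 8, 10, 20]⟩))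
  (.node (nat_lit 3931) (.leaf ⟨6, 9, true, [10, 6, 8, 10, 6, 8, 18], [13, 18, 8, 19, 10, 8, 19, 2, 12, 6, 8, 11, 4, 6, 8, 10, 4, 6, 8, 4, 6, 4, 0, 11, 11, 8, 10, 6, 8, 11]⟩)
  (.leaf ⟨9, 6, true, [0, 19, 6, 8, 6, 18], [16, 12, 0, 19, 8, 19, 2, 12, 10, 8, 4, 6, 4, 0, 12, 10, 24]⟩)))
  (.node (nat_lit 3934) (.node (nat_lit 3933) (.leaf ⟨6, 9, true, [6, 8, 6, 18, 18, 8, 11, 8, 6], [18, 2, 18, 8, 19, 10, 8, 19, 2, 12, 4, 6, 8, 10, 4, 6, 8, 4, 6, 4, 11, 8, 11, 6, 8, 11, 6, 12]⟩)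
  (.leaf ⟨9, 6, true, [12, 8, 18, 8, 18, 8, 18, 10, 10], [6, 18, 8, 4, 6, 18, 8, 19, 2, 12, 4, 6, 8, 10, 4, 6, 8, 10, 4, 6, 8, 4, 6, 4, 13, 6, 8, 10, 6, 24]⟩))
  (.node (nat_lit 3935) (.leaf ⟨6, 9, true, [12, 16, 8, 19, 8, 0, 14, 6], [8, 18, 14, 8, 19, 19, 2, 4, 6, 8, 10, 8, 10, 4, 6, 8, 4, 6, 4, 0, 11, 11, 8, 11, 6, 8, 11, 13]⟩)
  (.leaf ⟨9, 8, true, [19, 6, 18, 10, 8, 6], [8, 18, 18, 10, 8, 19, 2, 11, 11, 8, 10, 6, 8, 4, 6, 4, 12, 8, 10, 6, 8, 11, 22]⟩))))))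

noncomputable def f3936 : FT := (.node (nat_lit 3952) (.node (nat_lit 3944) (.node (nat_lit 3940) (.node (nat_lit 3938) (.node (nat_lit 3937) (.leaf ⟨8, 9, true, [19, 8, 16, 8, 19, 8, 16], [0, 19, 8, 19, 2, 13, 8, 11, 6, 8, 4, 6, 4, 13, 6, 8, 10, 6, 22]⟩)
  (.leaf ⟨9, 6, true, [14, 8, 19, 6, 8, 6, 18], [6, 18, 11, 8, 19, 8, 19, 2, 6, 8, 11, 6, 8, 10, 4, 6, 8, 4, 6, 4, 0, 10, 8, 10, 10, 6, 8, 11, 23]⟩))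
  (.node (nat_lit 3939) (.leaf ⟨6, 9, true, [19, 0, 19, 8, 19, 10, 8, 16], [18, 18, 10, 8, 19, 8, 19, 2, 13, 10, 6, 8, 11, 4, 6, 8, 4, 6, 4, 10, 13, 8, 10, 6, 22]⟩)
  (.leaf ⟨9, 6, true, [2, 18, 8, 16, 8, 19, 19, 2], [14, 8, 18, 18, 10, 8, 19, 2, 6, 4, 6, 8, 11, 6, 8, 10, 4, 6, 8, 4, 6, 4, 0, 12, 11, 8, 10]⟩)))
  (.node (nat_lit 3942) (.node (nat_lit 3941) (.leaf ⟨6, 9, true, [19, 19, 16, 10, 8, 19, 8, 16], [19, 6, 8, 18, 18, 10, 12, 8, 11, 4, 6, 8, 4, 6, 4, 12, 6, 8, 10, 13]⟩)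
  (.leaf ⟨9, 6, true, [8, 15, 0, 19, 12, 8, 19, 8, 16], [12, 14, 8, 19, 8, 19, 2, 11, 6, 8, 11, 4, 6, 8, 10, 4, 6, 8, 4, 6, 4, 13, 11, 8, 10, 6, 8, 11, 25]⟩))
  (.node (nat_lit 3943) (.leaf ⟨6, 9, true, [19, 19, 10, 12, 8, 19, 8, 16, 10], [18, 8, 15, 0, 19, 8, 19, 2, 10, 4, 6, 8, 11, 4, 6, 8, 11, 4, 6, 8, 4, 6, 4, 0, 10, 8, 11, 6, 8, 10, 6, 22]⟩)
  (.leaf ⟨9, 6, true, [16, 8, 15, 8, 19, 8, 19, 2], [12, 8, 18, 8, 0, 18, 18, 11, 13, 6, 8, 11, 4, 6, 8, 4, 6, 4, 11, 12, 8, 10, 23]⟩))))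
  (.node (nat_lit 3948) (.node (nat_lit 3946) (.node (nat_lit 3945) (.leaf ⟨6, 9, true, [10, 12, 8, 0, 18], [10, 10, 8, 19, 0, 2, 8, 11, 13, 6, 8, 11, 4, 6, 8, 10, 4, 6, 8, 4, 6, 4, 12, 8, 10, 25]⟩)
  (.leaf ⟨9, 6, true, [0, 18, 18, 8, 16, 8, 6, 18, 10], [8, 0, 19, 8, 19, 2, 10, 10, 8, 6, 4, 13, 8, 11, 6, 8, 10, 12]⟩))
  (.node (nat_lit 3947) (.leaf ⟨6, 9, true, [0, 14, 18, 8, 19, 8, 19, 8, 14, 6], [19, 6, 18, 8, 19, 8, 19, 2, 12, 6, 8, 10, 4, 6, 8, 10, 4, 6, 8, 4, 6, 4, 11, 13, 8, 10, 6, 8, 11, 21]⟩)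
  (.leaf ⟨9, 6, true, [10, 10, 6, 8, 19, 19, 2], [6, 8, 18, 14, 10, 8, 18, 18, 11, 11, 8, 10, 4, 6, 8, 11, 4, 6, 8, 4, 6, 4, 12, 8, 10, 22]⟩)))
  (.node (nat_lit 3950) (.node (nat_lit 3949) (.leaf ⟨6, 9, true, [15, 12, 18, 8, 18, 8, 6, 18], [18, 18, 0, 18, 11, 8, 10, 4, 6, 8, 4, 6, 4, 0, 11, 11, 8, 10]⟩)
  (.leaf ⟨9, 6, true, [19, 8, 16, 8, 0, 19, 12, 16], [8, 18, 14, 8, 18, 18, 10, 4, 6, 8, 4, 6, 4, 11, 6, 8, 11, 6, 8, 10, 21]⟩))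
  (.node (nat_lit 3951) (.leaf ⟨6, 9, true, [8, 16, 8, 19, 16, 10, 8, 19, 16], [10, 12, 8, 18, 8, 18, 18, 11, 6, 8, 10, 6, 4, 6, 8, 11, 4, 6, 8, 4, 6, 4, 10, 6, 8, 10, 22]⟩)
  (.leaf ⟨9, 6, true, [13, 18, 14, 18, 8, 18, 4, 14, 8, 6], [18, 10, 4, 6, 8, 10, 4, 6, 8, 4, 6, 4, 0, 10, 6, 8, 10, 6, 8, 11, 25]⟩)))))
  (.node (nat_lit 3960) (.node (nat_lit 3956) (.node (nat_lit 3954) (.node (nat_lit 3953) (.leaf ⟨6, 9, true, [13, 11, 8, 19, 8, 19, 14, 8, 6], [19, 8, 0, 19, 8, 0, 19, 2, 8, 11, 8, 11, 6, 8, 4, 6, 4, 10, 8, 11, 6, 8, 10, 12]⟩)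
  (.leaf ⟨9, 6, true, [12, 11, 8, 18, 8, 18, 10], [6, 18, 14, 8, 19, 19, 2, 11, 13, 4, 6, 8, 10, 4, 6, 8, 4, 6, 4, 11, 8, 10, 6, 8, 10, 6, 23]⟩))
  (.node (nat_lit 3955) (.leaf ⟨6, 9, true, [13, 14, 8, 19, 8, 19, 8, 6, 2], [6, 18, 8, 4, 6, 18, 8, 19, 2, 13, 11, 8, 11, 6, 8, 4, 6, 4, 12, 6, 8, 10, 24]⟩)
  (.leaf ⟨9, 6, true, [15, 12, 19, 8, 19, 8, 16], [6, 8, 18, 8, 19, 2, 11, 6, 8, 11, 4, 6, 8, 10, 4, 6, 8, 4, 6, 4, 0, 8, 11, 8, 11, 6, 23]⟩)))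
  (.node (nat_lit 3958) (.node (nat_lit 3957) (.leaf ⟨6, 9, true, [18, 8, 19, 19, 15, 8, 6], [18, 8, 0, 18, 18, 11, 4, 6, 8, 4, 6, 4, 0, 12, 6, 8, 11, 6, 20]⟩)
  (.leaf ⟨9, 7, true, [14, 10, 8, 18, 18, 8, 19, 8, 16], [13, 10, 8, 0, 18, 8, 18, 18, 4, 6, 4, 0, 6, 8, 10, 6, 8, 11, 6, 24]⟩))
  (.node (nat_lit 3959) (.leaf ⟨7, 9, true, [19, 8, 10, 6, 8, 19, 19, 2], [18, 18, 10, 8, 18, 18, 11, 4, 6, 8, 11, 4, 6, 8, 11, 4, 6, 8, 4, 6, 4, 10, 6, 8, 11, 6, 22]⟩)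
  (.leaf ⟨9, 6, true, [19, 13, 0, 19, 8, 6, 18, 8, 6], [13, 18, 8, 19, 6, 8, 18, 18, 8, 10, 10, 6, 8, 11, 4, 6, 8, 4, 6, 4, 10, 8, 10, 10, 6, 8, 11, 12]⟩))))
  (.node (nat_lit 3964) (.node (nat_lit 3962) (.node (nat_lit 3961) (.leaf ⟨6, 9, true, [8, 18, 10, 12, 8, 18, 8, 18], [18, 8, 18, 8, 19, 2, 4, 6, 8, 11, 4, 6, 8, 10, 4, 6, 8, 4, 6, 4, 0, 12, 8, 10, 6, 8, 11, 25]⟩)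
  (.leaf ⟨9, 6, true, [18, 0, 18, 8, 18, 8, 19, 16], [12, 0, 15, 8, 18, 18, 12, 4, 6, 8, 10, 4, 6, 8, 10, 4, 6, 8, 4, 6, 4, 12, 6, 8, 11]⟩))
  (.node (nat_lit 3963) (.leaf ⟨6, 9, true, [12, 11, 8, 19, 8, 0, 14, 6], [11, 8, 19, 19, 2, 13, 10, 8, 10, 4, 6, 8, 10, 4, 6, 8, 4, 6, 4, 8, 11, 6, 8, 11, 13]⟩)
  (.leaf ⟨9, 6, true, [12, 0, 19, 8, 6, 2], [14, 8, 18, 8, 18, 8, 19, 2, 11, 6, 8, 10, 4, 6, 8, 11, 4, 6, 8, 4, 6, 4, 12, 11, 23]⟩)))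
  (.node (nat_lit 3966) (.node (nat_lit 3965) (.leaf ⟨6, 9, true, [19, 8, 14, 8, 6, 18, 8, 6, 18], [14, 6, 18, 8, 18, 18, 11, 8, 11, 12, 4, 6, 8, 11, 4, 6, 8, 4, 6, 4, 6, 8, 11, 6, 8, 10, 6, 22]⟩)
  (.leaf ⟨9, 6, true, [15, 8, 19, 14, 8, 19, 8, 19, 2], [6, 18, 8, 4, 6, 18, 8, 19, 2, 6, 8, 10, 8, 10, 4, 6, 8, 4, 6, 4, 8, 10, 20]⟩))
  (.node (nat_lit 3967) (.leaf ⟨6, 9, true, [0, 15, 8, 18, 8, 6, 18, 8, 19, 2], [18, 2, 18, 8, 19, 8, 19, 2, 11, 8, 11, 4, 6, 8, 11, 4, 6, 8, 4, 6, 4, 0, 11, 12, 8, 10, 23]⟩)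
  (.leaf ⟨9, 6, true, [18, 13, 15, 18, 8, 18, 8, 18, 11], [0, 15, 8, 18, 8, 0, 18, 18, 11, 4, 6, 8, 11, 4, 6, 8, 10, 4, 6, 8, 4, 6, 4, 13, 8, 10, 20]⟩))))))

noncomputable def f3968 : FT := (.node (nat_lit 3984) (.node (nat_lit 3976) (.node (nat_lit 3972) (.node (nat_lit 3970) (.node (nat_lit 3969) (.leaf ⟨6, 9, true, [13, 18, 14, 8, 18, 8, 18, 12, 10], [0, 19, 8, 19, 0, 2, 6, 4, 6, 8, 10, 6, 8, 11, 4, 6, 8, 4, 6, 4, 0, 12, 11, 8, 10, 24]⟩)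
  (.leaf ⟨9, 6, true, [19, 8, 16, 8, 19, 8, 6, 2], [12, 14, 8, 18, 8, 18, 18, 4, 6, 8, 10, 6, 8, 11, 4, 6, 8, 4, 6, 4, 0, 8, 10, 8, 10, 6, 8, 10, 13]⟩))
  (.node (nat_lit 3971) (.leaf ⟨6, 9, true, [6, 8, 18, 10, 10], [15, 8, 6, 18, 8, 19, 2, 11, 11, 6, 8, 4, 6, 4, 6, 8, 11, 6, 8, 10, 6]⟩)
  (.leaf ⟨9, 6, true, [18, 12, 18, 8, 19, 8, 19, 14, 8, 6], [15, 12, 0, 19, 8, 19, 8, 19, 2, 4, 6, 4, 6, 8, 11, 6, 8, 10, 4, 6, 8, 4, 6, 4, 12, 11, 8, 10, 24]⟩)))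
  (.node (nat_lit 3974) (.node (nat_lit 3973) (.leaf ⟨6, 9, true, [15, 18, 14, 8, 19, 19, 15, 8, 6], [12, 18, 8, 2, 18, 18, 13, 8, 10, 4, 6, 8, 4, 6, 4, 6, 8, 11, 6, 8, 10, 6, 21]⟩)
  (.leaf ⟨9, 6, true, [18, 18, 8, 18, 8, 0, 19, 6, 2], [18, 18, 0, 18, 6, 8, 4, 6, 4, 0, 10, 8, 11, 6, 8, 10, 6, 25]⟩))
  (.node (nat_lit 3975) (.leaf ⟨6, 9, true, [19, 8, 6, 18, 8, 18], [18, 12, 8, 0, 19, 8, 19, 2, 6, 4, 6, 8, 10, 4, 6, 8, 4, 6, 4, 13, 6, 8, 11, 6, 22]⟩)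
  (.leaf ⟨9, 6, true, [12, 18, 8, 6, 18], [0, 15, 18, 10, 8, 18, 18, 4, 6, 8, 4, 6, 4, 11, 13, 8, 10, 25]⟩))))
  (.node (nat_lit 3980) (.node (nat_lit 3978) (.node (nat_lit 3977) (.leaf ⟨6, 9, true, [8, 14, 18, 11, 8, 18, 12, 18, 8, 6], [0, 15, 12, 18, 8, 18, 18, 10, 13, 6, 8, 10, 4, 6, 8, 11, 4, 6, 8, 4, 6, 4, 10, 13, 8, 11, 6, 8, 10, 12]⟩)
  (.leaf ⟨9, 6, true, [15, 8, 19, 8, 19, 8, 16, 10], [19, 8, 19, 10, 10, 8, 19, 2, 13, 8, 10, 6, 8, 4, 6, 4, 8, 11, 13, 6, 8, 10, 6, 12]⟩))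
  (.node (nat_lit 3979) (.leaf ⟨6, 9, true, [6, 18, 10, 8, 18], [15, 18, 18, 8, 19, 8, 19, 2, 13, 6, 8, 10, 4, 6, 8, 11, 4, 6, 8, 4, 6, 4, 10, 10, 20]⟩)
  (.leaf ⟨9, 6, true, [0, 14, 8, 18, 8, 6, 0, 18], [8, 10, 8, 19, 0, 2, 11, 13, 8, 10, 4, 6, 8, 11, 4, 6, 8, 4, 6, 4, 11, 13, 8, 10, 13]⟩)))
  (.node (nat_lit 3982) (.node (nat_lit 3981) (.leaf ⟨6, 9, true, [6, 18, 12, 8, 6, 18, 8, 19, 2], [18, 8, 19, 6, 8, 18, 18, 13, 8, 10, 4, 6, 8, 4, 6, 4, 13, 10, 8, 10, 6, 8, 10, 21]⟩)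
  (.leaf ⟨9, 6, true, [14, 8, 0, 15, 18, 8, 19, 16], [0, 14, 10, 8, 18, 0, 18, 13, 8, 11, 6, 8, 10, 4, 6, 8, 4, 6, 4, 10, 12, 8, 11, 22]⟩))
  (.node (nat_lit 3983) (.leaf ⟨6, 9, true, [18, 18, 8, 15, 18, 8, 18], [15, 19, 16, 8, 19, 8, 19, 2, 6, 8, 10, 8, 10, 4, 6, 8, 10, 4, 6, 8, 4, 6, 4, 11, 11, 12]⟩)
  (.leaf ⟨9, 6, true, [19, 19, 13, 11, 8, 19, 8, 14, 6], [18, 2, 18, 8, 19, 10, 8, 19, 2, 12, 8, 10, 6, 8, 11, 4, 6, 8, 4, 6, 4, 6, 8, 11, 8, 11, 6, 22]⟩)))))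
  (.node (nat_lit 3992) (.node (nat_lit 3988) (.node (nat_lit 3986) (.node (nat_lit 3985) (.leaf ⟨6, 9, true, [8, 19, 13, 16, 8, 19, 14, 6], [10, 6, 8, 19, 8, 19, 2, 10, 8, 10, 4, 6, 8, 10, 4, 6, 8, 4, 6, 4, 0, 12, 11, 8, 10, 6, 8, 10, 22]⟩)
  (.leaf ⟨9, 6, true, [15, 18, 18, 8, 16, 8, 6, 18, 10], [0, 19, 6, 18, 8, 19, 2, 12, 10, 4, 6, 8, 4, 6, 4, 0, 13, 11, 6, 8, 11, 22]⟩))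
  (.node (nat_lit 3987) (.leaf ⟨6, 9, true, [15, 8, 18, 14, 8, 18, 8, 18], [18, 18, 8, 19, 0, 2, 4, 6, 8, 10, 4, 6, 8, 10, 4, 6, 8, 4, 6, 4, 11, 12, 8, 10, 20]⟩)
  (.leaf ⟨9, 6, true, [14, 8, 19, 10, 6, 8, 19, 16], [19, 15, 19, 10, 8, 19, 2, 8, 10, 8, 6, 4, 8, 10, 6]⟩)))
  (.node (nat_lit 3990) (.node (nat_lit 3989) (.leaf ⟨6, 9, true, [18, 18, 8, 2, 19, 8, 19, 8, 16], [6, 18, 8, 4, 6, 18, 8, 19, 2, 11, 6, 4, 6, 8, 11, 4, 6, 8, 4, 6, 4, 10, 6, 8, 11, 6, 20]⟩)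
  (.leaf ⟨9, 7, true, [6, 8, 0, 19, 19, 8, 15, 8, 6], [8, 19, 8, 19, 8, 0, 19, 2, 4, 8, 10, 6, 8, 10, 6, 20]⟩))
  (.node (nat_lit 3991) (.leaf ⟨7, 9, true, [6, 8, 18, 12, 8, 18], [19, 14, 8, 6, 18, 8, 19, 2, 11, 6, 8, 10, 4, 6, 8, 10, 4, 6, 8, 4, 6, 4, 11, 25]⟩)
  (.leaf ⟨9, 6, true, [13, 19, 8, 6, 18, 8, 19, 16], [12, 18, 8, 18, 18, 10, 4, 6, 8, 4, 6, 4, 0, 10, 6, 8, 11, 6, 12]⟩))))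
  (.node (nat_lit 3996) (.node (nat_lit 3994) (.node (nat_lit 3993) (.leaf ⟨6, 9, true, [19, 13, 8, 16, 8, 6, 18], [18, 0, 19, 19, 8, 19, 2, 8, 10, 6, 8, 10, 4, 6, 8, 11, 4, 6, 8, 4, 6, 4, 12, 11, 22]⟩)
  (.leaf ⟨9, 6, true, [8, 19, 6, 8, 18, 8, 19, 19, 15], [18, 8, 18, 8, 2, 18, 18, 11, 12, 8, 10, 6, 8, 11, 4, 6, 8, 4, 6, 4, 8, 11, 8, 11, 23]⟩))
  (.node (nat_lit 3995) (.leaf ⟨6, 9, true, [14, 8, 6, 18, 8, 6, 18], [8, 14, 6, 8, 18, 18, 13, 11, 8, 11, 6, 8, 4, 6, 4, 13, 8, 11, 6, 24]⟩)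
  (.leaf ⟨9, 6, true, [19, 13, 14, 8, 19, 8, 19, 8, 16], [8, 2, 0, 18, 8, 18, 18, 11, 4, 6, 8, 11, 4, 6, 8, 4, 6, 4, 0, 8, 11, 13, 6, 8, 10, 21]⟩)))
  (.node (nat_lit 3998) (.node (nat_lit 3997) (.leaf ⟨6, 9, true, [8, 19, 13, 11, 8, 19, 8, 14, 6], [19, 15, 19, 8, 6, 18, 8, 19, 2, 6, 8, 10, 8, 10, 4, 6, 8, 10, 4, 6, 8, 4, 6, 4, 0, 13, 8, 11, 6]⟩)
  (.leaf ⟨9, 6, true, [15, 19, 6, 18, 8, 19, 14, 8, 6], [13, 6, 18, 8, 19, 8, 19, 2, 8, 10, 6, 8, 11, 4, 6, 8, 4, 6, 4, 11, 6, 8, 10, 12]⟩))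
  (.node (nat_lit 3999) (.leaf ⟨6, 9, true, [18, 8, 19, 8, 19, 8, 16, 10, 8, 6], [12, 11, 8, 0, 19, 8, 19, 2, 8, 10, 6, 8, 10, 4, 6, 8, 11, 4, 6, 8, 4, 6, 4, 11, 11, 8, 10, 24]⟩)
  (.leaf ⟨9, 6, true, [14, 0, 14, 18, 8, 19, 6, 2], [11, 8, 19, 0, 2, 13, 10, 8, 11, 6, 8, 4, 6, 4, 13, 8, 10, 6, 25]⟩))))))

noncomputable def f4000 : FT := (.node (nat_lit 4016) (.node (nat_lit 4008) (.node (nat_lit 4004) (.node (nat_lit 4002) (.node (nat_lit 4001) (.leaf ⟨6, 9, true, [8, 19, 13, 10, 8, 19, 2], [19, 6, 8, 18, 18, 10, 8, 11, 4, 6, 8, 11, 4, 6, 8, 4, 6, 4, 12, 8, 11, 6]⟩)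
  (.leaf ⟨9, 6, true, [15, 18, 18, 8, 19, 10, 8, 16], [18, 8, 0, 14, 6, 8, 18, 18, 11, 12, 8, 10, 4, 6, 8, 11, 4, 6, 8, 4, 6, 4, 11, 8, 10, 6, 8, 10, 6, 22]⟩))
  (.node (nat_lit 4003) (.leaf ⟨6, 9, true, [8, 19, 8, 14, 8, 6], [15, 19, 10, 8, 19, 8, 19, 2, 4, 6, 4, 6, 8, 11, 6, 8, 10, 4, 6, 8, 4, 6, 4, 10, 8, 11, 6, 8, 10, 6, 23]⟩)
  (.leaf ⟨9, 6, true, [0, 14, 12, 8, 6, 18, 8, 18], [19, 16, 8, 19, 19, 2, 12, 10, 6, 8, 4, 6, 4, 11, 8, 11, 24]⟩)))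
  (.node (nat_lit 4006) (.node (nat_lit 4005) (.leaf ⟨6, 9, true, [8, 19, 14, 6, 18, 8, 19, 6, 2], [16, 8, 19, 8, 0, 19, 2, 4, 6, 8, 11, 4, 6, 8, 4, 6, 4, 12, 10, 8, 10, 6, 8, 10, 22]⟩)
  (.leaf ⟨9, 6, true, [18, 8, 0, 15, 18, 12, 8, 18], [16, 8, 15, 19, 8, 19, 2, 11, 6, 4, 6, 8, 11, 6, 8, 10, 4, 6, 8, 4, 6, 4, 6, 8, 10, 6, 8, 11, 13]⟩))
  (.node (nat_lit 4007) (.leaf ⟨6, 9, true, [19, 8, 6, 18, 12, 8, 10, 6], [10, 8, 0, 19, 10, 8, 19, 2, 6, 8, 11, 4, 6, 8, 4, 6, 4, 0, 11, 11, 13]⟩)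
  (.leaf ⟨9, 6, true, [18, 18, 13, 10, 8, 18, 8, 18], [18, 12, 8, 19, 8, 0, 19, 2, 13, 10, 6, 8, 11, 4, 6, 8, 4, 6, 4, 6, 8, 11, 6, 22]⟩))))
  (.node (nat_lit 4012) (.node (nat_lit 4010) (.node (nat_lit 4009) (.leaf ⟨6, 9, true, [13, 4, 6, 8, 18, 8, 19, 6, 2], [8, 19, 8, 19, 2, 13, 8, 11, 4, 6, 8, 4, 6, 4, 0, 10, 10, 6, 23]⟩)
  (.leaf ⟨9, 6, true, [12, 19, 8, 19, 16, 10, 8, 19, 6, 2], [0, 18, 18, 8, 19, 2, 8, 11, 4, 6, 8, 10, 4, 6, 8, 4, 6, 4, 13, 10, 8, 11, 6, 8, 11, 25]⟩))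
  (.node (nat_lit 4011) (.leaf ⟨6, 9, true, [14, 8, 18, 10, 8, 18, 8, 18, 10], [0, 18, 8, 18, 8, 19, 2, 4, 6, 8, 10, 6, 8, 11, 4, 6, 8, 4, 6, 4, 23]⟩)
  (.leaf ⟨9, 6, true, [6, 8, 15, 18, 8, 19, 6, 2], [19, 16, 8, 19, 6, 8, 18, 18, 11, 13, 8, 10, 4, 6, 8, 4, 6, 4, 6, 8, 11, 25]⟩)))
  (.node (nat_lit 4014) (.node (nat_lit 4013) (.leaf ⟨6, 9, true, [12, 10, 8, 0, 19, 8, 19, 8, 16], [10, 8, 4, 6, 18, 8, 19, 2, 11, 4, 6, 8, 10, 4, 6, 8, 4, 6, 4, 0, 13, 8, 11, 13]⟩)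
  (.leaf ⟨9, 6, true, [8, 15, 19, 10, 8, 6, 18, 8, 6], [19, 15, 19, 8, 19, 2, 11, 8, 11, 12, 6, 8, 11, 4, 6, 8, 4, 6, 4, 0, 12, 11, 6, 13]⟩))
  (.node (nat_lit 4015) (.leaf ⟨6, 9, true, [18, 18, 8, 19, 0, 14, 6], [8, 18, 12, 18, 8, 0, 18, 18, 4, 6, 8, 10, 4, 6, 8, 11, 4, 6, 8, 4, 6, 4, 0, 10, 8, 11, 6, 8, 11]⟩)
  (.leaf ⟨9, 6, true, [18, 14, 18, 8, 19, 12, 16], [15, 19, 8, 19, 2, 13, 10, 8, 11, 6, 8, 10, 4, 6, 8, 4, 6, 4, 12, 6, 8, 10, 6, 25]⟩)))))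
  (.node (nat_lit 4024) (.node (nat_lit 4020) (.node (nat_lit 4018) (.node (nat_lit 4017) (.leaf ⟨6, 9, true, [0, 2, 18, 8, 18, 8, 18], [18, 8, 18, 10, 8, 18, 18, 11, 4, 6, 8, 11, 4, 6, 8, 11, 4, 6, 8, 4, 6, 4, 0, 11, 6, 8, 11, 6, 20]⟩)
  (.leaf ⟨9, 6, true, [19, 19, 16, 8, 19, 12, 16], [8, 15, 8, 19, 8, 0, 19, 2, 8, 11, 6, 8, 11, 4, 6, 8, 10, 4, 6, 8, 4, 6, 4, 10, 8, 11, 6, 8, 11, 6, 20]⟩))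
  (.node (nat_lit 4019) (.leaf ⟨6, 9, true, [19, 19, 8, 16, 12, 8, 6, 18], [8, 2, 18, 8, 19, 8, 19, 2, 4, 6, 8, 11, 13, 4, 6, 8, 10, 4, 6, 8, 4, 6, 4, 13, 8, 11, 23]⟩)
  (.leaf ⟨9, 6, true, [8, 19, 8, 6, 18, 12, 8, 6, 18], [14, 18, 8, 0, 18, 18, 11, 13, 8, 10, 4, 6, 8, 11, 4, 6, 8, 4, 6, 4, 11, 8, 11, 6, 8, 11, 6, 25]⟩)))
  (.node (nat_lit 4022) (.node (nat_lit 4021) (.leaf ⟨6, 9, true, [19, 13, 8, 19, 8, 16, 10], [0, 19, 12, 8, 19, 8, 0, 19, 2, 6, 8, 10, 4, 6, 8, 10, 4, 6, 8, 4, 6, 4, 0, 11, 13, 6, 8, 10, 25]⟩)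
  (.leaf ⟨9, 5, true, [12, 14, 8, 19, 8, 19, 8, 6, 2], [15, 0, 15, 18, 8, 19, 2, 12, 8, 10, 6, 8, 10, 4, 6, 8, 4, 6, 4, 10, 8, 10, 23]⟩))
  (.node (nat_lit 4023) (.leaf ⟨5, 9, true, [18, 18, 18, 12, 8, 6, 18], [12, 14, 8, 6, 18, 8, 19, 2, 8, 4, 6, 4, 8, 10, 10, 6, 8, 10, 24]⟩)
  (.leaf ⟨9, 6, true, [18, 18, 18, 8, 19, 19, 14], [0, 15, 18, 8, 2, 18, 18, 10, 4, 6, 8, 10, 4, 6, 8, 4, 6, 4, 0, 8, 11, 13, 6, 8, 10, 25]⟩))))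
  (.node (nat_lit 4028) (.node (nat_lit 4026) (.node (nat_lit 4025) (.leaf ⟨6, 9, true, [19, 19, 8, 14, 10, 6], [8, 19, 6, 18, 8, 19, 2, 4, 6, 8, 10, 8, 10, 4, 6, 8, 4, 6, 4, 10, 8, 11, 20]⟩)
  (.leaf ⟨9, 6, true, [13, 10, 8, 18, 8, 18, 10, 8, 18], [12, 16, 8, 19, 8, 19, 2, 8, 11, 6, 8, 11, 6, 4, 6, 8, 11, 4, 6, 8, 4, 6, 4, 10, 8, 11, 11, 6, 8, 11, 24]⟩))
  (.node (nat_lit 4027) (.leaf ⟨6, 9, true, [14, 6, 8, 18, 8, 19, 14, 6], [19, 0, 14, 6, 8, 18, 18, 4, 6, 8, 10, 8, 10, 4, 6, 8, 4, 6, 4, 10, 6, 12]⟩)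
  (.leaf ⟨9, 6, true, [12, 15, 8, 6], [8, 18, 8, 18, 8, 18, 18, 12, 6, 8, 11, 4, 6, 8, 10, 4, 6, 8, 4, 6, 4, 0, 10, 8, 10, 6, 8, 10, 21]⟩)))
  (.node (nat_lit 4030) (.node (nat_lit 4029) (.leaf ⟨6, 9, true, [14, 12, 18, 8, 18, 8, 6, 18], [19, 2, 19, 8, 19, 2, 8, 10, 10, 4, 6, 8, 11, 4, 6, 8, 4, 6, 4, 11, 12, 8, 10, 6, 8, 11]⟩)
  (.leaf ⟨9, 5, true, [12, 6, 18, 8, 19, 14, 8, 6], [19, 12, 10, 8, 19, 8, 19, 2, 6, 8, 11, 13, 4, 6, 8, 11, 4, 6, 8, 4, 6, 4, 11, 8, 11, 6, 8, 10, 25]⟩))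
  (.node (nat_lit 4031) (.leaf ⟨5, 9, true, [8, 18, 12, 4, 6, 8, 6, 18], [0, 14, 6, 18, 8, 0, 18, 18, 11, 8, 4, 6, 4, 0, 6, 8, 11, 8, 11, 12]⟩)
  (.leaf ⟨9, 6, true, [12, 0, 16, 8, 6, 18, 8, 6], [15, 0, 19, 8, 19, 2, 6, 8, 10, 10, 4, 6, 8, 10, 4, 6, 8, 4, 6, 4, 6, 8, 10, 6, 8, 11, 24]⟩))))))

noncomputable def f4032 : FT := (.node (nat_lit 4048) (.node (nat_lit 4040) (.node (nat_lit 4036) (.node (nat_lit 4034) (.node (nat_lit 4033) (.leaf ⟨6, 9, true, [6, 8, 0, 19, 6, 8, 19, 6, 2], [14, 12, 8, 18, 8, 18, 18, 11, 8, 11, 12, 6, 8, 11, 4, 6, 8, 4, 6, 4, 12, 6, 8, 11, 6, 22]⟩)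
  (.leaf ⟨9, 6, true, [19, 6, 8, 6, 18, 8, 6], [19, 8, 19, 6, 8, 18, 18, 8, 10, 6, 8, 11, 4, 6, 8, 11, 4, 6, 8, 4, 6, 4, 0, 11, 12]⟩))
  (.node (nat_lit 4035) (.leaf ⟨6, 9, true, [8, 15, 0, 19, 8, 19, 8, 14, 8, 6], [18, 8, 6, 18, 8, 19, 2, 10, 13, 8, 11, 6, 8, 4, 6, 4, 0, 12, 8, 10, 12]⟩)
  (.leaf ⟨9, 6, true, [18, 18, 8, 2, 18, 8, 18, 10], [10, 8, 19, 19, 2, 10, 6, 8, 10, 4, 6, 8, 4, 6, 4, 11, 12, 6, 8, 11, 6, 13]⟩)))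
  (.node (nat_lit 4038) (.node (nat_lit 4037) (.leaf ⟨6, 9, true, [12, 16, 8, 19, 13, 19, 8, 16, 10], [10, 8, 18, 14, 8, 18, 18, 12, 10, 4, 6, 8, 10, 4, 6, 8, 10, 4, 6, 8, 4, 6, 4, 8, 11, 6, 8, 10, 6, 13]⟩)
  (.leaf ⟨9, 6, true, [12, 6, 18, 8, 19, 19, 14, 8, 6], [12, 11, 8, 19, 8, 19, 2, 11, 6, 8, 11, 4, 6, 8, 4, 6, 4, 6, 8, 11, 6, 12]⟩))
  (.node (nat_lit 4039) (.leaf ⟨6, 9, true, [14, 8, 18, 13, 8, 18, 8, 18], [8, 6, 18, 8, 19, 2, 10, 6, 8, 11, 4, 6, 8, 10, 4, 6, 8, 4, 6, 4, 12, 6, 8, 10, 6, 13]⟩)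
  (.leaf ⟨9, 5, true, [12, 6, 8, 6, 18, 8, 19, 19, 15], [8, 18, 10, 10, 8, 18, 18, 4, 6, 8, 10, 4, 6, 8, 10, 4, 6, 8, 4, 6, 4, 0, 10, 6, 8, 11, 6, 20]⟩))))
  (.node (nat_lit 4044) (.node (nat_lit 4042) (.node (nat_lit 4041) (.leaf ⟨5, 9, true, [10, 6, 8, 19, 19, 15, 8, 10, 6], [19, 19, 10, 8, 19, 2, 8, 10, 13, 6, 8, 10, 4, 6, 8, 4, 6, 4, 11, 8, 11, 6, 8, 11, 6, 20]⟩)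
  (.leaf ⟨9, 6, true, [15, 0, 19, 8, 10, 12, 19, 8, 16], [6, 18, 12, 18, 8, 18, 18, 6, 8, 11, 4, 6, 8, 11, 4, 6, 8, 4, 6, 4, 13, 10, 8, 10, 24]⟩))
  (.node (nat_lit 4043) (.leaf ⟨6, 9, true, [14, 18, 18, 8, 10, 6, 8, 18], [19, 10, 6, 8, 19, 19, 2, 6, 4, 11, 12, 6, 8, 11, 6]⟩)
  (.leaf ⟨9, 7, true, [6, 8, 19, 19, 12, 14], [18, 10, 8, 19, 19, 2, 6, 8, 11, 8, 11, 4, 6, 8, 10, 4, 6, 8, 4, 6, 4, 12, 10, 8, 10, 6, 20]⟩)))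
  (.node (nat_lit 4046) (.node (nat_lit 4045) (.leaf ⟨7, 9, true, [11, 8, 0, 19, 8, 19, 8, 16], [12, 6, 18, 8, 18, 18, 13, 4, 6, 8, 11, 4, 6, 8, 10, 4, 6, 8, 4, 6, 4, 12, 10, 6, 8, 11, 13]⟩)
  (.leaf ⟨9, 6, true, [13, 8, 18, 8, 19, 6, 2], [16, 8, 19, 6, 18, 8, 19, 2, 11, 12, 6, 8, 11, 4, 6, 8, 4, 6, 4, 8, 11, 13, 6, 8, 10, 6]⟩))
  (.node (nat_lit 4047) (.leaf ⟨6, 9, true, [13, 8, 15, 18, 8, 15, 18, 8, 18], [18, 18, 18, 10, 8, 19, 2, 10, 8, 10, 4, 6, 8, 11, 4, 6, 8, 4, 6, 4, 6, 8, 11, 6, 8, 10, 21]⟩)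
  (.leaf ⟨9, 6, true, [15, 19, 19, 16, 8, 19, 14, 6], [6, 8, 18, 18, 11, 8, 11, 6, 8, 10, 4, 6, 8, 4, 6, 4, 10, 6, 21]⟩)))))
  (.node (nat_lit 4056) (.node (nat_lit 4052) (.node (nat_lit 4050) (.node (nat_lit 4049) (.leaf ⟨6, 9, true, [13, 11, 8, 18, 8, 18, 8, 18, 10, 10], [19, 12, 19, 8, 0, 19, 2, 11, 11, 6, 8, 4, 6, 4, 0, 10, 6, 8, 11, 6, 8, 10, 6, 22]⟩)
  (.leaf ⟨9, 6, true, [13, 19, 8, 19, 6, 8, 19, 14, 6], [18, 11, 8, 18, 8, 19, 19, 2, 8, 11, 6, 8, 4, 6, 4, 11, 11, 6, 8, 11, 24]⟩))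
  (.node (nat_lit 4051) (.leaf ⟨6, 9, true, [19, 6, 18, 8, 18, 8, 0, 18], [14, 8, 19, 19, 19, 8, 19, 2, 13, 6, 8, 11, 4, 6, 8, 4, 6, 4, 0, 11, 13, 6, 8, 10, 13]⟩)
  (.leaf ⟨9, 6, true, [8, 16, 13, 8, 19, 8, 19, 2], [8, 10, 6, 8, 19, 19, 2, 12, 8, 11, 4, 6, 8, 4, 6, 4, 0, 12, 11, 8, 10, 12]⟩)))
  (.node (nat_lit 4054) (.node (nat_lit 4053) (.leaf ⟨6, 9, true, [18, 0, 19, 19, 8, 19, 8, 6, 2], [8, 0, 14, 18, 18, 8, 19, 2, 13, 10, 8, 10, 6, 8, 4, 6, 4, 13, 8, 11, 6, 21]⟩)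
  (.leaf ⟨9, 6, true, [14, 8, 19, 8, 0, 14, 6], [18, 18, 12, 8, 19, 8, 19, 2, 10, 6, 8, 10, 4, 6, 8, 11, 4, 6, 8, 4, 6, 4, 0, 11, 11, 6, 8, 11, 25]⟩))
  (.node (nat_lit 4055) (.leaf ⟨6, 9, true, [14, 10, 8, 18, 8, 18, 8, 6], [8, 14, 18, 18, 8, 19, 2, 4, 6, 8, 11, 4, 6, 8, 4, 6, 4, 0, 10, 8, 11, 6, 8, 10, 6, 13]⟩)
  (.leaf ⟨9, 6, true, [13, 8, 18, 8, 19, 19, 15], [14, 8, 0, 19, 8, 19, 2, 12, 8, 10, 4, 6, 8, 11, 4, 6, 8, 4, 6, 4, 11, 24]⟩))))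
  (.node (nat_lit 4060) (.node (nat_lit 4058) (.node (nat_lit 4057) (.leaf ⟨6, 9, true, [8, 18, 12, 8, 18, 8, 6], [19, 19, 8, 19, 2, 13, 10, 8, 11, 4, 6, 8, 11, 4, 6, 8, 4, 6, 4, 13, 10, 8, 11, 6, 8, 10, 22]⟩)
  (.leaf ⟨9, 9, true, [19, 19, 6, 18, 10, 8, 6], [15, 18, 10, 8, 18, 18, 6, 8, 10, 6, 8, 11, 4, 6, 8, 4, 6, 4, 13, 11, 8, 11, 21]⟩))
  (.node (nat_lit 4059) (.leaf ⟨9, 9, true, [16, 10, 8, 19, 8, 6, 2], [0, 15, 18, 8, 19, 2, 11, 6, 4, 6, 8, 10, 4, 6, 8, 4, 6, 4, 8, 10, 6, 8, 10, 13]⟩)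
  (.leaf ⟨9, 9, true, [12, 14, 8, 16], [15, 19, 8, 19, 2, 11, 4, 6, 8, 4, 6, 4, 0, 8, 11]⟩)))
  (.node (nat_lit 4062) (.node (nat_lit 4061) (.leaf ⟨9, 9, true, [14, 8, 19, 19, 14, 10], [8, 11, 6, 8, 4, 6, 4, 11, 11, 8, 10, 6, 8, 11, 23]⟩)
  (.leaf ⟨6, 9, true, [8, 14, 8, 19, 6, 8, 19, 8, 16], [18, 10, 8, 18, 18, 11, 8, 4, 6, 4, 0, 6, 8, 10, 6, 8, 11, 20]⟩))
  (.node (nat_lit 4063) (.leaf ⟨9, 6, true, [18, 12, 14, 8, 18, 8, 18], [13, 10, 8, 19, 8, 0, 19, 2, 8, 11, 4, 6, 8, 11, 4, 6, 8, 4, 6, 4, 0, 13, 8, 11, 6, 8, 10, 21]⟩)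
  (.leaf ⟨6, 9, true, [14, 6, 18, 8, 6, 18, 10], [16, 8, 2, 19, 8, 19, 2, 13, 10, 8, 11, 6, 8, 10, 4, 6, 8, 4, 6, 4, 12, 11, 8, 10, 12]⟩))))))

noncomputable def f4064 : FT := (.node (nat_lit 4080) (.node (nat_lit 4072) (.node (nat_lit 4068) (.node (nat_lit 4066) (.node (nat_lit 4065) (.leaf ⟨9, 6, true, [19, 8, 19, 10, 8, 19, 8, 16], [0, 14, 18, 18, 8, 19, 2, 12, 6, 8, 11, 4, 6, 8, 10, 4, 6, 8, 4, 6, 4, 13, 8, 10, 6, 8, 11, 12]⟩)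
  (.leaf ⟨9, 6, true, [14, 8, 19, 19, 14, 8, 6], [19, 8, 19, 0, 2, 11, 13, 6, 8, 11, 4, 6, 8, 4, 6, 4, 8, 10, 12, 6, 8, 10, 20]⟩))
  (.node (nat_lit 4067) (.leaf ⟨6, 9, true, [15, 19, 6, 18, 8, 19, 8, 14, 6], [19, 10, 8, 19, 8, 19, 2, 11, 11, 8, 10, 4, 6, 8, 4, 6, 4, 11, 12, 8, 10, 23]⟩)
  (.leaf ⟨9, 3, true, [12, 6, 18, 8, 0, 19, 6, 2], [0, 14, 8, 6, 18, 8, 19, 2, 4, 6, 8, 11, 6, 8, 10, 4, 6, 8, 4, 6, 4, 11, 8, 10, 6, 21]⟩)))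
  (.node (nat_lit 4070) (.node (nat_lit 4069) (.leaf ⟨3, 9, true, [6, 8, 6, 18, 8, 18, 8, 6], [12, 0, 14, 8, 18, 18, 6, 8, 10, 10, 4, 6, 8, 11, 4, 6, 8, 4, 6, 4, 8, 11, 6, 25]⟩)
  (.leaf ⟨9, 6, true, [10, 8, 6, 18, 8, 19, 19, 2], [4, 14, 8, 0, 19, 8, 19, 2, 8, 6, 4, 13, 11, 8, 11, 20]⟩))
  (.node (nat_lit 4071) (.leaf ⟨6, 9, true, [8, 10, 6, 8, 19, 19, 15, 8, 6], [14, 4, 6, 18, 8, 19, 2, 10, 10, 8, 11, 6, 8, 4, 6, 4, 12, 11, 12]⟩)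
  (.leaf ⟨6, 9, true, [13, 19, 8, 19, 8, 14, 10, 6], [10, 6, 8, 19, 8, 0, 19, 2, 12, 8, 11, 6, 8, 10, 4, 6, 8, 4, 6, 4, 0, 8, 11, 12, 6, 8, 11, 6, 20]⟩))))
  (.node (nat_lit 4076) (.node (nat_lit 4074) (.node (nat_lit 4073) (.leaf ⟨9, 6, true, [19, 15, 19, 12, 8, 16, 8, 19, 19, 2], [0, 19, 12, 19, 8, 0, 19, 2, 4, 6, 8, 11, 6, 4, 6, 8, 11, 4, 6, 8, 4, 6, 4, 8, 10, 8, 10, 6, 8, 10]⟩)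
  (.leaf ⟨6, 9, true, [19, 19, 8, 19, 8, 19, 8, 16, 10], [8, 18, 12, 18, 8, 0, 18, 18, 8, 11, 13, 6, 8, 10, 4, 6, 8, 4, 6, 4, 8, 11, 11, 6, 8, 11, 24]⟩))
  (.node (nat_lit 4075) (.leaf ⟨9, 6, true, [2, 18, 18, 8, 18, 8, 19, 19, 14], [8, 19, 12, 19, 8, 0, 19, 2, 11, 6, 8, 4, 6, 4, 0, 11, 8, 11, 6, 8, 11, 6, 22]⟩)
  (.leaf ⟨6, 9, true, [19, 12, 8, 19, 8, 16, 10], [19, 8, 15, 8, 19, 8, 19, 2, 11, 6, 8, 10, 4, 6, 8, 10, 4, 6, 8, 4, 6, 4, 13, 8, 10, 6, 8, 11, 13]⟩)))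
  (.node (nat_lit 4078) (.node (nat_lit 4077) (.leaf ⟨9, 6, true, [10, 8, 0, 19, 19, 15, 8, 10, 6], [14, 6, 0, 18, 8, 18, 18, 8, 10, 8, 10, 6, 8, 4, 6, 4, 10, 8, 10, 6, 8, 10, 21]⟩)
  (.leaf ⟨6, 9, true, [19, 19, 8, 16, 8, 19, 12, 16], [16, 8, 14, 18, 18, 8, 19, 2, 4, 6, 8, 11, 4, 6, 8, 11, 4, 6, 8, 4, 6, 4, 0, 11, 11, 8, 10, 25]⟩))
  (.node (nat_lit 4079) (.leaf ⟨9, 6, true, [12, 15, 8, 19, 8, 19, 2], [8, 2, 18, 8, 18, 18, 8, 10, 10, 6, 8, 10, 4, 6, 8, 4, 6, 4, 13, 11, 8, 11, 13]⟩)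
  (.leaf ⟨6, 9, true, [19, 19, 12, 8, 19, 8, 6, 2], [15, 0, 19, 8, 19, 8, 19, 2, 4, 6, 8, 4, 6, 4, 0, 13, 10, 8, 11, 6, 8, 10, 25]⟩)))))
  (.node (nat_lit 4088) (.node (nat_lit 4084) (.node (nat_lit 4082) (.node (nat_lit 4081) (.leaf ⟨9, 6, true, [6, 18, 18, 8, 18, 8, 4, 14, 6], [16, 8, 2, 19, 8, 19, 2, 6, 8, 11, 4, 6, 8, 4, 6, 4, 13, 11, 6, 8, 10]⟩)
  (.leaf ⟨6, 9, true, [19, 19, 13, 10, 8, 19, 8, 16, 10], [18, 18, 11, 8, 19, 8, 19, 2, 4, 6, 8, 10, 4, 6, 8, 10, 4, 6, 8, 4, 6, 4, 11, 8, 11, 6, 8, 11, 6]⟩))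
  (.node (nat_lit 4083) (.leaf ⟨9, 6, true, [19, 8, 6, 18, 8, 19, 12, 8, 16], [6, 8, 18, 8, 19, 8, 19, 2, 12, 6, 8, 11, 4, 6, 8, 4, 6, 4, 0, 10, 13, 8, 10, 6, 23]⟩)
  (.leaf ⟨6, 9, true, [19, 19, 16, 13, 8, 19, 8, 14, 6], [12, 8, 6, 18, 8, 0, 18, 18, 12, 11, 4, 6, 8, 4, 6, 4, 13, 6, 8, 11, 6, 23]⟩)))
  (.node (nat_lit 4086) (.node (nat_lit 4085) (.leaf ⟨9, 6, true, [8, 18, 13, 10, 8, 19, 6, 2], [10, 8, 18, 0, 14, 8, 18, 18, 4, 6, 8, 10, 4, 6, 8, 4, 6, 4, 0, 10, 8, 11, 6, 21]⟩)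
  (.leaf ⟨6, 9, true, [11, 12, 8, 19, 8, 16], [15, 0, 19, 8, 19, 8, 19, 2, 10, 8, 11, 6, 4, 6, 8, 11, 4, 6, 8, 4, 6, 4, 11, 8, 10, 25]⟩))
  (.node (nat_lit 4087) (.leaf ⟨9, 6, true, [8, 0, 19, 19, 8, 14, 6], [18, 18, 10, 10, 8, 18, 18, 11, 8, 11, 6, 8, 4, 6, 4, 11, 13, 6, 8, 11, 22]⟩)
  (.leaf ⟨6, 9, true, [2, 18, 8, 18, 10, 8, 19, 6, 2], [15, 18, 18, 8, 18, 18, 10, 8, 11, 6, 4, 6, 8, 11, 4, 6, 8, 4, 6, 4, 10, 8, 11, 23]⟩))))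
  (.node (nat_lit 4092) (.node (nat_lit 4090) (.node (nat_lit 4089) (.leaf ⟨9, 6, true, [12, 18, 8, 15, 18, 8, 18], [18, 8, 0, 19, 10, 8, 19, 2, 11, 8, 10, 4, 6, 8, 4, 6, 4, 12, 11, 6, 24]⟩)
  (.leaf ⟨6, 9, true, [16, 8, 15, 18, 8, 19, 6, 2], [19, 6, 18, 10, 8, 19, 2, 10, 12, 8, 11, 4, 6, 8, 4, 6, 4, 0, 13, 8, 11, 6, 8, 10]⟩))
  (.node (nat_lit 4091) (.leaf ⟨9, 6, true, [14, 8, 0, 19, 19, 10, 8, 16], [10, 10, 8, 18, 18, 6, 4, 6, 8, 11, 4, 6, 8, 4, 6, 4, 12, 11, 6, 8, 10, 24]⟩)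
  (.leaf ⟨9, 9, true, [8, 18, 18, 14, 8, 18, 8, 18, 11], [19, 8, 6, 18, 10, 8, 19, 2, 4, 6, 8, 11, 4, 6, 8, 11, 4, 6, 8, 4, 6, 4, 8, 10, 8, 10, 6, 24]⟩)))
  (.node (nat_lit 4094) (.node (nat_lit 4093) (.leaf ⟨9, 9, true, [18, 10, 8, 18, 8, 0, 18, 10], [8, 19, 8, 0, 19, 2, 10, 10, 8, 4, 6, 4, 0, 10, 6, 8, 10, 6, 8, 11, 23]⟩)
  (.leaf ⟨6, 9, true, [18, 8, 15, 18, 8, 6, 18], [15, 18, 0, 14, 8, 18, 18, 6, 8, 10, 6, 4, 6, 8, 11, 4, 6, 8, 4, 6, 4, 11, 6, 8, 11, 22]⟩))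
  (.node (nat_lit 4095) (.leaf ⟨9, 6, true, [15, 13, 19, 8, 0, 19, 8, 16, 10], [19, 12, 19, 8, 19, 2, 12, 10, 6, 8, 10, 4, 6, 8, 10, 4, 6, 8, 4, 6, 4, 12, 8, 10, 6, 8, 10, 20]⟩)
  (.leaf ⟨9, 9, true, [15, 12, 8, 19, 8, 19, 15], [0, 14, 4, 6, 8, 18, 18, 10, 8, 11, 6, 8, 4, 6, 4, 0, 13, 8, 10, 6, 8, 11, 12]⟩))))))

noncomputable def f4096 : FT := (.node (nat_lit 4112) (.node (nat_lit 4104) (.node (nat_lit 4100) (.node (nat_lit 4098) (.node (nat_lit 4097) (.leaf ⟨6, 9, true, [13, 6, 8, 18, 8, 19, 14, 6], [8, 19, 8, 19, 8, 19, 2, 13, 11, 8, 10, 4, 6, 8, 10, 4, 6, 8, 4, 6, 4, 6, 8, 11, 6, 8, 10, 22]⟩)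
  (.leaf ⟨9, 6, true, [19, 8, 19, 12, 8, 16], [6, 8, 18, 18, 8, 19, 8, 19, 2, 4, 6, 8, 10, 6, 8, 11, 4, 6, 8, 4, 6, 4, 0, 12, 11, 8, 10, 12]⟩))
  (.node (nat_lit 4099) (.leaf ⟨9, 6, true, [11, 8, 18, 8, 4, 14, 6], [8, 0, 19, 19, 14, 8, 19, 0, 2, 4, 6, 8, 4, 6, 4, 11, 6, 8, 10, 25]⟩)
  (.leaf ⟨6, 9, true, [6, 18, 8, 10, 6, 8, 18], [12, 8, 18, 8, 18, 18, 11, 13, 8, 10, 6, 8, 11, 4, 6, 8, 4, 6, 4, 10, 8, 11, 25]⟩)))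
  (.node (nat_lit 4102) (.node (nat_lit 4101) (.leaf ⟨9, 6, true, [11, 8, 18, 12, 18, 8, 6], [19, 2, 11, 11, 6, 8, 11, 4, 6, 8, 4, 6, 4, 12, 8, 11, 6, 8, 10, 13]⟩)
  (.leaf ⟨6, 9, true, [14, 10, 8, 18, 8, 18, 12, 10], [0, 18, 10, 10, 8, 18, 18, 12, 10, 6, 8, 4, 6, 4, 0, 12, 11, 8, 10, 6, 8, 10, 12]⟩))
  (.node (nat_lit 4103) (.leaf ⟨9, 5, true, [15, 18, 14, 8, 18, 10, 8, 18], [18, 18, 8, 0, 18, 18, 6, 8, 10, 4, 6, 8, 10, 4, 6, 8, 4, 6, 4, 10, 8, 10, 6, 8, 10, 23]⟩)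
  (.leaf ⟨5, 9, true, [6, 18, 18, 13, 8, 18, 8, 18, 10], [19, 15, 8, 19, 8, 19, 2, 6, 4, 6, 8, 11, 6, 8, 10, 4, 6, 8, 4, 6, 4, 8, 10, 8, 10, 6, 8, 10, 6, 12]⟩))))
  (.node (nat_lit 4108) (.node (nat_lit 4106) (.node (nat_lit 4105) (.leaf ⟨6, 9, true, [0, 19, 6, 18, 8, 16, 8, 19, 16], [16, 8, 19, 6, 8, 18, 18, 4, 6, 8, 10, 6, 8, 11, 4, 6, 8, 4, 6, 4, 11, 8, 11, 6, 8, 11, 6, 21]⟩)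
  (.leaf ⟨9, 6, true, [19, 19, 8, 19, 8, 19, 8, 19, 15], [18, 8, 19, 10, 8, 19, 2, 11, 13, 4, 6, 8, 10, 4, 6, 8, 4, 6, 4, 6, 8, 11, 8, 11, 6, 22]⟩))
  (.node (nat_lit 4107) (.leaf ⟨9, 9, true, [18, 0, 19, 19, 8, 19, 8, 14, 6], [19, 10, 8, 6, 18, 8, 19, 2, 8, 10, 8, 6, 4, 13, 10, 8, 11, 6, 8, 10, 12]⟩)
  (.leaf ⟨9, 9, true, [14, 8, 19, 10, 8, 19, 2], [18, 12, 8, 18, 8, 18, 18, 12, 10, 8, 10, 4, 6, 8, 4, 6, 4, 0, 13, 8, 11, 6, 8, 10, 13]⟩)))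
  (.node (nat_lit 4110) (.node (nat_lit 4109) (.leaf ⟨9, 8, true, [0, 18, 8, 6, 18, 8, 6, 18, 10], [18, 12, 8, 0, 19, 8, 19, 2, 11, 11, 8, 11, 4, 6, 8, 11, 4, 6, 8, 4, 6, 4, 8, 11, 12, 6, 8, 11, 6, 20]⟩)
  (.leaf ⟨8, 9, true, [19, 15, 19, 8, 6, 18, 8, 6], [8, 0, 14, 18, 18, 8, 19, 2, 13, 8, 11, 4, 6, 8, 4, 6, 4, 0, 12, 8, 10, 6, 13]⟩))
  (.node (nat_lit 4111) (.leaf ⟨9, 3, true, [18, 18, 12, 18, 8, 19, 19, 14, 8, 6], [6, 18, 18, 8, 19, 10, 8, 19, 2, 8, 10, 4, 6, 8, 10, 4, 6, 8, 4, 6, 4, 8, 11, 6, 8, 11, 6]⟩)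
  (.leaf ⟨3, 9, true, [12, 8, 18, 8, 19, 8, 19, 2], [6, 18, 11, 8, 19, 8, 19, 2, 10, 10, 6, 8, 11, 4, 6, 8, 11, 4, 6, 8, 4, 6, 4, 8, 10, 8, 10]⟩)))))
  (.node (nat_lit 4120) (.node (nat_lit 4116) (.node (nat_lit 4114) (.node (nat_lit 4113) (.leaf ⟨9, 6, true, [19, 8, 19, 14, 8, 10, 6], [8, 0, 19, 8, 19, 8, 0, 19, 2, 6, 4, 6, 8, 10, 4, 6, 8, 11, 4, 6, 8, 4, 6, 4, 13, 6, 8, 10, 6, 24]⟩)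
  (.leaf ⟨6, 9, true, [13, 8, 19, 8, 19, 6, 8, 19, 16], [10, 8, 19, 8, 19, 2, 12, 4, 6, 8, 11, 4, 6, 8, 10, 4, 6, 8, 4, 6, 4, 10, 6, 8, 11, 6, 8, 10, 6, 13]⟩))
  (.node (nat_lit 4115) (.leaf ⟨9, 6, true, [11, 8, 6, 18, 8, 19, 19, 15], [14, 8, 18, 8, 2, 18, 18, 11, 4, 6, 8, 11, 6, 4, 6, 8, 11, 4, 6, 8, 4, 6, 4, 13, 10, 8, 10, 6, 8, 10, 25]⟩)
  (.leaf ⟨6, 9, true, [15, 0, 18, 8, 18, 8, 18, 12, 10], [19, 8, 19, 2, 10, 10, 6, 8, 11, 4, 6, 8, 4, 6, 4, 13, 11, 8, 10, 6, 8, 11, 24]⟩)))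
  (.node (nat_lit 4118) (.node (nat_lit 4117) (.leaf ⟨9, 8, true, [14, 8, 19, 12, 19, 8, 14, 6], [8, 14, 6, 8, 18, 18, 8, 10, 12, 6, 8, 10, 4, 6, 8, 4, 6, 4, 8, 10, 10, 6, 8, 10, 22]⟩)
  (.leaf ⟨8, 9, true, [6, 18, 18, 8, 19, 10, 8, 16], [0, 18, 18, 6, 8, 11, 4, 6, 8, 4, 6, 4, 11, 6, 8, 10, 6, 25]⟩))
  (.node (nat_lit 4119) (.leaf ⟨9, 6, true, [13, 16, 8, 19, 10, 8, 19, 2], [18, 8, 18, 8, 18, 8, 19, 2, 6, 8, 10, 8, 10, 4, 6, 8, 4, 6, 4, 0, 11, 12, 6, 8, 11, 13]⟩)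
  (.leaf ⟨6, 9, true, [19, 10, 8, 10, 6, 8, 18], [8, 11, 8, 0, 19, 8, 19, 2, 6, 8, 11, 12, 4, 6, 8, 11, 4, 6, 8, 4, 6, 4, 12, 11, 8, 10, 23]⟩))))
  (.node (nat_lit 4124) (.node (nat_lit 4122) (.node (nat_lit 4121) (.leaf ⟨9, 6, true, [15, 11, 8, 0, 19, 8, 19, 8, 16, 10], [19, 8, 2, 18, 8, 18, 18, 10, 8, 11, 4, 6, 8, 4, 6, 4, 0, 10, 10, 6, 13]⟩)
  (.leaf ⟨6, 9, true, [8, 19, 14, 6, 8, 18, 8, 18, 10], [8, 18, 6, 8, 19, 8, 19, 2, 11, 11, 8, 10, 6, 8, 4, 6, 4, 8, 11, 8, 11, 13]⟩))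
  (.node (nat_lit 4123) (.leaf ⟨9, 8, true, [15, 11, 8, 18, 8, 18, 8, 18, 11], [12, 19, 8, 6, 18, 8, 19, 2, 10, 10, 8, 6, 4, 11, 11, 8, 10, 22]⟩)
  (.leaf ⟨8, 9, true, [6, 8, 19, 8, 16], [8, 14, 18, 18, 8, 19, 2, 11, 4, 6, 8, 11, 4, 6, 8, 4, 6, 4, 13, 8, 10, 6, 8, 11]⟩)))
  (.node (nat_lit 4126) (.node (nat_lit 4125) (.leaf ⟨9, 9, true, [19, 15, 19, 6, 8, 19, 8, 14, 6], [8, 0, 19, 19, 14, 8, 19, 0, 2, 11, 11, 8, 11, 4, 6, 8, 11, 4, 6, 8, 4, 6, 4, 12, 10, 12]⟩)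
  (.leaf ⟨9, 9, true, [13, 15, 18, 8, 18, 8, 6, 18], [10, 8, 18, 14, 8, 18, 18, 4, 0, 8, 11, 8, 11, 6, 22]⟩))
  (.node (nat_lit 4127) (.leaf ⟨9, 6, true, [15, 12, 19, 6, 8, 19, 8, 14, 6], [8, 18, 18, 10, 8, 19, 2, 10, 10, 6, 8, 11, 4, 6, 8, 10, 4, 6, 8, 4, 6, 4, 13, 11, 6, 8, 10, 22]⟩)
  (.leaf ⟨6, 9, true, [16, 10, 8, 19, 8, 19, 14], [13, 18, 8, 0, 19, 8, 19, 2, 12, 10, 4, 6, 8, 10, 4, 6, 8, 10, 4, 6, 8, 4, 6, 4, 10, 13, 8, 10, 6, 21]⟩))))))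

noncomputable def f4128 : FT := (.node (nat_lit 4144) (.node (nat_lit 4136) (.node (nat_lit 4132) (.node (nat_lit 4130) (.node (nat_lit 4129) (.leaf ⟨6, 9, true, [18, 12, 10, 8, 18, 10], [15, 19, 8, 19, 2, 10, 10, 8, 11, 4, 6, 8, 4, 6, 4, 10, 8, 10, 6, 8, 10, 22]⟩)
  (.leaf ⟨9, 6, true, [16, 8, 16, 8, 19, 6, 2], [10, 8, 0, 19, 19, 2, 8, 10, 8, 6, 4, 0, 11, 8, 11, 21]⟩))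
  (.node (nat_lit 4131) (.leaf ⟨8, 9, true, [8, 0, 19, 10, 12, 8, 19, 8, 14, 6], [8, 19, 6, 8, 18, 18, 12, 11, 8, 4, 6, 4, 13, 11, 6, 8, 11, 23]⟩)
  (.leaf ⟨9, 8, true, [0, 15, 18, 12, 8, 19, 8, 19, 2], [0, 19, 12, 8, 19, 8, 0, 19, 2, 11, 13, 6, 8, 11, 4, 6, 8, 10, 4, 6, 8, 4, 6, 4, 11, 11, 6, 8, 11, 24]⟩)))
  (.node (nat_lit 4134) (.node (nat_lit 4133) (.leaf ⟨9, 6, true, [16, 8, 11, 8, 19, 8, 16], [11, 8, 0, 19, 8, 19, 2, 4, 6, 4, 0, 11, 13, 8, 10, 6, 8, 11, 23]⟩)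
  (.leaf ⟨6, 9, true, [0, 19, 6, 8, 19, 19, 12, 14], [10, 8, 18, 14, 8, 19, 19, 2, 6, 8, 10, 4, 6, 8, 11, 4, 6, 8, 4, 6, 4, 13, 8, 10]⟩))
  (.node (nat_lit 4135) (.leaf ⟨6, 9, true, [0, 19, 13, 8, 19, 8, 19, 2], [12, 10, 8, 19, 19, 2, 10, 8, 11, 4, 6, 8, 4, 6, 4, 11, 12, 6, 8, 11, 6, 24]⟩)
  (.leaf ⟨9, 6, true, [15, 8, 18, 8, 19, 19, 12, 14], [18, 18, 10, 8, 19, 0, 2, 10, 8, 11, 13, 6, 8, 10, 4, 6, 8, 4, 6, 4, 8, 11, 13, 6, 8, 10, 13]⟩))))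
  (.node (nat_lit 4140) (.node (nat_lit 4138) (.node (nat_lit 4137) (.leaf ⟨9, 9, true, [15, 18, 10, 8, 18, 8, 18, 8, 18], [18, 11, 8, 0, 19, 8, 19, 2, 12, 10, 8, 10, 4, 6, 8, 4, 6, 4, 0, 12, 8, 10, 6, 8, 10, 25]⟩)
  (.leaf ⟨6, 9, true, [19, 19, 16, 8, 19, 14, 10, 8, 6], [0, 14, 10, 8, 18, 0, 18, 11, 4, 6, 8, 11, 6, 4, 6, 8, 11, 4, 6, 8, 4, 6, 4, 10, 6, 8, 11, 6, 13]⟩))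
  (.node (nat_lit 4139) (.leaf ⟨9, 6, true, [8, 15, 18, 8, 19, 8, 19, 2], [16, 8, 0, 19, 8, 19, 2, 12, 4, 6, 8, 10, 4, 6, 8, 10, 4, 6, 8, 4, 6, 4, 13, 11, 6, 8, 11, 13]⟩)
  (.leaf ⟨6, 9, true, [10, 6, 8, 6, 18, 8, 18, 10], [15, 18, 8, 2, 18, 18, 8, 10, 8, 4, 6, 4, 0, 10, 8, 10, 6, 13]⟩)))
  (.node (nat_lit 4142) (.node (nat_lit 4141) (.leaf ⟨9, 6, true, [19, 14, 10, 6, 8, 19, 19, 14], [2, 18, 8, 0, 18, 18, 8, 11, 13, 6, 8, 10, 4, 6, 8, 4, 6, 4, 8, 11, 8, 11]⟩)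
  (.leaf ⟨9, 8, true, [8, 15, 19, 8, 15, 19, 8, 19, 2], [10, 8, 18, 14, 8, 18, 18, 6, 8, 10, 6, 4, 6, 8, 11, 4, 6, 8, 4, 6, 4, 6, 8, 10, 6, 8, 11, 6, 24]⟩))
  (.node (nat_lit 4143) (.leaf ⟨8, 9, true, [14, 8, 19, 8, 6, 18, 8, 6], [2, 18, 8, 19, 6, 8, 18, 18, 12, 8, 10, 6, 8, 4, 6, 4, 11, 8, 11, 12, 6, 8, 11, 21]⟩)
  (.leaf ⟨6, 9, true, [15, 18, 13, 8, 6, 18, 8, 18, 10], [6, 8, 4, 6, 18, 8, 19, 2, 0, 10, 8, 11, 6, 8, 10, 20]⟩)))))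
  (.node (nat_lit 4152) (.node (nat_lit 4148) (.node (nat_lit 4146) (.node (nat_lit 4145) (.leaf ⟨9, 6, true, [6, 8, 10, 8, 19, 2], [19, 19, 8, 19, 2, 8, 11, 6, 8, 10, 4, 6, 8, 4, 6, 4, 0, 13, 6, 8, 11, 13]⟩)
  (.leaf ⟨6, 9, true, [6, 18, 14, 8, 19, 19, 14, 8, 6], [8, 0, 18, 8, 18, 18, 10, 6, 8, 10, 6, 8, 4, 6, 4, 0, 11, 11, 8, 11, 23]⟩))
  (.node (nat_lit 4147) (.leaf ⟨9, 6, true, [14, 18, 11, 8, 19, 8, 19, 14], [18, 8, 18, 8, 19, 19, 2, 13, 10, 8, 10, 6, 8, 4, 6, 4, 10, 10, 8, 11, 21]⟩)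
  (.leaf ⟨9, 5, true, [14, 8, 19, 6, 8, 18, 10], [8, 18, 8, 0, 19, 8, 19, 2, 8, 11, 6, 8, 4, 6, 4, 6, 8, 11, 6, 8, 10]⟩)))
  (.node (nat_lit 4150) (.node (nat_lit 4149) (.leaf ⟨5, 9, true, [0, 18, 13, 10, 8, 18, 8, 18, 10], [19, 10, 8, 6, 18, 8, 19, 2, 8, 11, 8, 11, 4, 6, 8, 4, 6, 4, 0, 10, 8, 11, 6, 8, 11, 23]⟩)
  (.leaf ⟨5, 9, true, [0, 18, 18, 18, 8, 11, 8, 6], [19, 16, 8, 19, 6, 8, 18, 18, 13, 11, 6, 8, 11, 4, 6, 8, 11, 4, 6, 8, 4, 6, 4, 8, 10, 6, 8, 10, 12]⟩))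
  (.node (nat_lit 4151) (.leaf ⟨9, 5, true, [0, 18, 8, 18, 8, 19, 12, 19, 2], [18, 0, 19, 8, 19, 8, 19, 2, 6, 8, 10, 8, 10, 4, 6, 8, 4, 6, 4, 12, 10, 6, 8, 10]⟩)
  (.leaf ⟨9, 9, true, [8, 11, 8, 19, 12, 19, 8, 14, 6], [18, 11, 8, 18, 8, 19, 19, 2, 4, 6, 8, 10, 12, 4, 6, 8, 10, 4, 6, 8, 4, 6, 4, 11, 13, 8, 10, 24]⟩))))
  (.node (nat_lit 4156) (.node (nat_lit 4154) (.node (nat_lit 4153) (.leaf ⟨9, 9, true, [12, 18, 8, 19, 8, 19, 8, 14, 6], [0, 16, 8, 6, 18, 8, 19, 2, 10, 6, 8, 10, 4, 6, 8, 11, 4, 6, 8, 4, 6, 4, 12, 11, 6, 8, 10, 12]⟩)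
  (.leaf ⟨9, 9, true, [13, 18, 10, 8, 18, 8, 6, 18], [16, 8, 19, 8, 19, 8, 19, 2, 10, 13, 8, 11, 4, 6, 8, 4, 6, 4, 0, 10, 8, 10, 6, 8, 10, 6, 23]⟩))
  (.node (nat_lit 4155) (.leaf ⟨9, 9, true, [14, 6, 8, 19, 8, 19, 2], [8, 19, 19, 14, 8, 19, 0, 2, 4, 6, 8, 11, 13, 4, 6, 8, 10, 4, 6, 8, 4, 6, 4, 8, 11, 6, 8, 10]⟩)
  (.leaf ⟨6, 9, true, [18, 0, 15, 8, 6, 18, 8, 18], [12, 14, 8, 19, 8, 19, 2, 8, 11, 12, 4, 6, 8, 11, 4, 6, 8, 4, 6, 4, 11, 8, 11, 6, 8, 11, 6, 25]⟩)))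
  (.node (nat_lit 4158) (.node (nat_lit 4157) (.leaf ⟨9, 6, true, [6, 8, 18, 8, 0, 18, 8, 18, 10], [0, 14, 4, 6, 8, 18, 18, 4, 6, 8, 10, 4, 6, 8, 11, 4, 6, 8, 4, 6, 4, 13, 10, 8, 10, 12]⟩)
  (.leaf ⟨8, 9, true, [18, 8, 15, 18, 8, 19, 6, 2], [19, 10, 8, 19, 2, 10, 10, 4, 6, 8, 10, 4, 6, 8, 4, 6, 4, 10, 8, 10, 6, 12]⟩))
  (.node (nat_lit 4159) (.leaf ⟨9, 8, true, [14, 4, 6, 8, 18, 8, 19, 16], [11, 8, 18, 10, 8, 18, 18, 4, 6, 8, 11, 6, 8, 10, 4, 6, 8, 4, 6, 4, 12, 10, 8, 10, 6, 8, 10, 20]⟩)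
  (.leaf ⟨9, 8, true, [15, 11, 8, 0, 19, 8, 19, 12, 8, 16], [15, 8, 6, 18, 8, 19, 2, 13, 10, 6, 8, 11, 4, 6, 8, 4, 6, 4, 10, 6, 8, 10, 6, 8, 11, 13]⟩))))))

noncomputable def f4160 : FT := (.node (nat_lit 4176) (.node (nat_lit 4168) (.node (nat_lit 4164) (.node (nat_lit 4162) (.node (nat_lit 4161) (.leaf ⟨8, 9, true, [18, 12, 18, 8, 18], [11, 8, 0, 19, 8, 19, 2, 11, 6, 8, 4, 6, 4, 0, 11, 8, 10, 6, 8, 10, 12]⟩)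
  (.leaf ⟨5, 9, true, [0, 14, 18, 8, 6, 18, 8, 18], [8, 18, 12, 18, 8, 0, 18, 18, 8, 10, 4, 6, 8, 11, 4, 6, 8, 4, 6, 4, 11, 8, 11, 25]⟩))
  (.node (nat_lit 4163) (.leaf ⟨9, 5, true, [13, 10, 8, 19, 8, 14, 6], [13, 14, 8, 0, 18, 8, 18, 18, 10, 6, 8, 10, 6, 8, 11, 4, 6, 8, 4, 6, 4, 6, 8, 10, 6, 24]⟩)
  (.leaf ⟨9, 9, true, [19, 13, 16, 8, 6, 18], [18, 2, 18, 8, 19, 10, 8, 19, 2, 11, 8, 10, 4, 6, 8, 10, 4, 6, 8, 4, 6, 4, 11, 8, 11, 6, 13]⟩)))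
  (.node (nat_lit 4166) (.node (nat_lit 4165) (.leaf ⟨9, 9, true, [18, 13, 8, 19, 8, 16, 10], [6, 8, 18, 18, 8, 19, 8, 19, 2, 10, 13, 8, 11, 6, 8, 10, 4, 6, 8, 4, 6, 4, 11, 12, 6, 8, 11, 12]⟩)
  (.leaf ⟨6, 9, true, [0, 18, 18, 12, 14, 8, 18, 8, 18], [18, 8, 19, 14, 8, 19, 0, 2, 10, 8, 11, 4, 6, 8, 4, 6, 4, 8, 10, 13, 6, 8, 10, 20]⟩))
  (.node (nat_lit 4167) (.leaf ⟨9, 6, true, [18, 0, 14, 8, 18, 8, 18, 10], [0, 19, 15, 8, 19, 8, 19, 2, 13, 11, 4, 6, 8, 10, 4, 6, 8, 10, 4, 6, 8, 4, 6, 4, 10, 6, 8, 11, 6, 24]⟩)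
  (.leaf ⟨5, 9, true, [19, 16, 10, 8, 19, 8, 19, 14], [10, 8, 18, 18, 6, 8, 10, 6, 8, 11, 4, 6, 8, 4, 6, 4, 0, 10, 13, 8, 11, 6, 8, 10, 20]⟩))))
  (.node (nat_lit 4172) (.node (nat_lit 4170) (.node (nat_lit 4169) (.leaf ⟨9, 5, true, [13, 6, 0, 18, 8, 18, 8, 18, 12, 10], [8, 0, 18, 8, 0, 18, 18, 8, 11, 12, 4, 6, 8, 11, 4, 6, 8, 4, 6, 4, 13, 6, 8, 11, 23]⟩)
  (.leaf ⟨9, 6, true, [0, 2, 18, 8, 18, 8, 6, 18], [18, 8, 15, 18, 14, 8, 18, 18, 4, 6, 8, 11, 8, 11, 4, 6, 8, 4, 6, 4, 0, 12, 10, 8, 10, 6, 21]⟩))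
  (.node (nat_lit 4171) (.leaf ⟨6, 9, true, [19, 6, 8, 10, 8, 19, 16], [18, 8, 18, 10, 8, 18, 18, 10, 8, 10, 6, 8, 10, 4, 6, 8, 4, 6, 4, 6, 8, 10, 6, 12]⟩)
  (.leaf ⟨9, 6, true, [18, 18, 8, 19, 12, 8, 19, 2], [19, 15, 8, 6, 18, 8, 19, 2, 11, 6, 4, 6, 8, 11, 4, 6, 8, 4, 6, 4, 8, 10, 8, 10, 6, 8, 10, 6, 13]⟩)))
  (.node (nat_lit 4174) (.node (nat_lit 4173) (.leaf ⟨6, 9, true, [6, 8, 6, 18, 8, 18, 10], [19, 10, 6, 8, 19, 19, 2, 11, 8, 10, 6, 8, 4, 6, 4, 0, 13, 11, 8, 11, 24]⟩)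
  (.leaf ⟨9, 6, true, [10, 10, 8, 19, 10, 8, 19, 2], [15, 18, 8, 2, 18, 18, 12, 10, 8, 10, 4, 6, 8, 4, 6, 4, 13, 6, 8, 11, 6, 25]⟩))
  (.node (nat_lit 4175) (.leaf ⟨6, 9, true, [15, 0, 18, 8, 18, 8, 18, 10, 10], [2, 19, 12, 19, 8, 19, 2, 12, 4, 6, 8, 10, 4, 6, 8, 11, 4, 6, 8, 4, 6, 4, 10, 23]⟩)
  (.leaf ⟨9, 6, true, [18, 8, 19, 14, 10, 8, 6], [12, 18, 8, 0, 19, 2, 10, 4, 6, 8, 11, 4, 6, 8, 10, 4, 6, 8, 4, 6, 4, 6, 8, 10, 8, 10, 24]⟩)))))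
  (.node (nat_lit 4184) (.node (nat_lit 4180) (.node (nat_lit 4178) (.node (nat_lit 4177) (.leaf ⟨6, 9, true, [10, 8, 19, 19, 14], [8, 18, 18, 18, 4, 6, 8, 10, 8, 10, 4, 6, 8, 4, 6, 4, 12, 6, 8, 11, 6, 23]⟩)
  (.leaf ⟨9, 6, true, [15, 18, 8, 18, 8, 4, 14, 6], [10, 6, 8, 19, 19, 2, 10, 13, 8, 11, 4, 6, 8, 4, 6, 4, 11, 8, 11, 6, 8, 10, 21]⟩))
  (.node (nat_lit 4179) (.leaf ⟨6, 9, true, [10, 8, 19, 6, 8, 11, 8, 18], [8, 18, 8, 19, 8, 19, 2, 13, 11, 6, 8, 11, 4, 6, 8, 4, 6, 4, 11, 11, 8, 10]⟩)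
  (.leaf ⟨9, 9, true, [11, 11, 8, 18, 8, 6, 18], [19, 6, 18, 10, 8, 19, 2, 8, 10, 4, 6, 8, 11, 4, 6, 8, 4, 6, 4, 10, 8, 11, 6, 8, 10, 6, 12]⟩)))
  (.node (nat_lit 4182) (.node (nat_lit 4181) (.leaf ⟨9, 9, true, [15, 13, 18, 8, 6, 18, 8, 18], [12, 18, 8, 19, 0, 2, 11, 8, 10, 4, 6, 8, 4, 6, 4, 10, 13, 8, 11, 6, 20]⟩)
  (.leaf ⟨9, 6, true, [12, 16, 8, 19, 6, 8, 18], [18, 18, 10, 8, 19, 2, 10, 8, 11, 6, 8, 4, 6, 4, 8, 10, 6, 8, 10, 6, 24]⟩))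
  (.node (nat_lit 4183) (.leaf ⟨6, 9, true, [8, 14, 6, 8, 18, 8, 18], [19, 8, 16, 8, 19, 19, 2, 8, 10, 6, 8, 11, 4, 6, 8, 4, 6, 4, 0, 6, 8, 10, 8, 10, 6, 22]⟩)
  (.leaf ⟨5, 9, true, [11, 13, 8, 19, 8, 19, 8, 6, 2], [6, 18, 18, 18, 8, 19, 2, 11, 13, 4, 6, 8, 11, 4, 6, 8, 4, 6, 4, 0, 11, 13, 6, 8, 11, 21]⟩))))
  (.node (nat_lit 4188) (.node (nat_lit 4186) (.node (nat_lit 4185) (.leaf ⟨9, 5, true, [18, 8, 18, 8, 16, 8, 19, 16], [13, 19, 8, 19, 8, 19, 2, 12, 6, 8, 10, 4, 6, 8, 4, 6, 4, 6, 8, 10, 8, 10, 6, 24]⟩)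
  (.leaf ⟨9, 9, true, [6, 18, 8, 19, 8, 14, 10, 6], [19, 6, 18, 10, 8, 19, 2, 8, 4, 6, 4, 0, 11, 8, 11, 6, 20]⟩))
  (.node (nat_lit 4187) (.leaf ⟨9, 9, true, [13, 18, 8, 18, 18, 18, 8, 19, 14, 6], [19, 19, 10, 8, 19, 2, 4, 6, 8, 11, 4, 6, 8, 4, 6, 4, 0, 11, 8, 10, 23]⟩)
  (.leaf ⟨9, 4, true, [0, 18, 18, 13, 8, 19, 8, 16], [13, 14, 8, 0, 18, 8, 18, 18, 10, 8, 11, 6, 8, 10, 4, 6, 8, 4, 6, 4, 0, 8, 10, 8, 10, 6, 8, 10]⟩)))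
  (.node (nat_lit 4190) (.node (nat_lit 4189) (.leaf ⟨4, 9, true, [18, 8, 18, 18, 8, 19, 8, 14, 6], [18, 18, 10, 8, 18, 18, 8, 11, 13, 6, 8, 10, 4, 6, 8, 4, 6, 4, 0, 13, 11, 8, 10, 6, 8, 11, 23]⟩)
  (.leaf ⟨9, 3, true, [15, 8, 18, 8, 19, 8, 19, 2], [18, 14, 8, 19, 8, 19, 2, 11, 6, 8, 10, 6, 4, 6, 8, 11, 4, 6, 8, 4, 6, 4, 11, 8, 11, 12, 6, 8, 11, 25]⟩))
  (.node (nat_lit 4191) (.leaf ⟨3, 9, true, [15, 0, 19, 12, 8, 19, 8, 16], [19, 8, 15, 19, 8, 0, 19, 2, 10, 6, 8, 11, 4, 6, 8, 10, 4, 6, 8, 4, 6, 4, 0, 12, 10, 6, 8, 11, 23]⟩)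
  (.leaf ⟨5, 9, true, [19, 8, 11, 12, 8, 19, 8, 14, 6], [19, 12, 8, 19, 8, 19, 2, 10, 13, 6, 8, 10, 4, 6, 8, 4, 6, 4, 12, 8, 11]⟩))))))

noncomputable def f4192 : FT := (.node (nat_lit 4208) (.node (nat_lit 4200) (.node (nat_lit 4196) (.node (nat_lit 4194) (.node (nat_lit 4193) (.leaf ⟨9, 5, true, [19, 19, 10, 8, 19, 2], [8, 18, 10, 8, 19, 19, 2, 13, 11, 4, 6, 8, 11, 4, 6, 8, 4, 6, 4, 11, 8, 10, 25]⟩)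
  (.leaf ⟨9, 9, true, [8, 18, 13, 8, 18, 8, 19, 8, 16], [0, 14, 8, 6, 18, 8, 19, 2, 6, 8, 11, 4, 6, 8, 10, 4, 6, 8, 4, 6, 4, 10, 12, 8, 11, 6, 23]⟩))
  (.node (nat_lit 4195) (.leaf ⟨9, 9, true, [0, 2, 18, 8, 18, 18, 10, 8, 6], [15, 18, 18, 8, 18, 18, 12, 11, 6, 8, 4, 6, 4, 0, 13, 6, 8, 10, 6, 22]⟩)
  (.leaf ⟨9, 9, true, [16, 8, 15, 18, 8, 19, 16], [13, 19, 8, 19, 8, 19, 2, 11, 8, 6, 4, 12, 8, 10, 6, 8, 11, 22]⟩)))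
  (.node (nat_lit 4198) (.node (nat_lit 4197) (.leaf ⟨9, 9, true, [14, 8, 18, 18, 14, 8, 16], [15, 19, 19, 19, 8, 19, 2, 4, 6, 8, 11, 4, 6, 8, 10, 4, 6, 8, 4, 6, 4, 0, 11, 13, 6, 8, 11, 6, 24]⟩)
  (.leaf ⟨9, 9, true, [18, 12, 10, 8, 19, 14, 8, 6], [0, 15, 8, 6, 18, 8, 19, 2, 8, 11, 4, 6, 8, 10, 4, 6, 8, 4, 6, 4, 0, 8, 10, 10, 6, 8, 10]⟩))
  (.node (nat_lit 4199) (.leaf ⟨9, 6, true, [10, 8, 18, 0, 18, 10, 8, 6], [19, 6, 18, 8, 19, 8, 19, 2, 11, 4, 6, 8, 11, 4, 6, 8, 4, 6, 4, 0, 8, 11, 11, 6, 8, 11, 21]⟩)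
  (.leaf ⟨6, 9, true, [18, 10, 8, 19, 8, 19, 14], [14, 8, 18, 18, 6, 8, 10, 10, 4, 6, 8, 10, 4, 6, 8, 4, 6, 4, 8, 11, 21]⟩))))
  (.node (nat_lit 4204) (.node (nat_lit 4202) (.node (nat_lit 4201) (.leaf ⟨9, 6, true, [18, 12, 2, 18, 8, 18, 4, 14, 8, 6], [11, 8, 19, 15, 19, 8, 19, 2, 12, 6, 8, 10, 4, 6, 8, 4, 6, 4, 0, 8, 11, 11, 6, 8, 11, 12]⟩)
  (.leaf ⟨6, 9, true, [13, 8, 18, 8, 4, 14, 6], [19, 8, 15, 19, 8, 19, 2, 0, 10, 8, 11, 6, 8, 11, 6, 21]⟩))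
  (.node (nat_lit 4203) (.leaf ⟨6, 9, true, [13, 16, 8, 19, 14, 6], [13, 16, 8, 0, 19, 8, 19, 2, 8, 10, 6, 8, 11, 4, 6, 8, 10, 4, 6, 8, 4, 6, 4, 12, 11, 6, 8, 10, 25]⟩)
  (.leaf ⟨9, 6, true, [12, 6, 8, 6, 18, 8, 18, 10], [15, 19, 8, 19, 8, 19, 2, 11, 4, 6, 8, 11, 4, 6, 8, 11, 4, 6, 8, 4, 6, 4, 8, 11, 6, 8, 10, 6, 21]⟩)))
  (.node (nat_lit 4206) (.node (nat_lit 4205) (.leaf ⟨9, 9, true, [8, 0, 19, 13, 8, 19, 8, 16, 10], [4, 14, 8, 19, 8, 19, 2, 13, 8, 11, 6, 8, 4, 6, 4, 0, 12, 10, 8, 10, 6, 13]⟩)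
  (.leaf ⟨9, 9, true, [15, 18, 18, 12, 8, 18, 8, 18, 10], [6, 8, 16, 8, 19, 19, 2, 6, 8, 10, 6, 8, 11, 4, 6, 8, 10, 4, 6, 8, 4, 6, 4, 11, 8, 11, 6, 25]⟩))
  (.node (nat_lit 4207) (.leaf ⟨6, 9, true, [18, 8, 0, 15, 18, 8, 18, 8, 6], [14, 10, 8, 19, 19, 2, 11, 8, 11, 4, 6, 8, 4, 6, 4, 13, 10, 8, 11, 12]⟩)
  (.leaf ⟨9, 6, true, [13, 10, 8, 18, 8, 18, 11], [8, 6, 18, 8, 0, 18, 18, 4, 6, 8, 11, 4, 6, 8, 11, 4, 6, 8, 4, 6, 4, 10, 12, 8, 11, 25]⟩)))))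
  (.node (nat_lit 4216) (.node (nat_lit 4212) (.node (nat_lit 4210) (.node (nat_lit 4209) (.leaf ⟨7, 9, true, [15, 0, 18, 8, 6, 18, 8, 6], [19, 10, 10, 8, 19, 2, 10, 13, 8, 11, 4, 6, 8, 10, 4, 6, 8, 4, 6, 4, 11, 11, 8, 10, 6, 8, 11, 12]⟩)
  (.leaf ⟨9, 7, true, [16, 13, 14, 8, 6, 18, 8, 18], [19, 12, 16, 8, 19, 8, 19, 2, 8, 10, 8, 10, 6, 8, 10, 4, 6, 8, 4, 6, 4, 8, 11, 13, 6, 8, 10, 6, 24]⟩))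
  (.node (nat_lit 4211) (.leaf ⟨9, 6, true, [8, 19, 14, 6, 18, 8, 19, 6, 2], [18, 2, 18, 8, 19, 10, 8, 19, 2, 11, 6, 8, 11, 4, 6, 8, 10, 4, 6, 8, 4, 6, 4, 8, 10, 13, 6, 8, 10, 24]⟩)
  (.leaf ⟨6, 9, true, [0, 18, 18, 8, 19, 14, 6], [18, 14, 12, 8, 19, 8, 19, 2, 13, 10, 8, 11, 6, 8, 11, 4, 6, 8, 4, 6, 4, 11, 6, 8, 10, 6, 22]⟩)))
  (.node (nat_lit 4214) (.node (nat_lit 4213) (.leaf ⟨6, 9, true, [15, 0, 19, 12, 8, 19, 8, 16], [10, 8, 19, 14, 8, 19, 0, 2, 11, 6, 4, 6, 8, 11, 6, 8, 10, 4, 6, 8, 4, 6, 4, 0, 12, 8, 11, 6, 8, 10, 25]⟩)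
  (.leaf ⟨9, 6, true, [10, 8, 18, 18, 8, 10, 8, 18], [16, 8, 19, 8, 19, 8, 19, 2, 10, 6, 8, 11, 12, 4, 6, 8, 11, 4, 6, 8, 4, 6, 4, 11, 11, 6, 8, 11]⟩))
  (.node (nat_lit 4215) (.leaf ⟨9, 9, true, [8, 15, 19, 12, 8, 0, 19, 8, 16], [19, 0, 14, 6, 8, 18, 18, 6, 8, 10, 6, 8, 11, 4, 6, 8, 4, 6, 4, 0, 10, 8, 10, 6, 23]⟩)
  (.leaf ⟨6, 9, true, [14, 18, 11, 8, 18, 8, 18], [10, 8, 18, 14, 8, 18, 18, 8, 11, 8, 11, 6, 8, 10, 4, 6, 8, 4, 6, 4, 8, 10, 13, 6, 8, 10, 20]⟩))))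
  (.node (nat_lit 4220) (.node (nat_lit 4218) (.node (nat_lit 4217) (.leaf ⟨9, 6, true, [0, 18, 8, 18, 8, 18, 12, 10], [0, 15, 18, 8, 18, 18, 13, 8, 10, 4, 6, 8, 4, 6, 4, 0, 8, 11, 13, 6, 8, 10, 6, 24]⟩)
  (.leaf ⟨3, 9, true, [2, 18, 8, 18, 10, 8, 19, 19, 15], [12, 19, 8, 19, 2, 11, 6, 8, 11, 4, 6, 8, 4, 6, 4, 0, 12, 6, 8, 11, 13]⟩))
  (.node (nat_lit 4219) (.leaf ⟨9, 3, true, [8, 18, 8, 16, 8, 19, 6, 8, 18], [0, 14, 8, 18, 18, 10, 8, 19, 2, 11, 8, 11, 6, 4, 6, 8, 10, 4, 6, 8, 4, 6, 4, 13, 10, 8, 11, 24]⟩)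
  (.leaf ⟨9, 9, true, [19, 12, 10, 8, 6, 18, 8, 6], [8, 18, 8, 19, 19, 2, 11, 4, 6, 8, 10, 4, 6, 8, 4, 6, 4, 13, 10, 8, 11, 24]⟩)))
  (.node (nat_lit 4222) (.node (nat_lit 4221) (.leaf ⟨3, 10, true, [19, 16, 10, 8, 19, 19, 15], []⟩)
  (.leaf ⟨10, 3, true, [], [0, 14, 4, 6, 8, 18, 18, 6, 4, 8, 10, 6]⟩))
  (.node (nat_lit 4223) (.leaf ⟨10, 10, false, [2, 0, 18, 6, 4, 0, 10, 6, 20], []⟩)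
  (.leaf ⟨10, 10, false, [6, 8, 11, 4, 6, 8, 10, 4, 6, 8, 4, 6, 4, 0, 10, 6, 22], []⟩))))))

noncomputable def f4224 : FT := (.node (nat_lit 4236) (.node (nat_lit 4230) (.node (nat_lit 4227) (.node (nat_lit 4225) (.leaf ⟨10, 6, true, [10], [0, 18, 4, 6, 8, 11, 12, 4, 6, 8, 11, 4, 6, 8, 4, 6, 4, 11, 8, 11, 6, 8, 10, 23]⟩)
  (.node (nat_lit 4226) (.leaf ⟨6, 10, true, [19, 19, 0, 15, 8, 6], [2, 0, 18, 11, 6, 8, 4, 6, 4, 6, 8, 11, 6, 20]⟩)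
  (.leaf ⟨10, 6, true, [12, 11], [14, 18, 12, 18, 8, 18, 18, 10, 4, 6, 8, 4, 6, 4, 13, 6, 8, 11, 13]⟩)))
  (.node (nat_lit 4228) (.leaf ⟨6, 10, true, [8, 14, 18, 18, 12, 8, 10, 6], [2, 0, 18, 10, 6, 8, 10, 4, 6, 8, 10, 4, 6, 8, 4, 6, 4, 0, 13, 11, 8, 10, 6, 8, 10, 21]⟩)
  (.node (nat_lit 4229) (.leaf ⟨10, 6, true, [16, 8, 15, 8, 6], [10, 8, 18, 14, 8, 18, 18, 10, 4, 6, 8, 10, 6, 8, 11, 4, 6, 8, 4, 6, 4, 12, 8, 11, 6, 8, 10, 6]⟩)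
  (.leaf ⟨6, 10, true, [15, 18, 8, 15, 18, 8, 19, 19, 15], [11, 11, 4, 6, 8, 4, 6, 4, 0, 11, 12, 8, 10]⟩))))
  (.node (nat_lit 4233) (.node (nat_lit 4231) (.leaf ⟨10, 10, false, [12, 10, 8, 19, 0, 2, 10, 6, 8, 11, 4, 6, 8, 4, 6, 4, 11, 11, 6, 8, 11, 13], []⟩)
  (.node (nat_lit 4232) (.leaf ⟨10, 6, true, [15, 18, 8, 19, 14, 10], [6, 18, 18, 8, 19, 2, 10, 13, 8, 10, 4, 6, 8, 4, 6, 4, 0, 12, 6, 8, 11, 6, 24]⟩)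
  (.leaf ⟨6, 10, true, [19, 8, 19, 15], [6, 0, 18, 10, 8, 18, 18, 8, 4, 6, 4, 13, 6, 8, 10, 20]⟩)))
  (.node (nat_lit 4234) (.leaf ⟨10, 6, true, [14, 10, 8, 16], [19, 8, 19, 0, 2, 11, 13, 8, 10, 4, 6, 8, 4, 6, 4, 10, 13, 8, 11]⟩)
  (.node (nat_lit 4235) (.leaf ⟨6, 10, true, [16, 8, 14, 12, 18, 8, 18], [2, 0, 18, 8, 10, 8, 10, 4, 6, 8, 10, 4, 6, 8, 4, 6, 4, 0, 10, 6, 13]⟩)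
  (.leaf ⟨10, 6, true, [19, 19, 19, 8, 16, 10, 8, 6], [8, 0, 18, 18, 10, 8, 19, 2, 6, 4, 6, 8, 11, 4, 6, 8, 4, 6, 4, 12, 6, 8, 11, 6]⟩)))))
  (.node (nat_lit 4242) (.node (nat_lit 4239) (.node (nat_lit 4237) (.leaf ⟨6, 10, true, [19, 19, 12, 0, 14, 8, 6], [8, 10, 8, 19, 0, 2, 10, 8, 11, 4, 6, 8, 11, 4, 6, 8, 4, 6, 4, 0, 11, 13, 6, 8, 10, 21]⟩)
  (.node (nat_lit 4238) (.leaf ⟨10, 10, true, [19, 19, 0, 14, 6], [0, 15, 18, 8, 19, 2, 10, 8, 11, 4, 6, 8, 11, 4, 6, 8, 4, 6, 4, 8, 11, 8, 11, 6, 8, 11, 24]⟩)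
  (.leaf ⟨10, 9, true, [8, 18, 14, 8, 18, 8, 18], [12, 8, 19, 8, 19, 8, 19, 2, 11, 8, 10, 4, 6, 8, 11, 4, 6, 8, 4, 6, 4, 11, 8, 10, 6, 8, 11, 6, 12]⟩)))
  (.node (nat_lit 4240) (.leaf ⟨9, 10, true, [12, 19, 6, 8, 16, 8, 19, 19, 2], [8, 15, 12, 18, 8, 18, 18, 13, 8, 11, 4, 6, 8, 10, 4, 6, 8, 4, 6, 4, 11, 8, 11, 12, 6, 8, 11, 24]⟩)
  (.node (nat_lit 4241) (.leaf ⟨10, 9, true, [10, 13, 8, 18, 8, 0, 18], [11, 8, 18, 8, 19, 19, 2, 12, 10, 8, 4, 6, 4, 10, 8, 11, 6, 12]⟩)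
  (.leaf ⟨9, 10, true, [19, 8, 14, 6], [19, 0, 2, 11, 4, 6, 8, 11, 4, 6, 8, 4, 6, 4, 10, 8, 11, 6, 8, 11, 6, 21]⟩))))
  (.node (nat_lit 4245) (.node (nat_lit 4243) (.leaf ⟨10, 9, true, [8, 14, 8, 0, 18], [18, 0, 19, 19, 8, 19, 2, 11, 8, 11, 12, 6, 8, 11, 4, 6, 8, 4, 6, 4, 8, 11, 6]⟩)
  (.node (nat_lit 4244) (.leaf ⟨9, 10, true, [8, 14, 18, 18, 8, 10, 6], [6, 18, 10, 8, 18, 18, 11, 4, 6, 8, 10, 4, 6, 8, 10, 4, 6, 8, 4, 6, 4, 10, 8, 11, 11, 6, 8, 11, 25]⟩)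
  (.leaf ⟨10, 9, true, [14, 8, 18, 10, 8, 18], [0, 14, 8, 18, 18, 12, 6, 8, 11, 4, 6, 8, 4, 6, 4, 8, 11, 13, 6, 8, 10, 6, 25]⟩)))
  (.node (nat_lit 4246) (.leaf ⟨9, 10, true, [8, 14, 0, 18], [8, 15, 18, 8, 2, 18, 18, 4, 6, 8, 11, 4, 6, 8, 4, 6, 4, 8, 11, 8, 11, 6, 8, 11, 22]⟩)
  (.node (nat_lit 4247) (.leaf ⟨9, 10, true, [8, 2, 0, 18], [8, 18, 8, 0, 19, 2, 13, 6, 8, 10, 4, 6, 8, 4, 6, 4, 6, 8, 10, 6, 8, 11, 6]⟩)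
  (.leaf ⟨10, 9, true, [19, 19, 19, 14], [10, 10, 8, 19, 0, 2, 13, 11, 4, 6, 8, 10, 4, 6, 8, 10, 4, 6, 8, 4, 6, 4, 13, 10, 8, 11, 6, 8, 10, 22]⟩))))))



end Cfsg.Agent.Lib.ThD
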