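import Cfsg.Agent.Lib.ThDF0
import Cfsg.Agent.Lib.ThDF1
import Cfsg.Agent.Lib.ThDF2

set_option autoImplicit false
set_option maxRecDepth 100000

namespace Cfsg.Agent.Lib.ThD
open Cfsg.Agent.Lib.PermNet Cfsg.Agent.Lib.DCE

noncomputable def FF : FT := (.node (nat_lit 2112) (.node (nat_lit 1056) (.node (nat_lit 512) (.node (nat_lit 256) (.node (nat_lit 128) (.node (nat_lit 64) (.node (nat_lit 32) f0 f32) (.node (nat_lit 96) f64 f96)) (.node (nat_lit 192) (.node (nat_lit 160) f128 f160) (.node (nat_lit 224) f192 f224))) (.node (nat_lit 384) (.node (nat_lit 320) (.node (nat_lit 288) f256 f288) (.node (nat_lit 352) f320 f352)) (.node (nat_lit 448) (.node (nat_lit 416) f384 f416) (.node (nat_lit 480) f448 f480)))) (.node (nat_lit 768) (.node (nat_lit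 640) (.node (nat_lit 576) (.node (nat_lit 544) f512 f544) (.node (nat_lit 608) f576 f608)) (.node (nat_lit 704) (.node (nat_lit 672) f640 f672) (.node (nat_lit 736) f704 f736))) (.node (nat_lit 896) (.node (nat_lit 832) (.node (nat_lit 800) f768 f800) (.node (nat_lit 864) f832 f864)) (.node (nat_lit 960) (.node (nat_lit 928) f896 f928) (.node (nat_lit 992) f960 (.node (nat_lit 1024) f992 f1024)))))) (.node (nat_lit 1568) (.node (nat_lit 1312) (.node (nat_lit 1184) (.node (nat_lit 1120) (.node (nat_lit 1088) f1056 f1088) (.node (nat_lit 1152) f1120 f1152)) (.node (nat_lit 1248) (.node (nat_lit 1216) f1184 f1216) (.node (nat_lit 1280) f1248 f1280))) (.node (nat_lit 1440) (.node (nat_lit 1376) (.node (nat_lit 1344) f1312 f1344) (.node (nat_lit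 1408) f1376 f1408)) (.node (nat_lit 1504) (.node (nat_lit 1472) f1440 f1472) (.node (nat_lit 1536) f1504 f1536)))) (.node (nat_lit 1824) (.node (nat_lit 1696) (.node (nat_lit 1632) (.node (nat_lit 1600) f1568 f1600) (.node (nat_lit 1664) f1632 f1664)) (.node (nat_lit 1760) (.node (nat_lit 1728) f1696 f1728) (.node (nat_lit 1792) f1760 f1792))) (.node (nat_lit 1952) (.node (nat_lit 1888) (.node (nat_lit 1856) f1824 f1856) (.node (nat_lit 1920) f1888 f1920)) (.node (nat_lit 2016) (.node (nat_lit 1984) f1952 f1984) (.node (nat_lit 2048) f2016 (.node (nat_lit 2080) f2048 f2080))))))) (.node (nat_lit 3168) (.node (nat_lit 2624) (.node (nat_lit 2368) (.node (nat_lit 2240) (.node (nat_lit 2176) (.node (nat_lit 2144) f2112 f2144) (.node (nat_lit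 2208) f2176 f2208)) (.node (nat_lit 2304) (.node (nat_lit 2272) f2240 f2272) (.node (nat_lit 2336) f2304 f2336))) (.node (nat_lit 2496) (.node (nat_lit 2432) (.node (nat_lit 2400) f2368 f2400) (.node (nat_lit 2464) f2432 f2464)) (.node (nat_lit 2560) (.node (nat_lit 2528) f2496 f2528) (.node (nat_lit 2592) f2560 f2592)))) (.node (nat_lit 2880) (.node (nat_lit 2752) (.node (nat_lit 2688) (.node (nat_lit 2656) f2624 f2656) (.node (nat_lit 2720) f2688 f2720)) (.node (nat_lit 2816) (.node (nat_lit 2784) f2752 f2784) (.node (nat_lit 2848) f2816 f2848))) (.node (nat_lit 3008) (.node (nat_lit 2944) (.node (nat_lit 2912) f2880 f2912) (.node (nat_lit 2976) f2944 f2976)) (.node (nat_lit 3072) (.node (nat_lit 3040) f3008 f3040) (.node (nat_lit 3104)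 f3072 (.node (nat_lit 3136) f3104 f3136)))))) (.node (nat_lit 3712) (.node (nat_lit 3424) (.node (nat_lit 3296) (.node (nat_lit 3232) (.node (nat_lit 3200) f3168 f3200) (.node (nat_lit 3264) f3232 f3264)) (.node (nat_lit 3360) (.node (nat_lit 3328) f3296 f3328) (.node (nat_lit 3392) f3360 f3392))) (.node (nat_lit 3552) (.node (nat_lit 3488) (.node (nat_lit 3456) f3424 f3456) (.node (nat_lit 3520) f3488 f3520)) (.node (nat_lit 3616) (.node (nat_lit 3584) f3552 f3584) (.node (nat_lit 3648) f3616 (.node (nat_lit 3680) f3648 f3680))))) (.node (nat_lit 3968) (.node (nat_lit 3840) (.node (nat_lit 3776) (.node (nat_lit 3744) f3712 f3744) (.node (nat_lit 3808) f3776 f3808)) (.node (nat_lit 3904) (.node (nat_lit 3872) f3840 f3872) (.node (nat_lit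 3936) f3904 f3936))) (.node (nat_lit 4096) (.node (nat_lit 4032) (.node (nat_lit 4000) f3968 f4000) (.node (nat_lit 4064) f4032 f4064)) (.node (nat_lit 4160) (.node (nat_lit 4128) f4096 f4128) (.node (nat_lit 4192) f4160 (.node (nat_lit 4224) f4192 f4224))))))))

def TM : List Tm := [⟨false, [], [(false, []), (true, [])]⟩,
  ⟨true, [], [(false, [0, 4])]⟩,
  ⟨true, [11], [(false, [11]), (true, [5, 1, 5, 1, 11])]⟩,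
  ⟨true, [7, 11], [(false, [10, 9, 10, 7]), (true, [5, 1, 9, 10, 13, 7, 9, 10, 5, 7, 9, 5, 7, 5, 13, 11, 7, 9, 11, 7, 9])]⟩,
  ⟨true, [10], [(false, [10]), (true, [5, 1, 10])]⟩,
  ⟨false, [7, 11], [(false, [10, 9, 10, 7]), (true, [5, 1, 9, 10, 13, 7, 9, 10, 5, 7, 9, 5, 7, 5, 13, 11, 7, 9, 11, 7, 9]), (true, [5, 1])]⟩,
  ⟨true, [7], [(false, [3, 5, 7, 1, 3, 1, 5]), (false, [5, 7, 3, 5, 7, 1, 3, 1, 5]), (true, [5, 1, 7, 9, 3, 5, 3, 7, 5, 9, 7, 5, 9, 3, 5, 7, 5, 1, 3, 5, 3, 7, 5, 9, 7, 5, 9, 3, 5, 7, 5, 1, 3, 5, 7, 5, 9, 7, 5, 7, 9, 3, 5, 7, 5])]⟩,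
  ⟨true, [9, 10, 13, 7, 9, 10, 5, 7, 9, 5, 7, 5, 13, 11, 7, 9, 11, 7, 9], [(false, [7, 11]), (true, [5, 1, 10, 9, 10, 7])]⟩,
  ⟨false, [7], [(false, [3, 5, 7, 1, 3, 1, 5]), (false, [5, 7, 3, 5, 7, 1, 3, 1, 5]), (true, [5, 1, 7, 9, 3, 5, 3, 7, 5, 9, 7, 5, 9, 3, 5, 7, 5, 1, 3, 5, 3, 7, 5, 9, 7, 5, 9, 3, 5, 7, 5, 1, 3, 5, 7, 5, 9, 7, 5, 7, 9, 3, 5, 7, 5]), (true, [5, 1])]⟩,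
  ⟨true, [9, 10, 13, 7, 9, 10, 5, 7, 9, 5, 7, 5, 13, 11, 7, 9, 11, 7, 9], [(false, [7, 11]), (false, [10, 9, 10, 7])]⟩,
  ⟨false, [7, 9, 3, 5, 7, 1, 3, 1, 5], [(false, [9, 5, 7, 5, 1, 5, 7, 5, 3, 9, 5, 7, 9, 5, 7, 3, 5, 3, 1, 5, 7, 5, 3, 9, 5, 7, 9, 5, 7, 3, 5, 1, 3, 9, 5, 1, 3, 1]), (false, [3, 1, 7, 5, 3, 7, 5]), (true, [5, 1, 3, 1, 7, 5, 3, 7, 3, 5, 7, 1, 3, 1, 5]), (true, [5, 1])]⟩,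
  ⟨true, [7, 9, 3, 5, 7, 1, 3, 1, 5], [(false, [9, 5, 7, 5, 1, 5, 7, 5, 3, 9, 5, 7, 9, 5, 7, 3, 5, 3, 1, 5, 7, 5, 3, 9, 5, 7, 9, 5, 7, 3, 5, 1, 3, 9, 5, 1, 3, 1]), (false, [3, 1, 7, 5, 3, 7, 5]), (true, [5, 1, 3, 1, 7, 5, 3, 7, 3, 5, 7, 1, 3, 1, 5])]⟩,
  ⟨true, [3, 1, 7, 5, 3, 7, 3, 5, 7, 1, 3, 1, 5], [(false, [7, 9, 3, 5, 7, 1, 3, 1, 5]), (false, [9, 5, 7, 5, 1, 5, 7, 5, 3, 9, 5, 7, 9, 5, 7, 3, 5, 3, 1, 5, 7, 5, 3, 9, 5, 7, 9, 5, 7, 3, 5, 1, 3, 9, 5, 1, 3, 1]), (true, [5, 1, 3, 1, 7, 5, 3, 7, 5])]⟩,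
  ⟨true, [3, 1, 7, 5, 3, 7, 5], [(false, [3, 1, 7, 5, 3, 7, 3, 5, 7, 1, 3, 1, 5]), (false, [7, 9, 3, 5, 7, 1, 3, 1, 5]), (true, [5, 1, 9, 5, 7, 5, 1, 5, 7, 5, 3, 9, 5, 7, 9, 5, 7, 3, 5, 3, 1, 5, 7, 5, 3, 9, 5, 7, 9, 5, 7, 3, 5, 1, 3, 9, 5, 1, 3, 1])]⟩,
  ⟨true, [3, 1, 7, 5, 3, 7, 5], [(false, [3, 1, 7, 5, 3, 9, 3, 5, 7, 1, 3, 1, 5]), (false, [7, 9, 3, 5, 7, 1, 3, 1, 5]), (true, [5, 1, 5, 7, 1, 3, 5, 7, 9, 5, 3, 5, 7, 5, 9, 7, 5, 7, 9, 3, 5, 7, 5, 3, 1, 5, 7, 5, 3, 9, 5, 7, 9, 5, 7, 3, 5, 3, 1, 5, 7, 5, 3, 9, 5, 7, 9, 5, 7, 3, 5])]⟩,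
  ⟨true, [7, 3, 7, 5, 9, 7, 5, 7, 9, 3, 5, 7, 5, 3, 1, 5, 7, 5, 3, 9, 5, 7, 9, 5, 7, 3, 5], [(false, [7]), (false, [9, 7, 3, 5, 7, 1, 3, 1, 5]), (true, [5, 1, 5, 7, 3, 5, 7, 1, 3, 1, 5])]⟩,
  ⟨true, [5, 7, 3, 5, 7, 1, 3, 1, 5], [(false, [7, 9, 1, 3, 5, 7, 5, 3, 1, 3, 9, 5, 1, 3, 1, 5, 3, 7, 5, 9, 7, 5, 9, 3, 5, 7, 5, 1, 3, 5, 7, 5, 9, 7, 5, 7, 9, 3, 5, 7, 5, 1, 3, 9, 5, 1, 3, 1]), (false, [3, 1, 7, 5, 3, 7, 5]), (true, [5, 1, 3, 1, 7, 5, 3, 9, 7, 3, 5, 7, 1, 3, 1, 5])]⟩,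
  ⟨true, [5, 7, 3, 5, 7, 1, 3, 1, 5], [(false, [7, 9, 3, 5, 3, 7, 5, 9, 7, 5, 9, 3, 5, 7, 5, 1, 3, 5, 3, 7, 5, 9, 7, 5, 9, 3, 5, 7, 5, 1, 3, 5, 7, 5, 9, 7, 5, 7, 9, 3, 5, 7, 5]), (false, [7]), (true, [5, 1, 3, 5, 7, 1, 3, 1, 5])]⟩,
  ⟨true, [7, 9, 3, 5, 7, 1, 3, 1, 5], [(false, [5, 7, 3, 5, 1, 5, 7, 5, 9, 7, 5, 7, 9, 3, 5, 7, 5, 1, 3, 9, 5, 1, 3, 1, 5, 3, 7, 5, 9, 7, 5, 9, 3, 5, 7, 5, 1, 3, 5, 7, 5, 3, 9, 7, 5, 7, 9, 5, 7, 5]), (false, [7]), (true, [5, 1, 7, 3, 5, 7, 1, 3, 1, 5])]⟩,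
  ⟨true, [7, 3, 5, 7, 1, 3, 1, 5], [(false, [7, 9, 3, 5, 7, 1, 3, 1, 5]), (false, [5, 7, 3, 5, 1, 5, 7, 5, 9, 7, 5, 7, 9, 3, 5, 7, 5, 1, 3, 9, 5, 1, 3, 1, 5, 3, 7, 5, 9, 7, 5, 9, 3, 5, 7, 5, 1, 3, 5, 7, 5, 3, 9, 7, 5, 7, 9, 5, 7, 5]), (true, [5, 1, 7])]⟩,
  ⟨true, [5, 7, 3, 5, 7, 1, 3, 1, 5], [(false, [7, 3, 7, 5, 9, 7, 5, 7, 9, 3, 5, 7, 5, 3, 1, 5, 7, 5, 3, 9, 5, 7, 9, 5, 7, 3, 5]), (false, [7]), (true, [5, 1, 9, 7, 3, 5, 7, 1, 3, 1, 5])]⟩,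
  ⟨true, [9, 7, 3, 5, 7, 1, 3, 1, 5], [(false, [5, 7, 3, 5, 7, 1, 3, 1, 5]), (false, [7, 3, 7, 5, 9, 7, 5, 7, 9, 3, 5, 7, 5, 3, 1, 5, 7, 5, 3, 9, 5, 7, 9, 5, 7, 3, 5]), (true, [5, 1, 7])]⟩,
  ⟨true, [9, 5, 7, 5, 1, 5, 7, 5, 3, 9, 5, 7, 9, 5, 7, 3, 5, 3, 1, 5, 7, 5, 3, 9, 5, 7, 9, 5, 7, 3, 5, 1, 3, 9, 5, 1, 3, 1], [(false, [3, 1, 7, 5, 3, 7, 5]), (false, [3, 1, 7, 5, 3, 7, 3, 5, 7, 1, 3, 1, 5]), (true, [5, 1, 7, 9, 3, 5, 7, 1, 3, 1, 5])]⟩,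
  ⟨true, [7, 9, 1, 3, 5, 7, 5, 3, 1, 3, 9, 5, 1, 3, 1, 5, 3, 7, 5, 9, 7, 5, 9, 3, 5, 7, 5, 1, 3, 5, 7, 5, 9, 7, 5, 7, 9, 3, 5, 7, 5, 1, 3, 9, 5, 1, 3, 1], [(false, [3, 1, 7, 5, 3, 7, 5]), (false, [3, 1, 7, 5, 3, 9, 7, 3, 5, 7, 1, 3, 1, 5]), (true, [5, 1, 5, 7, 3, 5, 7, 1, 3, 1, 5])]⟩,
  ⟨true, [5, 7, 1, 3, 5, 7, 9, 3, 9, 5, 1, 3, 1, 5, 7, 5, 3, 9, 7, 5, 7, 9, 5, 7, 5], [(false, [3, 1, 7, 5, 3, 7, 5]), (false, [3, 1, 7, 5, 3, 7, 5, 7, 9, 3, 5, 7, 1, 3, 1, 5]), (true, [5, 1, 7, 9, 3, 5, 7, 1, 3, 1, 5])]⟩,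
  ⟨true, [7, 9, 1, 3, 5, 7, 3, 5, 3, 9, 5, 1, 3, 1, 5, 3, 7, 5, 9, 7, 5, 9, 3, 5, 7, 5, 1, 3, 5, 3, 7, 5, 9, 7, 5, 9, 3, 5, 7, 5, 1, 3], [(false, [3, 7, 9]), (false, [1, 3, 1, 5]), (true, [5, 1, 5, 7, 3, 5, 7, 9, 7, 5, 7, 1, 3, 1, 5])]⟩,
  ⟨true, [5, 7, 3, 5, 7, 9, 7, 5, 7, 1, 3, 1, 5], [(false, [7, 9, 1, 3, 5, 7, 3, 5, 3, 9, 5, 1, 3, 1, 5, 3, 7, 5, 9, 7, 5, 9, 3, 5, 7, 5, 1, 3, 5, 3, 7, 5, 9, 7, 5, 9, 3, 5, 7, 5, 1, 3]), (false, [3, 7, 9]), (true, [5, 1, 1, 3, 1, 5])]⟩,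
  ⟨true, [7, 9, 1, 3, 5, 7, 3, 5, 3, 9, 5, 1, 3, 1, 5, 3, 7, 5, 9, 7, 5, 9, 3, 5, 7, 5, 1, 3, 5, 7, 5, 9, 7, 5, 7, 9, 3, 5, 7, 5, 1, 3, 9, 5, 1, 3, 1], [(false, [3, 7, 9]), (false, [7, 9, 7, 5, 7, 3, 1, 5]), (true, [5, 1, 1, 3, 5, 7, 9, 3, 5, 7, 1, 3, 1, 5])]⟩,
  ⟨true, [5, 7, 9, 5], [(false, [7]), (false, [7, 1, 5]), (true, [5, 1, 9, 7, 1, 5])]⟩,
  ⟨true, [9, 7, 1, 5], [(false, [5, 7, 9, 5]), (false, [7]), (true, [5, 1, 7, 1, 5])]⟩,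
  ⟨true, [7, 9, 3, 5, 3, 7, 5, 9, 7, 5, 9, 3, 5, 7, 5, 1, 3, 5, 3, 7, 5, 9, 7, 5, 9, 3, 5, 7, 5, 1, 3, 5, 7, 5, 9, 7, 5, 7, 9, 3, 5, 7, 5], [(false, [7]), (false, [3, 5, 7, 1, 3, 1, 5]), (true, [5, 1, 5, 7, 3, 5, 7, 1, 3, 1, 5])]⟩,
  ⟨true, [7], [(false, [9, 7, 3, 5, 7, 1, 3, 1, 5]), (false, [5, 7, 3, 5, 7, 1, 3, 1, 5]), (true, [5, 1, 7, 3, 7, 5, 9, 7, 5, 7, 9, 3, 5, 7, 5, 3, 1, 5, 7, 5, 3, 9, 5, 7, 9, 5, 7, 3, 5])]⟩,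
  ⟨true, [3, 1, 7, 5, 3, 9, 7, 3, 5, 7, 1, 3, 1, 5], [(false, [5, 7, 3, 5, 7, 1, 3, 1, 5]), (false, [7, 9, 1, 3, 5, 7, 5, 3, 1, 3, 9, 5, 1, 3, 1, 5, 3, 7, 5, 9, 7, 5, 9, 3, 5, 7, 5, 1, 3, 5, 7, 5, 9, 7, 5, 7, 9, 3, 5, 7, 5, 1, 3, 9, 5, 1, 3, 1]), (true, [5, 1, 3, 1, 7, 5, 3, 7, 5])]⟩,
  ⟨true, [5, 7, 1, 3, 5, 7, 9, 5, 3, 5, 7, 5, 9, 7, 5, 7, 9, 3, 5, 7, 5, 3, 1, 5, 7, 5, 3, 9, 5, 7, 9, 5, 7, 3, 5, 3, 1, 5, 7, 5, 3, 9, 5, 7, 9, 5, 7, 3, 5], [(false, [3, 1, 7, 5, 3, 7, 5]), (false, [3, 1, 7, 5, 3, 9, 3, 5, 7, 1, 3, 1, 5]), (true, [5, 1, 7, 9, 3, 5, 7, 1, 3, 1, 5])]⟩,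
  ⟨true, [3, 1, 7, 5, 3, 7, 5], [(false, [3, 1, 7, 5, 3, 9, 7, 3, 5, 7, 1, 3, 1, 5]), (false, [5, 7, 3, 5, 7, 1, 3, 1, 5]), (true, [5, 1, 7, 9, 1, 3, 5, 7, 5, 3, 1, 3, 9, 5, 1, 3, 1, 5, 3, 7, 5, 9, 7, 5, 9, 3, 5, 7, 5, 1, 3, 5, 7, 5, 9, 7, 5, 7, 9, 3, 5, 7, 5, 1, 3, 9, 5, 1, 3, 1])]⟩,
  ⟨true, [3, 1, 7, 5, 3, 7, 5, 7, 3, 5, 7, 1, 3, 1, 5], [(false, [5, 7, 3, 5, 7, 1, 3, 1, 5]), (false, [5, 7, 9, 5, 7, 5]), (true, [5, 1, 3, 1, 7, 5, 3, 7, 5])]⟩,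
  ⟨true, [1, 3, 1, 5], [(false, [5, 7, 3, 5, 7, 9, 7, 5, 7, 1, 3, 1, 5]), (false, [7, 9, 1, 3, 5, 7, 3, 5, 3, 9, 5, 1, 3, 1, 5, 3, 7, 5, 9, 7, 5, 9, 3, 5, 7, 5, 1, 3, 5, 3, 7, 5, 9, 7, 5, 9, 3, 5, 7, 5, 1, 3]), (true, [5, 1, 3, 7, 9])]⟩,
  ⟨true, [3, 5, 7, 1, 3, 1, 5], [(false, [5, 7, 3, 5, 7, 1, 3, 1, 5]), (false, [7, 9, 3, 5, 3, 7, 5, 9, 7, 5, 9, 3, 5, 7, 5, 1, 3, 5, 3, 7, 5, 9, 7, 5, 9, 3, 5, 7, 5, 1, 3, 5, 7, 5, 9, 7, 5, 7, 9, 3, 5, 7, 5]), (true, [5, 1, 7])]⟩,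
  ⟨true, [3, 1, 7, 5, 3, 9, 3, 5, 7, 1, 3, 1, 5], [(false, [7, 9, 3, 5, 7, 1, 3, 1, 5]), (false, [5, 7, 1, 3, 5, 7, 9, 5, 3, 5, 7, 5, 9, 7, 5, 7, 9, 3, 5, 7, 5, 3, 1, 5, 7, 5, 3, 9, 5, 7, 9, 5, 7, 3, 5, 3, 1, 5, 7, 5, 3, 9, 5, 7, 9, 5, 7, 3, 5]), (true, [5, 1, 3, 1, 7, 5, 3, 7, 5])]⟩,
  ⟨true, [5, 7, 9, 5, 7, 5], [(false, [3, 1, 7, 5, 3, 7, 5]), (false, [3, 1, 7, 5, 3, 7, 5, 7, 3, 5, 7, 1, 3, 1, 5]), (true, [5, 1, 5, 7, 3, 5, 7, 1, 3, 1, 5])]⟩,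
  ⟨true, [3, 1, 7, 5, 3, 7, 5], [(false, [3, 1, 7, 5, 3, 7, 5, 7, 3, 5, 7, 1, 3, 1, 5]), (false, [5, 7, 3, 5, 7, 1, 3, 1, 5]), (true, [5, 1, 5, 7, 9, 5, 7, 5])]⟩,
  ⟨true, [3, 7, 9], [(false, [1, 3, 1, 5]), (false, [5, 7, 3, 5, 7, 9, 7, 5, 7, 1, 3, 1, 5]), (true, [5, 1, 7, 9, 1, 3, 5, 7, 3, 5, 3, 9, 5, 1, 3, 1, 5, 3, 7, 5, 9, 7, 5, 9, 3, 5, 7, 5, 1, 3, 5, 3, 7, 5, 9, 7, 5, 9, 3, 5, 7, 5, 1, 3])]⟩,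
  ⟨true, [7, 9, 3, 5, 7, 1, 3, 1, 5], [(false, [5, 7, 1, 3, 5, 7, 9, 5, 3, 5, 7, 5, 9, 7, 5, 7, 9, 3, 5, 7, 5, 3, 1, 5, 7, 5, 3, 9, 5, 7, 9, 5, 7, 3, 5, 3, 1, 5, 7, 5, 3, 9, 5, 7, 9, 5, 7, 3, 5]), (false, [3, 1, 7, 5, 3, 7, 5]), (true, [5, 1, 3, 1, 7, 5, 3, 9, 3, 5, 7, 1, 3, 1, 5])]⟩,
  ⟨false, [10, 9, 10, 7], [(false, [9, 10, 13, 7, 9, 10, 5, 7, 9, 5, 7, 5, 13, 11, 7, 9, 11, 7, 9]), (false, [7, 11]), (false, [])]⟩,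
  ⟨true, [1, 3, 5, 7, 9, 3, 5, 7, 1, 3, 1, 5], [(false, [7, 9, 1, 3, 5, 7, 3, 5, 3, 9, 5, 1, 3, 1, 5, 3, 7, 5, 9, 7, 5, 9, 3, 5, 7, 5, 1, 3, 5, 7, 5, 9, 7, 5, 7, 9, 3, 5, 7, 5, 1, 3, 9, 5, 1, 3, 1]), (false, [3, 7, 9]), (true, [5, 1, 7, 9, 7, 5, 7, 3, 1, 5])]⟩,
  ⟨false, [3, 5, 7, 1, 3, 1, 5], [(false, [5, 7, 3, 5, 7, 1, 3, 1, 5]), (false, [7, 9, 3, 5, 3, 7, 5, 9, 7, 5, 9, 3, 5, 7, 5, 1, 3, 5, 3, 7, 5, 9, 7, 5, 9, 3, 5, 7, 5, 1, 3, 5, 7, 5, 9, 7, 5, 7, 9, 3, 5, 7, 5]), (false, [7]), (true, [5, 1])]⟩,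
  ⟨true, [7, 9, 7, 5, 7, 3, 1, 5], [(false, [1, 3, 5, 7, 9, 3, 5, 7, 1, 3, 1, 5]), (false, [7, 9, 1, 3, 5, 7, 3, 5, 3, 9, 5, 1, 3, 1, 5, 3, 7, 5, 9, 7, 5, 9, 3, 5, 7, 5, 1, 3, 5, 7, 5, 9, 7, 5, 7, 9, 3, 5, 7, 5, 1, 3, 9, 5, 1, 3, 1]), (true, [5, 1, 3, 7, 9])]⟩]

def XW : List (List (List Nat)) := [[],
  [[]],
  [[], [6]],
  [[], [14]],
  [[], [6, 2]],
  [[], [16]],
  [[], [14, 10, 6]],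
  [[], [6], [2]],
  [[], [6], [14]],
  [[], [14], [6, 4, 6, 8, 19, 14, 6]],
  [[], [14], [19, 16, 10, 8, 19, 19, 15]]]

def BB : List Nat := [(nat_lit 0), (nat_lit 4), (nat_lit 72)]



end Cfsg.Agent.Lib.ThD
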