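import Cfsg.Agent.Lib.ThDR
import Cfsg.Agent.Lib.ThDT
import Cfsg.Agent.Lib.ThDF
import Cfsg.Agent.Lib.ThDM

set_option autoImplicit false
set_option maxRecDepth 100000

namespace Cfsg.Agent.Lib.ThD
open Cfsg.Agent.Lib.PermNet Cfsg.Agent.Lib.DCE

theorem tab25 : allR (tabB nets (nat_lit 19656) (nat_lit 15) (nat_lit 2457) (nat_lit 12) (nat_lit 12) (nat_lit 4095) tH) (nat_lit 25) (nat_lit 25) = true := by decide +kernel

theorem tab50 : allR (tabB nets (nat_lit 19656) (nat_lit 15) (nat_lit 2457) (nat_lit 12) (nat_lit 12) (nat_lit 4095) tH) (nat_lit 50) (nat_lit 8) = true := by decide +kernel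

end Cfsg.Agent.Lib.ThD
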