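import Cfsg.Agent.Lib.ThDR
import Cfsg.Agent.Lib.ThDT
import Cfsg.Agent.Lib.ThDF
import Cfsg.Agent.Lib.ThDM

set_option autoImplicit false
set_option maxRecDepth 100000

namespace Cfsg.Agent.Lib.ThD
open Cfsg.Agent.Lib.PermNet Cfsg.Agent.Lib.DCE

def lH0 : Lev := ⟨[[0], [2], [4], [6], [8], [10], [12], [14], [16], [18], [20], [22], [24], [26], [30], [34], [38], [42], [46], [50], [54]], 0, [(0, 1), (0, 3), (0, 8), (0, 10), (1, 0), (1, 9), (1, 10), (1, 17), (2, 18), (2, 19), (2, 20), (4, 2), (4, 18), (4, 20), (5, 18), (5, 19), (5, 20), (3, 10), (3, 17), (6, 2), (6, 9), (6, 18), (6, 20), (8, 2), (8, 9), (8, 17), (8, 18), (8, 20), (12, 4), (12, 11), (12, 18), (12, 20), (15, 19), (19, 10), (19, 11), (19, 17), (19, 20), (16, 3), (16, 6), (7, 18), (7, 20), (27,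 3), (27, 6), (27, 9), (27, 17), (18, 19), (32, 1), (32, 7), (32, 8), (32, 10), (32, 17), (32, 20), (11, 9), (11, 17), (11, 18), (11, 20), (20, 4), (20, 11), (20, 18), (20, 19), (20, 20), (10, 20), (31, 18), (31, 20), (37, 3), (37, 6), (37, 9), (37, 17), (13, 17), (13, 18), (13, 20), (44, 2), (44, 4), (44, 9), (44, 11), (44, 12), (44, 18), (44, 19), (44, 20), (24, 2), (24, 18), (24, 20), (29, 9), (29, 17), (23, 17), (23, 18), (23, 20), (40, 2), (40, 9), (40, 18), (40, 19), (40, 20), (110, 3), (110, 10), (110, 17), (67, 3), (67, 6), (67, 10), (67, 12), (67, 17), (106, 10), (106, 12), (106, 17), (51, 2), (51, 8), (51, 9), (51, 17), (51, 18), (51, 20), (52, 2), (52, 9), (52, 18), (52, 19), (52, 20), (87, 3), (87, 6), (87, 7), (87, 8), (87, 10), (87, 12),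 (87, 17), (17, 19), (48, 17), (45, 6), (45, 10), (45, 12), (45, 17), (28, 2), (43, 2), (43, 9), (43, 12), (43, 18), (43, 19), (43, 20), (78, 2), (78, 18), (78, 20), (89, 7), (89, 8), (89, 10), (89, 12), (89, 17), (21, 20), (62, 10), (58, 4), (58, 11), (58, 19), (58, 20), (82, 5), (82, 9), (82, 18), (82, 19), (82, 20), (142, 1), (53, 10), (53, 17), (86, 2), (86, 11), (86, 19), (86, 20), (34, 18), (34, 19), (34, 20), (39, 17), (33, 17), (33, 18), (33, 20), (54, 2), (54, 9), (54, 18), (54, 19), (54, 20), (155, 3), (155, 10), (155, 17), (50, 20), (93, 3), (93, 6), (93, 8), (93, 10), (93, 12), (93, 17), (59, 10), (59, 12), (227, 10), (227, 17), (138, 3), (138, 6), (138, 9), (138, 10), (138, 12), (138, 17), (38, 2), (85, 2), (85, 9), (85, 12), (85, 18), (85,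 19), (85, 20), (104, 4), (104, 18), (104, 19), (104, 20), (56, 18), (56, 19), (56, 20), (47, 10), (47, 17), (25, 17), (75, 4), (75, 7), (75, 10), (75, 11), (75, 12), (75, 18), (75, 19), (75, 20), (76, 9), (76, 17), (76, 18), (76, 19), (76, 20), (96, 0), (96, 11), (96, 18), (96, 20), (126, 2), (126, 5), (126, 8), (126, 9), (126, 18), (126, 19), (72, 2), (72, 8), (72, 9), (72, 18), (72, 19), (72, 20), (66, 9), (66, 19), (173, 10), (173, 11), (173, 12), (173, 20), (117, 3), (117, 9), (117, 18), (42, 18), (42, 20), (324, 3), (324, 5), (324, 9), (324, 10), (324, 17), (194, 3), (194, 6), (194, 9), (194, 10), (194, 12), (194, 17), (73, 2), (73, 9), (73, 19), (74, 2), (108, 8), (108, 18), (108, 19), (108, 20), (69, 10), (69, 17), (41, 17), (64, 18), (64, 19),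 (64, 20), (300, 0), (300, 2), (300, 3), (300, 4), (300, 5), (300, 9), (300, 10), (300, 11), (300, 12), (300, 20), (217, 5), (217, 9), (217, 10), (217, 12), (217, 17), (217, 19), (152, 7), (152, 20), (131, 6), (131, 9), (131, 17), (65, 2), (65, 19), (111, 2), (111, 9), (111, 17), (111, 19), (183, 4), (183, 11), (183, 12), (183, 19), (112, 2), (112, 9), (112, 19), (118, 17), (190, 2), (190, 9), (190, 17), (190, 19), (116, 2), (116, 9), (116, 19), (312, 4), (312, 12), (312, 18), (312, 19), (312, 20), (144, 2), (144, 8), (144, 9), (144, 17), (144, 18), (144, 20), (150, 2), (150, 9), (150, 18), (150, 20), (240, 11), (240, 12), (81, 18), (92, 4), (92, 11), (135, 18), (135, 19), (135, 20), (140, 9), (140, 10), (140, 12), (140, 17), (83, 6), (83, 10), (83, 17),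 (84, 18), (84, 19), (84, 20), (388, 0), (388, 3), (388, 10), (388, 11), (388, 12), (621, 3), (621, 5), (621, 7), (621, 8), (621, 10), (621, 17), (621, 19), (70, 20), (382, 3), (382, 6), (382, 9), (382, 10), (382, 12), (382, 17), (145, 9), (145, 18), (145, 19), (151, 17), (57, 18), (57, 20), (247, 2), (247, 9), (247, 17), (247, 18), (247, 19), (149, 2), (149, 9), (149, 18), (149, 19), (88, 17), (101, 4), (101, 11), (101, 12), (101, 19), (101, 20), (79, 17), (127, 2), (127, 9), (127, 17), (127, 19), (77, 2), (77, 9), (177, 4), (177, 12), (177, 18), (177, 19), (177, 20), (46, 17), (71, 12), (71, 18), (71, 19), (71, 20), (293, 0), (293, 4), (293, 12), (293, 18), (293, 20), (133, 2), (133, 9), (133, 18), (133, 20), (215, 9), (215, 17), (215, 19), (165, 10),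 (165, 11), (165, 12), (165, 20), (207, 8), (207, 9), (207, 17), (132, 7), (132, 10), (132, 18), (132, 20), (351, 9), (351, 17), (352, 3), (352, 9), (352, 17), (99, 20), (244, 9), (244, 18), (244, 19), (244, 20), (146, 9), (146, 18), (98, 9), (98, 18), (98, 20), (102, 9), (102, 17), (102, 19), (102, 20), (171, 2), (171, 5), (171, 9), (171, 18), (171, 19), (248, 11), (248, 12), (248, 20), (162, 3), (162, 9), (162, 18), (379, 0), (379, 3), (379, 4), (379, 10), (379, 11), (379, 12), (410, 5), (410, 7), (410, 8), (410, 9), (410, 10), (410, 17), (410, 19), (107, 17), (107, 20), (251, 6), (251, 9), (251, 17), (237, 0), (148, 9), (148, 20), (147, 11), (147, 19), (246, 2), (246, 19), (128, 11), (128, 12), (128, 20), (234, 18), (442, 3), (442, 9), (442, 17), (141,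 20), (269, 3), (269, 6), (269, 9), (269, 10), (269, 12), (269, 17), (153, 18), (153, 20), (95, 17), (55, 17), (90, 18), (90, 19), (90, 20), (418, 0), (418, 2), (418, 4), (418, 11), (418, 12), (292, 9), (292, 10), (292, 12), (292, 17), (292, 19), (225, 20), (176, 6), (176, 9), (176, 17), (91, 2), (156, 2), (156, 9), (156, 17), (258, 4), (258, 11), (258, 12), (258, 19), (222, 6), (157, 2), (157, 9), (157, 19), (163, 17), (265, 2), (265, 9), (265, 17), (265, 19), (161, 2), (161, 9), (161, 19), (430, 4), (430, 12), (430, 18), (430, 19), (430, 20), (172, 9), (172, 19), (103, 19), (228, 2), (228, 9), (228, 17), (231, 4), (231, 11), (231, 19), (229, 2), (229, 9), (229, 19), (235, 17), (378, 2), (378, 17), (378, 19), (233, 19), (383, 4), (383, 19), (143, 18),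 (143, 19), (143, 20), (635, 0), (635, 9), (253, 9), (253, 18), (253, 19), (253, 20), (408, 17), (408, 19), (120, 12), (120, 20), (401, 8), (401, 9), (401, 17), (178, 9), (178, 17), (178, 18), (178, 20), (469, 17), (411, 20), (470, 3), (470, 9), (470, 17), (708, 3), (708, 5), (708, 7), (708, 10), (708, 11), (708, 12), (708, 17), (708, 19), (236, 20), (441, 3), (441, 5), (441, 6), (441, 7), (441, 10), (441, 12), (441, 17), (124, 2), (124, 9), (124, 17), (124, 18), (124, 19), (168, 11), (168, 18), (168, 19), (97, 18), (97, 20), (129, 7), (129, 17), (129, 18), (129, 19), (129, 20), (218, 0), (218, 20), (166, 17), (166, 18), (166, 19), (166, 20), (366, 2), (366, 5), (366, 8), (366, 9), (366, 18), (366, 19), (366, 20), (344, 8), (344, 9), (344, 18), (344,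 19), (344, 20), (114, 10), (114, 11), (114, 19), (285, 10), (285, 11), (285, 12), (285, 20), (195, 3), (195, 5), (195, 7), (195, 10), (195, 18), (195, 20), (584, 0), (584, 2), (584, 4), (584, 6), (584, 9), (584, 11), (584, 12), (584, 19), (584, 20), (341, 2), (341, 11), (341, 18), (341, 19), (341, 20), (115, 9), (115, 17), (286, 17), (286, 20), (196, 9), (196, 17), (196, 18), (164, 11), (164, 18), (164, 20), (255, 2), (255, 18), (255, 20), (1084, 3), (1084, 10), (1084, 12), (1084, 17), (704, 3), (704, 6), (704, 10), (704, 12), (704, 17), (203, 7), (203, 17), (203, 19), (349, 19), (189, 2), (189, 19), (858, 0), (858, 2), (858, 3), (858, 4), (858, 6), (858, 9), (858, 11), (858, 12), (858, 18), (113, 9), (113, 19), (451, 7), (451, 8), (451, 17), (121, 17),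 (121, 18), (121, 19), (121, 20), (188, 2), (188, 17), (188, 19), (547, 0), (547, 2), (547, 3), (547, 4), (547, 6), (547, 9), (547, 11), (547, 12), (208, 9), (208, 17), (208, 19), (273, 8), (273, 17), (273, 20), (125, 17), (180, 0), (180, 2), (180, 9), (180, 20), (266, 10), (266, 12), (198, 18), (768, 2), (768, 7), (768, 9), (768, 18), (768, 19), (768, 20), (744, 2), (744, 8), (744, 9), (744, 18), (744, 19), (744, 20), (443, 3), (443, 7), (443, 10), (443, 12), (443, 17), (443, 18), (299, 0), (299, 2), (299, 10), (299, 12), (299, 18), (299, 20), (526, 9), (526, 17), (534, 3), (534, 5), (534, 7), (534, 10), (534, 17), (323, 3), (323, 6), (323, 10), (323, 12), (323, 17), (206, 2), (206, 9), (206, 19), (368, 9), (368, 17), (331, 0), (331, 2), (331, 9), (331,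 18), (331, 19), (331, 20), (346, 2), (346, 9), (346, 17), (346, 19), (575, 4), (575, 11), (575, 12), (575, 19), (216, 2), (216, 9), (216, 19), (525, 9), (525, 17), (884, 0), (884, 9), (884, 12), (884, 18), (884, 19), (884, 20), (317, 2), (317, 9), (317, 17), (317, 19), (315, 2), (315, 9), (315, 19), (595, 4), (595, 12), (595, 18), (595, 19), (595, 20), (122, 19), (275, 0), (872, 5), (872, 8), (872, 9), (872, 10), (872, 11), (872, 12), (872, 19), (773, 1), (773, 7), (773, 20), (685, 3), (685, 6), (685, 9), (685, 12), (187, 2), (187, 9), (187, 17), (187, 19), (306, 4), (306, 12), (306, 18), (306, 19), (306, 20), (182, 12), (182, 18), (182, 19), (182, 20), (362, 5), (362, 7), (362, 10), (362, 12), (362, 17), (362, 19), (254, 20), (214, 6), (214, 10), (214,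 17), (489, 3), (489, 4), (489, 5), (489, 7), (489, 10), (489, 11), (489, 12), (498, 3), (498, 4), (498, 5), (498, 7), (498, 10), (498, 11), (498, 12), (181, 18), (181, 20), (499, 3), (499, 5), (499, 6), (499, 9), (499, 17), (499, 20), (504, 9), (504, 20), (662, 18), (301, 17), (301, 18), (1249, 2), (1249, 5), (1249, 7), (1249, 9), (1249, 18), (1249, 19), (1232, 2), (1232, 3), (1232, 5), (1232, 8), (1232, 9), (1232, 18), (1232, 20), (678, 12), (678, 20), (539, 9), (539, 17), (539, 19), (501, 0), (501, 2), (501, 9), (501, 18), (501, 19), (501, 20), (350, 2), (350, 9), (350, 17), (350, 19), (316, 2), (316, 9), (316, 19), (842, 2), (842, 4), (842, 8), (842, 11), (842, 12), (757, 7), (757, 8), (757, 9), (757, 10), (757, 12), (757, 17), (475, 6), (475, 10),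 (475, 17), (348, 9), (940, 0), (940, 2), (940, 4), (940, 9), (940, 11), (940, 12), (940, 18), (940, 19), (940, 20), (567, 2), (567, 12), (567, 18), (567, 20), (109, 19), (256, 11), (184, 17), (184, 19), (803, 0), (803, 2), (803, 6), (803, 9), (803, 11), (803, 20), (523, 2), (523, 18), (523, 19), (523, 20), (419, 8), (419, 9), (419, 17), (307, 9), (307, 17), (307, 19), (834, 2), (834, 8), (834, 9), (834, 19), (818, 2), (818, 3), (818, 8), (818, 9), (818, 18), (818, 19), (818, 20), (1188, 3), (1188, 7), (1188, 10), (1188, 11), (1188, 12), (185, 19), (497, 0), (497, 2), (497, 9), (308, 19), (313, 17), (313, 19), (1252, 0), (1252, 2), (1252, 3), (1252, 4), (1252, 9), (1252, 11), (1252, 12), (1252, 19), (1252, 20), (322, 8), (322, 18), (322, 19), (322, 20),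 (679, 7), (679, 8), (679, 17), (193, 19), (500, 0), (500, 2), (500, 9), (519, 9), (519, 17), (519, 18), (519, 19), (519, 20), (510, 18), (510, 19), (510, 20), (1267, 3), (1267, 5), (1267, 7), (1267, 10), (1267, 11), (1267, 12), (1267, 17), (1267, 19), (1712, 3), (1712, 7), (1712, 9), (1712, 10), (1712, 12), (1712, 20), (1262, 3), (1262, 5), (1262, 6), (1262, 7), (1262, 8), (1262, 10), (1262, 12), (1262, 17), (241, 18), (241, 20), (1000, 3), (1000, 10), (399, 18), (399, 19), (399, 20), (402, 9), (402, 17), (387, 0), (649, 3), (649, 9), (242, 19), (243, 18), (243, 19), (160, 17), (656, 3), (656, 7), (656, 10), (656, 11), (656, 19), (179, 20), (407, 6), (375, 2), (375, 9), (374, 19), (232, 9), (226, 18), (637, 19), (620, 6), (620, 10), (626, 11), (389,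 18), (400, 19), (661, 3), (486, 3), (486, 17), (169, 18), (643, 19), (608, 19), (530, 6), (530, 10), (409, 9), (981, 9), (981, 17), (1003, 0), (1003, 2), (1003, 9), (1003, 18), (614, 9), (612, 9), (612, 19), (1009, 19), (631, 0), (282, 9), (398, 19), (1015, 0), (249, 19), (613, 9), (250, 19), (632, 0), (632, 9), (174, 19), (174, 20), (484, 18), (484, 19), (484, 20), (462, 9), (462, 18), (462, 19), (462, 20), (404, 11), (404, 12), (404, 20), (270, 3), (270, 10), (270, 18), (204, 17), (204, 19), (885, 0), (885, 3), (885, 4), (885, 11), (885, 19), (885, 20), (213, 2), (213, 19), (452, 17), (130, 19), (294, 17), (294, 18), (294, 20), (288, 9), (288, 18), (288, 19), (288, 20), (750, 3), (750, 5), (750, 10), (750, 17), (750, 19), (658, 3), (658, 20), (741,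 3), (741, 5), (741, 10), (741, 12), (741, 17), (337, 9), (337, 18), (337, 20), (363, 17), (363, 19), (272, 11), (272, 12), (272, 20), (339, 10), (339, 17), (482, 4), (482, 12), (482, 18), (482, 20), (483, 17), (483, 18), (474, 9), (474, 18), (474, 19), (474, 20), (1153, 3), (1153, 10), (1153, 12), (1153, 17), (1121, 3), (1121, 8), (1121, 10), (1121, 12), (1121, 17), (219, 17), (219, 18), (219, 20), (962, 0), (962, 2), (962, 3), (962, 4), (962, 9), (962, 12), (353, 9), (353, 17), (209, 17), (550, 0), (550, 18), (550, 19), (550, 20), (360, 2), (360, 11), (360, 19), (766, 10), (766, 17), (211, 17), (724, 2), (724, 9), (724, 18), (724, 19), (724, 20), (720, 2), (720, 9), (720, 18), (720, 19), (720, 20), (722, 3), (722, 8), (722, 10), (722, 12), (722, 17),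 (220, 2), (220, 17), (220, 19), (878, 0), (878, 12), (878, 18), (878, 19), (878, 20), (828, 2), (828, 4), (828, 18), (828, 19), (279, 19), (279, 20), (579, 10), (579, 17), (569, 3), (569, 10), (569, 17), (356, 0), (356, 2), (356, 9), (356, 18), (356, 19), (356, 20), (568, 4), (568, 11), (327, 2), (327, 9), (327, 19), (802, 0), (802, 2), (802, 9), (802, 18), (802, 20), (861, 4), (861, 19), (971, 0), (971, 4), (615, 9), (343, 17), (721, 0), (721, 2), (721, 4), (721, 9), (721, 11), (283, 17), (755, 0), (755, 2), (755, 11), (755, 19), (459, 18), (459, 19), (459, 20), (278, 19), (1092, 0), (1092, 2), (1092, 4), (1092, 9), (622, 12), (417, 0), (417, 18), (616, 3), (616, 4), (616, 10), (616, 11), (616, 12), (617, 17), (262, 2), (970, 0), (970, 2), (970, 9),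 (647, 19), (1006, 19), (586, 10), (586, 17), (357, 6), (357, 17), (1498, 0), (640, 19), (412, 19), (210, 11), (210, 12), (396, 19), (598, 2), (598, 9), (598, 19), (572, 2), (572, 9), (572, 18), (572, 19), (572, 20), (325, 10), (449, 0), (449, 2), (449, 9), (449, 18), (449, 19), (449, 20), (746, 4), (746, 11), (746, 12), (699, 17), (1119, 0), (1119, 2), (1119, 9), (1119, 12), (1119, 18), (1119, 19), (1119, 20), (435, 2), (435, 9), (435, 17), (433, 2), (765, 4), (765, 18), (765, 19), (821, 7), (821, 12), (511, 6), (424, 11), (424, 12), (424, 19), (257, 12), (257, 18), (480, 10), (480, 12), (480, 19), (370, 20), (289, 6), (289, 10), (664, 4), (664, 11), (664, 12), (672, 4), (672, 10), (672, 11), (672, 12), (673, 9), (1554, 2), (1554, 9), (1554, 19), (1542,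 2), (1542, 3), (1542, 8), (1542, 18), (1542, 19), (675, 0), (675, 2), (675, 9), (675, 18), (675, 19), (675, 20), (468, 2), (468, 17), (1076, 4), (1076, 11), (1076, 12), (1014, 17), (466, 9), (466, 17), (1166, 0), (1166, 4), (1166, 9), (1166, 11), (1166, 18), (1166, 19), (1166, 20), (739, 4), (739, 12), (739, 18), (739, 19), (1045, 0), (1045, 2), (1045, 6), (1045, 11), (1045, 19), (1045, 20), (697, 18), (697, 19), (697, 20), (425, 19), (1059, 3), (1059, 8), (787, 10), (787, 11), (787, 12), (260, 19), (671, 0), (671, 2), (671, 9), (426, 19), (431, 19), (1557, 0), (1557, 3), (1557, 4), (1557, 11), (1557, 12), (1557, 19), (1557, 20), (440, 19), (440, 20), (268, 19), (674, 0), (674, 2), (693, 18), (693, 19), (693, 20), (684, 19), (684, 20), (1564, 3), (1564,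 5), (1564, 7), (1564, 10), (1564, 11), (1564, 19), (1219, 3), (1219, 7), (1219, 10), (1219, 12), (1219, 20), (1257, 3), (1257, 10), (1257, 12), (1120, 0), (1120, 2), (1120, 4), (1120, 11), (1008, 0), (979, 19), (380, 19), (990, 19), (319, 10), (319, 12), (373, 19), (606, 0), (381, 19), (610, 19), (619, 19), (505, 17), (623, 19), (535, 3), (535, 7), (535, 10), (535, 12), (197, 12), (386, 20), (972, 0), (650, 19), (365, 17), (654, 19), (546, 9), (546, 18), (546, 19), (546, 20), (548, 10), (295, 2), (989, 0), (1005, 19), (1182, 0), (1182, 2), (1182, 4), (1182, 12), (1182, 19), (455, 18), (455, 20), (471, 9), (740, 4), (740, 11), (445, 2), (1044, 0), (1044, 2), (1044, 9), (1044, 18), (1044, 19), (1044, 20), (1095, 4), (1095, 19), (454, 2), (454, 9), (454,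 12), (454, 18), (454, 19), (454, 20), (772, 3), (772, 10), (772, 17), (1183, 0), (1183, 17), (729, 2), (729, 5), (729, 9), (729, 17), (729, 18), (729, 19), (729, 20), (478, 11), (1065, 9), (1065, 18), (922, 1), (922, 4), (922, 11), (922, 12), (922, 18), (922, 19), (1490, 3), (1484, 3), (1484, 6), (1484, 10), (1484, 12), (1484, 17), (707, 2), (707, 9), (707, 18), (707, 19), (707, 20), (267, 17), (1077, 17), (438, 0), (438, 17), (1090, 2), (1090, 9), (1090, 18), (1090, 19), (1090, 20), (688, 2), (688, 18), (688, 19), (688, 20), (956, 4), (956, 12), (956, 18), (956, 19), (956, 20), (205, 17), (205, 18), (205, 19), (918, 0), (918, 2), (918, 11), (918, 19), (201, 2), (201, 18), (201, 19), (201, 20), (318, 17), (461, 17), (276, 20), (457, 10), (588, 18), (588,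 19), (588, 20), (472, 20), (326, 18), (574, 18), (574, 19), (574, 20), (458, 17), (458, 19), (277, 17), (600, 5), (600, 18), (600, 19), (601, 4), (601, 11), (601, 12), (601, 19), (503, 0), (503, 17), (1603, 2), (1603, 5), (1603, 6), (1603, 12), (1274, 3), (1274, 9), (1274, 11), (1274, 19), (2002, 1), (2002, 3), (2002, 7), (2002, 8), (2002, 11), (2002, 12), (2002, 17), (2002, 20), (1272, 6), (1272, 10), (1272, 18), (502, 17), (1135, 0), (1135, 1), (1135, 2), (1135, 4), (1135, 6), (1135, 10), (1135, 11), (1135, 12), (1135, 20), (1667, 3), (1667, 5), (1667, 7), (1667, 8), (1667, 9), (1667, 10), (1667, 17), (1930, 1), (1930, 3), (1930, 7), (1930, 8), (1930, 12), (1930, 17), (1930, 20), (1139, 3), (1139, 6), (1139, 9), (1139, 10), (1139, 17), (304, 8), (304,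 18), (304, 19), (537, 19), (437, 10), (437, 12), (328, 18), (328, 20), (1179, 9), (1179, 18), (1179, 19), (1179, 20), (1144, 5), (1144, 18), (1144, 19), (1144, 20), (709, 3), (709, 12), (709, 18), (709, 20), (305, 19), (509, 8), (509, 9), (509, 19), (929, 2), (929, 4), (929, 6), (929, 9), (929, 11), (929, 12), (929, 19), (938, 1), (938, 4), (938, 6), (938, 7), (938, 10), (938, 11), (938, 12), (938, 19), (938, 20), (939, 6), (939, 9), (939, 17), (939, 19), (1242, 9), (1242, 18), (1242, 19), (1242, 20), (1422, 0), (1422, 2), (1422, 3), (1348, 5), (1348, 8), (1348, 9), (1348, 19), (875, 8), (875, 19), (1173, 12), (1173, 20), (1589, 7), (1589, 20), (566, 18), (566, 19), (280, 18), (1358, 10), (1233, 11), (1233, 12), (1674, 6), (1674, 9), (1674, 12), (1674,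 18), (849, 0), (849, 19), (849, 20), (520, 19), (710, 17), (1324, 0), (1324, 2), (1324, 3), (1324, 4), (1324, 9), (515, 2), (515, 19), (515, 20), (347, 9), (347, 17), (414, 18), (1584, 3), (1584, 10), (1584, 12), (1080, 3), (1080, 6), (1080, 10), (1080, 12), (416, 18), (798, 6), (798, 9), (798, 12), (719, 2), (719, 12), (719, 18), (719, 19), (719, 20), (1108, 2), (1108, 8), (1108, 9), (1108, 17), (1108, 18), (1108, 19), (1108, 20), (1549, 2), (1549, 18), (1612, 4), (1612, 11), (1612, 12), (1612, 19), (1612, 20), (1083, 2), (1083, 9), (1580, 17), (1591, 2), (1591, 9), (1591, 17), (1591, 18), (1591, 19), (1043, 2), (1043, 18), (1043, 19), (1043, 20), (2090, 8), (2090, 18), (2090, 19), (881, 17), (770, 19), (1116, 17), (311, 19), (1322, 2), (1322, 7), (1322,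 11), (1255, 1), (1255, 6), (1255, 7), (536, 18), (839, 18), (839, 20), (1881, 0), (1881, 2), (1881, 9), (793, 2), (495, 9), (737, 10), (1607, 12), (1607, 20), (553, 19), (310, 19), (338, 2), (866, 6), (866, 12), (1259, 18), (1340, 0), (1340, 2), (1340, 9), (1063, 19), (687, 18), (880, 19), (832, 11), (832, 19), (723, 10), (723, 17), (1097, 4), (1097, 18), (1097, 20), (450, 17), (516, 19), (296, 20), (298, 20), (1022, 4), (1022, 10), (1022, 11), (1022, 12), (1040, 9), (1040, 10), (669, 9), (669, 17), (669, 18), (1074, 2), (1074, 18), (1074, 20), (1181, 19), (771, 4), (2308, 0), (2308, 11), (2308, 12), (1364, 3), (1364, 11), (1364, 12), (1364, 17), (1364, 19), (1146, 19), (935, 0), (895, 3), (895, 5), (895, 8), (895, 10), (895, 17), (895, 19), (921, 20),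 (852, 6), (852, 10), (852, 12), (670, 2), (1036, 2), (1036, 9), (1036, 17), (703, 2), (703, 20), (1523, 4), (1523, 12), (1523, 18), (1523, 20), (1485, 17), (488, 12), (488, 18), (488, 20), (494, 12), (494, 18), (494, 20), (1221, 2), (1221, 9), (1221, 18), (1221, 19), (1221, 20), (1543, 9), (1223, 9), (529, 9), (529, 19), (529, 20), (837, 2), (837, 4), (837, 11), (837, 19), (336, 9), (336, 18), (336, 19), (336, 20), (556, 2), (556, 17), (556, 20), (533, 19), (856, 9), (856, 17), (514, 2), (514, 9), (514, 18), (514, 19), (1176, 19), (345, 19), (1404, 0), (1404, 2), (1404, 18), (745, 17), (545, 0), (545, 2), (545, 9), (545, 19), (545, 20), (924, 4), (924, 18), (924, 19), (924, 20), (540, 18), (540, 20), (544, 18), (544, 19), (544, 20), (1806, 0), (1806,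 2), (1806, 3), (1806, 4), (1806, 9), (2273, 5), (2273, 9), (2273, 10), (2273, 17), (2273, 19), (726, 20), (1906, 6), (1906, 9), (1906, 12), (1906, 17), (1906, 18), (576, 17), (576, 19), (583, 0), (583, 9), (583, 18), (854, 18), (923, 9), (1294, 2), (1294, 19), (831, 9), (831, 19), (1426, 7), (1426, 12), (361, 19), (808, 0), (808, 2), (808, 9), (879, 0), (879, 19), (833, 19), (816, 18), (816, 20), (1919, 0), (1919, 2), (1919, 3), (1919, 4), (1919, 9), (860, 19), (1969, 9), (1969, 11), (1969, 12), (1969, 19), (1440, 10), (1440, 11), (1440, 12), (1440, 20), (2313, 6), (2313, 10), (2313, 12), (518, 17), (518, 19), (1247, 0), (1247, 2), (1247, 9), (1247, 19), (1075, 17), (957, 9), (957, 18), (952, 18), (1865, 3), (1865, 5), (1865, 17), (1865, 19), (2195,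 1), (2195, 7), (2195, 8), (2195, 20), (1896, 8), (1298, 4), (791, 20), (1033, 0), (819, 19), (1329, 19), (1931, 7), (1931, 9), (778, 11), (778, 12), (883, 19), (1776, 0), (863, 19), (1304, 19), (309, 19), (696, 17), (508, 19), (682, 19), (1708, 3), (1708, 10), (1187, 12), (1187, 20), (812, 8), (812, 9), (862, 17), (862, 19), (1325, 0), (827, 18), (827, 19), (827, 20), (1282, 4), (1282, 11), (1282, 12), (1282, 19), (1158, 12), (752, 6), (578, 17), (594, 2), (594, 9), (594, 19), (944, 4), (944, 18), (944, 19), (297, 18), (297, 20), (779, 3), (779, 5), (779, 6), (779, 8), (779, 20), (784, 20), (1028, 12), (1028, 20), (490, 17), (490, 18), (1739, 2), (1739, 5), (1739, 7), (1739, 9), (1722, 8), (1722, 9), (786, 20), (795, 5), (795, 6), (795, 20), (806, 10),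 (806, 20), (1048, 20), (1211, 8), (1211, 20), (1802, 5), (1802, 7), (1762, 3), (1762, 5), (1762, 8), (1762, 18), (1762, 20), (1770, 17), (807, 17), (1943, 2), (1943, 4), (1943, 20), (1767, 4), (1767, 18), (1049, 20), (1018, 12), (1018, 20), (1759, 10), (1759, 17), (1238, 8), (1238, 11), (1238, 12), (1238, 20), (1804, 1), (1804, 17), (1804, 18), (1297, 4), (1297, 19), (1626, 1), (1626, 4), (1626, 5), (1626, 10), (1626, 11), (1626, 12), (1769, 1), (1769, 3), (1769, 5), (1769, 17), (1778, 3), (681, 17), (1625, 1), (1625, 4), (1625, 10), (1625, 12), (2174, 8), (2174, 9), (2174, 17), (1799, 9), (1799, 17), (1758, 9), (801, 0), (801, 2), (781, 2), (781, 9), (781, 18), (781, 19), (781, 20), (800, 1), (800, 18), (800, 20), (2201, 3), (2201, 4), (2201, 10), (2201,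 18), (2201, 20), (1885, 3), (1885, 9), (1885, 19), (2338, 6), (2338, 9), (565, 19), (848, 0), (848, 19), (591, 2), (591, 18), (591, 19), (1117, 17), (517, 17), (517, 19), (1243, 0), (1243, 9), (1046, 10), (427, 20), (607, 19), (1548, 19), (2000, 2), (1678, 2), (1678, 4), (1246, 0), (1246, 2), (1420, 7), (1420, 9), (1420, 18), (1420, 20), (1436, 7), (1956, 0), (1956, 2), (1956, 10), (1432, 18), (1432, 20), (1903, 9), (1368, 8), (1368, 9), (1455, 17), (1915, 3), (1915, 17), (1050, 2), (824, 12), (824, 18), (824, 19), (824, 20), (1204, 6), (1204, 9), (1204, 11), (1204, 20), (1244, 6), (1782, 0), (1782, 2), (1782, 9), (1782, 10), (1782, 20), (1872, 17), (841, 19), (1362, 17), (690, 19), (642, 19), (1545, 2), (1296, 7), (1296, 19), (1035, 0), (1035, 2), (1102,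 9), (2424, 3), (2424, 7), (2424, 10), (2424, 11), (2424, 17), (1266, 3), (1266, 19), (1034, 2), (1073, 2), (1073, 9), (1073, 10), (1073, 18), (1073, 20), (1845, 8), (1845, 17), (1845, 19), (2278, 3), (2278, 12), (1293, 6), (1293, 17), (774, 20), (1207, 12), (1189, 20), (1791, 7), (1791, 11), (1428, 8), (705, 19), (705, 20), (1742, 2), (1742, 3), (1742, 7), (1742, 11), (1742, 12), (1809, 3), (1809, 7), (1809, 12), (1810, 9), (2285, 0), (2285, 2), (2285, 9), (1349, 2), (1349, 19), (1311, 2), (1311, 9), (1311, 19), (2260, 7), (2260, 17), (1689, 17), (1772, 17), (2288, 3), (2288, 7), (2288, 17), (479, 19), (1072, 4), (1884, 4), (2194, 20), (1912, 3), (1912, 8), (1912, 19), (2202, 3), (2202, 8), (2202, 20), (1849, 9), (1849, 12), (817, 12), (817, 19), (1779,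 0), (1779, 2), (1779, 9), (1779, 17), (1268, 2), (1268, 9), (1962, 12), (934, 20), (2268, 10), (1558, 2), (1054, 17), (1534, 9), (1532, 2), (1532, 20), (1851, 4), (571, 20), (1017, 0), (931, 10), (931, 17), (1312, 17), (1312, 19), (1479, 0), (1478, 0), (1398, 7), (1111, 2), (1111, 18), (1499, 0), (988, 12), (1336, 11), (742, 17), (460, 17), (1929, 3), (1395, 12), (760, 19), (2026, 5), (1570, 19), (1133, 20), (1326, 19), (1376, 12), (1696, 17), (1103, 20), (767, 18), (751, 18), (1676, 10), (1619, 3), (1986, 19), (728, 19), (1462, 4), (1462, 12), (1466, 7), (1466, 12), (1467, 9), (2007, 0), (2007, 2), (2007, 9), (876, 0), (876, 19), (892, 19), (942, 20), (593, 11), (1952, 11), (1952, 12), (1277, 9), (1118, 18), (1118, 19), (1118, 20), (2249, 10), (2249,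 12), (1837, 9), (1837, 17), (1937, 9), (1937, 17), (1107, 18), (1107, 19), (1107, 20), (2392, 0), (2392, 3), (2392, 10), (1971, 9), (1115, 9), (732, 2), (1636, 2), (1636, 17), (367, 19), (1648, 10), (1284, 4), (1284, 7), (1284, 10), (1284, 19), (1287, 9), (1287, 19), (1817, 9), (2434, 8), (2434, 12), (829, 2), (829, 9), (1604, 4), (951, 2), (1112, 4), (1605, 20), (1156, 11), (1629, 9), (953, 12), (1598, 4), (1600, 10), (2113, 20), (983, 17), (1472, 2), (1472, 9), (1338, 8), (1241, 9), (1241, 20), (1788, 18), (2228, 0), (2228, 2), (917, 20), (2265, 2), (718, 19), (1531, 0), (1531, 10), (1692, 9), (2009, 9), (1264, 20), (1640, 20), (2062, 0), (2062, 10), (2093, 2), (1909, 9), (1552, 19), (2071, 17), (874, 19), (680, 19), (764, 17), (1841, 3), (1037, 17),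 (1505, 9), (2072, 9), (2072, 18), (2065, 3), (2065, 18), (507, 19), (1025, 20), (2347, 3), (1889, 19), (2331, 17), (1579, 9), (1579, 17), (1683, 20), (2176, 0), (2348, 9), (1458, 11), (1142, 9), (1694, 9), (788, 18), (1948, 18), (1982, 4), (1982, 11), (1982, 12), (1886, 19), (1588, 9), (2299, 9), (1914, 17), (1383, 0), (1618, 11), (865, 18), (865, 20), (1555, 0), (1555, 2), (1699, 12), (1632, 2), (1632, 9), (1469, 12), (1942, 4), (2112, 11), (1132, 19), (1409, 4), (1409, 18), (1409, 20), (2079, 11), (1126, 5), (1283, 19), (1131, 2), (1131, 19), (1998, 9), (1053, 19), (1586, 12), (1454, 6), (1454, 10), (1454, 12), (2258, 1), (2258, 7), (2258, 8), (2044, 17), (335, 19), (1949, 5), (2168, 7), (1661, 3), (1291, 11), (1291, 20), (830, 19), (965, 4), (965,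 19), (1278, 18), (2004, 4), (2004, 11), (1623, 18), (1105, 18), (1658, 20), (1339, 20), (1418, 4), (1419, 6), (2114, 19), (904, 17), (2157, 6), (2095, 7), (1976, 11), (2447, 8), (2136, 9)], 2457⟩

def lH1 : Lev := ⟨[[0], [8], [10], [12], [42], [50]], 4, [(4, 0), (4, 1), (6, 1), (6, 5), (8, 2), (8, 4), (11, 2), (11, 4), (11, 5), (7, 0), (26, 1), (26, 2), (26, 4), (24, 1), (24, 5), (36, 1), (36, 2), (36, 4), (36, 5), (34, 1), (34, 5), (13, 0), (13, 4), (29, 2), (29, 3), (29, 4), (27, 4), (44, 1), (44, 5), (40, 2), (40, 5), (96, 0), (39, 2), (39, 3), (39, 4), (39, 5), (37, 4), (37, 5), (58, 1), (58, 5), (48, 0), (48, 4), (54, 2), (54, 5), (141, 0), (21, 4), (56, 1), (49, 1), (49, 4), (14, 4), (74, 1), (74, 5), (78, 1), (78, 5), (76, 2), (76, 4), (76, 5),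 (173, 0), (66, 1), (66, 2), (66, 5), (152, 0), (152, 4), (63, 1), (63, 4), (63, 5), (22, 4), (22, 5), (100, 1), (100, 5), (47, 0), (47, 4), (104, 1), (104, 5), (45, 0), (45, 4), (102, 2), (102, 4), (102, 5), (248, 0), (62, 4), (101, 1), (92, 1), (92, 2), (92, 5), (225, 0), (225, 4), (42, 1), (90, 2), (28, 4), (77, 1), (77, 5), (43, 1), (43, 5), (126, 2), (126, 4), (126, 5), (275, 0), (133, 2), (133, 4), (133, 5), (293, 0), (351, 1), (351, 2), (351, 3), (351, 4), (351, 5), (341, 1), (341, 5), (286, 0), (286, 4), (115, 2), (115, 3), (115, 4), (115, 5), (117, 2), (117, 3), (117, 5), (266, 0), (266, 4), (254, 4), (662, 1), (38, 4), (38, 5), (103, 1), (103, 5), (79, 0), (79, 4), (57, 1), (57, 5), (25, 0), (25, 4), (171, 2), (171, 5), (391, 0), (61, 4), (168,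 1), (178, 2), (178, 4), (178, 5), (411, 0), (59, 4), (177, 1), (469, 1), (469, 2), (469, 3), (469, 4), (469, 5), (459, 5), (405, 0), (405, 4), (75, 1), (174, 2), (174, 4), (160, 2), (160, 3), (160, 4), (160, 5), (162, 2), (162, 3), (162, 5), (379, 0), (379, 4), (370, 4), (255, 1), (64, 2), (159, 1), (159, 2), (73, 1), (73, 5), (124, 2), (124, 4), (124, 5), (287, 0), (72, 2), (72, 4), (72, 5), (165, 0), (349, 1), (349, 2), (349, 3), (349, 4), (349, 5), (366, 5), (451, 0), (451, 4), (189, 3), (189, 4), (189, 5), (337, 1), (337, 5), (483, 0), (483, 4), (353, 2), (353, 3), (353, 4), (353, 5), (346, 1), (346, 3), (346, 4), (346, 5), (352, 2), (352, 3), (352, 4), (352, 5), (568, 1), (568, 5), (1153, 0), (1153, 4), (484, 2), (484, 5), (1233, 0), (1233, 4),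 (472, 4), (1154, 1), (526, 1), (526, 2), (526, 4), (526, 5), (196, 3), (196, 4), (196, 5), (520, 1), (520, 5), (438, 0), (438, 4), (113, 3), (113, 5), (116, 2), (116, 5), (443, 0), (443, 4), (437, 4), (1022, 1), (416, 1), (487, 2), (99, 1), (99, 5), (46, 0), (46, 4), (169, 2), (169, 4), (169, 5), (406, 0), (105, 4), (175, 1), (98, 2), (98, 5), (238, 0), (35, 4), (97, 1), (467, 1), (467, 2), (467, 3), (467, 5), (634, 0), (634, 4), (123, 1), (278, 2), (278, 4), (264, 3), (264, 4), (264, 5), (455, 5), (659, 0), (659, 4), (132, 1), (294, 2), (294, 4), (471, 2), (471, 3), (471, 4), (471, 5), (464, 1), (464, 3), (464, 4), (464, 5), (470, 2), (470, 3), (470, 4), (470, 5), (740, 1), (740, 5), (1012, 0), (1012, 4), (1774, 0), (1774, 4), (651, 4), (474, 1), (129,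 2), (129, 4), (750, 1), (750, 2), (750, 3), (750, 4), (566, 1), (700, 1), (700, 2), (700, 4), (700, 5), (271, 3), (271, 4), (271, 5), (694, 1), (694, 5), (617, 0), (617, 4), (158, 3), (158, 5), (161, 2), (161, 5), (622, 0), (622, 4), (616, 4), (418, 1), (414, 1), (180, 2), (114, 1), (114, 2), (267, 2), (267, 3), (267, 4), (270, 2), (270, 3), (127, 2), (127, 4), (127, 5), (274, 0), (188, 4), (188, 5), (201, 1), (201, 5), (461, 0), (461, 4), (324, 1), (324, 3), (324, 4), (324, 5), (344, 5), (273, 0), (273, 4), (318, 2), (318, 3), (318, 4), (318, 5), (207, 1), (207, 2), (207, 4), (207, 5), (368, 4), (368, 5), (601, 1), (601, 5), (1116, 0), (1116, 4), (2002, 0), (2002, 4), (716, 4), (1607, 1), (111, 4), (111, 5), (537, 1), (537, 5), (677, 0), (677, 4), (462,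 2), (462, 5), (1872, 0), (1872, 4), (767, 4), (1271, 1), (315, 4), (315, 5), (209, 3), (209, 4), (209, 5), (592, 1), (592, 5), (1122, 0), (1122, 4), (206, 3), (206, 4), (206, 5), (317, 2), (317, 4), (317, 5), (854, 1), (854, 5), (1148, 0), (1148, 4), (316, 4), (316, 5), (539, 4), (539, 5), (861, 1), (861, 5), (1121, 0), (1121, 4), (914, 2), (914, 4), (914, 5), (1776, 0), (1776, 4), (1676, 4), (1681, 1), (771, 1), (771, 2), (771, 3), (771, 5), (1775, 0), (1775, 4), (1723, 4), (1421, 1), (753, 1), (753, 5), (863, 2), (347, 4), (347, 5), (350, 4), (350, 5), (837, 1), (837, 5), (1485, 0), (1485, 4), (187, 4), (187, 5), (515, 1), (515, 5), (710, 0), (710, 4), (834, 2), (834, 5), (2232, 0), (2232, 4), (701, 4), (1586, 1), (65, 5), (421, 0), (421, 4), (112,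 5), (439, 0), (439, 4), (709, 4), (1523, 1), (672, 1), (1512, 2), (1512, 4), (298, 2), (778, 1), (778, 2), (172, 2), (172, 5), (390, 0), (60, 4), (167, 1), (263, 4), (263, 5), (276, 5), (641, 0), (641, 4), (130, 1), (280, 2), (280, 4), (442, 1), (442, 3), (442, 5), (389, 0), (389, 4), (71, 1), (166, 2), (166, 4), (436, 2), (436, 3), (436, 4), (436, 5), (282, 1), (282, 2), (282, 5), (486, 5), (1488, 0), (1488, 4), (997, 4), (720, 1), (203, 2), (737, 1), (737, 2), (737, 3), (737, 4), (156, 4), (156, 5), (711, 1), (711, 5), (972, 0), (972, 4), (2113, 0), (2113, 4), (1016, 4), (768, 1), (219, 2), (219, 4), (429, 3), (429, 4), (555, 1), (433, 4), (433, 5), (284, 3), (284, 4), (284, 5), (762, 1), (762, 5), (1496, 0), (1496, 4), (281, 3), (281, 4), (281, 5),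 (435, 2), (435, 4), (435, 5), (1088, 1), (1088, 5), (1498, 0), (1498, 4), (434, 4), (434, 5), (713, 4), (713, 5), (1095, 1), (1095, 5), (1495, 0), (1495, 4), (1143, 2), (1143, 4), (1143, 5), (2249, 0), (2249, 4), (1500, 4), (755, 1), (587, 1), (751, 1), (331, 2), (579, 1), (579, 2), (579, 3), (579, 4), (742, 2), (742, 3), (742, 4), (747, 1), (747, 3), (747, 4), (741, 2), (741, 3), (741, 4), (913, 1), (770, 2), (465, 4), (465, 5), (468, 4), (468, 5), (1072, 1), (1072, 5), (985, 0), (985, 4), (262, 4), (262, 5), (689, 1), (689, 5), (989, 0), (989, 4), (1070, 2), (1070, 5), (2332, 0), (2332, 4), (983, 4), (1082, 1), (91, 5), (606, 0), (606, 4), (157, 5), (618, 0), (618, 4), (988, 4), (678, 1), (664, 1), (673, 2), (673, 4), (296, 2), (300, 1), (300, 2),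 (192, 2), (192, 3), (192, 4), (195, 2), (195, 3), (1078, 1), (1078, 2), (1078, 4), (444, 3), (444, 4), (836, 1), (261, 3), (268, 2), (215, 4), (215, 5), (213, 5), (452, 0), (452, 4), (338, 1), (338, 5), (676, 0), (676, 4), (288, 2), (288, 5), (1328, 0), (1328, 4), (743, 4), (950, 1), (217, 3), (217, 4), (217, 5), (194, 3), (194, 4), (194, 5), (575, 1), (575, 5), (1084, 0), (1084, 4), (1930, 0), (1930, 4), (446, 4), (1097, 1), (190, 4), (190, 5), (220, 4), (220, 5), (532, 1), (532, 5), (1051, 0), (1051, 4), (125, 4), (125, 5), (208, 4), (208, 5), (828, 1), (828, 5), (722, 0), (722, 4), (924, 1), (924, 5), (1183, 0), (1183, 4), (966, 2), (966, 4), (966, 5), (2377, 0), (2377, 4), (1615, 4), (2104, 1), (2239, 4), (1879, 1), (1107, 1), (1107, 5), (1396, 2),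 (523, 1), (523, 5), (419, 0), (419, 4), (814, 2), (814, 5), (2060, 0), (2060, 4), (1027, 4), (2070, 1), (746, 1), (746, 3), (746, 5), (1430, 0), (1430, 4), (2322, 4), (2006, 1), (1181, 1), (1181, 5), (819, 2), (514, 1), (514, 5), (1075, 0), (1075, 4), (327, 4), (327, 5), (359, 5), (725, 0), (725, 4), (951, 2), (951, 5), (2352, 0), (2352, 4), (1620, 4), (2256, 1), (216, 4), (336, 1), (336, 5), (745, 0), (745, 4), (348, 4), (348, 5), (562, 1), (562, 5), (1047, 0), (1318, 2), (1536, 0), (1536, 4), (1671, 4), (558, 1), (558, 5), (1046, 0), (901, 1), (901, 5), (1602, 0), (1602, 4), (1327, 5), (2061, 0), (2061, 4), (1619, 4), (1986, 1), (1160, 1), (1160, 3), (1160, 4), (1160, 5), (1157, 5), (1937, 0), (1937, 4), (1979, 4), (1965, 1), (1164, 1), (1164, 5),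 (1896, 2), (1896, 4), (1186, 2), (1186, 3), (1186, 4), (1186, 5), (1065, 1), (1065, 2), (1065, 5), (1151, 5), (2308, 0), (891, 1), (932, 1), (1621, 2), (1621, 4), (544, 2), (544, 5), (680, 1), (680, 2), (557, 1), (557, 5), (1149, 0), (1149, 4), (591, 1), (591, 5), (1117, 0), (1117, 4), (1301, 2), (1301, 4), (1301, 5), (2346, 0), (2346, 4), (2021, 4), (1581, 1), (309, 1), (309, 5), (696, 0), (696, 4), (818, 2), (818, 5), (2215, 0), (2215, 4), (1091, 4), (2108, 1), (1297, 1), (1297, 3), (1297, 5), (2424, 0), (2424, 4), (2245, 4), (1661, 1), (1587, 1), (1587, 5), (2089, 2), (2089, 4), (256, 0), (256, 4), (667, 4), (1507, 1), (420, 0), (420, 4), (702, 4), (1513, 1), (1048, 1), (2047, 2), (2047, 4), (1037, 2), (1037, 4), (2264, 1), (2264, 2), (2264, 3), (2264,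 4), (1688, 1), (1688, 5), (498, 1), (498, 2), (1196, 2), (1196, 3), (1196, 4), (1207, 2), (1207, 3), (290, 5), (636, 0), (636, 4), (122, 1), (279, 2), (279, 4), (456, 1), (456, 5), (971, 0), (971, 4), (1605, 0), (1605, 4), (1007, 4), (744, 1), (205, 2), (205, 4), (428, 4), (335, 1), (292, 3), (292, 4), (292, 5), (269, 3), (269, 5), (1000, 0), (1000, 4), (627, 4), (449, 1), (121, 2), (708, 1), (708, 3), (708, 4), (265, 5), (295, 4), (295, 5), (706, 1), (706, 5), (1479, 0), (1479, 4), (170, 4), (170, 5), (283, 5), (1001, 0), (1001, 4), (1481, 0), (1481, 4), (2023, 4), (1099, 1), (572, 2), (564, 1), (564, 2), (564, 3), (695, 2), (695, 3), (695, 4), (457, 1), (457, 2), (457, 4), (772, 4), (965, 1), (697, 1), (697, 5), (604, 0), (604, 4), (1056, 2), (1056,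 5), (2392, 0), (2392, 4), (1474, 4), (1182, 1), (964, 1), (1179, 1), (550, 2), (311, 3), (311, 4), (259, 4), (860, 1), (553, 2), (688, 1), (688, 5), (1482, 0), (1482, 4), (445, 4), (445, 5), (477, 1), (477, 5), (1003, 0), (1003, 4), (1171, 5), (2347, 0), (2347, 4), (2027, 4), (1578, 1), (291, 4), (291, 5), (454, 1), (454, 5), (1008, 0), (1008, 4), (466, 4), (466, 5), (735, 1), (735, 5), (1478, 0), (1478, 4), (1594, 2), (2062, 4), (2028, 4), (1166, 1), (731, 1), (731, 5), (1477, 0), (1477, 4), (1133, 5), (1476, 0), (1476, 4), (1450, 5), (2393, 0), (2393, 4), (2026, 4), (1549, 1), (1678, 1), (1678, 4), (1678, 5), (1761, 0), (1761, 4), (953, 1), (1156, 1), (1165, 2), (1165, 4), (726, 2), (726, 4), (540, 2), (547, 1), (547, 2), (570, 2), (570, 3), (570,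 4), (576, 1), (576, 3), (576, 4), (569, 2), (569, 3), (569, 4), (945, 1), (698, 4), (460, 3), (460, 4), (948, 1), (463, 3), (463, 4), (692, 2), (692, 4), (1315, 1), (691, 4), (1096, 4), (1162, 2), (1185, 1), (1185, 2), (1185, 3), (730, 1), (730, 5), (970, 0), (970, 4), (761, 1), (761, 5), (1486, 0), (1486, 4), (1377, 2), (1377, 4), (1377, 5), (1920, 0), (1483, 4), (427, 1), (427, 5), (978, 0), (978, 4), (1059, 2), (1059, 5), (2261, 0), (2261, 4), (1487, 4), (1111, 1), (1346, 1), (1346, 2), (1346, 3), (1346, 5), (2174, 0), (2174, 4), (907, 1), (1582, 1), (1588, 2), (1588, 4), (371, 0), (371, 4), (969, 4), (671, 1), (605, 0), (605, 4), (984, 4), (674, 1), (1028, 1), (1049, 2), (1049, 4), (1023, 2), (1023, 4), (1919, 1), (1919, 2), (1919, 3), (1919, 4),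 (1173, 1), (1173, 5), (489, 1), (489, 2), (499, 2), (499, 3), (499, 4), (504, 2), (504, 3), (844, 1), (844, 2), (844, 4), (326, 3), (326, 4), (851, 1), (186, 3), (193, 2), (748, 4), (738, 4), (1300, 1), (432, 4), (826, 1), (1296, 2), (360, 1), (360, 5), (766, 0), (766, 4), (1412, 0), (1412, 4), (717, 4), (1617, 1), (561, 2), (1033, 0), (1033, 4), (478, 1), (478, 5), (1677, 0), (1677, 4), (1871, 4), (1934, 1), (1146, 5), (1329, 2), (131, 4), (842, 1), (842, 5), (757, 0), (757, 4), (525, 4), (525, 5), (595, 1), (595, 5), (704, 0), (704, 4), (923, 2), (923, 4), (923, 5), (1426, 0), (1426, 4), (1584, 4), (1612, 1), (1747, 4), (1339, 1), (718, 1), (718, 5), (927, 2), (322, 5), (679, 0), (679, 4), (559, 1), (559, 5), (769, 0), (769, 4), (853, 4), (853, 5),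 (2063, 0), (2063, 4), (1526, 4), (1928, 1), (516, 1), (516, 5), (450, 0), (450, 4), (832, 5), (723, 0), (723, 4), (1287, 4), (1287, 5), (2434, 0), (2434, 4), (1101, 4), (2149, 1), (1316, 4), (1316, 5), (2191, 0), (2191, 4), (1700, 4), (2079, 1), (1817, 1), (1817, 2), (1817, 3), (1817, 4), (1817, 5), (1908, 1), (1908, 5), (2335, 0), (2335, 4), (2383, 2), (2383, 4), (1342, 1), (1892, 2), (1892, 4), (917, 2), (917, 5), (1932, 1), (1932, 2), (1932, 3), (810, 5), (1533, 0), (1533, 4), (665, 4), (1545, 1), (1261, 1), (1261, 2), (1261, 5), (2146, 0), (2146, 4), (2368, 4), (2378, 1), (1702, 1), (1702, 5), (2318, 2), (2318, 4), (1150, 2), (1150, 3), (1150, 4), (1150, 5), (765, 3), (765, 5), (935, 0), (935, 4), (1464, 1), (1974, 2), (1974, 4), (883, 2), (883,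 5), (1272, 1), (1272, 3), (827, 2), (827, 5), (2214, 0), (2214, 4), (1576, 4), (2398, 1), (829, 5), (1093, 0), (1093, 4), (1945, 0), (1945, 4), (1104, 4), (1766, 1), (2172, 1), (2172, 5), (2050, 0), (2065, 4), (1841, 1), (2081, 1), (2081, 5), (1784, 4), (533, 1), (556, 2), (556, 4), (556, 5), (1773, 0), (1773, 4), (563, 1), (563, 5), (1152, 0), (1532, 0), (1573, 2), (1573, 3), (2038, 4), (899, 2), (899, 4), (899, 5), (2057, 0), (949, 5), (1778, 0), (1778, 4), (2106, 4), (2043, 1), (2300, 0), (2300, 4), (2301, 4), (2389, 1), (1870, 1), (1870, 5), (2299, 2), (2299, 4), (1359, 2), (1359, 4), (1922, 2), (1922, 3), (1922, 5), (752, 5), (1403, 0), (1403, 4), (361, 4), (1442, 4), (2203, 1), (1433, 1), (2271, 2), (2271, 4), (1689, 2), (1689, 4), (1689, 5), (1835,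 1), (1835, 2), (1835, 4), (1344, 1), (1344, 2), (1344, 4), (1344, 5), (1379, 4), (1379, 5), (2161, 5), (1317, 4), (1317, 5), (1068, 5), (2185, 0), (1925, 0), (889, 4), (1105, 2), (1105, 4), (2138, 1), (2138, 2), (2138, 4), (1725, 1), (1725, 5), (506, 2), (506, 5), (1053, 1), (1053, 3), (900, 2), (900, 4), (2260, 0), (2260, 4), (1672, 4), (1517, 1), (952, 2), (952, 4), (952, 5), (2150, 0), (2150, 4), (1616, 4), (2085, 1), (1130, 1), (1130, 4), (1130, 5), (1909, 1), (1909, 5), (2363, 0), (2363, 4), (2344, 4), (1136, 1), (2033, 2), (2033, 4), (510, 5), (1727, 0), (1727, 4), (1073, 4), (2080, 1), (1274, 1), (1274, 5), (2278, 0), (2278, 4), (2395, 4), (2328, 1), (1627, 1), (1627, 5), (2409, 2), (2409, 4), (1656, 3), (1656, 4), (1656, 5), (1818, 5), (2415,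 0), (2415, 4), (2148, 4), (2036, 1), (1384, 1), (1454, 2), (2091, 2), (2091, 5), (2157, 1), (2157, 2), (2157, 3), (2157, 4), (1831, 5), (415, 4), (1018, 1), (1032, 1), (2031, 2), (2031, 4), (666, 4), (1506, 1), (1038, 1), (2040, 2), (2040, 4), (1553, 2), (1553, 4), (1711, 3), (1711, 4), (2321, 1), (2321, 5), (2345, 1), (2345, 2), (2345, 3), (2345, 4), (1782, 2), (1782, 3), (1782, 4), (2166, 1), (2166, 2), (2166, 3), (2166, 4), (2436, 2), (2436, 3), (2436, 4), (1921, 1), (1921, 5), (2078, 2), (2078, 5), (795, 3), (795, 4), (806, 2), (806, 3), (2358, 1), (2358, 2), (1738, 3), (1738, 4), (1441, 1), (1191, 3), (1197, 2), (1015, 0), (1015, 4), (999, 4), (724, 1), (204, 2), (481, 4), (734, 2), (1531, 4), (1473, 4), (1147, 1), (921, 1), (1144, 1), (546, 2),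 (476, 2), (176, 4), (176, 5), (1076, 1), (1076, 5), (1014, 0), (1014, 4), (699, 5), (986, 0), (986, 4), (1490, 4), (721, 1), (714, 1), (534, 1), (534, 3), (480, 3), (480, 4), (441, 3), (441, 4), (922, 1), (973, 0), (973, 4), (732, 1), (732, 5), (1017, 0), (1017, 4), (1087, 5), (2087, 4), (2018, 4), (1050, 1), (690, 5), (633, 0), (633, 4), (1002, 0), (1002, 4), (1491, 4), (2019, 4), (915, 2), (918, 2), (918, 3), (521, 2), (521, 3), (521, 4), (339, 1), (339, 2), (485, 4), (852, 1), (277, 4), (458, 4), (1284, 1), (1409, 1), (1470, 2), (1470, 4), (1052, 5), (2058, 4), (967, 4), (1673, 1), (1563, 5), (2423, 0), (2423, 4), (1469, 1), (1699, 1), (1703, 2), (1703, 4), (942, 4), (869, 2), (885, 1), (885, 3), (184, 4), (1094, 1), (841, 1), (1259, 2), (893, 1),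 (893, 3), (1064, 2), (1064, 4), (2334, 0), (2020, 4), (1066, 5), (1489, 0), (1489, 4), (2176, 0), (2176, 4), (1493, 4), (1119, 1), (1973, 0), (1814, 1), (1823, 4), (707, 1), (1013, 0), (729, 5), (2112, 0), (2112, 4), (1497, 4), (736, 1), (736, 5), (1499, 0), (1294, 2), (1458, 1), (1683, 1), (1568, 4), (1131, 5), (2016, 4), (2262, 0), (2262, 4), (2015, 4), (1043, 1), (2388, 0), (1827, 1), (2045, 1), (1855, 2), (1855, 4), (1893, 2), (1893, 4), (1227, 4), (1957, 4), (1231, 1), (1452, 2), (1452, 4), (1682, 2), (1682, 4), (2348, 2), (2348, 4), (1135, 1), (1135, 4), (1935, 1), (866, 1), (866, 2), (531, 2), (839, 1), (839, 2), (839, 3), (524, 4), (345, 4), (518, 2), (518, 4), (517, 4), (862, 4), (1445, 2), (1447, 2), (749, 4), (905, 1), (1756, 2), (754, 1),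 (1347, 2), (1347, 3), (1347, 4), (1390, 1), (1390, 2), (1132, 2), (2290, 0), (2290, 4), (1472, 4), (675, 1), (1172, 2), (1642, 0), (2022, 4), (1083, 1), (898, 1), (898, 4), (898, 5), (2162, 5), (684, 5), (2042, 0), (2042, 4), (1480, 4), (1566, 1), (1566, 5), (1799, 0), (1799, 4), (1363, 1), (1611, 1), (1632, 2), (1380, 3), (1380, 5), (874, 2), (874, 5), (1345, 5), (2153, 0), (2153, 4), (1668, 4), (2052, 1), (1175, 4), (1368, 2), (1286, 5), (603, 4), (417, 1), (1021, 1), (1035, 2), (1035, 4), (968, 4), (670, 1), (1024, 1), (1041, 2), (1041, 4), (1524, 2), (1524, 4), (793, 3), (793, 4), (1923, 5), (2167, 1), (2167, 2), (2167, 3), (1691, 5), (1780, 2), (1780, 3), (1780, 4), (1383, 1), (1383, 2), (1383, 3), (1758, 2), (1758, 4), (1569, 5), (779, 3), (784,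 2), (784, 3), (1770, 1), (1770, 2), (807, 3), (807, 4), (1767, 1), (497, 3), (500, 2), (577, 4), (565, 4), (1313, 1), (314, 4), (880, 2), (895, 1), (947, 1), (1848, 2), (1848, 4), (513, 1), (1266, 2), (1333, 1), (1333, 3), (1943, 4), (1890, 1), (1118, 1), (1118, 5), (1461, 2), (1319, 1), (1508, 4), (764, 2), (764, 4), (910, 1), (1400, 1), (2125, 2), (2125, 4), (567, 1), (1306, 5), (1232, 0), (1232, 4), (2000, 1), (833, 1), (833, 5), (1580, 0), (1580, 4), (957, 4), (957, 5), (2195, 0), (2195, 4), (1080, 4), (2090, 1), (1167, 3), (1167, 4), (1985, 1), (1985, 5), (934, 0), (1216, 4), (1192, 1), (1112, 1), (1112, 5), (1585, 2), (871, 1), (1684, 4), (1418, 3), (1772, 4), (1029, 4), (1670, 1), (902, 2), (902, 4), (2316, 5), (2274, 0), (2165, 4), (2144, 1),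 (1556, 1), (1556, 5), (831, 2), (2178, 4), (715, 4), (1606, 1), (2360, 4), (1102, 4), (2115, 1), (2319, 4), (2240, 2), (2240, 4), (1857, 1), (1857, 5), (2180, 0), (2180, 4), (2381, 2), (1270, 3), (1270, 5), (2102, 2), (2102, 3), (2102, 4), (2102, 5), (1268, 2), (1268, 3), (1268, 5), (1810, 1), (1810, 5), (2401, 0), (1915, 4), (2295, 4), (2141, 1), (2141, 2), (1679, 2), (1679, 4), (1402, 2), (1402, 3), (1423, 3), (1423, 4), (2349, 1), (2349, 2), (2349, 3), (1955, 2), (1955, 3), (2059, 0), (2059, 4), (2035, 4), (2051, 1), (1929, 5), (1813, 4), (1813, 5), (847, 2), (1637, 0), (1637, 4), (2248, 1), (2008, 1), (2131, 2), (2131, 4), (1897, 2), (1897, 4), (1860, 1), (1860, 3), (2096, 1), (2096, 5), (758, 4), (1177, 3), (1177, 5), (583, 0), (1069, 5), (1794,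 0), (1439, 4), (1963, 1), (1963, 3), (1199, 5), (1260, 1), (1260, 3), (1408, 3), (1408, 4), (1561, 2), (1375, 3), (1375, 5), (2336, 0), (2394, 4), (2238, 4), (2385, 0), (2385, 4), (1237, 2), (856, 4), (1833, 3), (1833, 4), (1833, 5), (906, 2), (906, 5), (1249, 0), (1362, 1), (1362, 2), (1362, 3), (1565, 4), (1565, 5), (2181, 0), (2181, 4), (1838, 4), (2253, 1), (1546, 5), (2455, 1), (2267, 1), (2365, 2), (2288, 4), (2288, 5), (1834, 4), (1806, 1), (1685, 5), (1437, 0), (214, 4), (943, 4), (1720, 1), (1089, 1), (1768, 1), (2438, 4), (1966, 2), (1966, 4), (1789, 1), (1789, 2), (1789, 4), (1889, 1), (1927, 2), (1927, 4), (2412, 5), (1669, 2), (1913, 2), (873, 5), (1866, 5), (2235, 1), (2235, 5), (1969, 0), (1964, 0), (1633, 4), (2083, 4), (2143, 1), (2387,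 1), (2387, 5), (811, 5), (1559, 4), (2064, 4), (2041, 1), (1590, 1), (2399, 2), (2399, 4), (1654, 5), (2136, 1), (1967, 0), (1967, 4), (2447, 4), (2382, 1), (2382, 2), (2202, 0), (2202, 4), (2212, 4), (2168, 1), (1821, 4), (1821, 5), (1796, 0), (1796, 4), (1726, 1), (1884, 1), (2324, 2), (2324, 4), (2135, 2), (2417, 1), (1991, 5), (1241, 1), (2443, 0), (2443, 4), (2129, 4), (1534, 1), (1509, 2), (954, 2), (2244, 4), (2266, 2), (2266, 4), (668, 1), (1505, 4), (1647, 5), (1031, 1), (2032, 2), (2032, 4), (1540, 2), (1540, 4), (1710, 4), (1926, 5), (1218, 3), (1218, 4), (1189, 3), (1189, 4), (1869, 5), (2255, 3), (1918, 1), (1918, 2), (1918, 3), (1918, 4), (2243, 2), (2243, 4), (2285, 3), (2285, 4), (1278, 1), (2302, 3), (2302, 4), (2196, 3), (2196, 4),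 (2193, 2), (2193, 4), (1385, 5), (2192, 4), (1687, 5), (1248, 3), (1248, 4), (1432, 1), (790, 3), (796, 2), (2213, 4), (2428, 3), (1719, 2), (1719, 4), (1503, 4), (1103, 1), (598, 2), (1125, 2), (1125, 4), (865, 2), (858, 1), (653, 0), (1579, 5), (1769, 4), (1502, 4), (1494, 0), (1494, 4), (1484, 4), (1589, 1), (1113, 2), (362, 4), (323, 3), (289, 4), (1077, 4), (956, 1), (1475, 4), (1557, 1), (1134, 2), (1299, 1), (1686, 0), (996, 4), (719, 1), (1492, 4), (1110, 1), (1397, 2), (1404, 2), (940, 3), (367, 4), (1086, 1), (202, 4), (1330, 1), (1330, 2), (1330, 3), (1330, 4), (2426, 1), (2391, 4), (1942, 1), (2069, 1), (1887, 2), (2142, 0), (2205, 1), (2011, 2), (2186, 4), (1882, 3), (2406, 1), (1422, 1), (1336, 1), (1336, 3), (1324, 3), (824, 1), (1562,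 2), (1176, 3), (1381, 4), (2364, 0), (1138, 2), (1138, 5), (2293, 2), (2310, 2), (2310, 4), (1311, 4), (2231, 1), (797, 1), (1721, 1), (1771, 4), (2298, 2), (2456, 5), (1658, 4), (1302, 1), (1304, 3), (529, 2), (578, 4), (875, 1), (875, 4), (1907, 4), (1583, 1), (1376, 4), (1993, 0), (1975, 0), (1975, 4), (1358, 5), (2367, 0), (1644, 4), (2147, 0), (2155, 5), (669, 4), (2128, 5), (1020, 1), (1036, 2), (1516, 2), (1994, 5), (495, 3), (1812, 5), (2211, 3), (1660, 1), (1660, 2), (1224, 2), (777, 3), (780, 2), (2283, 1), (1127, 1), (1856, 2), (1856, 4), (878, 3), (1650, 1), (1650, 4), (2427, 1), (1820, 1), (1352, 1), (2187, 4), (1862, 4), (1623, 4), (2210, 1), (802, 0), (1722, 4), (1762, 1), (1292, 5), (1791, 0), (845, 2), (1634, 2), (2094, 1), (2220, 3),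 (2250, 1), (2114, 4), (1626, 1), (1755, 1), (2305, 2), (2305, 3), (2282, 1), (1938, 3), (1198, 1), (2432, 4), (1741, 3), (2350, 1), (1058, 3), (2273, 5), (1243, 0), (1427, 3), (1195, 5), (2163, 5), (1705, 4), (2005, 1), (944, 1), (1230, 1), (1201, 2), (1906, 0), (2049, 5), (1951, 1), (1429, 5), (1751, 4), (2386, 4), (1982, 1)], 2048⟩

def lH2 : Lev := ⟨[[10], [12], [50], [1, 42]], 72, [(72, 0), (72, 1), (72, 2), (72, 3), (324, 0), (324, 1), (324, 2), (324, 3), (127, 0), (127, 1), (127, 2), (127, 3), (273, 3), (462, 2), (368, 0), (368, 1), (368, 2), (368, 3), (194, 0), (194, 1), (194, 2), (194, 3), (1084, 3), (746, 2), (215, 1), (215, 2), (215, 3), (126, 0), (126, 2), (126, 3), (452, 3), (288, 2), (718, 2), (353, 0), (353, 1), (353, 2), (353, 3), (526,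 0), (526, 2), (526, 3), (1183, 3), (1151, 2), (115, 1), (115, 2), (115, 3), (525, 0), (525, 2), (525, 3), (704, 3), (765, 2), (1112, 2), (207, 0), (207, 2), (207, 3), (766, 3), (478, 2), (349, 2), (349, 3), (451, 3), (484, 2), (1118, 2), (315, 0), (315, 2), (315, 3), (209, 2), (209, 3), (1122, 3), (762, 2), (350, 2), (350, 3), (1485, 3), (1072, 2), (1577, 2), (196, 2), (196, 3), (438, 3), (694, 2), (327, 2), (327, 3), (1580, 3), (1069, 2), (2092, 2), (208, 1), (208, 2), (208, 3), (722, 3), (1065, 2), (1641, 2), (1116, 3), (771, 2), (1107, 2), (187, 2), (187, 3), (1075, 3), (688, 2), (725, 3), (477, 2), (2081, 2), (1117, 3), (761, 2), (1081, 2), (710, 3), (689, 2), (1587, 2), (1093, 3), (1066, 2), (1635, 2), (125, 2), (125, 3), (723, 3), (1068, 2), (2109,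 2), (1600, 2), (696, 3), (427, 2), (2134, 2), (1640, 2), (1590, 2), (1627, 2), (1639, 2), (450, 3), (690, 2), (1626, 2), (1625, 2), (1106, 2)], 126⟩

def chH : List Lev := [lH0, lH1, lH2]

theorem cH : chainB (nat_lit 12) (nat_lit 4095) tH (nat_lit 2457) chH [] = true := by decide +kernel

def lK0 : Lev := ⟨[[0], [2], [4], [6], [8], [10], [12], [14]], 4, [(4, 0), (4, 1), (4, 2), (4, 5), (4, 7), (6, 1), (6, 2), (6, 5), (6, 7), (7, 2), (7, 5), (7, 7), (8, 4), (8, 5), (8, 7), (26, 4), (27, 3), (27, 4), (10, 2), (10, 5), (10, 7), (11, 4), (11, 5), (11, 7), (36, 4), (37, 3), (37, 4), (13, 4), (13, 5), (13, 7), (48, 4), (45, 3), (45, 4), (24, 1), (24, 2), (24, 5), (24, 6), (24, 7), (29, 4), (14, 3), (14, 4), (44, 1), (44, 2), (44, 5), (44, 6), (44, 7), (49,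 4), (78, 1), (78, 2), (78, 5), (78, 6), (78, 7), (21, 5), (21, 7), (59, 3), (34, 2), (34, 5), (34, 6), (34, 7), (39, 4), (22, 3), (22, 4), (58, 2), (58, 5), (58, 6), (58, 7), (63, 4), (104, 2), (104, 5), (104, 6), (104, 7), (56, 2), (56, 5), (56, 6), (56, 7), (47, 4), (25, 3), (25, 4), (101, 2), (101, 5), (101, 6), (101, 7), (79, 4), (177, 2), (177, 5), (177, 6), (177, 7), (42, 2), (42, 5), (42, 6), (42, 7), (40, 5), (40, 6), (40, 7), (324, 4), (324, 6), (96, 7), (194, 3), (194, 4), (74, 1), (74, 2), (74, 5), (74, 6), (74, 7), (28, 4), (43, 1), (43, 2), (43, 5), (43, 6), (43, 7), (75, 2), (75, 5), (75, 6), (75, 7), (76, 4), (76, 5), (76, 6), (76, 7), (66, 6), (173, 7), (117, 3), (117, 5), (117, 7), (77, 1), (77, 2), (77, 6), (77, 7), (132, 2), (132,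 5), (132, 6), (132, 7), (133, 4), (133, 5), (133, 6), (133, 7), (351, 4), (351, 6), (293, 7), (352, 3), (352, 4), (35, 3), (54, 5), (54, 6), (54, 7), (442, 4), (442, 6), (141, 7), (269, 3), (269, 4), (100, 2), (100, 5), (100, 6), (100, 7), (38, 4), (57, 2), (57, 5), (57, 6), (57, 7), (102, 4), (102, 5), (102, 6), (102, 7), (92, 6), (248, 7), (162, 3), (162, 5), (162, 7), (103, 2), (103, 6), (103, 7), (178, 4), (178, 5), (178, 6), (178, 7), (469, 4), (469, 6), (411, 7), (470, 3), (470, 4), (90, 5), (90, 6), (90, 7), (708, 4), (708, 6), (236, 7), (441, 3), (441, 4), (168, 2), (168, 5), (168, 6), (168, 7), (46, 4), (97, 2), (97, 5), (97, 6), (97, 7), (174, 4), (174, 5), (174, 6), (174, 7), (159, 6), (404, 7), (270, 3), (270, 5), (270, 7), (175, 2), (175,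 6), (175, 7), (294, 4), (294, 5), (294, 6), (294, 7), (750, 4), (750, 6), (658, 7), (741, 3), (741, 4), (64, 5), (64, 6), (64, 7), (534, 4), (534, 6), (164, 7), (323, 3), (323, 4), (217, 4), (217, 6), (152, 4), (152, 7), (131, 3), (131, 4), (575, 2), (575, 5), (575, 6), (575, 7), (1084, 4), (704, 3), (704, 4), (525, 4), (595, 2), (595, 5), (595, 6), (595, 7), (123, 2), (123, 5), (123, 6), (123, 7), (126, 4), (126, 5), (126, 6), (126, 7), (189, 4), (189, 6), (275, 7), (111, 3), (111, 4), (111, 5), (111, 7), (73, 1), (73, 2), (73, 6), (73, 7), (71, 2), (71, 5), (71, 6), (71, 7), (72, 4), (72, 5), (72, 6), (72, 7), (215, 4), (215, 6), (165, 7), (207, 3), (207, 4), (129, 4), (129, 5), (129, 6), (129, 7), (114, 6), (285, 7), (195, 3), (195, 5), (195, 7),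 (341, 2), (341, 5), (341, 6), (341, 7), (115, 4), (115, 6), (286, 4), (286, 7), (196, 3), (196, 4), (196, 5), (196, 7), (266, 4), (443, 3), (443, 4), (443, 5), (443, 7), (526, 4), (349, 4), (130, 2), (130, 6), (130, 7), (124, 4), (124, 6), (124, 7), (287, 7), (368, 4), (219, 4), (219, 5), (219, 6), (219, 7), (579, 4), (579, 6), (482, 7), (569, 3), (569, 4), (337, 2), (337, 5), (337, 6), (337, 7), (353, 4), (353, 6), (483, 4), (483, 7), (209, 3), (209, 4), (568, 2), (568, 5), (568, 6), (568, 7), (1153, 4), (1121, 3), (1121, 4), (539, 4), (861, 2), (861, 5), (861, 6), (861, 7), (292, 4), (292, 6), (225, 4), (225, 7), (176, 3), (176, 4), (746, 2), (746, 6), (1000, 4), (986, 3), (986, 4), (699, 4), (765, 2), (765, 5), (765, 6), (765, 7), (171, 5), (171,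 6), (171, 7), (264, 6), (391, 7), (156, 3), (156, 5), (156, 7), (99, 2), (99, 6), (99, 7), (98, 5), (98, 6), (98, 7), (290, 4), (290, 6), (238, 7), (282, 3), (282, 4), (459, 5), (459, 6), (459, 7), (160, 4), (160, 6), (405, 4), (405, 7), (271, 3), (271, 4), (271, 5), (271, 7), (379, 4), (622, 3), (622, 4), (622, 5), (622, 7), (700, 4), (169, 4), (169, 6), (169, 7), (406, 7), (455, 5), (455, 6), (455, 7), (471, 4), (471, 6), (659, 4), (659, 7), (284, 3), (284, 4), (740, 2), (740, 6), (1012, 4), (1495, 3), (1495, 4), (713, 4), (1095, 2), (1095, 5), (1095, 6), (1095, 7), (480, 4), (480, 6), (370, 4), (370, 7), (289, 3), (289, 4), (922, 2), (922, 5), (922, 6), (922, 7), (1490, 4), (1484, 3), (1484, 4), (1077, 4), (956, 2), (956, 5), (956, 6), (956, 7), (278,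 4), (278, 5), (278, 6), (278, 7), (429, 4), (429, 6), (629, 7), (259, 3), (259, 4), (259, 5), (259, 7), (167, 2), (167, 6), (167, 7), (166, 4), (166, 5), (166, 6), (166, 7), (481, 4), (481, 6), (386, 7), (457, 3), (457, 4), (566, 2), (566, 5), (566, 6), (566, 7), (267, 4), (267, 6), (651, 4), (651, 7), (444, 3), (444, 4), (444, 5), (444, 7), (616, 4), (988, 3), (988, 4), (988, 5), (988, 7), (1078, 4), (737, 4), (280, 4), (280, 6), (280, 7), (652, 7), (772, 4), (555, 2), (555, 5), (555, 6), (555, 7), (742, 4), (742, 6), (1016, 4), (1016, 7), (460, 3), (460, 4), (913, 2), (913, 5), (913, 6), (913, 7), (1500, 4), (2026, 3), (2026, 4), (1096, 4), (1326, 2), (1326, 5), (1326, 6), (1326, 7), (362, 4), (362, 6), (254, 4), (254, 7), (214, 3), (214, 4), (893,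 2), (893, 6), (1584, 4), (1080, 3), (1080, 4), (843, 4), (1176, 2), (1176, 5), (1176, 6), (1176, 7), (842, 2), (842, 5), (842, 6), (842, 7), (757, 4), (662, 2), (662, 5), (662, 7), (475, 3), (475, 4), (348, 4), (567, 2), (567, 5), (567, 6), (567, 7), (923, 4), (923, 5), (923, 6), (923, 7), (711, 6), (1426, 4), (1426, 7), (697, 3), (697, 5), (697, 7), (1612, 2), (1612, 5), (1612, 7), (1580, 4), (2090, 2), (2090, 5), (2090, 6), (2090, 7), (833, 2), (833, 6), (833, 7), (957, 4), (957, 5), (957, 6), (1865, 4), (1865, 6), (2195, 7), (1896, 3), (1896, 4), (203, 5), (203, 6), (203, 7), (311, 6), (448, 7), (184, 3), (184, 5), (184, 7), (366, 5), (366, 6), (366, 7), (113, 6), (451, 4), (451, 7), (65, 3), (65, 5), (65, 7), (537, 2), (537, 6), (677, 4), (419, 3),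 (419, 4), (419, 5), (419, 7), (190, 4), (523, 2), (523, 5), (523, 6), (523, 7), (317, 4), (188, 4), (122, 2), (122, 6), (122, 7), (127, 4), (127, 6), (127, 7), (274, 7), (346, 4), (121, 5), (121, 6), (121, 7), (363, 4), (363, 6), (272, 7), (339, 3), (339, 4), (344, 5), (344, 6), (344, 7), (208, 4), (208, 6), (273, 4), (273, 7), (125, 3), (125, 4), (360, 2), (360, 5), (360, 6), (360, 7), (766, 4), (722, 3), (722, 4), (315, 4), (828, 2), (828, 5), (828, 6), (828, 7), (588, 5), (588, 6), (588, 7), (192, 4), (192, 6), (472, 4), (472, 7), (326, 3), (326, 4), (326, 5), (326, 7), (437, 4), (709, 3), (709, 4), (709, 5), (709, 7), (844, 4), (484, 5), (484, 6), (484, 7), (1358, 4), (1358, 6), (1233, 4), (1233, 7), (1674, 3), (1674, 4), (1674, 5), (1674, 7), (520,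 2), (520, 5), (520, 6), (520, 7), (438, 4), (1154, 2), (1154, 5), (1154, 7), (710, 3), (710, 4), (710, 5), (710, 7), (187, 4), (515, 2), (515, 5), (515, 6), (515, 7), (347, 4), (318, 4), (1022, 2), (1022, 5), (1022, 7), (439, 4), (1523, 2), (1523, 5), (1523, 7), (1485, 4), (1116, 4), (837, 2), (837, 6), (837, 7), (601, 2), (601, 6), (205, 4), (205, 6), (205, 7), (473, 7), (201, 2), (201, 6), (201, 7), (461, 4), (461, 7), (220, 4), (1183, 4), (924, 2), (924, 5), (924, 6), (924, 7), (728, 5), (728, 6), (728, 7), (570, 4), (570, 6), (767, 4), (767, 7), (342, 3), (342, 4), (945, 2), (945, 6), (1676, 4), (1619, 3), (1619, 4), (862, 4), (1604, 2), (1604, 5), (1604, 6), (1604, 7), (462, 5), (462, 6), (462, 7), (1696, 4), (1696, 6), (1872, 4), (1872, 7), (1175,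 3), (1175, 4), (592, 2), (592, 5), (592, 6), (592, 7), (1122, 4), (1271, 2), (1271, 5), (1271, 7), (725, 3), (725, 4), (327, 4), (359, 2), (359, 5), (359, 6), (359, 7), (914, 4), (914, 5), (914, 6), (914, 7), (771, 6), (1776, 4), (1776, 7), (1151, 5), (1151, 7), (1681, 5), (1986, 5), (1986, 6), (1986, 7), (901, 2), (901, 6), (901, 7), (1327, 4), (1327, 5), (1327, 6), (1327, 7), (1261, 6), (2061, 7), (1346, 3), (1076, 6), (1014, 4), (255, 2), (255, 5), (255, 7), (653, 3), (653, 4), (466, 4), (739, 5), (739, 6), (739, 7), (1150, 4), (1150, 6), (935, 4), (721, 2), (721, 5), (721, 7), (1494, 4), (1589, 2), (1589, 5), (1589, 6), (1589, 7), (1069, 2), (1069, 6), (1069, 7), (1177, 4), (1177, 5), (1177, 6), (2071, 4), (2071, 6), (1794, 7), (1689, 3), (1689,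 4), (158, 6), (634, 4), (634, 7), (91, 3), (91, 5), (91, 7), (972, 4), (604, 3), (604, 4), (604, 5), (604, 7), (435, 4), (172, 6), (172, 7), (390, 7), (283, 4), (283, 6), (389, 4), (389, 7), (170, 3), (170, 4), (478, 2), (478, 6), (1015, 4), (1001, 3), (1001, 4), (433, 4), (1065, 2), (1065, 5), (1065, 6), (1065, 7), (1821, 4), (1821, 6), (1774, 4), (1774, 7), (1408, 3), (1408, 4), (1408, 5), (1408, 7), (694, 6), (617, 4), (474, 2), (474, 5), (474, 7), (989, 3), (989, 4), (989, 5), (989, 7), (262, 4), (689, 5), (689, 6), (689, 7), (465, 4), (436, 4), (418, 2), (418, 5), (418, 7), (618, 4), (678, 2), (678, 5), (678, 7), (985, 4), (1488, 4), (1072, 2), (1072, 6), (276, 6), (276, 7), (641, 4), (641, 7), (295, 4), (1481, 4), (1457, 4), (1457, 6), (2113, 4),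 (2113, 7), (955, 3), (955, 4), (762, 2), (762, 5), (762, 6), (762, 7), (1496, 4), (768, 2), (768, 5), (768, 7), (1003, 3), (1003, 4), (445, 4), (477, 2), (477, 7), (1143, 4), (1143, 6), (2249, 4), (755, 5), (755, 7), (1476, 4), (1549, 2), (1549, 5), (1549, 6), (1549, 7), (1133, 2), (1133, 6), (1133, 7), (1450, 4), (1450, 5), (1450, 6), (1450, 7), (1563, 6), (2393, 7), (1305, 2), (1305, 5), (1305, 6), (1305, 7), (1502, 4), (414, 2), (414, 5), (414, 7), (1011, 3), (1011, 4), (749, 4), (911, 2), (911, 5), (911, 6), (911, 7), (1407, 4), (1407, 5), (1407, 6), (1407, 7), (1094, 6), (1216, 4), (1216, 7), (824, 3), (824, 5), (824, 7), (1100, 2), (1100, 5), (1100, 7), (2025, 4), (2076, 2), (2076, 5), (2076, 6), (2076, 7), (1295, 2), (1295, 6), (1295, 7), (1459,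 4), (1459, 5), (1459, 6), (2044, 4), (2044, 6), (1753, 7), (1682, 3), (1682, 4), (600, 5), (600, 6), (600, 7), (261, 6), (997, 4), (997, 7), (154, 3), (154, 5), (154, 7), (860, 6), (1474, 4), (967, 3), (967, 4), (967, 5), (967, 7), (431, 4), (841, 2), (841, 5), (841, 6), (841, 7), (692, 4), (428, 4), (279, 4), (279, 6), (279, 7), (628, 7), (747, 4), (574, 5), (574, 6), (574, 7), (458, 4), (458, 6), (627, 4), (627, 7), (277, 3), (277, 4), (593, 2), (593, 5), (593, 6), (593, 7), (1503, 4), (1491, 3), (1491, 4), (698, 4), (1284, 2), (1284, 5), (1284, 6), (1284, 7), (770, 5), (770, 6), (770, 7), (1429, 4), (1429, 6), (1723, 4), (1723, 7), (1353, 3), (1353, 4), (1353, 5), (1353, 7), (836, 2), (836, 5), (836, 6), (836, 7), (983, 4), (751, 2), (751, 5), (751,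 7), (1487, 3), (1487, 4), (1487, 5), (1487, 7), (432, 4), (826, 2), (826, 5), (826, 6), (826, 7), (748, 4), (695, 4), (664, 2), (664, 5), (664, 7), (984, 4), (1028, 2), (1028, 5), (1028, 7), (1483, 4), (2023, 4), (1300, 2), (1300, 6), (1300, 7), (965, 2), (965, 6), (335, 2), (335, 6), (335, 7), (1007, 4), (1007, 7), (485, 4), (2019, 4), (1409, 2), (1409, 5), (1409, 6), (1409, 7), (553, 5), (553, 6), (553, 7), (2183, 4), (2183, 6), (2322, 4), (2322, 7), (1693, 3), (1693, 4), (948, 2), (948, 5), (948, 6), (948, 7), (2027, 4), (1179, 2), (1179, 5), (1179, 7), (1493, 3), (1493, 4), (712, 4), (589, 2), (589, 7), (1162, 4), (1162, 5), (1162, 6), (1162, 7), (1185, 6), (1979, 4), (1979, 7), (1371, 5), (1371, 7), (1156, 5), (2045, 5), (2045, 6), (2045, 7), (1373,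 2), (1373, 6), (1373, 7), (1551, 4), (1551, 5), (1551, 6), (1551, 7), (848, 6), (2301, 7), (878, 3), (1282, 6), (1158, 4), (416, 2), (416, 5), (416, 7), (752, 3), (752, 4), (578, 4), (944, 5), (944, 6), (944, 7), (1366, 4), (1366, 6), (1415, 4), (1112, 2), (1112, 5), (1112, 7), (2082, 4), (2092, 2), (2092, 7), (1367, 2), (1367, 6), (1367, 7), (1697, 4), (1697, 6), (1548, 4), (1548, 6), (2223, 7), (1165, 4), (1306, 4), (1306, 6), (1070, 6), (1232, 4), (1232, 7), (1059, 3), (1059, 5), (1059, 7), (2000, 2), (2000, 5), (487, 5), (487, 7), (1935, 4), (1422, 3), (1422, 4), (1152, 4), (1678, 2), (1678, 6), (563, 2), (563, 6), (563, 7), (912, 4), (912, 5), (912, 6), (912, 7), (1455, 4), (1455, 6), (797, 7), (1915, 3), (1915, 4), (1985, 2), (1985, 5), (1985,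 7), (1056, 6), (934, 7), (1052, 7), (2392, 4), (1192, 2), (1192, 5), (1192, 7), (2058, 3), (2058, 4), (2058, 5), (2058, 7), (1861, 4), (1894, 4), (1585, 4), (1585, 5), (1585, 7), (2220, 3), (2220, 5), (2220, 7), (2120, 2), (2120, 7), (2107, 4), (2107, 5), (2107, 6), (2107, 7), (1538, 4), (2072, 4), (1292, 4), (1292, 6), (1961, 7), (1355, 4), (1715, 2), (1715, 5), (1715, 7), (2043, 6), (2274, 2), (2274, 5), (2274, 6), (2274, 7), (2337, 4), (2271, 3), (2271, 4), (2299, 4), (2137, 2), (2137, 5), (2137, 6), (2137, 7), (186, 6), (716, 4), (716, 7), (109, 3), (109, 5), (109, 7), (1027, 4), (665, 3), (665, 4), (665, 5), (665, 7), (518, 4), (1274, 6), (2002, 4), (2002, 7), (1272, 3), (421, 4), (1607, 2), (1607, 5), (1607, 7), (256, 3), (256, 4), (216, 4), (316,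 4), (814, 6), (2060, 4), (679, 4), (1545, 6), (322, 2), (322, 6), (810, 5), (810, 6), (810, 7), (1319, 4), (1319, 6), (1533, 7), (562, 2), (562, 6), (562, 7), (338, 2), (338, 6), (204, 6), (204, 7), (447, 7), (213, 6), (452, 4), (452, 7), (206, 4), (1148, 4), (854, 2), (854, 6), (854, 7), (340, 4), (340, 6), (446, 4), (446, 7), (202, 3), (202, 4), (763, 2), (763, 6), (1178, 4), (1101, 3), (1101, 4), (524, 4), (1390, 2), (1390, 5), (1390, 6), (1390, 7), (1667, 4), (1667, 6), (1930, 4), (1930, 7), (1139, 3), (1139, 4), (832, 2), (832, 5), (832, 6), (832, 7), (723, 4), (1097, 2), (1097, 5), (1097, 7), (450, 3), (450, 4), (350, 4), (516, 6), (516, 7), (594, 4), (594, 5), (594, 6), (594, 7), (456, 6), (1952, 7), (2122, 2), (2122, 5), (2122, 7), (1075, 4),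 (2149, 2), (2149, 5), (2149, 6), (2149, 7), (514, 2), (514, 6), (1287, 4), (1287, 5), (1287, 6), (1287, 7), (1817, 6), (2434, 7), (1949, 4), (1949, 6), (2208, 4), (2208, 7), (1876, 3), (1876, 4), (1876, 5), (1876, 7), (753, 2), (753, 5), (753, 7), (1091, 3), (1091, 4), (1091, 5), (1091, 7), (314, 4), (1063, 5), (1063, 6), (1063, 7), (577, 4), (521, 4), (672, 2), (672, 5), (672, 7), (702, 4), (1048, 2), (1048, 5), (1048, 7), (2021, 4), (1615, 4), (1313, 2), (1313, 6), (1566, 6), (1775, 4), (1775, 7), (1260, 3), (495, 2), (1421, 2), (1421, 5), (1421, 7), (936, 3), (936, 5), (936, 7), (1812, 4), (794, 2), (794, 5), (794, 7), (1897, 4), (1833, 4), (834, 6), (1579, 6), (2232, 7), (1142, 3), (1142, 5), (1142, 7), (1586, 2), (1586, 5), (1586, 7), (863, 5),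 (863, 7), (1844, 4), (1665, 3), (1665, 4), (696, 4), (2108, 2), (2108, 5), (2108, 6), (2108, 7), (1149, 4), (309, 2), (309, 6), (309, 7), (818, 5), (818, 6), (818, 7), (1928, 6), (2215, 7), (557, 2), (557, 5), (557, 6), (532, 5), (532, 7), (1512, 4), (1512, 5), (1512, 7), (1207, 3), (1207, 5), (1207, 7), (1513, 2), (1513, 7), (2047, 4), (2047, 5), (2047, 7), (2264, 4), (2436, 3), (2436, 4), (1581, 2), (1581, 5), (1581, 6), (1581, 7), (2104, 2), (2104, 5), (2104, 6), (2104, 7), (1301, 6), (1301, 7), (2346, 7), (966, 6), (453, 6), (453, 7), (743, 7), (367, 4), (1700, 4), (288, 6), (288, 7), (1328, 4), (1328, 7), (1705, 4), (559, 7), (2079, 2), (2079, 5), (2079, 6), (2079, 7), (1316, 4), (1316, 5), (1316, 6), (1316, 7), (1167, 4), (1167, 6), (2191, 7),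 (1704, 4), (1992, 4), (1992, 6), (2237, 4), (1454, 3), (1169, 2), (1169, 5), (1169, 6), (1169, 7), (1620, 4), (1181, 2), (1181, 7), (1104, 3), (1104, 4), (538, 4), (759, 2), (759, 7), (1445, 4), (1445, 6), (2359, 4), (1870, 5), (1870, 6), (1446, 2), (1446, 6), (1446, 7), (1983, 4), (1983, 5), (1983, 6), (1983, 7), (1309, 6), (2446, 7), (1361, 4), (1361, 6), (1430, 4), (907, 3), (2156, 5), (2156, 7), (1630, 4), (2006, 2), (2006, 5), (1588, 3), (1588, 4), (1899, 4), (2155, 2), (2155, 6), (951, 5), (951, 6), (951, 7), (1131, 4), (1131, 6), (2352, 4), (2352, 7), (729, 3), (729, 4), (729, 5), (729, 7), (2256, 2), (2256, 5), (831, 4), (1093, 4), (1766, 2), (1766, 5), (1766, 6), (1766, 7), (829, 7), (590, 5), (590, 6), (590, 7), (1157, 7), (1186, 4), (1937,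 4), (1937, 7), (1379, 4), (1379, 7), (1965, 5), (1925, 5), (1925, 7), (758, 4), (1184, 4), (1860, 4), (1860, 6), (2389, 7), (2103, 4), (949, 4), (949, 6), (1778, 7), (889, 4), (1813, 4), (1813, 6), (2300, 4), (1380, 3), (1380, 4), (1637, 4), (2153, 3), (2153, 4), (1769, 4), (1163, 5), (1235, 4), (798, 3), (798, 4), (1499, 4), (754, 2), (754, 6), (736, 6), (736, 7), (1694, 4), (1694, 6), (1230, 7), (1912, 3), (1912, 4), (903, 2), (903, 5), (903, 7), (1113, 4), (1113, 5), (1113, 7), (1242, 3), (1242, 7), (1114, 2), (2093, 4), (2093, 5), (2093, 6), (2093, 7), (1571, 4), (1571, 6), (1431, 7), (1223, 5), (1223, 7), (1546, 6), (1988, 2), (1988, 6), (1792, 3), (2288, 4), (2412, 2), (2412, 5), (2412, 6), (2412, 7), (606, 4), (371, 3), (371, 4), (291, 4), (1182,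 7), (973, 4), (735, 2), (735, 6), (636, 4), (636, 7), (1498, 4), (633, 3), (468, 4), (690, 7), (764, 4), (764, 6), (1120, 5), (1120, 7), (1482, 4), (688, 2), (688, 6), (1317, 4), (1317, 5), (1317, 7), (1344, 6), (2185, 7), (587, 5), (587, 7), (1427, 3), (1427, 5), (1427, 7), (2001, 4), (1195, 5), (1195, 7), (2318, 4), (1082, 5), (331, 5), (331, 7), (2333, 4), (1891, 3), (1891, 4), (1111, 5), (1111, 7), (970, 4), (427, 7), (1556, 6), (2261, 7), (1547, 3), (730, 2), (730, 6), (706, 6), (673, 5), (673, 7), (504, 3), (504, 5), (504, 7), (674, 2), (674, 7), (1049, 5), (1919, 4), (1758, 3), (1758, 4), (1092, 5), (1092, 7), (1377, 4), (1605, 4), (1605, 7), (744, 2), (732, 6), (1074, 5), (1074, 7), (2133, 4), (964, 5), (2091, 3), (2091, 4), (1171, 6), (556,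 3), (556, 7), (550, 7), (1364, 4), (1690, 3), (1489, 4), (1119, 2), (1066, 2), (760, 7), (1761, 4), (953, 5), (953, 7), (1043, 6), (1855, 4), (1855, 6), (1882, 6), (1827, 7), (2068, 3), (2068, 4), (1170, 6), (1170, 7), (2262, 7), (1354, 4), (1834, 6), (2388, 4), (1656, 4), (2142, 4), (2415, 4), (1850, 4), (1850, 6), (880, 6), (1722, 4), (1722, 7), (1304, 3), (1304, 7), (1680, 2), (1680, 5), (1199, 3), (2029, 4), (1155, 2), (1155, 6), (909, 2), (909, 6), (1393, 4), (1393, 5), (1393, 6), (1969, 3), (2066, 2), (2066, 5), (2066, 7), (1562, 6), (1414, 7), (1281, 7), (791, 2), (2382, 3), (2382, 4), (2382, 5), (2041, 4), (1085, 5), (1732, 3), (1732, 7), (1613, 2), (1603, 4), (1603, 5), (1603, 6), (1603, 7), (1843, 4), (1843, 6), (1750, 2), (1750, 5), (1750,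 7), (1518, 6), (2362, 6), (2362, 7), (2266, 4), (1966, 3), (1966, 4), (2310, 4), (2456, 5), (2456, 6), (2456, 7), (2239, 4), (2239, 7), (1336, 3), (969, 4), (1099, 2), (603, 3), (603, 4), (479, 4), (691, 4), (1475, 4), (2069, 6), (531, 6), (879, 6), (1541, 6), (2035, 7), (905, 2), (905, 6), (560, 2), (560, 6), (358, 6), (999, 4), (999, 7), (463, 4), (2028, 4), (1315, 2), (1315, 6), (1747, 4), (714, 2), (714, 5), (996, 3), (996, 4), (738, 4), (830, 7), (1618, 5), (825, 2), (1832, 4), (1832, 5), (1832, 7), (1330, 6), (2242, 7), (1350, 6), (2209, 7), (1189, 2), (932, 7), (1416, 3), (1416, 5), (1416, 7), (1869, 4), (1713, 2), (1713, 5), (1713, 7), (1703, 4), (1296, 6), (1829, 6), (2245, 7), (1444, 3), (1444, 5), (1582, 5), (540, 5), (540, 7), (2305, 4),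 (2173, 3), (2173, 4), (1480, 4), (1611, 2), (1611, 5), (1611, 6), (1472, 4), (513, 2), (513, 6), (1266, 5), (1266, 6), (1525, 6), (895, 2), (895, 6), (1023, 5), (1023, 7), (784, 3), (784, 5), (784, 7), (1024, 2), (1024, 7), (1524, 5), (1524, 7), (2167, 4), (2198, 3), (1079, 5), (1598, 5), (1598, 7), (1848, 7), (2344, 7), (1470, 4), (1470, 6), (476, 6), (1871, 4), (1871, 7), (1575, 5), (1575, 7), (1859, 7), (1684, 4), (1749, 7), (2187, 4), (2117, 4), (2084, 4), (1447, 5), (1447, 6), (1447, 7), (1126, 3), (1126, 7), (1814, 2), (2024, 4), (1264, 2), (946, 7), (1442, 4), (1907, 4), (1907, 7), (1433, 5), (1980, 7), (1701, 4), (2317, 4), (2317, 6), (2384, 4), (1045, 6), (1311, 4), (1839, 4), (1351, 4), (1592, 4), (1648, 4), (2204, 4), (298, 5), (1764, 4),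 (1228, 3), (1228, 4), (1160, 2), (1160, 6), (2342, 3), (1382, 2), (1634, 5), (1790, 3), (1790, 7), (1635, 2), (2402, 4), (2402, 7), (1901, 4), (1901, 6), (2192, 5), (2192, 7), (2405, 5), (2405, 7), (2174, 4), (1762, 2), (1799, 3), (1799, 4), (1460, 5), (2075, 4), (726, 5), (2007, 4), (2172, 6), (1893, 6), (906, 4), (906, 6), (792, 5), (1917, 6), (501, 7), (1990, 2), (2439, 2), (776, 3), (776, 5), (1597, 4), (845, 5), (845, 7), (1590, 4), (1537, 5), (2400, 3), (2400, 5), (1250, 5), (1250, 7), (1840, 2), (1193, 5), (1511, 4), (1510, 3), (1510, 4), (853, 4), (1686, 7), (1889, 6), (1805, 5), (1810, 6), (902, 7), (667, 4), (415, 4), (361, 4), (1796, 4), (1963, 3), (2356, 7), (420, 4), (1018, 2), (1018, 5), (2146, 4), (1670, 6), (506, 6), (1862, 4), (2059,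 4), (908, 7), (717, 4), (336, 5), (336, 6), (1536, 7), (1641, 5), (1062, 2), (1858, 4), (1858, 5), (1858, 7), (1977, 2), (1134, 4), (1134, 7), (2178, 7), (1863, 5), (2064, 7), (2441, 3), (1903, 7), (1270, 6), (1947, 3), (1947, 5), (1947, 7), (2320, 4), (2186, 4), (544, 5), (1387, 4), (1050, 6), (1127, 2), (1037, 5), (1037, 7), (806, 3), (1038, 2), (1038, 7), (1553, 5), (2345, 4), (2243, 3), (1600, 7), (1245, 4), (1621, 5), (793, 2), (496, 5), (496, 7), (1236, 3), (1645, 2), (800, 3), (800, 5), (800, 7), (1654, 4), (2409, 5), (1517, 6), (510, 6), (1727, 7), (1845, 6), (900, 4), (1146, 6), (1738, 3), (2040, 4), (2040, 7), (2321, 2), (2321, 7), (1687, 5), (1687, 6), (2372, 5), (2383, 7), (1955, 3), (1662, 7), (2397, 4), (1552, 6), (1147, 7), (1957, 4),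 (2129, 4), (1632, 4), (1646, 4), (2050, 7), (1784, 5), (2304, 5), (2121, 7), (1237, 5), (1237, 7), (666, 4), (2147, 4), (2053, 2), (2053, 5), (1777, 4), (1803, 5), (1035, 3), (1374, 7), (1726, 3), (1385, 4), (1385, 6), (789, 3), (2067, 2), (1593, 4), (1653, 7), (1711, 2)], 2048⟩

def lK1 : Lev := ⟨[[6], [12], [1, 8]], 22, [(22, 0), (22, 1), (22, 2), (38, 0), (38, 1), (38, 2), (25, 2), (43, 1), (39, 1), (39, 2), (46, 2), (73, 1), (71, 1), (47, 2), (74, 1), (122, 1), (123, 1)], 18⟩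

def chK : List Lev := [lK0, lK1]

theorem cK : chainB (nat_lit 12) (nat_lit 4095) tK (nat_lit 2457) chK [] = true := by decide +kernel

def d0 : List Der := [.base,
  .base,
  .base,
  .base,
  .base,
  .base,
  .base,
  .base,
  .base,
  .base,
  .dfn,
  .tm 1 [] [] [⟨10, [], []⟩],
  .tm 0 [] [] [⟨10, [], [0]⟩, ⟨10, [1], []⟩],
  .tm 0 [] [] [⟨10, [], [4]⟩, ⟨10, [3], []⟩],
  .tm 0 [] [] [⟨10, [], [8]⟩, ⟨10, [5], []⟩],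
  .tm 0 [] [] [⟨10, [], [12]⟩, ⟨10, [7], []⟩],
  .tm 0 [] [] [⟨10, [], [3, 1, 4, 2]⟩, ⟨10, [13], []⟩],
  .tm 0 [] [] [⟨10, [], [3, 17, 18, 2]⟩, ⟨10, [9], []⟩],
  .tm 0 [] [] [⟨10, [], [11, 8, 10]⟩, ⟨10, [11], []⟩],
  .tm 2 [] [] [⟨10, [], [11]⟩, ⟨10, [], []⟩],
  .tm 1 [] [] [⟨19, [], []⟩],
  .tm 3 [] [] [⟨10, [7], [16, 8, 15, 8, 6]⟩, ⟨10, [6, 10, 4, 6], []⟩],
  .dfn,
  .tm 1 [] [] [⟨22, [], []⟩],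
  .tm 0 [] [] [⟨22, [], [24]⟩, ⟨22, [1], []⟩],
  .tm 0 [] [] [⟨22, [], [26]⟩, ⟨22, [9], []⟩],
  .tm 0 [] [] [⟨22, [], [30]⟩, ⟨22, [6], []⟩],
  .tm 0 [] [] [⟨22, [], [34]⟩, ⟨22, [6, 11, 7, 9, 11, 6, 9, 11, 7, 9, 11, 9], []⟩],
  .tm 0 [] [] [⟨22, [], [29, 34, 28]⟩, ⟨22, [6, 5, 11, 7, 9, 11, 6, 9, 11, 7, 9, 5, 11, 9], []⟩],
  .tm 0 [] [] [⟨22, [], [37, 34, 36]⟩, ⟨22, [6, 11, 7, 9, 11, 7, 9, 11, 6, 9, 5, 9, 5], []⟩],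
  .tm 0 [] [] [⟨22, [], [29, 37, 34, 36, 28]⟩, ⟨22, [7, 5, 11, 7, 9, 3, 11, 7, 9, 5, 11, 9], []⟩],
  .tm 2 [] [] [⟨22, [], [30]⟩, ⟨21, [], []⟩],
  .tm 1 [8, 6, 10, 8, 7, 10, 8, 4, 8, 0, 6, 10, 6] [] [⟨31, [], []⟩],
  .tm 4 [] [] [⟨22, [7], [30]⟩, ⟨32, [], []⟩],
  .tm 3 [] [] [⟨22, [4], [30, 36, 31, 28]⟩, ⟨32, [10, 4], []⟩],
  .tm 1 [6, 10, 8, 4, 2, 8, 6] [] [⟨34, [], []⟩],
  .tm 5 [] [] [⟨22, [10], [36, 30]⟩, ⟨32, [4, 6], [52]⟩, ⟨35, [7, 10, 8, 6, 10, 4, 2, 8, 10], []⟩],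
  .tm 6 [8, 10, 8, 7, 10, 4, 8, 2, 15] [] [⟨23, [8, 12, 7, 10, 8, 6, 10, 4, 8, 0, 15, 4], [73, 53, 72]⟩, ⟨22, [10, 4, 8, 10, 4], [30, 36, 32, 28]⟩, ⟨22, [8, 4, 8, 7, 10, 8, 4, 8, 10, 7], []⟩],
  .tm 1 [12, 10, 8, 7, 10, 8, 10, 4, 8, 2, 6, 10, 7] [] [⟨37, [], []⟩],
  .dfn,
  .tm 1 [] [] [⟨39, [], []⟩],
  .tm 0 [] [] [⟨39, [], [25, 26]⟩, ⟨39, [13], []⟩],
  .tm 0 [] [] [⟨39, [], [28]⟩, ⟨39, [11], []⟩],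
  .tm 0 [] [] [⟨39, [], [32]⟩, ⟨39, [11, 1, 3], []⟩],
  .tm 0 [] [] [⟨39, [], [36]⟩, ⟨39, [5, 11], []⟩],
  .tm 0 [] [] [⟨39, [], [31, 36, 30]⟩, ⟨39, [7, 14], []⟩],
  .tm 2 [] [] [⟨39, [], [34, 36, 32, 34, 36, 31]⟩, ⟨37, [8, 12, 10, 8, 7, 10, 8, 6, 10, 4, 2, 8, 15], []⟩],
  .tm 1 [10, 8, 7, 10, 8, 6, 10, 8, 2, 6, 10, 4, 7] [] [⟨46, [], []⟩],
  .tm 2 [7] [] [⟨39, [6], [31]⟩, ⟨39, [], []⟩],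
  .tm 1 [7] [] [⟨48, [], []⟩],
  .tm 3 [2, 15, 4, 6] [] [⟨39, [8, 12, 4], [34, 30, 36, 32, 34, 36, 32, 34]⟩, ⟨39, [8, 12, 10, 4, 8, 6, 10, 8, 15, 6], []⟩],
  .tm 1 [8, 10, 8, 7, 10, 8, 4, 8, 15, 4, 6] [] [⟨50, [], []⟩],
  .tm 3 [10, 4, 8, 10, 4, 6] [] [⟨39, [8, 12, 6], [34, 36, 34, 32, 28, 34, 36, 34, 24]⟩, ⟨39, [8, 12, 6, 10, 8, 4, 8, 10, 8, 2, 15, 6], []⟩],
  .tm 3 [10, 4, 8, 10, 4, 6] [] [⟨39, [8, 12, 7], [34, 36, 32, 34, 36, 32, 34]⟩, ⟨39, [8, 12, 10, 4, 8, 6, 10, 8, 15, 7], []⟩],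
  .tm 3 [6, 10, 4, 8, 6, 10, 4] [] [⟨39, [8, 12, 10, 6], [34, 32, 28, 34, 31, 28]⟩, ⟨37, [8, 10, 4, 8, 6, 10, 8, 7, 10, 8, 4], []⟩],
  .tm 1 [10, 4, 8, 6, 10, 8, 7, 10, 4, 8, 2, 6, 10, 4, 6] [] [⟨54, [], []⟩],
  .tm 3 [10, 4, 8, 6, 10, 8, 0, 6, 10, 4] [] [⟨39, [8, 12, 10, 6, 4], [34, 32, 31]⟩, ⟨21, [8, 12, 10, 8, 4, 8, 10, 8, 7, 10, 8, 0], []⟩],
  .tm 1 [8, 4, 8, 6, 10, 8, 7, 10, 4, 8, 15, 4, 6] [] [⟨56, [], []⟩],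
  .tm 5 [] [] [⟨39, [8, 12, 10, 7, 4], [34, 32]⟩, ⟨37, [7, 10, 8, 7, 10, 8, 4, 8, 2, 6], [58, 53]⟩, ⟨55, [8, 4, 8, 10, 8, 7, 10, 8, 0, 4], []⟩],
  .tm 3 [4, 8, 10, 4, 8, 10, 7] [] [⟨39, [8, 12, 6, 10, 4], [34, 32]⟩, ⟨57, [10, 8, 4, 8, 10, 8, 7, 10, 8, 4, 7], []⟩],
  .tm 1 [12, 7, 10, 8, 6, 10, 4, 8, 2, 15, 7] [] [⟨59, [], []⟩],
  .tm 3 [7, 10, 4, 8, 10, 7] [] [⟨39, [8, 12, 7, 10, 4], [34, 32, 28, 34, 32, 28, 34, 30]⟩, ⟨39, [8, 12, 8, 10, 8, 2], []⟩],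
  .tm 1 [8, 10, 2, 8, 7] [] [⟨61, [], []⟩],
  .tm 3 [10, 8, 6, 10, 6] [] [⟨39, [8, 12, 7, 10, 7, 4], [34, 32, 28, 34, 30, 28]⟩, ⟨57, [10, 8, 7, 10, 8, 4, 8, 2, 15, 4, 6], []⟩],
  .tm 1 [8, 4, 8, 7, 10, 8, 6, 10, 4, 8, 2, 15] [] [⟨63, [], []⟩],
  .tm 3 [12, 7, 10, 4, 2, 8, 10, 4, 6] [] [⟨39, [8, 12], [34, 28, 34, 36, 34, 28, 34]⟩, ⟨39, [8, 12, 10, 8, 6, 10, 8, 4, 7], []⟩],
  .tm 7 [4, 8, 10, 8, 4, 8, 6, 10, 8] [] [⟨39, [8, 12, 10], [34, 28, 34, 31, 36, 34, 32, 28]⟩, ⟨57, [7, 10, 8, 6, 10, 8, 4, 8, 6, 10, 6], []⟩],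
  .tm 7 [8, 10, 8, 10, 4, 8, 7, 10, 8, 15] [] [⟨39, [8, 12, 10, 6, 4], [34, 28, 34, 36, 34, 32, 31, 28]⟩, ⟨57, [7, 10, 8, 6, 10, 4, 8, 2, 15, 6], []⟩],
  .tm 7 [10, 8, 10, 4, 8, 6, 10, 8, 6, 10, 6] [] [⟨39, [8, 12, 6, 10, 6], [34, 30, 36, 32, 34, 36, 30]⟩, ⟨57, [4, 8, 10, 8, 4, 8, 2, 15, 7], []⟩],
  .tm 1 [8, 12, 10, 8, 6, 10, 2, 8, 6, 10, 4] [] [⟨68, [], []⟩],
  .tm 8 [] [] [⟨65, [6, 10, 8, 4, 2, 8, 15], [116]⟩, ⟨39, [8, 12, 6, 10, 8, 10], [34, 31, 36, 32, 28]⟩, ⟨22, [8, 7, 10, 8, 7, 10, 8, 4, 8, 2, 4, 7], [54, 52, 72, 54, 52]⟩, ⟨47, [12, 8, 6, 10, 8, 4, 8, 0, 10, 4, 6], []⟩],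
  .tm 9 [8, 10, 8, 4, 8, 6, 10, 8, 2, 10] [] [⟨47, [12, 4, 8, 10, 8, 4, 8, 7, 10, 8, 10, 4, 7], [59, 52]⟩, ⟨46, [8, 12, 4], []⟩],
  .tm 1 [6, 10, 8, 4, 8, 6, 10, 8, 6, 10, 4] [] [⟨71, [], []⟩],
  .dfn,
  .tm 1 [] [] [⟨73, [], []⟩],
  .tm 0 [] [] [⟨73, [], [30]⟩, ⟨73, [6], []⟩],
  .tm 0 [] [] [⟨73, [], [29, 32]⟩, ⟨73, [1, 9], []⟩],
  .tm 0 [] [] [⟨73, [], [29, 35, 29, 32, 34, 28]⟩, ⟨73, [3, 9, 13, 9], []⟩],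
  .tm 3 [] [] [⟨73, [], [31, 36]⟩, ⟨73, [6, 10, 4, 6], []⟩],
  .tm 3 [7] [] [⟨73, [10, 6, 4], [34, 31, 36, 32, 34, 36, 31]⟩, ⟨57, [12, 10, 8, 2, 4, 7], []⟩],
  .tm 1 [4, 8, 10, 8, 4, 8, 6, 10, 8, 15, 4, 6] [] [⟨79, [], []⟩],
  .dfn,
  .tm 1 [] [] [⟨81, [], []⟩],
  .tm 0 [] [] [⟨81, [], [29, 32]⟩, ⟨81, [1, 9], []⟩],
  .tm 0 [] [] [⟨81, [], [29, 35, 29, 32, 34, 28]⟩, ⟨81, [3, 9, 13, 9], []⟩],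
  .tm 2 [] [] [⟨81, [], []⟩, ⟨73, [], []⟩],
  .tm 1 [] [] [⟨85, [], []⟩],
  .tm 2 [7] [] [⟨81, [6], [31]⟩, ⟨81, [], []⟩],
  .tm 1 [7] [] [⟨87, [], []⟩],
  .tm 3 [7] [] [⟨81, [12, 7, 10, 6, 4], [32, 34, 32, 28, 34, 31]⟩, ⟨39, [2, 0, 10, 7], []⟩],
  .tm 1 [10, 8, 6, 10, 8, 7, 10, 4, 8, 15, 6] [] [⟨89, [], []⟩],
  .tm 3 [10, 4, 8, 6, 10, 8, 0, 6, 10, 4] [] [⟨81, [8, 12, 10, 6, 4], [36, 34, 36, 28, 34, 31, 28]⟩, ⟨57, [8, 12, 8, 7, 10, 8, 6, 10, 4, 8, 7, 10, 8, 2, 4, 6], []⟩],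
  .tm 1 [8, 12, 10, 4, 8, 7, 10, 8, 6, 10, 7] [] [⟨91, [], []⟩],
  .tm 3 [12, 10, 6] [] [⟨81, [12, 6, 10, 7, 4], [32, 28, 34, 31, 24]⟩, ⟨81, [8, 12, 8, 2, 10, 7], []⟩],
  .tm 1 [8, 12, 6, 10, 8, 7, 10, 4, 8, 0, 15, 4, 6] [] [⟨93, [], []⟩],
  .tm 3 [10, 8, 6, 10, 8, 6, 10, 6] [] [⟨81, [8, 12, 10, 7, 4], [28, 34, 32, 28, 34, 36]⟩, ⟨73, [8, 10, 8, 0, 7], []⟩],
  .tm 1 [10, 8, 7, 10, 8, 0, 10, 4, 7] [] [⟨95, [], []⟩],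
  .tm 3 [8, 10, 8, 6, 10, 4] [] [⟨81, [8, 12, 6, 10, 6], [32, 34, 31, 36, 34, 28]⟩, ⟨81, [12, 7, 10, 4, 8, 7], []⟩],
  .tm 1 [4, 8, 10, 4, 8, 6, 10, 8, 2, 10] [] [⟨97, [], []⟩],
  .tm 3 [7, 10, 8, 15] [] [⟨81, [8, 12, 6, 10, 7], [28, 34, 32, 28, 34, 30, 36]⟩, ⟨73, [8, 10, 8, 0, 6], []⟩],
  .tm 1 [8, 6, 10, 8, 0, 15, 4, 7] [] [⟨99, [], []⟩],
  .tm 3 [7, 10, 8, 15] [] [⟨81, [8, 12, 7, 10, 7], [28, 34, 32, 28, 34, 31, 36]⟩, ⟨81, [8, 7, 10, 8, 0, 6], []⟩],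
  .tm 1 [8, 6, 10, 8, 0, 15, 4, 7] [] [⟨101, [], []⟩],
  .tm 3 [10, 8, 15, 4, 7] [] [⟨81, [8, 12, 6, 10, 6, 4], [28, 34, 32, 28, 34, 30]⟩, ⟨39, [10, 8, 2], []⟩],
  .tm 1 [7, 10, 8, 2, 10] [] [⟨103, [], []⟩],
  .tm 3 [] [] [⟨81, [], [36]⟩, ⟨81, [15, 4, 6], []⟩],
  .tm 3 [7] [] [⟨81, [10, 6], [31, 36]⟩, ⟨73, [6, 10, 4, 7], []⟩],
  .tm 1 [8, 10, 8, 6, 10, 8, 7, 10, 4, 8, 0, 15, 6] [] [⟨106, [], []⟩],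
  .tm 10 [] [] [⟨92, [8, 7, 10, 8, 6, 10, 8, 4, 8, 10, 6], [89, 140, 116]⟩, ⟨89, [10, 8, 10, 4, 8, 4], [168, 166]⟩, ⟨89, [10, 8, 4, 8, 10, 8, 2, 4], [117, 141, 88]⟩, ⟨104, [8, 12, 4, 8, 7, 10, 8, 6, 10, 4, 8, 2, 15], []⟩],
  .tm 11 [8, 10, 4, 8, 6, 10, 4, 8, 2, 15, 4] [] [⟨92, [8, 7, 10, 4, 8, 6, 10, 8, 6, 10, 4, 7], [83, 140, 91]⟩, ⟨89, [10, 8, 12, 2, 8, 10], [166, 216]⟩, ⟨91, [12, 8, 7, 10, 8, 6, 10, 8, 2, 15, 6], []⟩],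
  .tm 1 [4, 8, 10, 8, 7, 10, 4, 8, 2, 15] [] [⟨109, [], []⟩],
  .tm 11 [8, 12, 8, 7, 10, 8, 0] [] [⟨80, [8, 12, 10, 4, 8, 7, 10, 8, 6, 10, 8, 2, 10, 7], [116, 83]⟩, ⟨89, [8, 12, 7, 10, 8, 6, 10], [168, 166, 216]⟩, ⟨106, [12, 8, 4, 8, 7, 10, 2, 8, 6, 10, 4], []⟩],
  .tm 1 [8, 12, 8, 6, 10, 8, 6, 10, 4, 8, 15, 4, 6] [] [⟨111, [], []⟩],
  .tm 10 [] [] [⟨80, [8, 4, 8, 6, 10, 8, 4, 8, 10, 7], [117, 117]⟩, ⟨89, [12, 7, 10, 4, 8, 10, 8, 12], [216]⟩, ⟨82, [12, 7, 10, 8, 4, 8, 10], [31, 36, 32, 34, 28, 34, 36, 26]⟩, ⟨73, [8, 12, 4, 8, 6, 10, 8, 7, 10, 4, 8, 15, 6], []⟩],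
  .tm 0 [] [] [⟨112, [], [227, 154, 226]⟩, ⟨78, [12, 8, 0], []⟩],
  .tm 11 [12, 8, 6, 10, 8, 10, 4, 8, 10, 4] [] [⟨104, [8, 12, 8, 10, 4, 8, 7, 10, 4, 8, 15, 4, 6], [116, 91, 141]⟩, ⟨91, [10, 4, 8, 6, 10, 4, 8, 6, 10, 0], [168]⟩, ⟨101, [8, 10, 4, 8, 0, 4, 6], []⟩],
  .tm 11 [8, 12, 8, 10, 8, 10, 4, 8, 10, 4] [] [⟨104, [8, 12, 8, 10, 4, 8, 7, 10, 4, 8, 2, 6, 10, 7], [140, 85, 116]⟩, ⟨91, [8, 7, 10, 4, 8, 10, 4, 2], [168, 166, 217, 166, 168]⟩, ⟨105, [12, 4, 8, 10, 4, 8, 6, 10, 8, 2, 10, 4, 7], []⟩],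
  .tm 12 [10, 4, 8, 6, 10, 4, 8, 6, 10, 4, 7] [] [⟨61, [6, 10, 8, 7, 10, 8, 4, 2, 8, 6, 10], [116]⟩, ⟨91, [4, 8, 6, 10, 8, 7, 10], [217, 166, 168]⟩, ⟨115, [6, 10, 8, 4, 8, 7, 10, 8, 6, 10, 6], []⟩],
  .tm 1 [10, 4, 8, 6, 10, 8, 4, 8, 2] [] [⟨117, [], []⟩],
  .tm 13 [8, 10, 8, 4, 8, 7, 10, 8, 15, 4, 7] [] [⟨117, [8, 12, 8, 4, 8, 10, 8, 7, 10, 2, 8, 10, 4, 6], [85, 87]⟩, ⟨91, [10, 4, 8, 10, 4], [166]⟩, ⟨101, [7, 10, 8, 6, 10, 8, 4, 8, 0, 15, 4], []⟩],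
  .tm 1 [12, 8, 10, 4, 8, 6, 10, 8, 7, 10, 4, 8, 10] [] [⟨119, [], []⟩],
  .tm 13 [8, 6, 10, 8, 0, 6, 10, 4, 6] [] [⟨117, [8, 10, 8, 2, 10], [85, 140, 91, 117]⟩, ⟨91, [4, 2, 8, 7, 10, 4], [166, 217, 168]⟩, ⟨120, [7, 10, 4, 8, 0, 6], []⟩],
  .tm 1 [8, 12, 8, 6, 10, 8, 7, 10, 4, 8, 6, 10, 4, 6] [] [⟨121, [], []⟩],
  .tm 14 [8, 10, 8, 4, 8, 10, 8, 2, 4] [] [⟨68, [8, 12, 8, 4, 8, 7, 10, 8, 6, 10, 4, 8, 2, 4, 7], []⟩, ⟨91, [10, 8, 6, 10, 2], [166, 217]⟩, ⟨120, [8, 4, 8, 10, 4, 8, 6, 10, 8, 4, 6], []⟩],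
  .tm 1 [8, 12, 8, 6, 10, 8, 4, 8, 6, 10, 8, 10] [] [⟨123, [], []⟩],
  .tm 6 [8, 10, 8, 6, 10, 8, 7, 10, 8, 2, 6, 10, 7] [] [⟨102, [8, 12, 10, 8, 10, 4, 8, 15, 4, 7], [169]⟩, ⟨93, [12, 10, 8, 7, 10, 4, 2], [216, 166, 217, 166, 168]⟩, ⟨118, [8, 12, 4, 8, 10, 8, 4, 8, 10, 6], []⟩],
  .tm 1 [12, 10, 8, 2, 4, 7] [] [⟨125, [], []⟩],
  .tm 15 [12, 8, 6, 10, 4] [] [⟨91, [6, 10, 8, 7, 10, 8, 4, 8, 0, 6, 10, 4], []⟩, ⟨93, [12, 10, 8, 7, 10], [216, 166, 217, 166, 168]⟩, ⟨118, [8, 12, 4, 8, 10, 8, 4, 8, 10, 6], []⟩],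
  .tm 1 [8, 12, 4, 8, 10, 4, 8, 4, 6] [] [⟨127, [], []⟩],
  .tm 11 [12, 10, 4, 8, 6, 10, 8, 7, 10, 8, 2, 10, 4, 7] [] [⟨119, [8, 12, 10, 8, 7, 10, 8, 6, 10, 4, 8, 2], [169, 217, 167, 169]⟩, ⟨93, [12, 8, 10, 8, 12, 6, 10, 4], [217, 166, 216, 166]⟩, ⟨120, [8, 12, 8, 6, 10, 8, 7, 10, 4, 8, 6, 10, 8, 10, 4, 7], []⟩],
  .tm 16 [8, 12, 8, 7, 10, 4, 8, 6, 10, 8, 2, 6] [] [⟨79, [12, 4, 8, 6, 10, 8, 7, 10, 8, 10, 4], [226, 229, 151]⟩, ⟨95, [12, 10, 8, 7, 10, 8, 0], [216, 166]⟩, ⟨124, [12, 8, 10, 4, 8, 10, 7], []⟩],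
  .dfn,
  .tm 1 [] [] [⟨131, [], []⟩],
  .tm 0 [] [] [⟨131, [], [29, 32]⟩, ⟨131, [1, 9], []⟩],
  .tm 0 [] [] [⟨131, [], [29, 35, 29, 32, 34, 28]⟩, ⟨131, [3, 9, 13, 9], []⟩],
  .tm 2 [7] [] [⟨131, [6], []⟩, ⟨81, [6], []⟩],
  .tm 1 [6] [] [⟨135, [], []⟩],
  .tm 2 [] [] [⟨131, [7], [30]⟩, ⟨131, [], []⟩],
  .tm 1 [] [] [⟨137, [], []⟩],
  .tm 2 [] [] [⟨131, [], [31]⟩, ⟨81, [7], []⟩],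
  .tm 1 [] [] [⟨139, [], []⟩],
  .tm 4 [7] [] [⟨131, [6], [30]⟩, ⟨81, [7], []⟩],
  .tm 1 [2, 0, 7] [] [⟨141, [], []⟩],
  .tm 4 [] [] [⟨131, [7], []⟩, ⟨73, [7], []⟩],
  .tm 1 [2, 0] [] [⟨143, [], []⟩],
  .tm 3 [12, 10, 6] [] [⟨131, [12, 6, 10, 6, 4], [34, 31, 36, 34, 32, 28]⟩, ⟨57, [8, 12, 4, 8, 7, 10, 8, 6, 10, 4, 8, 0, 4, 6], []⟩],
  .tm 1 [8, 12, 10, 8, 10, 8, 4, 8, 7, 10, 8, 2, 10, 4, 7] [] [⟨145, [], []⟩],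
  .tm 3 [7] [] [⟨131, [12, 7, 10, 6, 4], [34, 36, 34, 32, 28]⟩, ⟨37, [12, 8, 7, 10, 8, 4, 8, 15, 4, 7], []⟩],
  .tm 1 [12, 10, 8, 7, 10, 8, 10, 4, 6] [] [⟨147, [], []⟩],
  .tm 3 [10, 4, 8, 6, 10, 8, 0, 6, 10, 4] [] [⟨131, [8, 12, 10, 6, 4], [28, 34, 32, 28, 34]⟩, ⟨39, [10, 8, 2, 6], []⟩],
  .tm 1 [4, 8, 4, 8, 10, 8, 7, 10, 8, 2, 10, 4, 6] [] [⟨149, [], []⟩],
  .tm 3 [12, 10, 6] [] [⟨131, [12, 6, 10, 7, 4], [28, 34, 30, 36, 34, 31, 28]⟩, ⟨81, [12, 6, 10, 7], []⟩],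
  .tm 1 [8, 4, 8, 15, 7] [] [⟨151, [], []⟩],
  .tm 3 [6] [] [⟨131, [12, 7, 10, 7, 4], [28, 34, 31, 36, 34, 31, 28]⟩, ⟨131, [12, 10, 7], []⟩],
  .tm 1 [8, 10, 8, 7, 10, 8, 6, 10, 4, 8, 10] [] [⟨153, [], []⟩],
  .tm 3 [10, 8, 6, 10, 8, 6, 10, 6] [] [⟨131, [8, 12, 10, 7, 4], [28, 34, 32, 28, 34, 31, 36]⟩, ⟨81, [8, 7, 10, 8, 0, 7], []⟩],
  .tm 1 [10, 8, 6, 10, 8, 4, 7] [] [⟨155, [], []⟩],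
  .tm 3 [4, 8, 10, 4, 8, 10, 7] [] [⟨131, [8, 12, 6, 10, 4], [28, 34, 32, 28, 34, 31, 36]⟩, ⟨73, [8, 10, 8, 0], []⟩],
  .tm 1 [8, 6, 10, 8, 6, 10, 8, 4, 8, 2, 6] [] [⟨157, [], []⟩]]

theorem fc0 : checkL (nat_lit 12) (nat_lit 4095) tH tK tK' BB FF TM XW d0 (nat_lit 0) = true := by decide +kernel

def d159 : List Der := [.tm 3 [8, 10, 8, 6, 10, 4] [] [⟨131, [8, 12, 6, 10, 6], [28, 34, 32, 28, 34, 30, 36, 31]⟩, ⟨81, [8, 10, 4, 8, 0, 7], []⟩],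
  .tm 1 [10, 8, 7, 10, 8, 6, 10, 4, 8, 0, 4] [] [⟨159, [], []⟩],
  .tm 3 [7, 10, 8, 6, 10, 4] [] [⟨131, [8, 12, 7, 10, 6], [28, 34, 32, 28, 34, 30, 36]⟩, ⟨131, [8, 7, 10, 4, 8, 0, 7], []⟩],
  .tm 1 [8, 6, 10, 8, 0] [] [⟨161, [], []⟩],
  .tm 3 [7, 10, 8, 15] [] [⟨131, [8, 12, 6, 10, 7], [32, 34, 36, 34, 31, 28]⟩, ⟨81, [12, 6, 10, 8, 6], []⟩],
  .tm 1 [10, 8, 6, 10, 4, 8, 0, 10, 7] [] [⟨163, [], []⟩],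
  .tm 3 [7, 10, 8, 15] [] [⟨131, [8, 12, 7, 10, 7], [34, 24]⟩, ⟨81, [8, 12, 8, 10, 2, 8, 6], []⟩],
  .tm 1 [8, 6, 10, 4, 8, 2, 10, 4, 7] [] [⟨165, [], []⟩],
  .tm 3 [] [] [⟨131, [], [36, 28]⟩, ⟨131, [15, 4, 6], []⟩],
  .tm 3 [] [] [⟨131, [4], [31, 36, 28]⟩, ⟨131, [15, 4], []⟩],
  .tm 1 [8, 10, 8, 6, 10, 8, 7, 10, 4, 8, 0, 10, 7] [] [⟨168, [], []⟩],
  .tm 3 [7] [] [⟨131, [6], [36]⟩, ⟨131, [10, 4, 6], []⟩],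
  .tm 3 [] [] [⟨131, [7], [28]⟩, ⟨131, [6, 10, 4, 6], []⟩],
  .tm 3 [] [] [⟨131, [10], [28]⟩, ⟨73, [4], []⟩],
  .tm 1 [8, 10, 8, 7, 10, 8, 6, 10, 4, 8, 10, 7] [] [⟨172, [], []⟩],
  .tm 3 [] [] [⟨131, [6, 4], [30, 36]⟩, ⟨81, [15, 4], []⟩],
  .tm 1 [8, 10, 8, 6, 10, 8, 7, 10, 4, 8, 0, 10, 7] [] [⟨174, [], []⟩],
  .tm 3 [] [] [⟨131, [7, 4], [31, 36]⟩, ⟨73, [6, 10, 4], []⟩],
  .tm 1 [8, 10, 8, 7, 10, 8, 6, 10, 4, 8, 10, 7] [] [⟨176, [], []⟩],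
  .tm 3 [] [] [⟨131, [10, 4], [31, 36, 31]⟩, ⟨81, [6, 10], []⟩],
  .tm 1 [8, 10, 8, 7, 10, 8, 6, 10, 4, 8, 15, 7] [] [⟨178, [], []⟩],
  .tm 3 [7] [] [⟨131, [10, 6], [30, 36, 30, 28]⟩, ⟨81, [6, 10, 4, 7], []⟩],
  .tm 1 [8, 10, 8, 6, 10, 8, 7, 10, 4, 8, 0, 15, 6] [] [⟨180, [], []⟩],
  .tm 3 [6] [] [⟨131, [7, 10], [36, 30]⟩, ⟨81, [4], []⟩],
  .tm 1 [8, 10, 8, 7, 10, 8, 6, 10, 4, 8, 10] [] [⟨182, [], []⟩],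
  .tm 17 [12, 8, 6, 10, 8, 4, 8, 0, 6, 10, 4, 6] [] [⟨102, [7, 10, 8, 10, 8, 4, 8, 2, 10], [169, 167, 216, 167, 169]⟩, ⟨135, [10, 4, 8, 10, 4], []⟩, ⟨170, [6, 10, 8, 10, 7], []⟩],
  .tm 1 [8, 10, 8, 7, 10, 8, 6, 10, 4, 8, 4, 7] [] [⟨184, [], []⟩],
  .tm 17 [8, 12, 4, 8, 10, 8, 7, 10, 8, 2, 6, 10, 4, 7] [] [⟨166, [8, 12, 8, 10, 4, 8, 6, 10, 8, 7, 10, 8, 2, 10], [169, 217, 167, 216]⟩, ⟨135, [12, 10, 8, 10, 4], [266, 268]⟩, ⟨162, [6, 10, 8, 4, 8, 10, 8, 2, 4], []⟩],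
  .tm 1 [12, 6, 10, 8, 0, 15, 7] [] [⟨186, [], []⟩],
  .tm 17 [8, 12, 8, 6, 10, 8, 7, 10, 8, 4, 8, 4, 6] [] [⟨109, [12, 4, 8, 7, 10, 4, 8, 6, 10, 8, 6, 10, 6], [167, 217, 167, 216]⟩, ⟨135, [8, 10, 8, 12, 4], [266, 268]⟩, ⟨162, [4, 8, 10, 8, 2, 10, 4, 6], []⟩],
  .tm 1 [8, 12, 8, 4, 8, 7, 10, 8, 0, 6, 10, 4, 6] [] [⟨188, [], []⟩],
  .tm 17 [12, 10, 4, 8, 6, 10, 8, 4, 8, 6, 10, 7] [] [⟨101, [10, 8, 10, 6], [167, 217]⟩, ⟨135, [12, 10, 8, 6, 10], [266, 268]⟩, ⟨170, [10, 8, 7, 10, 8, 4, 2, 8, 15, 4], []⟩],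
  .tm 1 [8, 7, 10, 8, 6, 10, 4, 8, 7, 10, 8, 2, 15, 6] [] [⟨190, [], []⟩],
  .tm 17 [10, 8, 6, 10, 4, 2, 8, 6, 10, 4, 7] [] [⟨140, [12, 4, 8, 0, 15], [217, 167]⟩, ⟨135, [8, 12, 4, 8, 4, 2], [268]⟩, ⟨170, [4, 8, 10, 8, 4, 8, 7, 10, 8, 15, 7], []⟩],
  .tm 1 [12, 8, 10, 4, 8, 6, 10, 2, 8, 6, 10, 4, 6] [] [⟨192, [], []⟩],
  .tm 17 [12, 8, 6, 10, 8, 4, 8, 2, 10, 4, 6] [] [⟨179, [4, 8, 10, 8, 4, 8, 7, 10, 8, 15, 6], [169, 167, 216]⟩, ⟨135, [12, 10, 8, 6, 10, 2], [266, 268]⟩, ⟨170, [8, 10, 8, 7, 10, 8, 4, 2, 8, 15, 4], []⟩],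
  .tm 1 [8, 4, 8, 10, 8, 6, 10, 8, 2, 15, 4, 6] [] [⟨194, [], []⟩],
  .tm 17 [12, 4, 8, 10, 4, 8, 7, 10, 8, 2, 15, 7] [] [⟨190, [12, 8, 10, 8, 7, 10, 8, 2, 15, 6], [169, 167, 216, 167]⟩, ⟨135, [8, 12, 10, 8, 10, 2], [268]⟩, ⟨170, [7, 10, 8, 10, 8, 4, 8, 7, 10, 8, 2, 10, 4, 7], []⟩],
  .tm 1 [8, 12, 10, 8, 4, 8, 10, 8, 2] [] [⟨196, [], []⟩],
  .tm 17 [12, 10, 8, 7, 10, 8, 4, 2, 8] [] [⟨93, [12, 7, 10, 8, 6, 10, 8, 4, 2, 8, 10, 4, 6], [217]⟩, ⟨135, [12, 6, 10, 8, 7, 10], [266, 268]⟩, ⟨170, [8, 7, 10, 8, 10, 4, 8, 4, 6], []⟩],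
  .tm 1 [12, 8, 10, 8, 7, 10, 8, 4, 8, 2, 6, 10, 6] [] [⟨198, [], []⟩],
  .tm 17 [8, 7, 10, 4, 8, 0, 10, 4] [] [⟨88, [12, 10, 8, 10, 4, 8, 6, 10, 2, 8, 15], [216, 167]⟩, ⟨135, [8, 12, 7, 10, 8, 10], [268]⟩, ⟨170, [4, 8, 7, 10, 8, 4, 8, 2, 10], []⟩],
  .tm 1 [4, 8, 10, 4, 8, 6, 10, 8, 2, 6, 10] [] [⟨200, [], []⟩],
  .tm 17 [8, 10, 8, 6, 10, 4, 2, 8, 6, 10, 4] [] [⟨175, [8, 7, 10, 8, 6, 10, 4, 8, 6, 10, 4, 6], [169, 167, 216]⟩, ⟨135, [12, 6, 10, 8, 7, 10, 2], [266, 268]⟩, ⟨170, [7, 10, 8, 10, 4, 8, 4, 6], []⟩],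
  .tm 1 [6, 10, 8, 7, 10, 4, 8, 2, 15, 4, 6] [] [⟨202, [], []⟩],
  .tm 17 [12, 10, 8, 6, 10, 2, 8, 10, 4, 7] [] [⟨164, [8, 7, 10, 8, 6, 10, 4, 8, 15, 7], [217, 167]⟩, ⟨135, [8, 12, 7, 10, 8, 10, 2], [268]⟩, ⟨170, [8, 4, 8, 7, 10, 8, 4, 8, 2, 10], []⟩],
  .tm 1 [8, 4, 8, 10, 8, 7, 10, 8, 4, 6] [] [⟨204, [], []⟩],
  .tm 18 [8, 10, 8, 6, 10, 8, 2, 6, 10, 4] [] [⟨198, [12, 10, 8, 6, 10, 8, 7, 10, 8, 2, 6, 10, 4, 7], [167, 217]⟩, ⟨135, [8, 10, 4, 8, 4], [268]⟩, ⟨149, [8, 7, 10, 8, 4, 8, 6, 10, 8, 6, 10, 4, 7], []⟩],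
  .tm 1 [12, 4, 8, 7, 10, 8, 4, 8, 2, 10, 4] [] [⟨206, [], []⟩],
  .tm 18 [8, 7, 10, 8, 4, 8, 7, 10, 8, 2, 15, 4, 7] [] [⟨198, [12, 6, 10, 8, 7, 10, 4, 8, 15], [167, 217]⟩, ⟨135, [8, 6, 10, 8, 4], [268, 266]⟩, ⟨153, [10, 8, 4, 8, 7, 10, 8, 0, 15, 4, 7], []⟩],
  .tm 1 [10, 8, 10, 8, 4, 8, 7, 10, 8, 2, 10, 4] [] [⟨208, [], []⟩],
  .tm 18 [4, 8, 7, 10, 8, 10, 4, 7] [] [⟨198, [12, 7, 10, 8, 7, 10, 4, 8, 15, 6], [167, 217]⟩, ⟨135, [8, 7, 10, 8, 4], []⟩, ⟨162, [6, 10, 8, 10, 4, 8, 4, 7], []⟩],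
  .tm 1 [12, 8, 10, 8, 4, 8, 6, 10, 2, 8, 6, 10, 4, 6] [] [⟨210, [], []⟩],
  .tm 18 [8, 12, 6, 10, 8, 7, 10, 8, 2, 15] [] [⟨198, [12, 8, 10, 8, 6, 10, 8, 7, 10, 8, 2, 6, 10, 4, 7], [167, 217]⟩, ⟨135, [8, 12, 10, 8, 4], []⟩, ⟨165, [8, 10, 4, 8, 4, 7], []⟩],
  .tm 1 [12, 8, 2, 4, 6] [] [⟨212, [], []⟩],
  .tm 18 [6, 10, 8, 6, 10, 4, 8, 2, 4, 6] [] [⟨198, [12, 6, 10, 8, 7, 10, 8, 15, 4, 7], [167, 217, 167]⟩, ⟨135, [4, 8, 7, 10, 4], []⟩, ⟨174, [6, 10, 8, 10, 7], []⟩],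
  .tm 1 [10, 8, 4, 8, 15, 4] [] [⟨214, [], []⟩],
  .tm 18 [8, 4, 8, 7, 10, 8, 6, 10, 4, 8, 2, 6, 10, 6] [] [⟨198, [12, 7, 10, 8, 6, 10, 8, 4, 8, 0, 6, 10], [167, 217, 167]⟩, ⟨135, [12, 8, 7, 10, 4], [266]⟩, ⟨157, [8, 4, 8, 4, 7], []⟩],
  .tm 1 [8, 6, 10, 4, 8, 7, 10, 8, 2, 15, 4, 7] [] [⟨216, [], []⟩],
  .tm 18 [8, 6, 10, 8, 6, 10, 8, 4, 8, 2, 6, 10, 4, 6] [] [⟨184, [12, 8, 10, 8, 6, 10, 4, 8, 2, 4], [167, 216, 167]⟩, ⟨135, [10, 4, 8, 10, 4], []⟩, ⟨170, [6, 10, 8, 10, 7], []⟩],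
  .tm 1 [4, 8, 6, 10, 4, 8, 10, 7] [] [⟨218, [], []⟩],
  .tm 18 [7, 10, 8, 4, 8, 0, 10, 4, 7] [] [⟨184, [12, 10, 8, 6, 10, 8, 7, 10, 4, 2, 8, 10, 4, 6], [167, 216, 167]⟩, ⟨135, [12, 4, 8, 10, 4], [266, 268]⟩, ⟨180, [10, 8, 4, 8, 6, 10, 8, 2, 6, 10, 4, 6], []⟩],
  .tm 1 [8, 10, 8, 7, 10, 8, 6, 10, 4, 2, 8, 15, 4, 6] [] [⟨220, [], []⟩],
  .tm 18 [8, 10, 4, 8, 6, 10, 8, 4, 8, 2, 6, 10, 6] [] [⟨184, [12, 8, 7, 10, 4, 8, 2, 4, 7], [167, 216, 167]⟩, ⟨135, [12, 10, 8, 10, 4], [266, 268]⟩, ⟨162, [6, 10, 8, 4, 8, 10, 8, 2, 4], []⟩],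
  .tm 1 [8, 12, 8, 4, 8, 10, 8, 7, 10, 2, 8, 15, 4, 7] [] [⟨222, [], []⟩],
  .tm 18 [8, 10, 8, 6, 10, 8, 7, 10, 4, 8, 2, 6, 10, 4] [] [⟨190, [12, 7, 10, 8, 4, 8, 0, 6, 10], [169, 167, 217, 167, 169]⟩, ⟨135, [4, 8, 12, 10, 4], []⟩, ⟨165, [10, 8, 10, 4, 8, 6, 10, 2, 8, 6, 10, 4], []⟩],
  .tm 1 [8, 6, 10, 8, 10, 7] [] [⟨224, [], []⟩],
  .tm 18 [12, 4, 8, 10, 8, 0, 10, 4, 7] [] [⟨190, [12, 8, 7, 10, 8, 4, 8, 2, 6, 10], [169, 167, 217, 167, 169]⟩, ⟨135, [10, 4, 8, 12, 4], []⟩, ⟨157, [7, 10, 8, 4, 8, 7, 10, 8, 2, 15, 4], []⟩],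
  .tm 1 [12, 6, 10, 8, 10, 8, 4, 8, 6, 10, 8, 2, 15, 4, 7] [] [⟨226, [], []⟩],
  .tm 18 [10, 8, 6, 10, 8, 7, 10, 4, 8, 2, 6, 10, 4] [] [⟨190, [12, 8, 7, 10, 4, 8, 6, 10, 7], [169, 167, 217]⟩, ⟨135, [6, 10, 8, 4, 8], [268, 266]⟩, ⟨153, [8, 7, 10, 8, 4, 8, 10, 8, 4, 6], []⟩],
  .tm 1 [8, 10, 8, 7, 10, 8, 6, 10, 4, 8, 15, 4, 7] [] [⟨228, [], []⟩],
  .tm 18 [8, 12, 7, 10, 8, 6, 10, 4, 8, 6, 10, 4, 6] [] [⟨190, [12, 10, 4, 8, 7, 10, 4, 8, 4], [169, 167, 217]⟩, ⟨135, [6, 10, 8, 10, 8], []⟩, ⟨170, [10, 4, 8, 2, 10, 4, 6], []⟩],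
  .tm 1 [8, 12, 4, 8, 10, 8, 4, 8, 2, 6, 10, 4, 7] [] [⟨230, [], []⟩],
  .tm 18 [8, 10, 4, 8, 7, 10, 8, 6, 10, 4, 8, 2, 15] [] [⟨190, [12, 8, 10, 4, 8, 6, 10, 8, 4, 8, 15, 4], [169, 167, 217, 167]⟩, ⟨135, [7, 10, 8, 6, 10], []⟩, ⟨180, [7, 10, 4, 8, 10, 4, 6], []⟩],
  .tm 1 [12, 8, 4, 8, 10, 4, 8, 6, 10, 8, 2, 6, 10, 6] [] [⟨232, [], []⟩],
  .tm 18 [7, 10, 8, 4, 8, 6, 10, 2, 8, 6, 10, 4, 6] [] [⟨190, [12, 4, 8, 6, 10, 4, 8, 7, 10, 8, 2, 10, 4, 7], [169, 167, 217]⟩, ⟨135, [8, 10, 8, 6, 10], []⟩, ⟨174, [7, 10, 4, 8, 6, 10, 8, 6, 10, 4, 6], []⟩],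
  .tm 1 [10, 8, 10, 8, 4, 8, 6, 10, 8, 10, 4, 6] [] [⟨234, [], []⟩],
  .tm 18 [10, 4, 8, 7, 10, 8, 6, 10, 4, 8, 2, 15] [] [⟨190, [12, 8, 7, 10, 8, 6, 10, 4, 2, 8], [169, 167, 217, 167]⟩, ⟨135, [12, 10, 4, 8, 10], [266, 268]⟩, ⟨162, [8, 10, 8, 6, 10, 4, 8, 0, 6, 10, 4, 7], []⟩],
  .tm 1 [7, 10, 8, 10, 8, 4, 8, 7, 10, 8, 2, 10, 4, 7] [] [⟨236, [], []⟩],
  .tm 18 [8, 7, 10, 8, 7, 10, 4, 8, 15, 4, 6] [] [⟨198, [12, 8, 10, 4, 8, 10, 6], [167, 217, 167, 169]⟩, ⟨135, [7, 10, 4, 8, 12], [268]⟩, ⟨170, [8, 4, 8, 10, 8, 6, 10, 8, 6, 10, 4], []⟩],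
  .tm 1 [10, 8, 4, 8, 10, 8, 2, 4, 6] [] [⟨238, [], []⟩],
  .tm 18 [8, 4, 8, 10, 8, 0, 10, 4, 7] [] [⟨184, [12, 10, 4, 8, 7, 10, 8, 4, 8, 6, 10, 6], [167, 216, 167, 169]⟩, ⟨135, [8, 10, 4, 8, 12], [266, 268]⟩, ⟨174, [8, 4, 8, 10, 4, 8, 7, 10, 8, 15], []⟩],
  .tm 1 [8, 10, 8, 6, 10, 8, 7, 10, 4, 8, 2, 6, 10, 7] [] [⟨240, [], []⟩],
  .tm 18 [8, 7, 10, 8, 6, 10, 4, 8, 0, 6, 10, 4, 7] [] [⟨198, [12, 10, 4, 8, 7, 10, 8, 4, 8, 2, 15, 4, 6], [167, 217]⟩, ⟨135, [8, 6, 10, 4, 8, 4], []⟩, ⟨180, [4, 8, 10, 8, 0, 10, 4, 6], []⟩],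
  .tm 1 [12, 6, 10, 8, 7, 10, 8, 4, 2, 8, 15, 4, 7] [] [⟨242, [], []⟩],
  .tm 18 [8, 12, 4, 8, 10, 8, 7, 10, 4, 8, 15, 6] [] [⟨184, [12, 8, 6, 10, 8, 4, 2, 8, 15, 4], [167, 216]⟩, ⟨135, [6, 10, 8, 10, 8, 4], [268]⟩, ⟨157, [8, 4, 8, 7, 10, 8, 6, 10, 8, 6, 10, 4], []⟩],
  .tm 1 [8, 12, 10, 8, 7, 10, 8, 6, 10, 8, 2, 15, 7] [] [⟨244, [], []⟩],
  .tm 18 [6, 10, 8, 6, 10, 8, 4, 8, 2, 6, 10, 4, 6] [] [⟨184, [12, 8, 10, 8, 10, 4, 8, 6, 10, 8, 15, 4, 6], [167, 216, 167]⟩, ⟨135, [7, 10, 8, 6, 10, 4], [268, 266]⟩, ⟨153, [8, 10, 8, 6, 10, 8, 4, 8, 2, 6, 10, 4], []⟩],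
  .tm 1 [7, 10, 4, 8, 6, 10, 8, 2, 6, 10, 4, 6] [] [⟨246, [], []⟩],
  .tm 18 [7, 10, 8, 4, 8, 0, 10, 4, 6] [] [⟨190, [12, 10, 8, 7, 10, 4, 2, 8, 7], [169, 167, 217]⟩, ⟨135, [6, 10, 8, 6, 10, 8], [268]⟩, ⟨149, [7, 10, 8, 10, 8, 4, 8, 2, 4], []⟩],
  .tm 1 [8, 10, 4, 8, 6, 10, 4, 8, 6, 10, 6] [] [⟨248, [], []⟩],
  .tm 18 [8, 10, 8, 7, 10, 8, 0, 15] [] [⟨184, [12, 8, 10, 8, 10, 4, 8, 2, 15, 4], [167, 216]⟩, ⟨135, [6, 10, 8, 6, 10, 8, 4], [268]⟩, ⟨165, [8, 10, 8, 4, 8, 7, 10, 2, 8, 10, 4, 7], []⟩],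
  .tm 1 [8, 10, 8, 4, 8, 6, 10, 8, 6, 10, 4, 7] [] [⟨250, [], []⟩],
  .tm 18 [8, 10, 8, 7, 10, 8, 4, 2, 8, 15, 4, 6] [] [⟨184, [12, 6, 10, 8, 10, 4, 8, 6, 10, 4], [167, 216]⟩, ⟨135, [6, 10, 8, 6, 10, 4, 8, 4], [268]⟩, ⟨149, [8, 7, 10, 8, 0, 10], []⟩],
  .tm 1 [12, 8, 10, 8, 0, 10, 7] [] [⟨252, [], []⟩],
  .tm 19 [12, 8, 4, 8, 6, 10, 8, 7, 10, 8, 2, 10, 7] [] [⟨213, [8, 12, 8, 7, 10, 8, 2, 6, 10, 4], [167, 169, 167, 217, 167, 216]⟩, ⟨135, [7, 10, 8, 7, 10], [268]⟩, ⟨149, [12, 8, 10, 8, 7, 10, 8, 6, 10, 4, 2, 8, 15, 4, 7], []⟩],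
  .tm 1 [8, 12, 8, 6, 10, 8, 10, 4, 8, 15, 6] [] [⟨254, [], []⟩]]

theorem fc159 : checkL (nat_lit 12) (nat_lit 4095) tH tK tK' BB FF TM XW d159 (nat_lit 159) = true := by decide +kernel

def d256 : List Der := [.tm 19 [8, 10, 8, 7, 10, 4, 8, 2, 15, 7] [] [⟨225, [12, 8, 10, 4, 8, 6, 10, 4, 8, 2], [167, 217, 167, 216]⟩, ⟨135, [4, 8, 12, 8, 10, 2], []⟩, ⟨149, [12, 10, 8, 4, 8, 10, 8, 6, 10, 8, 0, 4, 7], []⟩],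
  .tm 1 [8, 4, 8, 10, 8, 6, 10, 4, 8, 2, 6, 10, 4, 7] [] [⟨256, [], []⟩],
  .tm 20 [4, 8, 10, 8, 6, 10, 8, 10, 7] [] [⟨225, [12, 7, 10, 8, 6, 10, 4, 8, 7, 10, 8, 2, 15, 4], [169, 167, 216, 167, 217]⟩, ⟨135, [4, 8, 12, 10, 4, 8, 2], []⟩, ⟨165, [4, 8, 6, 10, 8, 0, 6, 10, 4], []⟩],
  .tm 1 [12, 7, 10, 8, 6, 10, 4, 8, 7, 10, 8, 10] [] [⟨258, [], []⟩],
  .tm 20 [10, 8, 6, 10, 8, 7, 10, 4, 8, 0, 6, 10] [] [⟨179, [8, 4, 8, 10, 8, 6, 10, 4, 8, 2, 6, 10, 6], [169, 167, 216, 167]⟩, ⟨135, [8, 12, 10, 8, 10, 4, 8], []⟩, ⟨157, [6, 10, 8, 2, 10, 7], []⟩],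
  .tm 1 [10, 8, 10, 4, 8, 7, 10, 2, 8, 10, 4, 6] [] [⟨260, [], []⟩],
  .tm 20 [8, 4, 8, 6, 10, 8, 2, 10, 4, 6] [] [⟨164, [10, 4, 8, 6, 10, 4, 8, 10, 4, 7], [217, 167]⟩, ⟨135, [8, 12, 10, 4, 8, 10, 8], []⟩, ⟨157, [7, 10, 4, 8, 2, 10, 4, 6], []⟩],
  .tm 1 [12, 10, 8, 7, 10, 8, 6, 10, 8, 15, 7] [] [⟨262, [], []⟩],
  .tm 20 [12, 7, 10, 8, 6, 10, 4, 7] [] [⟨166, [8, 12, 6, 10, 8, 7, 10, 4, 8, 6, 10, 8, 2, 6, 10, 4, 6], [169, 216, 167, 217]⟩, ⟨135, [12, 2], [266, 268]⟩, ⟨174, [7, 10, 8, 6, 10, 8, 4, 8, 0, 6, 10, 4], []⟩],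
  .tm 1 [12, 10, 8, 7, 10, 8, 2, 10, 6] [] [⟨264, [], []⟩],
  .tm 20 [12, 7, 10, 8, 6, 10, 8, 7, 10, 4, 8, 2, 7] [] [⟨265, [6, 10, 4, 8, 2, 10, 4], [169, 167]⟩, ⟨135, [12, 8], [266, 268]⟩, ⟨174, [10, 8, 4, 8, 10, 8, 7, 10, 8, 10, 4, 7], []⟩],
  .tm 1 [8, 12, 8, 4, 8, 10, 4, 8, 6, 10, 8, 6, 10, 4] [] [⟨266, [], []⟩],
  .tm 20 [8, 7, 10, 8, 7, 10, 4, 8, 4, 7] [] [⟨213, [8, 12, 7, 10, 8, 4, 8, 6, 10, 2, 8, 6], [167, 169, 167, 217, 167, 216]⟩, ⟨135, [8, 4, 8, 10], [268]⟩, ⟨165, [8, 4, 8, 10, 8, 6, 10, 4, 8, 0, 10, 6], []⟩],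
  .tm 1 [4, 8, 7, 10, 8, 6, 10, 8, 10, 4] [] [⟨268, [], []⟩],
  .tm 20 [7, 10, 8, 0, 4, 6] [] [⟨269, [12, 10, 8, 4, 8, 10, 8, 6, 10, 8, 6, 10, 4], [167, 216, 167, 217]⟩, ⟨135, [8, 12, 8, 10, 2], []⟩, ⟨149, [8, 7, 10, 4, 8, 0, 10, 4, 6], []⟩],
  .tm 1 [10, 8, 4, 8, 10, 8, 15] [] [⟨270, [], []⟩],
  .tm 21 [10, 8, 10, 8, 4, 8, 7, 10, 8, 2, 10] [] [⟨175, [10, 8, 6, 10, 2, 8, 6, 10], [169, 167, 216, 167, 169]⟩, ⟨135, [10, 8, 10, 4, 8, 4], []⟩, ⟨205, [12, 10, 8, 10, 8, 4, 8, 6, 10, 8, 2, 4, 7], []⟩],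
  .tm 1 [12, 7, 10, 8, 6, 10, 4, 8, 6, 10, 4, 7] [] [⟨272, [], []⟩],
  .tm 22 [12, 8, 10, 8, 6, 10, 8, 7, 10, 4, 8, 6, 10] [] [⟨269, [12, 6, 10, 8, 4, 2, 8, 6, 10, 4, 7], [167, 169, 217, 167, 216]⟩, ⟨135, [8, 7, 10, 8, 12, 7, 10, 4, 2], [266]⟩, ⟨266, [12, 6, 10, 8, 7, 10, 4, 8, 0, 6, 10], []⟩],
  .tm 1 [12, 8, 4, 8, 6, 10, 8, 7, 10, 8, 2, 6, 10, 4, 7] [] [⟨274, [], []⟩],
  .tm 22 [8, 10, 4, 8, 7, 10, 8, 6, 10, 8, 2, 6] [] [⟨269, [12, 6, 10, 8, 7, 10, 8, 6, 10, 4, 8, 4, 6], [167, 169, 167, 216, 167, 217]⟩, ⟨135, [12, 4, 8, 7, 10, 8, 6, 10, 2], [268, 266]⟩, ⟨264, [12, 10, 8, 4, 8, 10, 8, 6, 10, 8, 0], []⟩],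
  .tm 1 [4, 8, 10, 4, 8, 6, 10, 8, 10, 6] [] [⟨276, [], []⟩],
  .tm 22 [12, 10, 8, 4, 8, 7, 10, 2, 8, 10, 6] [] [⟨225, [12, 7, 10, 8, 10, 4, 8, 10, 4, 7], [167, 169, 216, 167, 217]⟩, ⟨135, [6, 10, 8, 7, 10, 4, 8, 12, 2], [266, 268, 266]⟩, ⟨186, [8, 0, 15, 7], []⟩],
  .tm 1 [8, 12, 4, 8, 10, 8, 6, 10, 4, 8, 0, 6, 10, 4] [] [⟨278, [], []⟩],
  .tm 22 [12, 7, 10, 8, 10, 8, 4, 8, 2, 15, 4] [] [⟨269, [12, 8, 10], [167, 169, 167, 216, 167, 217]⟩, ⟨135, [12, 10, 4, 8, 7, 10, 4, 8, 4, 2], [266]⟩, ⟨186, [8, 12, 7, 10, 8, 6], []⟩],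
  .tm 1 [12, 4, 8, 4, 8, 10, 8, 6, 10, 8, 10, 4, 6] [] [⟨280, [], []⟩],
  .tm 11 [8, 12, 10, 8, 10, 8, 4, 8, 10, 4, 7] [] [⟨259, [8, 12, 8, 10, 8, 7, 10, 8, 6, 10, 4, 2, 8, 6], [167, 216, 167]⟩, ⟨135, [12, 10, 8, 4, 8, 6, 10, 2], []⟩, ⟨268, [4, 8, 7, 10, 4, 8, 6, 10, 8, 6, 10, 6], []⟩],
  .tm 1 [8, 10, 8, 6, 10, 8, 2, 6] [] [⟨282, [], []⟩],
  .tm 11 [12, 8, 4, 8, 6, 10, 8, 10, 4, 7] [] [⟨213, [8, 12, 4, 8, 10, 8, 4, 8, 7, 10, 8, 0, 4, 6], [167, 169, 217, 167]⟩, ⟨135, [4, 8, 10, 8, 4, 8, 10, 2], []⟩, ⟨197, [12, 8, 10, 4, 8, 10, 4, 6], []⟩],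
  .tm 1 [8, 12, 8, 10, 8, 4, 8, 10, 8, 7] [] [⟨284, [], []⟩],
  .tm 11 [8, 10, 8, 6, 10, 8, 10, 4, 8, 2, 6, 10, 4, 6] [] [⟨251, [6, 10, 8, 7, 10, 4, 8, 2, 15, 4], [167, 217, 167]⟩, ⟨135, [6, 10, 8, 12, 10, 8, 10, 2], [268]⟩, ⟨205, [12, 8, 0, 6, 10, 4], []⟩],
  .tm 1 [8, 4, 8, 10, 4, 8, 6, 10, 8, 2, 15, 4] [] [⟨286, [], []⟩],
  .tm 11 [10, 4, 8, 7, 10, 8, 4, 8, 2, 15, 6] [] [⟨200, [10, 8, 6, 10, 4, 2, 8, 10, 7], [167, 217, 167, 169]⟩, ⟨135, [7, 10, 8, 6, 10, 8, 12, 2], [266, 268]⟩, ⟨201, [8, 4, 8, 10, 8, 6, 10, 4, 8, 6, 10, 6], []⟩],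
  .tm 1 [8, 6, 10, 4, 8, 7, 10, 8, 2, 15, 7] [] [⟨288, [], []⟩],
  .tm 11 [12, 10, 8, 4, 8, 10, 8, 4, 6] [] [⟨241, [8, 12, 4, 8, 7, 10, 8, 2, 10, 4], [167, 169, 217, 167, 169]⟩, ⟨135, [8, 12, 6, 10, 2, 8, 10, 4], [266]⟩, ⟨268, [10, 4, 8, 7, 10, 4, 8, 2, 15, 6], []⟩],
  .tm 1 [8, 12, 8, 7, 10, 2, 8, 15, 4] [] [⟨290, [], []⟩],
  .tm 11 [8, 10, 4, 8, 6, 10, 4, 8, 2, 10, 4, 7] [] [⟨269, [12, 7, 10, 8, 6, 10, 4, 8, 7, 10, 8, 2, 4], [169, 167, 216, 167]⟩, ⟨135, [8, 6, 10, 8, 4, 8, 10, 4], []⟩, ⟨196, [12, 4, 8, 10, 4, 8, 7, 10, 8, 0, 15], []⟩],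
  .tm 1 [8, 7, 10, 8, 4, 8, 15] [] [⟨292, [], []⟩],
  .tm 11 [8, 12, 8, 10, 8, 7, 10, 8, 4, 8, 0, 4] [] [⟨291, [6, 10, 8, 2, 4, 7], [169, 167]⟩, ⟨135, [8, 4, 8, 6, 10, 8, 12, 4], [268]⟩, ⟨203, [6, 10, 8, 7, 10, 4, 8, 2, 15, 4, 6], []⟩],
  .tm 1 [4, 8, 10, 8, 7, 10, 4, 8, 0, 7] [] [⟨294, [], []⟩],
  .tm 11 [12, 6, 10, 4, 8, 7, 10, 8, 2, 4, 6] [] [⟨225, [12, 10, 8, 10, 4, 8, 7, 10, 8, 6, 10, 8, 10, 4], [169, 167, 217]⟩, ⟨135, [8, 12, 4, 8, 10, 8, 12, 4], []⟩, ⟨197, [12, 7, 10, 8, 10, 4, 8, 2, 4, 7], []⟩],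
  .tm 1 [12, 8, 10, 8, 6, 10, 4, 2, 8, 10, 4, 6] [] [⟨296, [], []⟩],
  .tm 11 [12, 8, 10, 4, 8, 7, 10, 4, 8, 2, 7] [] [⟨213, [8, 6, 10, 8, 0, 10], [167, 169, 217]⟩, ⟨135, [8, 7, 10, 4, 8, 12, 10, 8], [266, 268]⟩, ⟨205, [12, 10, 8, 6, 10, 8, 7, 10, 4, 8, 2, 7], []⟩],
  .tm 1 [8, 12, 8, 10, 8, 6, 10, 8, 7, 10, 8, 4] [] [⟨298, [], []⟩],
  .tm 11 [8, 12, 6, 10, 8, 7, 10, 4, 2, 8, 10] [] [⟨225, [8, 10, 4, 8, 6, 10, 4, 8, 2, 6, 10, 6], [167, 169, 217, 167]⟩, ⟨135, [10, 8, 12, 10, 8, 4, 8, 10, 4], [268]⟩, ⟨205, [12, 4, 8, 7, 10, 4, 8, 6, 10, 8, 4], []⟩],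
  .tm 1 [8, 12, 7, 10, 8, 10, 8, 4, 8, 6, 10, 6] [] [⟨300, [], []⟩],
  .tm 11 [12, 7, 10, 8, 2, 15, 4] [] [⟨259, [12, 8, 10, 8, 10, 4, 8, 6, 10, 8, 10, 4], [167, 216, 167]⟩, ⟨135, [10, 8, 4, 8, 6, 10, 8, 12, 4], [268]⟩, ⟨203, [8, 7, 10, 8, 7, 10, 4, 8, 2, 15, 4], []⟩],
  .tm 1 [8, 12, 8, 2, 6] [] [⟨302, [], []⟩],
  .tm 11 [12, 8, 10, 4, 8, 6, 10, 4, 8, 6, 10, 4, 6] [] [⟨269, [6, 10, 8, 4, 8, 7, 10, 8, 15, 4], [167, 216, 167]⟩, ⟨135, [12, 8, 4, 8, 6, 10, 8, 12, 4], [268]⟩, ⟨203, [6, 10, 8, 7, 10, 4, 2, 8, 15, 4, 6], []⟩],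
  .tm 1 [8, 12, 8, 10, 4, 8, 7] [] [⟨304, [], []⟩],
  .tm 23 [10, 8, 6, 10, 8, 7, 10, 4, 8, 2, 6, 10, 4, 6] [] [⟨93, [12, 10, 4, 8, 7, 10, 8, 6, 10, 4, 8, 2], [217, 167]⟩, ⟨135, [6, 10, 4, 8, 12, 10, 8, 10], [266]⟩, ⟨297, [12, 8, 10, 8, 6, 10, 8, 7, 10, 4, 8, 4], []⟩],
  .tm 1 [10, 8, 7, 10, 8, 4, 8, 6, 10] [] [⟨306, [], []⟩],
  .tm 16 [4, 8, 4, 8, 10, 8, 7, 10, 8, 6, 10] [] [⟨269, [8, 12, 8, 10, 8, 7, 10, 8, 4, 8, 2, 10], [169, 167, 216]⟩, ⟨135, [12, 8, 10, 8, 4, 8, 6, 10, 0], []⟩, ⟨258, [4, 8, 6, 10, 2, 8, 10, 4], []⟩],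
  .tm 1 [12, 8, 10, 8, 6, 10, 4, 8, 7, 10, 8, 2, 6, 10, 4] [] [⟨308, [], []⟩],
  .tm 16 [8, 10, 8, 4, 8, 7, 10, 2, 8, 10, 4, 7] [] [⟨291, [6, 10, 8, 4, 6], [167]⟩, ⟨135, [6, 10, 8, 12, 6, 10, 8, 10, 0], [268]⟩, ⟨201, [6, 10, 8, 10, 8, 4, 8, 6, 10, 8, 10, 4], []⟩],
  .tm 1 [10, 8, 4, 8, 10, 8, 10, 4, 6] [] [⟨310, [], []⟩],
  .tm 16 [4, 8, 10, 8, 7, 10, 8, 0, 15, 4, 7] [] [⟨200, [10, 8, 4, 8, 6, 10, 8, 10, 7], [167, 169, 217]⟩, ⟨135, [12, 8, 10, 8, 12, 4, 8, 4, 2], []⟩, ⟨203, [8, 10, 8, 4, 8, 6, 10, 8, 0, 6, 10, 4], []⟩],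
  .tm 1 [6, 10, 8, 7, 10, 8, 2, 15, 7] [] [⟨312, [], []⟩],
  .tm 16 [12, 8, 7, 10, 8, 6, 10, 8, 4, 8, 0, 15] [] [⟨269, [6, 10, 8, 4, 8, 7, 10, 8, 2, 15, 4, 6], [167, 169, 216, 167]⟩, ⟨135, [8, 12, 10, 4, 8, 10, 8, 4, 2], [268]⟩, ⟨201, [4, 8, 7, 10, 8, 6, 10, 4, 8, 6, 10, 7], []⟩],
  .tm 1 [4, 8, 10, 8, 4, 8, 6, 10, 8, 15, 6] [] [⟨314, [], []⟩],
  .tm 16 [10, 4, 8, 7, 10, 8, 2, 4, 6] [] [⟨125, [8, 10, 4, 8, 6, 10, 8, 4, 8, 2, 6, 10, 6], [167, 217, 167]⟩, ⟨135, [8, 12, 6, 10, 4, 8, 10, 8, 4], [268]⟩, ⟨197, [12, 6, 10, 8, 7, 10, 8, 4, 8, 0, 15, 4], []⟩],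
  .tm 1 [4, 8, 7, 10, 8, 6, 10, 4, 8, 0] [] [⟨316, [], []⟩],
  .tm 16 [8, 12, 8, 7, 10, 8, 10, 4, 8, 4, 6] [] [⟨259, [12, 8, 10, 8, 10, 4, 8, 6, 10, 8, 2, 10, 4, 6], [167, 169, 216, 167, 169]⟩, ⟨135, [2, 0], []⟩, ⟨201, [8, 2], []⟩],
  .tm 1 [12, 7, 10, 8, 6, 10, 4, 8, 7, 10, 8, 15, 6] [] [⟨318, [], []⟩],
  .tm 16 [8, 12, 10, 8, 6, 10, 8, 10, 4, 8, 2, 15, 6] [] [⟨235, [10, 8, 7, 10, 4, 8, 2, 4], [169, 216]⟩, ⟨135, [12, 8, 10, 8, 12, 4], [268, 266]⟩, ⟨268, [8, 4, 8, 10, 8, 6, 10, 8, 6, 10, 4, 7], []⟩],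
  .tm 1 [8, 4, 8, 7, 10, 8, 6, 10, 8, 15, 4] [] [⟨320, [], []⟩],
  .tm 24 [12, 8, 4, 8, 2, 4, 7] [] [⟨101, [8, 7, 10, 8, 6, 10, 8, 2, 6, 10, 6], [167, 217, 167]⟩, ⟨135, [8, 12, 10, 8, 10], [268]⟩, ⟨195, [12, 4, 8, 10, 8, 10, 4, 6], []⟩],
  .tm 1 [8, 12, 8, 6, 10, 4, 8, 7, 10, 8, 15] [] [⟨322, [], []⟩],
  .tm 25 [8, 12, 6, 10, 8, 7, 10, 4, 8, 6, 10, 8, 2, 10, 4] [] [⟨322, [12, 8, 6, 10, 2, 8, 6, 10, 4], [217, 167, 169]⟩, ⟨135, [8, 10, 8, 12, 4, 8, 10, 8, 4], [268]⟩, ⟨201, [12, 2, 8, 10], []⟩],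
  .tm 1 [8, 7, 10, 2, 8, 10, 6] [] [⟨324, [], []⟩],
  .tm 26 [8, 12, 8, 10, 8, 4, 8, 6, 10, 8, 4, 7] [] [⟨267, [12, 6, 10, 8, 7, 10, 4, 8, 6, 10, 8, 2, 6], [167, 169]⟩, ⟨135, [8, 12, 4, 8, 7, 10, 2], [266, 268, 266]⟩, ⟨317, [8, 12, 7, 10, 8, 7, 10, 4, 8, 6, 10, 4, 7], []⟩],
  .tm 1 [8, 12, 8, 7, 10, 2, 8, 7] [] [⟨326, [], []⟩],
  .tm 27 [8, 12, 8, 4, 8, 10, 8, 7, 10, 4, 8, 6] [] [⟨325, [12, 10, 8, 4, 8, 7, 10, 8, 0, 7], [169, 167, 216, 167]⟩, ⟨135, [6, 10, 8, 10, 4, 8, 12, 8, 0], [266]⟩, ⟨285, [8, 12, 10, 4, 8, 6, 10, 8, 2, 15, 6], []⟩],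
  .tm 1 [7, 10, 8, 6, 10, 8, 4, 8, 0, 4, 6] [] [⟨328, [], []⟩],
  .tm 27 [8, 4, 8, 0, 15, 4, 7] [] [⟨122, [12, 8, 4, 8, 10, 8, 7, 10, 8, 10, 4, 6], [167, 169, 216, 167]⟩, ⟨135, [12, 8, 10, 8, 10, 4], []⟩, ⟨186, [2, 8, 15, 4, 7], []⟩],
  .tm 1 [8, 6, 10, 8, 0, 6] [] [⟨330, [], []⟩],
  .tm 3 [6, 10, 8, 0, 6, 10, 6] [] [⟨136, [8, 12, 6, 10, 7, 4], [168]⟩, ⟨277, [8, 4, 8, 7, 10, 4, 8, 6, 10, 8, 6, 10, 6], []⟩],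
  .tm 1 [12, 8, 4, 8, 2, 10, 4] [] [⟨332, [], []⟩],
  .tm 28 [10, 4, 8, 6, 10, 4, 8, 15, 4, 6] [] [⟨149, [4, 8, 6, 10, 8, 7, 10, 4, 8, 0, 15, 7], [269]⟩, ⟨136, [10], [168, 166, 216, 166, 168]⟩, ⟨190, [12, 8, 7, 10, 8, 4, 8, 6, 10, 8, 7], []⟩],
  .tm 1 [10, 8, 4, 8, 10, 4] [] [⟨334, [], []⟩],
  .tm 28 [8, 7, 10, 8, 6, 10, 4, 8, 7, 10, 8, 2, 10, 4, 7] [] [⟨165, [8, 6, 10, 8, 4, 2, 8, 6, 10, 4, 6], [269]⟩, ⟨136, [10, 4], [168, 166, 217, 166]⟩, ⟨184, [12, 6, 10, 8, 7, 10, 8, 4, 8, 2, 4], []⟩],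
  .tm 1 [12, 10, 8, 6, 10, 8, 10, 4, 8, 10, 7] [] [⟨336, [], []⟩]]

theorem fc256 : checkL (nat_lit 12) (nat_lit 4095) tH tK tK' BB FF TM XW d256 (nat_lit 256) = true := by decide +kernel

def d338 : List Der := [.tm 29 [4, 8, 10, 8, 6, 10, 4, 8, 10, 4, 7] [] [⟨149, [8, 10, 4, 8, 6, 10, 8, 2, 6, 10, 4], [267]⟩, ⟨136, [12, 7, 10], [217, 166]⟩, ⟨184, [12, 2, 0, 15], []⟩],
  .tm 1 [10, 8, 7, 10, 8, 4, 8, 2, 15, 7] [] [⟨338, [], []⟩],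
  .tm 29 [8, 4, 8, 10, 8, 6, 10, 2, 8, 10, 4] [] [⟨165, [10, 8, 6, 10, 4, 8, 2, 10, 4, 7], []⟩, ⟨136, [8, 12, 10], [166, 216, 166, 168]⟩, ⟨190, [12, 4, 8, 4, 8, 10, 8, 6, 10, 8, 2, 15, 4, 7], []⟩],
  .tm 1 [6, 10, 8, 10, 8, 4, 8, 10, 4] [] [⟨340, [], []⟩],
  .tm 29 [8, 7, 10, 8, 6, 10, 8, 7, 10, 4, 8, 10, 4, 6] [] [⟨162, [8, 10, 8, 4, 8, 10, 8, 2, 4, 6], [269]⟩, ⟨136, [8, 12, 6, 10], [168]⟩, ⟨275, [8, 10, 8, 6, 10, 8, 10, 4, 8, 15, 4, 7], []⟩],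
  .tm 1 [8, 6, 10, 8, 4, 8, 6, 10, 8, 6, 10, 4, 6] [] [⟨342, [], []⟩],
  .tm 30 [12, 8, 10, 4, 8, 6, 10, 8, 7, 10, 4, 8, 6, 10, 4, 7] [] [⟨162, [7, 10, 8, 4, 8, 7, 10, 8, 15, 4, 6], [269]⟩, ⟨136, [4, 8, 12, 6, 10, 4], []⟩, ⟨275, [10, 2, 8, 10, 7], []⟩],
  .tm 1 [8, 12, 8, 10, 8, 7, 10, 8, 6, 10, 4, 8, 4, 6] [] [⟨344, [], []⟩],
  .tm 30 [12, 8, 4, 8, 7, 10, 8, 0, 10, 4] [] [⟨170, [8, 7, 10, 8, 4, 2, 8, 10, 4, 6], [269, 267]⟩, ⟨136, [12, 6, 10, 8, 4, 8], []⟩, ⟨275, [8, 10, 8, 7, 10, 8, 6, 10, 8, 15], []⟩],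
  .tm 1 [8, 12, 10, 8, 10, 8, 4, 8, 7, 10, 8, 2, 6, 10] [] [⟨346, [], []⟩],
  .tm 30 [8, 10, 8, 4, 8, 7, 10, 8, 15] [] [⟨174, [8, 10, 8, 4, 8, 10, 4, 6], [269]⟩, ⟨136, [4, 8, 12, 6, 10, 8], [166, 168]⟩, ⟨275, [4, 8, 7, 10, 4, 8, 6, 10, 8, 6, 10, 6], []⟩],
  .tm 1 [6, 10, 4, 8, 7, 10, 8, 2, 4, 6] [] [⟨348, [], []⟩],
  .tm 30 [12, 8, 4, 8, 10, 8, 0, 10, 4] [] [⟨180, [8, 4, 8, 10, 4, 8, 7, 10, 8, 2, 15, 6], [269]⟩, ⟨136, [4, 8, 12, 7, 10, 8], [166, 168]⟩, ⟨275, [8, 7, 10, 8, 6, 10, 4, 2, 8, 6, 10, 4, 7], []⟩],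
  .tm 1 [4, 8, 7, 10, 4, 8, 6, 10, 8, 15, 6] [] [⟨350, [], []⟩],
  .tm 30 [10, 8, 6, 10, 2, 8, 6, 10, 6] [] [⟨149, [10, 8, 7, 10, 4, 8, 2, 15, 4, 7], [267]⟩, ⟨136, [12, 10, 4, 8, 6, 10], [168]⟩, ⟨275, [10, 8, 6, 10, 4, 2, 8, 6, 10, 4], []⟩],
  .tm 1 [8, 7, 10, 8, 7, 10, 8, 4, 8, 10] [] [⟨352, [], []⟩],
  .tm 30 [6, 10, 8, 7, 10, 8, 6, 10, 4, 8, 2, 15, 4, 7] [] [⟨165, [6, 10, 8, 0, 6, 10], [267]⟩, ⟨136, [12, 8, 10, 8, 6, 10], []⟩, ⟨275, [8, 10, 8, 6, 10, 8, 7, 10, 4, 8, 6, 10, 4, 6], []⟩],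
  .tm 1 [4, 8, 4, 8, 7, 10, 8, 6, 10, 8, 6, 10] [] [⟨354, [], []⟩],
  .tm 30 [12, 6, 10, 8, 4, 8, 7, 10, 8, 2, 15, 4, 7] [] [⟨153, [4, 8, 10, 4, 8, 7, 10, 8, 0, 15, 6], []⟩, ⟨136, [12, 7, 10, 8, 7, 10], [168]⟩, ⟨275, [8, 10, 8, 7, 10, 8, 4, 8, 0, 15, 4, 6], []⟩],
  .tm 1 [8, 12, 8, 10, 8, 7, 10, 8, 4, 2, 8, 10, 4] [] [⟨356, [], []⟩],
  .tm 6 [10, 8, 7, 10, 4, 8, 0, 15, 4] [] [⟨162, [8, 12, 8, 4, 8, 10, 8, 4, 8, 2, 10, 6], [269]⟩, ⟨136, [8, 12, 6, 10, 4, 2], [168, 166]⟩, ⟨265, [8, 7, 10, 8, 4, 8, 10, 8, 4, 7], []⟩],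
  .tm 6 [4, 8, 10, 8, 7, 10, 8, 0, 10, 4, 7] [] [⟨162, [12, 8, 10, 8, 4, 8, 7, 10, 8, 0, 4, 6], []⟩, ⟨136, [10, 8, 7, 10, 4, 2], [166]⟩, ⟨267, [8, 10, 8, 10, 4, 8, 7, 10, 8, 10, 4], []⟩],
  .tm 1 [8, 12, 10, 8, 4, 8, 10, 8, 6, 10, 8, 10] [] [⟨359, [], []⟩],
  .tm 6 [12, 7, 10, 8, 6, 10, 8, 6, 10, 7] [] [⟨170, [12, 10, 8, 7, 10, 4, 2, 8, 6, 10, 7], [269, 267]⟩, ⟨136, [12, 10, 4, 8, 7, 10], [216, 166]⟩, ⟨340, [4, 8, 7, 10, 8, 6, 10, 4, 6], []⟩],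
  .tm 1 [8, 12, 8, 4, 8, 10, 8, 0, 7] [] [⟨361, [], []⟩],
  .tm 6 [4, 8, 2, 4, 6] [] [⟨170, [12, 8, 4, 8, 10, 8, 4, 8, 10, 6], [269]⟩, ⟨136, [8, 12, 10, 8, 10, 4, 8, 4], [166, 217, 166]⟩, ⟨336, [8, 6, 10, 8, 7, 10, 8, 2, 15, 7], []⟩],
  .tm 1 [12, 8, 6, 10, 8, 0, 6, 10, 6] [] [⟨363, [], []⟩],
  .tm 21 [8, 4, 8, 7, 10, 4, 8, 6, 10, 8, 15, 4] [] [⟨201, [8, 7, 10, 8, 6, 10, 8, 4, 8, 6, 10, 4, 7], [269]⟩, ⟨136, [8, 12, 6, 10, 4, 8, 10, 4], [166, 217, 166]⟩, ⟨336, [8, 10, 4, 8, 7, 10, 8, 6, 10, 4, 8, 2, 15, 4], []⟩],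
  .tm 1 [7, 10, 8, 6, 10, 4, 8, 7, 10, 8, 2, 10, 4] [] [⟨365, [], []⟩],
  .tm 31 [12, 8, 6, 10, 8, 0, 10, 4] [] [⟨361, [12, 4, 8, 7, 10, 8, 6, 10, 4, 2, 8, 6, 10, 4], [269]⟩, ⟨136, [8, 12, 10, 8, 10, 4, 8, 4], [166, 217, 166]⟩, ⟨336, [8, 6, 10, 8, 7, 10, 8, 2, 15, 7], []⟩],
  .tm 1 [12, 8, 10, 8, 4, 8, 7, 10, 8, 0, 7] [] [⟨367, [], []⟩],
  .tm 22 [10, 8, 7, 10, 8, 6, 10, 8, 15, 4, 7] [] [⟨203, [8, 6, 10, 8, 7, 10, 4, 8, 15, 4], [269, 267]⟩, ⟨136, [4, 8, 10, 2, 8, 12, 6, 10], [166, 216, 168]⟩, ⟨322, [12, 8, 6, 10, 8, 2, 6, 10, 4], []⟩],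
  .tm 1 [4, 8, 10, 8, 4, 8, 2, 10, 4] [] [⟨369, [], []⟩],
  .tm 22 [8, 10, 8, 7, 10, 8, 4, 8, 2, 15, 6] [] [⟨203, [10, 8, 7, 10, 8, 6, 10, 8, 2, 15, 7], [269, 267]⟩, ⟨136, [12, 8, 10, 8, 4, 8, 7, 10], [217, 168]⟩, ⟨336, [6, 10, 4, 8, 7, 10, 8, 2, 15, 6], []⟩],
  .tm 1 [10, 8, 4, 8, 7, 10, 8, 2, 15] [] [⟨371, [], []⟩],
  .tm 22 [12, 6, 10, 8, 10, 8, 4, 8, 6, 10, 8, 2, 15, 6] [] [⟨258, [7, 10, 8, 6, 10, 4, 8, 7, 10, 8, 2, 6, 10, 4, 6], []⟩, ⟨136, [12, 7, 10, 4, 8, 6, 10, 8, 4], [217, 166, 216, 166, 168, 166]⟩, ⟨325, [12, 10, 8, 7, 10, 8, 4, 8, 4, 6], []⟩],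
  .tm 1 [8, 12, 8, 6, 10, 8, 4, 8, 6, 10, 8, 10] [] [⟨373, [], []⟩],
  .tm 11 [8, 12, 7, 10, 8, 6, 10, 8, 6] [] [⟨360, [7, 10, 8, 4, 8, 10, 8, 2, 6, 10, 4], [267, 269]⟩, ⟨136, [12, 8, 10, 8, 6, 10, 8, 12, 2], [217, 166, 216, 168]⟩, ⟨213, [8, 12, 8, 10, 4, 8, 7, 10, 8, 0, 7], []⟩],
  .tm 1 [8, 10, 8, 4, 8, 7, 10, 8, 6] [] [⟨375, [], []⟩],
  .tm 11 [7, 10, 8, 6, 10, 8, 2, 10] [] [⟨297, [6, 10, 8, 4, 8, 2, 4, 6], []⟩, ⟨136, [6, 10, 8, 12, 10, 4, 2, 8, 4], [216, 166, 168]⟩, ⟨373, [8, 12, 4, 8, 7, 10, 8, 6, 10, 4, 8, 0, 10, 6], []⟩],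
  .tm 1 [10, 4, 8, 7, 10, 8, 6, 10, 4, 8, 4] [] [⟨377, [], []⟩],
  .tm 14 [8, 4, 8, 10, 8, 7, 10, 4, 8, 0, 4, 6] [] [⟨162, [7, 10, 8, 4, 8, 6, 10, 8, 2, 6, 10], [269]⟩, ⟨136, [4, 8, 12, 8, 6, 10], [168, 166, 216, 166, 168, 166]⟩, ⟨373, [8, 12, 10, 8, 10, 8, 4, 8, 7, 10, 8, 2, 4, 7], []⟩],
  .tm 1 [12, 4, 8, 6, 10, 8, 15, 4] [] [⟨379, [], []⟩],
  .tm 23 [4, 8, 10, 8, 7, 10, 4, 8, 2, 15, 4, 6] [] [⟨205, [12, 10, 8, 10, 4, 8, 7, 10, 8, 2, 6, 10, 7], [269]⟩, ⟨136, [4, 8, 12, 7, 10, 4, 8, 10, 4, 2], [166, 216, 168, 166]⟩, ⟨354, [8, 4, 8, 6, 10, 8, 4, 8, 10], []⟩],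
  .tm 1 [10, 8, 10, 4, 8, 6, 10, 8, 7, 10, 8, 15, 6] [] [⟨381, [], []⟩],
  .tm 16 [10, 8, 7, 10, 8, 10, 4, 8, 2, 10, 4, 7] [] [⟨264, [8, 6, 10, 8, 2, 10, 6], [267, 269, 267]⟩, ⟨136, [12, 10, 8, 10, 4, 0], [168, 166, 216, 166, 168]⟩, ⟨373, [8, 12, 10, 8, 7, 10, 2, 8, 6, 10], []⟩],
  .tm 1 [8, 7, 10, 8, 6, 10, 4, 8, 2, 15] [] [⟨383, [], []⟩],
  .tm 32 [12, 8, 4, 8, 6, 10, 8, 2, 4, 6] [] [⟨268, [8, 7, 10, 8, 6, 10, 4, 8, 7, 10, 8, 6, 10, 4, 7], [267, 269]⟩, ⟨136, [8, 10, 8, 4, 2, 8, 10], [217]⟩, ⟨383, [8, 4, 8, 6, 10, 8, 7, 10, 4, 8, 2, 6, 10], []⟩],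
  .tm 1 [8, 12, 8, 15, 4, 6] [] [⟨385, [], []⟩],
  .tm 27 [12, 8, 0, 10, 4] [] [⟨264, [8, 12, 10, 8, 4, 8, 10, 8, 6, 10, 8], [269]⟩, ⟨136, [7, 10, 8, 7, 10, 0], [217, 166, 216]⟩, ⟨340, [8, 10, 8, 6, 10, 4, 8, 10, 4], []⟩],
  .tm 1 [7, 10, 8, 4, 8, 10, 8, 2, 6, 10, 4] [] [⟨387, [], []⟩],
  .tm 9 [8, 12, 10, 2, 8, 6, 10, 4, 6] [] [⟨300, [8, 7, 10, 8, 6, 10, 4, 8, 7, 10, 8, 6, 10, 4], [269, 267]⟩, ⟨137, [12, 10, 7], []⟩],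
  .tm 1 [8, 12, 10, 8, 6, 10, 8, 10, 4, 8, 6, 10, 4] [] [⟨389, [], []⟩],
  .tm 9 [8, 12, 10, 4, 8, 15] [] [⟨281, [8, 10, 8, 6, 10, 8, 7, 10, 4, 8, 0, 6, 10, 4, 7], [269]⟩, ⟨137, [6, 10, 6, 4], []⟩],
  .tm 3 [7] [] [⟨137, [7, 10, 6, 4], [268, 266]⟩, ⟨301, [8, 10, 4, 8, 6, 10, 8, 7, 10, 4, 8, 6, 10], []⟩],
  .tm 1 [10, 4, 8, 7, 10, 8, 6, 10, 4, 8, 2, 4, 7] [] [⟨392, [], []⟩],
  .tm 3 [6] [] [⟨137, [12, 7, 10, 6], [266, 268]⟩, ⟨299, [8, 6, 10, 8, 7, 10, 8, 6, 10, 4, 8, 15, 4, 6], []⟩],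
  .tm 1 [4, 8, 7, 10, 4, 8, 6, 10, 8, 2, 7] [] [⟨394, [], []⟩],
  .tm 3 [8, 6, 10, 8, 6, 10, 6] [] [⟨137, [8, 12, 10, 7, 4], []⟩, ⟨332, [8, 10, 7], []⟩],
  .tm 1 [8, 7, 10, 8, 4, 8, 6, 10, 8, 15, 4, 6] [] [⟨396, [], []⟩],
  .tm 3 [] [] [⟨137, [], [268, 266]⟩, ⟨381, [4, 8, 10, 8, 7, 10, 4, 2, 8, 15, 4], []⟩],
  .tm 29 [8, 6, 10, 4, 8, 2, 10] [] [⟨390, [10, 8, 4, 8, 7, 10, 2, 8, 15, 4], [267, 269]⟩, ⟨137, [7, 10, 4], [268]⟩, ⟨155, [8, 4, 8, 10, 8, 6, 10, 8, 0, 6, 10, 4], []⟩],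
  .tm 1 [8, 10, 4, 8, 6, 10, 4, 8, 2, 10, 4, 6] [] [⟨399, [], []⟩],
  .tm 30 [7, 10, 8, 10, 8, 4, 8] [] [⟨332, [10, 4, 8, 7, 10, 8, 6, 10, 8, 6, 10, 4, 7], [267]⟩, ⟨137, [12, 10, 8, 7, 10, 4, 8], []⟩, ⟨176, [8, 7, 10, 8, 6, 10, 4, 8, 7, 10, 8, 6, 10, 4, 7], []⟩],
  .tm 1 [12, 4, 6] [] [⟨401, [], []⟩],
  .tm 30 [8, 7, 10, 8, 10, 4, 8, 4, 7] [] [⟨332, [8, 10, 8, 6, 10, 4, 8, 7, 10, 8, 2, 15, 4, 6], []⟩, ⟨137, [10, 8, 12, 7, 10, 4, 8], [266, 268]⟩, ⟨171, [8, 6, 10, 8, 7, 10, 4, 8, 6, 10, 8, 15, 4, 7], []⟩],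
  .tm 1 [12, 8, 4, 8, 10, 8, 2, 10, 4] [] [⟨403, [], []⟩],
  .tm 30 [8, 12, 8, 6, 10, 4, 2, 8, 15, 4, 7] [] [⟨390, [8, 10, 4, 8, 7, 10, 8, 6, 10, 8, 15, 4, 7], [267]⟩, ⟨137, [10, 4, 8, 12, 7, 10, 8], []⟩, ⟨154, [8, 4, 8, 10, 8, 4, 8, 2, 10], []⟩],
  .tm 1 [12, 6, 10, 8, 4, 8, 7, 10, 8, 2, 4, 7] [] [⟨405, [], []⟩],
  .tm 30 [12, 8, 10, 4, 8, 6, 10, 8, 4, 8, 2, 6, 10, 7] [] [⟨390, [8, 10, 8, 4, 8, 0, 10, 4, 6], [267]⟩, ⟨137, [6, 10, 4, 8, 12, 6, 10], []⟩, ⟨182, [7, 10, 4, 2, 8, 10, 4, 6], []⟩],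
  .tm 1 [8, 10, 8, 10, 4, 8, 6, 10, 8, 15] [] [⟨407, [], []⟩],
  .tm 30 [4, 8, 10, 8, 7, 10, 4, 2, 8, 15] [] [⟨391, [], []⟩, ⟨137, [], [266, 268]⟩, ⟨176, [10, 8, 4, 8, 10, 8, 7, 10, 8, 0, 10, 4, 6], []⟩],
  .tm 1 [12, 8, 10, 8, 10, 4, 8, 6, 10, 8, 10, 4, 6] [] [⟨409, [], []⟩],
  .tm 30 [8, 7, 10, 8, 4, 8, 10, 4, 7] [] [⟨391, [8, 10, 8, 6, 10, 8, 7, 10, 8, 6, 10, 7], []⟩, ⟨137, [8], [268]⟩, ⟨171, [10, 8, 4, 8, 10, 8, 7, 10, 8, 0, 10, 4, 6], []⟩],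
  .tm 1 [12, 8, 4, 2, 8, 4, 6] [] [⟨411, [], []⟩],
  .tm 30 [7, 10, 8, 4, 8, 0, 6, 10, 4, 6] [] [⟨390, [8, 10, 8, 4, 8, 7, 10, 8, 15, 4], [267, 269]⟩, ⟨137, [7, 10], []⟩, ⟨145, [12, 2, 0, 10], []⟩],
  .tm 1 [8, 12, 8, 4, 8, 7, 10, 8, 0, 4] [] [⟨413, [], []⟩],
  .tm 30 [7, 10, 8, 7, 10, 8, 4, 8, 2, 15, 4, 6] [] [⟨391, [8, 10, 4, 8, 6, 10, 8, 7, 10, 8, 6, 10, 4, 7], []⟩, ⟨137, [4, 8, 4], [266]⟩, ⟨154, [4, 8, 4, 8, 10, 8, 7, 10, 8, 15], []⟩],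
  .tm 1 [4, 8, 7, 10, 2, 8, 10, 4] [] [⟨415, [], []⟩],
  .tm 30 [12, 10, 8, 6, 10, 4, 8, 7, 10, 8, 2, 6, 10, 4] [] [⟨390, [10, 8, 10, 8, 4, 8, 7, 10, 8, 2, 10, 4, 7], [267, 269]⟩, ⟨137, [7, 10, 8], [268]⟩, ⟨171, [8, 10, 8, 6, 10, 8, 10, 4, 8, 2, 15, 4, 7], []⟩],
  .tm 1 [7, 10, 8, 10, 8, 4, 8, 7, 10, 8, 6, 10, 6] [] [⟨417, [], []⟩],
  .tm 30 [7, 10, 8, 6, 10, 4, 8, 7, 10, 8, 2, 6, 10, 4, 6] [] [⟨391, [8, 4, 8, 2, 4], []⟩, ⟨137, [8, 4, 8, 4], [266, 268]⟩, ⟨182, [4, 8, 7, 10, 8, 6, 10, 4, 8, 2, 6, 10], []⟩],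
  .tm 1 [12, 10, 8, 6, 10, 8, 7, 10, 8, 2, 6, 10] [] [⟨419, [], []⟩],
  .tm 30 [10, 8, 4, 8, 10, 7] [] [⟨332, [8, 4, 8, 10, 8, 7, 10, 2, 8, 10, 4, 6], [269]⟩, ⟨137, [7, 10, 8, 4], [266]⟩, ⟨154, [6, 10, 4, 8, 0, 10, 4, 7], []⟩],
  .tm 1 [8, 12, 10, 8, 0, 10, 4, 6] [] [⟨421, [], []⟩],
  .tm 30 [4, 8, 10, 4, 8, 7, 10, 8, 2, 15, 6] [] [⟨332, [10, 8, 7, 10, 8, 6, 10, 8, 2, 6, 10, 7], [269]⟩, ⟨137, [8, 7, 10, 4], []⟩, ⟨155, [2, 0, 7], []⟩],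
  .tm 1 [10, 8, 4, 8, 10, 8, 7, 10, 8, 0, 10, 4, 6] [] [⟨423, [], []⟩],
  .tm 30 [8, 6, 10, 8, 0, 10] [] [⟨390, [7, 10, 8, 4, 2, 8, 10, 4, 7], [267, 269]⟩, ⟨137, [8, 7, 10, 8], [266, 268]⟩, ⟨176, [8, 10, 8, 6, 10, 8, 10, 4, 8, 2, 15, 4, 7], []⟩],
  .tm 1 [12, 4, 8, 10, 4, 8, 7, 10, 8, 15, 7] [] [⟨425, [], []⟩],
  .tm 30 [8, 12, 8, 4, 8, 2, 4, 6] [] [⟨391, [8, 4, 8, 10, 4, 8, 7, 10, 8, 15, 6], []⟩, ⟨137, [6, 10, 8, 10], [266]⟩, ⟨145, [12, 7, 10, 8, 10, 8, 4, 8, 7, 10, 8, 2, 6, 10, 4], []⟩],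
  .tm 1 [4, 8, 10, 8, 7, 10, 4, 8, 2, 4, 6] [] [⟨427, [], []⟩],
  .tm 30 [7, 10, 8, 10, 4, 8, 4, 7] [] [⟨332, [8, 10, 8, 4, 8, 0, 4], [269]⟩, ⟨137, [8, 7, 10, 8, 4], [266, 268]⟩, ⟨182, [8, 10, 8, 6, 10, 4, 8, 7, 10, 8, 2, 6, 10, 4, 7], []⟩],
  .tm 1 [8, 10, 4, 8, 7, 10, 4, 8, 2, 15, 6] [] [⟨429, [], []⟩],
  .tm 30 [8, 12, 4, 8, 6, 10, 8, 7, 10, 4, 8, 2, 15] [] [⟨332, [8, 7, 10, 4, 8, 15, 4, 7], [269]⟩, ⟨137, [7, 10, 8, 4, 8], []⟩, ⟨145, [12, 8, 10, 8, 7, 10, 8, 6, 10, 8, 6, 10, 7], []⟩]]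

theorem fc338 : checkL (nat_lit 12) (nat_lit 4095) tH tK tK' BB FF TM XW d338 (nat_lit 338) = true := by decide +kernel

def d432 : List Der := [.tm 1 [8, 10, 4, 8, 7, 10, 4, 8, 2, 10, 4, 6] [] [⟨431, [], []⟩],
  .tm 17 [8, 10, 8, 0, 10, 7] [] [⟨382, [8, 10, 8, 7, 10, 4, 8, 2, 6, 10], []⟩, ⟨137, [7, 10, 8, 10, 2], []⟩, ⟨171, [8, 6, 10, 4, 8, 0, 10, 4, 6], []⟩],
  .tm 17 [12, 10, 8, 4, 8, 7, 10, 8, 0, 15, 4, 6] [] [⟨393, [8, 4, 8, 7, 10, 8, 4, 8, 2, 10, 7], []⟩, ⟨137, [10, 4, 8, 10, 4], []⟩, ⟨171, [6, 10, 8, 10, 7], []⟩],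
  .tm 1 [12, 8, 6, 10, 2, 8, 4] [] [⟨434, [], []⟩],
  .tm 17 [6, 10, 8, 4, 8, 10, 8, 4] [] [⟨395, [8, 10, 4, 8, 6, 10, 8, 6, 10, 4, 6], [269, 267]⟩, ⟨137, [8, 4, 8, 12, 10], [266, 268]⟩, ⟨171, [7, 10, 8, 4, 8, 7, 10, 8, 15, 4], []⟩],
  .tm 1 [12, 8, 4, 8, 10, 4, 7] [] [⟨436, [], []⟩],
  .tm 6 [12, 8, 10, 4, 8, 0, 10, 4, 7] [] [⟨391, [12, 8, 10, 8, 7, 10, 8, 6, 10, 4, 8, 2, 15, 6], [269, 267]⟩, ⟨137, [12, 10, 4, 8, 4, 2], []⟩, ⟨436, [8, 10, 8, 7, 10, 8, 6, 10, 8, 15, 7], []⟩],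
  .tm 1 [8, 4, 8, 10, 8, 7, 10, 4, 2, 8, 15, 4] [] [⟨438, [], []⟩],
  .tm 6 [8, 12, 8, 10, 8, 2, 10] [] [⟨332, [8, 12, 8, 7, 10, 8, 6, 10, 8, 4, 8], []⟩, ⟨137, [8, 12, 7, 10, 4, 2], [268]⟩, ⟨303, [12, 6, 10, 8, 4, 2, 8, 6, 10, 4, 6], []⟩],
  .tm 1 [12, 4, 8, 7, 10, 8, 6, 10, 8, 4, 7] [] [⟨440, [], []⟩],
  .tm 6 [8, 4, 8, 7, 10, 8, 2, 10] [] [⟨391, [8, 12, 8, 10, 8, 4, 8, 7, 10, 2, 8, 4, 6], []⟩, ⟨137, [10, 4, 8, 10, 4, 2], []⟩, ⟨286, [4, 8, 6, 10, 8, 4, 8, 10, 7], []⟩],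
  .tm 1 [8, 7, 10, 8, 4, 8, 0, 10, 4] [] [⟨442, [], []⟩],
  .tm 6 [8, 12, 10, 4, 8, 7, 10, 8, 6, 10, 4, 8, 2, 15] [] [⟨332, [12, 7, 10, 8, 6, 10, 8, 6, 10], [267]⟩, ⟨137, [12, 4, 8, 6, 10, 2], [266, 268]⟩, ⟨295, [12, 10, 4, 8, 7, 10, 2, 8, 15, 4], []⟩],
  .tm 1 [10, 4, 8, 7, 10, 8, 4, 8, 2, 6, 10] [] [⟨444, [], []⟩],
  .tm 6 [12, 6, 10, 8, 7, 10, 8, 4, 8, 0, 15, 4] [] [⟨391, [12, 4, 8, 7, 10, 4, 8, 2, 4, 6], [269, 267]⟩, ⟨137, [12, 8, 4, 8, 10, 4], [266, 268]⟩, ⟨397, [8, 4, 8, 10, 8, 7, 10, 8, 10, 4], []⟩],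
  .tm 1 [12, 8, 10, 8, 4, 8, 7, 10, 2, 8, 7] [] [⟨446, [], []⟩],
  .tm 6 [8, 12, 4, 8, 10, 8, 6, 10, 8, 2, 6, 10, 4, 6] [] [⟨332, [8, 12, 8, 10, 8, 10, 4, 8, 7, 10, 8, 4, 6], []⟩, ⟨137, [8, 12, 4, 8, 7, 10, 2], [268]⟩, ⟨305, [8, 10, 4, 8, 6, 10, 8, 7, 10, 8, 6, 10, 4, 6], []⟩],
  .tm 1 [12, 6, 10, 8, 7, 10, 8, 6, 10, 4, 8, 15] [] [⟨448, [], []⟩],
  .tm 6 [8, 10, 8, 6, 10, 8, 7, 10, 4, 8, 0, 6, 10, 4, 6] [] [⟨391, [12, 8, 4, 8, 7, 10, 8, 6, 10, 8, 2, 15, 6], [269]⟩, ⟨137, [8, 12], [268]⟩, ⟨280, [12, 8, 10, 8, 0], []⟩],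
  .tm 18 [8, 12, 8, 10, 8, 10, 4, 8, 7, 10, 8, 2, 6, 10, 7] [] [⟨442, [6, 10, 8, 10, 8, 4, 8, 6, 10, 8, 10, 4, 6], [269, 267]⟩, ⟨137, [8, 12, 8, 10, 4], [268]⟩, ⟨182, [8, 10, 8, 6, 10, 8, 4, 8, 2, 6, 10, 4, 7], []⟩],
  .tm 1 [8, 10, 4, 8, 6, 10, 4, 8, 6, 10, 6] [] [⟨451, [], []⟩],
  .tm 18 [8, 12, 2, 0, 15, 4, 6] [] [⟨442, [6, 10, 8, 4, 8, 7, 10, 8, 0, 15, 4, 6], [269, 267]⟩, ⟨137, [10, 4, 8, 12, 8], [268]⟩, ⟨171, [8, 4, 8, 10, 8, 7, 10, 2, 8, 15, 4, 7], []⟩],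
  .tm 1 [8, 12, 6, 10, 8, 7, 10, 4, 8, 2, 10, 4] [] [⟨453, [], []⟩],
  .tm 18 [8, 12, 10, 8, 6, 10, 8, 10, 4, 8, 6, 10, 4] [] [⟨442, [8, 7, 10, 8, 7, 10, 4, 8, 2, 15, 4], [269, 267]⟩, ⟨137, [4, 8, 12, 8, 10], [268]⟩, ⟨176, [10, 4, 8, 6, 10, 4, 8, 6, 10, 6], []⟩],
  .tm 1 [8, 12, 8, 4, 8, 10, 8, 7, 10, 4, 8, 10, 4, 7] [] [⟨455, [], []⟩],
  .tm 18 [8, 12, 8, 6, 10, 8, 6, 10, 4, 8, 15, 4] [] [⟨442, [8, 7, 10, 8, 10], [269]⟩, ⟨137, [12, 6, 10, 4, 8, 4], [266]⟩, ⟨159, [8, 10, 8, 6, 10, 8, 4, 8, 0, 6], []⟩],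
  .tm 1 [4, 8, 10, 8, 7, 10, 4, 8, 2, 4] [] [⟨457, [], []⟩],
  .tm 18 [8, 4, 8, 7, 10, 8, 4, 8, 2, 6, 10] [] [⟨442, [8, 10, 8, 7, 10, 4, 8, 6, 10, 8, 15, 4, 7], [269]⟩, ⟨137, [12, 7, 10, 4, 8, 4], []⟩, ⟨145, [12, 10, 4, 8, 4], []⟩],
  .tm 1 [8, 12, 4, 8, 10, 4, 8, 7, 10, 8, 15, 4, 7] [] [⟨459, [], []⟩],
  .tm 18 [8, 12, 2, 15, 7] [] [⟨442, [10, 8, 10, 4, 8, 7, 10, 8, 2, 10, 4, 7], [269, 267]⟩, ⟨137, [10, 8, 7, 10, 8, 4], []⟩, ⟨169, [7, 10, 8, 7, 10, 4, 8, 4, 7], []⟩],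
  .tm 1 [8, 12, 6, 10, 8, 4, 8, 6, 10, 8, 15, 7] [] [⟨461, [], []⟩],
  .tm 18 [8, 12, 10, 8, 6, 10, 8, 4, 8, 0, 15, 4, 6] [] [⟨442, [10, 8, 6, 10, 8, 4, 2, 8, 6, 10, 4, 6], [269]⟩, ⟨137, [8, 4], [268, 266]⟩, ⟨154, [8, 10, 8, 10, 4, 8, 7, 10, 8, 2, 10, 4, 7], []⟩],
  .tm 1 [12, 10, 8, 4, 8, 6, 10, 8, 2, 10] [] [⟨463, [], []⟩],
  .tm 19 [8, 12, 10, 8, 6, 10, 8, 4, 8, 0, 6, 10, 4] [] [⟨450, [4, 8, 10, 8, 7, 10, 2, 8, 15, 4, 7], [269]⟩, ⟨137, [8, 12], [268]⟩, ⟨171, [8, 12, 8, 4, 8, 10, 8, 7, 10, 8, 6, 10, 4], []⟩],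
  .tm 1 [12, 7, 10, 8, 6, 10, 4, 8, 7, 10, 8, 6, 10] [] [⟨465, [], []⟩],
  .tm 19 [12, 8, 4, 8, 10, 8, 2, 10, 4] [] [⟨465, [8, 12, 10, 8, 7, 10, 8, 6, 10, 8, 2, 15, 6], []⟩, ⟨137, [8, 12, 2], [268]⟩, ⟨171, [12, 8, 4, 8, 10, 8, 7, 10, 8, 2, 6, 10, 4], []⟩],
  .tm 15 [8, 12, 8, 10, 8, 2, 7] [] [⟨390, [4, 8, 10, 2, 8, 10, 4, 6], [267]⟩, ⟨137, [7, 10, 8, 12, 10, 8], [268]⟩, ⟨295, [12, 8, 7, 10, 4, 8, 10, 4], []⟩],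
  .tm 1 [10, 4, 8, 7, 10, 8, 4, 8, 15, 6] [] [⟨468, [], []⟩],
  .tm 15 [10, 8, 10, 4, 8, 6, 10, 8, 7, 10, 8, 15, 7] [] [⟨442, [6, 10, 8, 4, 8, 10, 8, 2, 4, 6], [269]⟩, ⟨137, [8, 12, 6, 10, 8, 10, 4], [268]⟩, ⟨286, [4, 8, 7, 10, 4, 8, 2, 10, 7], []⟩],
  .tm 20 [8, 6, 10, 8, 10, 4, 8, 4, 7] [] [⟨470, [8, 10, 4, 8, 0, 10, 7], [267, 269]⟩, ⟨137, [7, 10, 8, 10, 4], [268, 266]⟩, ⟨154, [8, 10, 8, 7, 10, 8, 6, 10, 4, 8, 2, 15, 4, 6], []⟩],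
  .tm 1 [12, 6, 10, 8, 4, 8, 7, 10, 8, 15, 4, 7] [] [⟨471, [], []⟩],
  .tm 11 [8, 12, 8, 10, 8, 10, 4, 8, 4, 6] [] [⟨376, [8, 10, 2, 8, 4, 7], [269, 267]⟩, ⟨137, [8, 12, 6, 10, 4, 8, 10, 4], [266]⟩, ⟨436, [10, 4, 8, 7, 10, 8, 4, 8, 15, 6], []⟩],
  .tm 1 [8, 12, 10, 8, 6, 10, 8, 7, 10, 8, 2, 15, 7] [] [⟨473, [], []⟩],
  .tm 11 [8, 12, 4, 8, 10, 8, 4, 8, 7, 10, 8, 6, 10, 4] [] [⟨453, [8, 7, 10, 8, 4, 2, 8], []⟩, ⟨137, [6, 10, 8, 12, 4, 8, 6, 10], [268]⟩, ⟨303, [12, 4, 8, 10, 8, 7, 10, 8, 10, 4, 6], []⟩],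
  .tm 1 [6, 10, 8, 10, 8, 4, 8, 6, 10, 8, 2, 15, 7] [] [⟨475, [], []⟩],
  .tm 11 [8, 6, 10, 8, 4, 8, 10, 8, 2, 15, 7] [] [⟨419, [8, 12, 4, 8, 7, 10, 4, 8, 2, 6], [267]⟩, ⟨137, [7, 10, 8, 12, 10, 8, 4, 8, 0], [268]⟩, ⟨295, [12, 7, 10, 4, 8, 10, 4], []⟩],
  .tm 1 [8, 12, 10, 8, 6, 10, 4, 8, 0, 10, 6] [] [⟨477, [], []⟩],
  .tm 11 [12, 10, 4, 8, 7, 10, 8, 6, 10] [] [⟨380, [6, 10, 8, 4, 8, 6, 10, 8, 2, 6, 10, 4], []⟩, ⟨137, [8, 7, 10, 8, 12, 8, 6, 10, 0], [266, 268]⟩, ⟨435, [6, 10, 8, 10, 4, 8, 2, 4], []⟩],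
  .tm 1 [8, 12, 6, 10, 8, 7, 10, 8, 4, 8, 2] [] [⟨479, [], []⟩],
  .tm 11 [12, 8, 4, 8, 10, 8, 6, 10, 2, 8, 10] [] [⟨479, [8, 4, 2, 8, 6], [269, 267]⟩, ⟨137, [8, 7, 10, 8, 4, 8, 10, 4, 2], []⟩, ⟨280, [12, 8, 4, 8, 7, 10, 8, 6, 10, 8, 2, 15, 4], []⟩],
  .tm 1 [12, 4, 8, 7, 10, 4, 8, 6, 10, 4, 6] [] [⟨481, [], []⟩],
  .tm 12 [12, 8, 10, 8, 4, 8, 7, 10, 8, 2, 15, 4, 6] [] [⟨434, [12, 6, 10, 8, 6, 10, 8, 4, 8, 2, 6, 10, 4, 7], [269]⟩, ⟨137, [8, 6, 10, 8, 4, 8, 12, 8, 10], []⟩, ⟨473, [8, 7, 10, 8, 6, 10, 4, 2, 8, 6, 10, 6], []⟩],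
  .tm 1 [10, 8, 7, 10, 8, 10, 4, 8, 15, 4] [] [⟨483, [], []⟩],
  .tm 33 [8, 12, 8, 10, 8, 7, 10, 8, 10, 4, 8, 15, 6] [] [⟨483, [12, 8, 4, 8, 10, 8, 4, 8, 2, 10, 6], [267]⟩, ⟨137, [7, 10, 4, 8, 4], [268]⟩, ⟨155, [8, 4, 8, 10, 8, 6, 10, 8, 6, 10], []⟩],
  .tm 1 [8, 10, 8, 10, 4, 8] [] [⟨485, [], []⟩],
  .tm 23 [6, 10, 8, 4, 8, 10, 8, 2, 4, 6] [] [⟨465, [8, 12, 4, 8, 10, 8, 6, 10, 4, 2, 8, 6, 10], [269]⟩, ⟨137, [6, 10, 4, 8, 10, 4, 2], [266, 268, 266]⟩, ⟨329, [8, 6, 10, 8, 10, 4, 8, 2, 10, 6], []⟩],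
  .tm 1 [12, 8, 2, 15, 6] [] [⟨487, [], []⟩],
  .tm 23 [8, 7, 10, 8, 4, 8, 7, 10, 8, 4, 6] [] [⟨446, [12, 4, 8, 7, 10, 8, 6, 10, 4, 2, 8, 6, 10, 6], [269, 267]⟩, ⟨137, [10, 8, 6, 10, 4, 2, 8, 12], [268, 266]⟩, ⟨473, [10, 8, 7, 10, 8, 4, 8, 15, 6], []⟩],
  .tm 1 [8, 12, 4, 8, 10, 8, 4, 8, 7, 10, 8, 15, 4, 6] [] [⟨489, [], []⟩],
  .tm 23 [12, 8, 4, 8, 7, 10, 8, 2, 15, 4, 6] [] [⟨483, [12, 4, 8, 6, 10, 4, 8, 10, 7], [267]⟩, ⟨137, [8, 6, 10, 4, 2, 8, 7, 10, 4], [266]⟩, ⟨489, [12, 4, 8, 10, 8, 4, 8, 6, 10, 8, 0, 15, 4, 6], []⟩],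
  .tm 1 [8, 12, 4, 8, 10, 8, 7, 10, 8, 4, 6] [] [⟨491, [], []⟩],
  .tm 16 [10, 4, 8, 7, 10, 8, 4, 8, 15, 4, 6] [] [⟨419, [8, 12, 4, 8, 15, 4, 6], [267]⟩, ⟨137, [7, 10, 8, 12, 10, 4, 8, 0], [268, 266]⟩, ⟨295, [12, 8, 10, 8, 7, 10, 8, 4, 8, 0, 15, 4, 6], []⟩],
  .tm 1 [12, 7, 10, 4, 2, 8, 15, 4] [] [⟨493, [], []⟩],
  .tm 16 [8, 6, 10, 4, 8, 2, 10, 4] [] [⟨482, [12, 8, 10, 8, 4, 2, 8, 15, 4, 6], [269]⟩, ⟨137, [4, 8, 12, 8, 7, 10, 4, 2], [268, 266]⟩, ⟨305, [4, 8, 10, 8, 6, 10, 4, 8, 6, 10], []⟩],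
  .tm 1 [12, 8, 10, 8, 6] [] [⟨495, [], []⟩],
  .tm 16 [12, 4, 8, 7, 10, 8, 2, 15, 4, 7] [] [⟨457, [10, 8, 4, 8, 10, 8, 7, 10, 8, 10, 4, 6], [267]⟩, ⟨137, [6, 10, 8, 4, 8, 10, 4, 2], []⟩, ⟨466, [4, 8, 10, 4, 8, 7, 10, 8, 0, 15], []⟩],
  .tm 1 [12, 8, 10, 8, 4, 8, 6, 10, 8, 6, 10, 6] [] [⟨497, [], []⟩],
  .tm 16 [8, 12, 8, 4, 8, 10, 4, 8, 6, 10, 8, 6, 10, 4, 6] [] [⟨495, [10, 8, 10, 8, 4, 8, 4, 6], [269, 267]⟩, ⟨137, [10, 8, 6, 10, 8, 12, 8, 2], []⟩, ⟨389, [8, 12, 4, 8, 10, 8, 6, 10, 4, 8, 6, 10, 7], []⟩],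
  .tm 1 [2, 8, 15, 4] [] [⟨499, [], []⟩],
  .tm 16 [8, 10, 4, 8, 7, 10, 8, 15, 4, 7] [] [⟨380, [12, 8, 10, 8, 4, 8, 6], [267, 269]⟩, ⟨137, [4, 8, 12, 2, 8, 7, 10, 4], [268, 266]⟩, ⟨305, [8, 4, 8, 10, 8, 6, 10, 4, 8, 6, 10], []⟩],
  .tm 1 [12, 8, 10, 4, 8, 6, 10, 4, 8, 10, 7] [] [⟨501, [], []⟩],
  .tm 16 [4, 8, 4, 8, 10, 8, 6, 10, 8, 6, 10, 4, 6] [] [⟨312, [8, 12, 10, 8, 7, 10, 8, 6, 10, 4, 8, 4, 6], [269, 267]⟩, ⟨137, [8, 12, 8, 10, 4, 8, 10, 4], [268]⟩, ⟨397, [8, 4, 8, 10, 8, 7, 10, 8, 0, 10, 4], []⟩],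
  .tm 1 [8, 12, 10, 4, 8, 7, 10, 8, 6, 10, 8, 15] [] [⟨503, [], []⟩],
  .tm 16 [12, 10, 8, 4, 8, 10, 8, 10, 6] [] [⟨380, [6, 10, 8, 4, 8, 6, 10, 8, 6, 10, 4, 7], [267, 269, 267]⟩, ⟨137, [8, 4, 8, 6, 10, 8, 10, 4], []⟩, ⟨467, [12, 8, 6, 10, 8, 4, 8, 7, 10, 8, 15, 4, 7], []⟩],
  .tm 1 [12, 8, 10, 8, 7, 10, 8, 4, 8, 2, 15] [] [⟨505, [], []⟩],
  .tm 16 [8, 12, 4, 8, 6, 10, 4, 8, 4, 6] [] [⟨453, [8, 7, 10, 8, 4, 8, 0], [267, 269, 267]⟩, ⟨137, [7, 10, 4, 2, 8, 12, 10, 4], [268]⟩, ⟨303, [12, 8, 0, 10], []⟩],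
  .tm 1 [8, 7, 10, 8, 6, 10, 4, 8, 7, 10, 8, 10, 4] [] [⟨507, [], []⟩],
  .tm 16 [6, 10, 4, 8, 10] [] [⟨481, [8, 6, 10, 8, 10, 4, 7], [267, 269, 267]⟩, ⟨137, [10, 8, 7, 10, 8, 12, 2, 8], []⟩, ⟨389, [8, 12, 8, 10, 8, 10, 4, 8, 6, 10, 8, 10, 4, 6], []⟩],
  .tm 1 [8, 12, 4, 8, 6, 10, 8, 7, 10, 8, 10, 6] [] [⟨509, [], []⟩],
  .tm 32 [4, 8, 6, 10, 8, 7, 10, 4, 8, 2, 15, 7] [] [⟨470, [4, 8, 10, 4, 8, 6, 10, 8, 2, 6, 10, 4, 7], [267, 269]⟩, ⟨137, [10, 4, 8, 10, 4], []⟩, ⟨507, [4, 8, 7, 10, 4, 8, 10, 6], []⟩],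
  .tm 1 [8, 12, 8, 10, 8, 4] [] [⟨511, [], []⟩],
  .tm 32 [12, 10, 2, 8, 6, 10, 6] [] [⟨509, [10, 8, 10, 4, 8, 6, 10, 8, 7, 10, 8, 15, 4, 6], [269]⟩, ⟨137, [8, 12, 4, 8, 7, 10, 2], [268]⟩, ⟨512, [4, 2, 8, 4, 7], []⟩],
  .tm 1 [10, 8, 4, 8, 2, 15, 4, 7] [] [⟨513, [], []⟩],
  .tm 34 [12, 10, 8, 6, 10, 8, 0, 10, 4] [] [⟨451, [8, 6, 10, 8, 4, 6], [269, 267]⟩, ⟨137, [8, 4, 8, 6, 10, 2], [266, 268, 266]⟩, ⟨511, [4, 8, 10, 4, 8, 7, 10, 8, 15], []⟩],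
  .tm 1 [8, 12, 8, 10, 8, 7, 10, 8, 0, 10, 7] [] [⟨515, [], []⟩],
  .tm 35 [12, 4, 8, 10, 8, 6, 10, 8, 2, 10, 7] [] [⟨509, [10, 8, 10, 4, 8, 6, 10, 8, 7, 10, 8, 15, 4, 6], [269]⟩, ⟨137, [8, 12, 4, 8, 7, 10, 2], []⟩, ⟨159, [10, 4, 8, 6, 10, 4, 8, 2, 7], []⟩],
  .tm 1 [8, 12, 10, 8, 6, 10, 8, 10, 4, 8, 15] [] [⟨517, [], []⟩],
  .tm 26 [12, 8, 10, 8, 4, 8, 7, 10, 8, 10, 7] [] [⟨509, [12, 10, 8, 7, 10, 4, 8, 6, 10, 8, 15, 4, 6], []⟩, ⟨137, [12, 7, 10, 8, 4, 8, 12, 4, 0], []⟩, ⟨476, [12, 10, 8, 7, 10, 8, 6, 10, 8, 15], []⟩],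
  .tm 1 [8, 4, 8, 0, 4, 6] [] [⟨519, [], []⟩],
  .tm 26 [8, 12, 4, 8, 7, 10, 8, 4, 8, 2, 6, 10] [] [⟨393, [12, 4, 8, 7, 10, 8, 4, 8, 10, 4, 7], [269, 267]⟩, ⟨137, [4, 8, 10, 8, 12, 4, 8, 10, 0], [266, 268]⟩, ⟨507, [12, 4, 8, 6, 10, 8, 4, 8, 15, 4], []⟩],
  .tm 1 [12, 10, 8, 4, 8, 7, 10, 8, 2, 6, 10] [] [⟨521, [], []⟩]]

theorem fc432 : checkL (nat_lit 12) (nat_lit 4095) tH tK tK' BB FF TM XW d432 (nat_lit 432) = true := by decide +kernel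

def d523 : List Der := [.tm 26 [12, 8, 0, 6, 10, 4, 6] [] [⟨465, [12, 8, 10, 8, 7, 10, 8, 6, 10, 8, 4, 6], [269]⟩, ⟨137, [6, 10, 8, 7, 10, 8, 7, 10, 2], [268, 266]⟩, ⟨504, [7, 10, 8, 6, 10, 4, 8, 7, 10, 8, 6, 10], []⟩],
  .tm 1 [8, 12, 7, 10, 2, 8, 7] [] [⟨523, [], []⟩],
  .tm 26 [12, 8, 7, 10, 8, 7, 10, 8, 4, 8, 2, 6, 10, 7] [] [⟨483, [8, 12, 8, 10, 8, 7, 10, 4, 8, 6, 10, 8, 2, 15, 4, 7], [267, 269]⟩, ⟨137, [8, 12, 4, 8, 7, 10, 2, 8, 4], []⟩, ⟨487, [8, 12, 10, 4, 8, 6, 10, 8, 0, 15], []⟩],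
  .tm 1 [8, 6, 10, 8, 15, 4] [] [⟨525, [], []⟩],
  .tm 26 [12, 10, 4, 8, 6, 10, 8, 7, 10, 4, 8, 2, 6, 10, 4] [] [⟨465, [8, 10, 8, 6, 10, 8, 7, 10, 8, 2, 4, 6], [267]⟩, ⟨137, [10, 4, 8, 7, 10, 4, 8, 12, 4, 0], [268, 266]⟩, ⟨512, [10, 8, 7, 10, 8, 6, 10, 8, 15, 4], []⟩],
  .tm 1 [8, 7, 10, 8, 6, 10, 8, 7, 10, 4, 8, 6, 10, 7] [] [⟨527, [], []⟩],
  .tm 26 [8, 12, 10, 8, 6, 10, 4, 8, 7, 10, 8, 2, 15, 6] [] [⟨472, [10, 8, 6, 10, 8, 7, 10, 8, 2, 10], [267, 269]⟩, ⟨137, [2], [268]⟩, ⟨506, [8, 4, 8, 10, 8, 4, 8, 10, 4], []⟩],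
  .tm 1 [12, 8, 7, 10, 8, 6, 10, 4, 8, 2, 6, 10, 4] [] [⟨529, [], []⟩],
  .tm 26 [8, 12, 4, 8, 7, 10, 8, 4, 8, 2, 15, 7] [] [⟨443, [8, 12, 8, 7, 10, 8, 4, 8, 0, 15, 4, 7], [267, 269]⟩, ⟨137, [10, 8, 4, 8, 10, 8, 4], [268, 266]⟩, ⟨507, [12, 8, 10, 8, 4, 8, 6, 10, 2, 8, 7], []⟩],
  .tm 36 [12, 10, 8, 10, 8, 4, 8, 7, 10, 8, 2, 6, 10, 6] [] [⟨529, [12, 10, 8, 6, 10, 4, 8, 2, 15, 4, 6], [269]⟩, ⟨137, [4, 8, 12, 7, 10, 8, 6, 10, 4], [266]⟩, ⟨303, [12, 8, 4, 8, 6, 10, 8, 7, 10, 8, 6, 10, 4], []⟩],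
  .tm 1 [6, 10, 8, 7, 10, 4, 8, 6] [] [⟨532, [], []⟩],
  .tm 27 [12, 10, 8, 10, 4, 8, 7, 10, 8, 6, 10, 8, 15] [] [⟨386, [8, 12, 4, 8, 10, 8, 4, 8, 10], [267, 269, 267]⟩, ⟨137, [12, 8, 10, 8, 4, 8, 10], [266]⟩, ⟨474, [8, 12, 6, 10, 8, 4, 2, 8, 10, 4, 7], []⟩],
  .tm 1 [8, 12, 7, 10, 8, 4, 8, 7, 10, 8, 2, 4, 7] [] [⟨534, [], []⟩],
  .tm 27 [12, 8, 7, 10, 8, 4, 8, 6, 10, 8, 0, 10, 6] [] [⟨521, [12, 7, 10, 8, 6, 10, 4, 8, 7, 10, 8], [267, 269]⟩, ⟨137, [8, 4, 8, 7, 10, 8, 12, 2], [266]⟩, ⟨505, [12, 8, 10, 4, 8, 6, 10, 8, 7, 10, 8, 2, 6, 10, 7], []⟩],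
  .tm 1 [10, 8, 7, 10, 4, 2, 8, 15, 4] [] [⟨536, [], []⟩],
  .tm 27 [8, 12, 4, 8, 10, 4, 8, 4] [] [⟨531, [8, 10, 8, 10, 7], [267, 269]⟩, ⟨137, [8, 4, 8, 7, 10, 8, 4, 8, 4], []⟩, ⟨294, [0, 6, 10, 6], []⟩],
  .tm 1 [12, 4, 8, 6, 10, 8, 7, 10, 4, 2, 8, 10, 4, 7] [] [⟨538, [], []⟩],
  .tm 27 [12, 8, 4, 8, 7, 10, 2, 8, 15, 4] [] [⟨495, [12, 7, 10, 8, 6, 10, 4, 8, 7, 10, 8, 4, 6], [269]⟩, ⟨137, [8, 4, 8, 7, 10, 8, 12, 2, 8], [266]⟩, ⟨505, [8, 4, 8, 2, 4], []⟩],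
  .tm 1 [12, 10, 8, 4, 8, 10, 8, 7, 10, 8, 0, 15, 7] [] [⟨540, [], []⟩],
  .tm 9 [4, 8, 6, 10, 8, 0, 4, 6] [] [⟨442, [7, 10, 8, 6, 10, 4, 8, 7, 10, 8, 6, 10, 4, 7], [269]⟩, ⟨138, [8, 12, 7, 10, 4], []⟩],
  .tm 1 [10, 8, 10, 7] [] [⟨542, [], []⟩],
  .tm 6 [8, 4, 8, 7, 10, 8, 4, 8, 2, 10, 7] [] [⟨155, [8, 12, 8, 7, 10, 8, 4, 8, 6, 10, 8, 4, 7], [267]⟩, ⟨138, [12, 6, 10], [266, 268, 266]⟩, ⟨509, [8, 4, 8, 10, 8, 4, 8, 2, 10], []⟩],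
  .tm 1 [8, 12, 8, 7, 10, 8, 4, 8, 6, 10, 6] [] [⟨544, [], []⟩],
  .tm 6 [10, 8, 7, 10, 2, 8, 6, 10, 4, 7] [] [⟨159, [12, 8, 10, 8, 6, 10, 8, 4, 8, 2, 15, 4, 6], []⟩, ⟨138, [8, 12, 10, 2], [268]⟩, ⟨483, [12, 7, 10, 4, 8, 10, 4, 6], []⟩],
  .tm 1 [8, 12, 4, 8, 7, 10, 8, 0, 10, 4, 7] [] [⟨546, [], []⟩],
  .tm 22 [12, 8, 7, 10, 4, 8, 10, 4, 7] [] [⟨303, [12, 4, 8, 10, 8, 7, 10, 2, 8, 10, 4, 7], []⟩, ⟨138, [8, 7, 10, 8, 10, 4, 8, 6, 10], [268]⟩, ⟨529, [8, 12, 10, 8, 4, 8, 10, 8, 6, 10, 8, 0], []⟩],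
  .tm 1 [8, 6, 10, 8, 7, 10, 4, 8, 6, 10, 8, 10, 4] [] [⟨548, [], []⟩],
  .tm 11 [8, 6, 10, 8, 7, 10, 8, 2, 6, 10, 7] [] [⟨527, [8, 12, 8, 7, 10, 8, 7, 10, 8, 4, 8, 10, 4, 7], [267, 269, 267]⟩, ⟨138, [8, 6, 10, 4, 2, 8, 6, 10, 4], []⟩, ⟨483, [12, 4, 8, 10, 8, 4, 8, 10, 7], []⟩],
  .tm 1 [8, 7, 10, 2, 8, 6, 10, 4] [] [⟨550, [], []⟩],
  .tm 17 [8, 10, 8, 6, 10, 8, 2, 15, 6] [] [⟨306, [4, 8, 10, 8, 4, 8, 7, 10, 8, 15, 7], [167, 217, 167]⟩, ⟨139, [4, 8, 12, 7, 10, 2], []⟩, ⟨161, [4, 8, 10, 8, 7, 10, 4, 8, 0, 4], []⟩],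
  .tm 1 [10, 8, 7, 10, 8, 2, 15, 4] [] [⟨552, [], []⟩],
  .tm 17 [8, 12, 4, 8, 10, 4, 8, 7, 10, 8, 6, 10, 4, 6] [] [⟨430, [10, 8, 4, 8, 10, 8, 2, 10], [217, 167, 216]⟩, ⟨139, [12, 10, 4, 8, 10, 2], [266, 268]⟩, ⟨172, [10, 8, 4, 8, 10, 4], []⟩],
  .tm 1 [8, 12, 6, 10, 8, 7, 10, 4, 2, 8, 10, 4] [] [⟨554, [], []⟩],
  .tm 17 [12, 6, 10, 8, 7, 10, 8, 4, 8, 0, 15, 4] [] [⟨175, [4, 8, 10, 8, 7, 10, 4, 8, 15, 7], [169, 167, 217, 167]⟩, ⟨139, [8, 12, 10, 8, 10, 2], [268]⟩, ⟨167, [8, 4, 8, 10, 8, 4, 8, 2, 10], []⟩],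
  .tm 1 [8, 12, 10, 8, 6, 10, 8, 7, 10, 4, 8, 0, 6, 10, 4, 7] [] [⟨556, [], []⟩],
  .tm 17 [12, 8, 6, 10, 4, 8, 2, 10, 4, 6] [] [⟨336, [8, 6, 10, 4, 8, 7, 10, 8, 2, 15, 4, 6], [167, 217]⟩, ⟨139, [8, 4, 8, 12, 10, 2], [266, 268]⟩, ⟨167, [8, 10, 4, 8, 6, 10, 8, 4, 8, 6, 10, 6], []⟩],
  .tm 1 [10, 8, 6, 10, 8, 15, 4] [] [⟨558, [], []⟩],
  .tm 17 [12, 8, 7, 10, 8, 4, 8, 10, 8, 4, 6] [] [⟨179, [10, 4, 8, 7, 10, 2, 8, 15, 4], [169, 167, 217, 167, 169]⟩, ⟨139, [10, 8, 10, 4, 8, 4], []⟩, ⟨167, [4, 8, 7, 10, 8, 0, 10, 4, 6], []⟩],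
  .tm 1 [8, 12, 4, 8, 10, 8, 7, 10, 8, 6, 10, 4] [] [⟨560, [], []⟩],
  .tm 17 [8, 12, 4, 8, 7, 10, 8, 4, 8, 6, 10, 7] [] [⟨164, [8, 12, 8, 10, 8, 6, 10, 8, 4, 8, 10, 4], [167, 169, 216, 167, 217]⟩, ⟨139, [12, 10, 8, 10, 8, 4], [266, 268]⟩, ⟨172, [7, 10, 8, 6, 10, 4, 8, 2, 6, 10, 4, 7], []⟩],
  .tm 1 [4, 8, 10, 8, 6, 10, 4, 8, 10, 7] [] [⟨562, [], []⟩],
  .tm 17 [8, 4, 8, 10, 8, 7, 10, 4, 8, 15, 4, 7] [] [⟨267, [10, 8, 4, 8, 15, 4, 7], [167, 169, 216, 167, 217]⟩, ⟨139, [8, 12, 8, 10, 8, 4], [268]⟩, ⟨172, [10, 8, 4, 8, 6, 10, 8, 0, 6, 10, 4, 6], []⟩],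
  .tm 1 [8, 10, 8, 6, 10, 2, 8, 6, 10, 7] [] [⟨564, [], []⟩],
  .tm 17 [12, 6, 10, 8, 10, 4, 6] [] [⟨166, [10, 8, 4, 8, 10, 8, 6, 10, 8, 10, 4], [167, 216]⟩, ⟨139, [12, 8, 4, 8, 10, 4], [266, 268]⟩, ⟨167, [7, 10, 8, 6, 10, 4, 2, 8, 6, 10, 4, 7], []⟩],
  .tm 1 [8, 12, 8, 4, 8, 10, 4, 8, 7, 10, 8, 6, 10] [] [⟨566, [], []⟩],
  .tm 17 [7, 10, 8, 10, 8, 4, 8, 7, 10, 8, 10, 4] [] [⟨88, [12, 10, 8, 6, 10, 4, 8, 6], [217]⟩, ⟨139, [12, 7, 10, 8, 7, 10], [266, 268]⟩, ⟨167, [8, 10, 8, 10, 4, 8, 4, 6], []⟩],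
  .tm 1 [6, 10, 8, 7, 10, 8, 15, 6] [] [⟨568, [], []⟩],
  .tm 17 [12, 4, 8, 6, 10, 4, 8, 4, 6] [] [⟨321, [12, 7, 10, 8, 6, 10, 8, 2, 10, 7], [167, 217, 167, 216]⟩, ⟨139, [8, 12, 4, 8, 7, 10, 2], [266]⟩, ⟨151, [12, 8, 7, 10, 8, 6, 10, 4, 8, 0, 15, 4, 6], []⟩],
  .tm 1 [12, 4, 8, 6, 10, 8, 0, 6, 10, 7] [] [⟨570, [], []⟩],
  .tm 17 [8, 4, 8, 10, 8, 7, 10, 8, 2, 15, 4] [] [⟨400, [7, 10, 8, 7, 10, 8, 4, 8, 2, 10, 6], [169, 167, 216, 167]⟩, ⟨139, [8, 12, 10, 8, 10, 4, 8, 4], [268]⟩, ⟨167, [10, 8, 4, 8, 2, 10, 4], []⟩],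
  .tm 1 [12, 4, 8, 7, 10, 8, 0, 10, 4, 7] [] [⟨572, [], []⟩],
  .tm 17 [4, 8, 10, 4, 8, 6, 10, 8, 0, 6, 10, 7] [] [⟨95, [10, 8, 4, 8, 6, 10, 8, 0, 10, 4], [167, 216, 167, 169]⟩, ⟨139, [2], []⟩, ⟨167, [8], []⟩],
  .tm 1 [8, 10, 4, 8, 6, 10, 8, 2, 6, 10, 4] [] [⟨574, [], []⟩],
  .tm 37 [8, 12, 7, 10, 8, 6, 10, 4, 8, 2, 10, 6] [] [⟨306, [8, 6, 10, 8, 6, 10, 8, 4, 8, 6, 10, 4], [167, 217, 167, 169]⟩, ⟨139, [8, 7, 10], [266, 268]⟩, ⟨187, [8, 10, 8, 7, 10, 8, 6, 10, 4, 8, 6, 10, 4, 6], []⟩],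
  .tm 1 [8, 10, 8, 10, 4, 8, 2, 10, 6] [] [⟨576, [], []⟩],
  .tm 20 [8, 12, 8, 10, 4, 8, 6, 10, 8, 7, 10, 4, 8, 7] [] [⟨164, [8, 12, 10, 8, 7, 10, 8, 6, 10, 4, 2, 8, 6, 10, 4], [167, 169, 216, 167, 217]⟩, ⟨139, [12, 10, 8, 10, 8], [266, 268]⟩, ⟨168, [4, 8, 10, 8, 4, 8, 10], []⟩],
  .tm 1 [12, 6, 10, 8, 4, 8, 7, 10, 8, 2, 15, 7] [] [⟨578, [], []⟩],
  .tm 20 [8, 12, 10, 4, 8, 7, 10, 8, 0, 15] [] [⟨267, [8, 7, 10, 8, 7, 10, 4, 8, 2, 6, 10, 4, 7], [167, 169, 216, 167, 217]⟩, ⟨139, [8, 12, 8, 10, 8], [268]⟩, ⟨168, [7, 10, 8, 6, 10, 8, 4, 8, 0, 6, 10, 4, 7], []⟩],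
  .tm 1 [8, 12, 8, 10, 8, 4, 8, 2, 4] [] [⟨580, [], []⟩],
  .tm 20 [8, 12, 10, 4, 8, 7, 10, 8, 4, 8, 2, 7] [] [⟨306, [8, 10, 8, 7, 10, 8, 10, 4, 8, 2, 6, 10, 4], [167, 217, 167, 169]⟩, ⟨139, [8, 7, 10, 4, 8, 2], [268, 266]⟩, ⟨151, [12, 7, 10, 8, 6, 10, 8, 4, 8, 0, 15, 4, 6], []⟩],
  .tm 1 [8, 4, 8, 10, 8, 15, 4] [] [⟨582, [], []⟩],
  .tm 20 [8, 12, 8, 7, 10, 8, 6, 10, 4, 8, 6, 10, 7] [] [⟨583, [12, 10, 8, 10, 4, 8, 6, 10, 2, 8, 10, 4], [169]⟩, ⟨139, [12, 10, 8, 7, 10, 4], []⟩, ⟨151, [12, 7, 10, 8, 15, 7], []⟩],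
  .tm 1 [12, 8, 4, 2, 8, 6, 10, 4] [] [⟨584, [], []⟩],
  .tm 20 [8, 10, 8, 6, 10, 8, 10, 4, 8, 2, 10, 4, 6] [] [⟨309, [10, 8, 4, 8, 7, 10, 8, 0, 10], [167, 169, 216, 167, 169]⟩, ⟨139, [12, 10, 4, 8, 10, 4], [266, 268]⟩, ⟨168, [8, 7, 10, 8, 6, 10, 4, 8, 0, 6, 10, 4, 7], []⟩],
  .tm 1 [12, 7, 10, 8, 4, 8, 6, 10, 8, 0, 4, 6] [] [⟨586, [], []⟩],
  .tm 20 [12, 4, 8, 7, 10, 8, 2, 10, 4, 7] [] [⟨430, [8, 7, 10, 8, 6, 10, 4, 8, 7, 10, 8], [217, 167, 216]⟩, ⟨139, [12, 6, 10, 8, 10, 8], [266, 268]⟩, ⟨168, [10, 8, 10, 4, 8, 7, 10, 8, 0, 10, 4, 7], []⟩],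
  .tm 1 [8, 10, 4, 8, 6, 10, 8, 7, 10, 8, 10, 4] [] [⟨588, [], []⟩],
  .tm 20 [8, 12, 8, 6, 10, 8, 10, 4, 8, 6, 10, 4] [] [⟨321, [12, 4, 8, 6, 10, 8, 0, 15, 4, 7], [169, 167, 216, 167, 217]⟩, ⟨139, [4, 8, 12, 8, 7, 10], []⟩, ⟨161, [10, 8, 6, 10, 8, 4, 2, 8, 15, 7], []⟩],
  .tm 1 [8, 12, 10, 4, 8, 7, 10, 8, 4, 8, 10, 4, 6] [] [⟨590, [], []⟩],
  .tm 21 [12, 4, 8, 10, 8, 7, 10, 4, 8, 0, 15, 4, 7] [] [⟨336, [8, 6, 10, 8, 4, 8, 0, 10, 4, 6], [167, 217, 167, 169]⟩, ⟨139, [6, 10, 8, 10, 2], []⟩, ⟨573, [12, 8, 7, 10, 8, 4, 8, 10, 8, 2, 6], []⟩],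
  .tm 1 [12, 4, 8, 10, 8, 4, 8, 6, 10, 8, 4] [] [⟨592, [], []⟩],
  .tm 21 [8, 12, 10, 8, 0] [] [⟨306, [8, 10, 4, 8, 6, 10, 8, 7, 10, 8, 6, 10, 4, 7], [167, 169, 217, 167, 169]⟩, ⟨139, [7, 10, 4, 8, 4], [268]⟩, ⟨358, [6, 10, 8, 7, 10, 8, 4, 2, 8, 15, 6], []⟩],
  .tm 1 [12, 10, 8, 7, 10, 8, 4, 8, 2] [] [⟨594, [], []⟩],
  .tm 21 [8, 12, 4, 8, 10, 8, 7, 10, 8, 0, 6, 10, 7] [] [⟨585, [8, 12, 7, 10, 8, 6, 10, 8, 4, 8, 6, 10, 4], [167]⟩, ⟨139, [4, 8, 12, 7, 10], [266, 268, 266]⟩, ⟨189, [8, 6, 10, 8, 4, 8, 10, 8, 2, 15, 7], []⟩],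
  .tm 1 [12, 8, 7, 10, 8, 6, 10, 4, 8, 7, 10, 8, 15, 7] [] [⟨596, [], []⟩],
  .tm 21 [12, 6, 10, 8, 7, 10, 4, 8, 6, 10, 8, 2, 15, 7] [] [⟨175, [10, 4, 8, 7, 10, 4, 8, 15, 7], [169, 167, 217]⟩, ⟨139, [12, 10, 4, 8, 4, 2], [266, 268]⟩, ⟨567, [8, 7, 10, 8, 6, 10, 4, 2, 8, 6, 10, 4, 7], []⟩],
  .tm 1 [12, 8, 10, 8, 6, 10, 4, 8, 0, 15, 4, 7] [] [⟨598, [], []⟩],
  .tm 21 [6, 10, 8, 6, 10, 4, 8, 7] [] [⟨583, [12, 7, 10, 8, 6, 10, 8, 4, 8, 6, 10, 4], [167]⟩, ⟨139, [4, 8, 12, 7, 10, 2], [266, 268, 266]⟩, ⟨187, [8, 6, 10, 8, 4, 8, 10, 8, 2, 15, 7], []⟩],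
  .tm 1 [12, 6, 10, 8, 10, 8, 4, 8, 6, 10, 8, 6] [] [⟨600, [], []⟩],
  .tm 31 [7, 10, 8, 6, 10, 8, 2, 10] [] [⟨583, [12, 8, 4, 8, 10, 8, 6, 10, 4, 8, 2, 6, 10, 4], [169]⟩, ⟨139, [8, 4, 8, 12, 6, 10], [266]⟩, ⟨189, [6, 10, 8, 2, 6, 10, 7], []⟩],
  .tm 1 [12, 8, 10, 8, 10, 4, 8, 6, 10, 8, 15, 4, 7] [] [⟨602, [], []⟩],
  .tm 31 [12, 8, 4, 8, 10, 4, 8, 7, 10, 8, 6, 10, 4, 6] [] [⟨306, [4], [167, 169, 217, 167]⟩, ⟨139, [4, 8, 12, 8, 7, 10], [266, 268, 266]⟩, ⟨359, [8, 6, 10, 8, 7, 10, 4, 8, 6, 10, 8, 4, 6], []⟩],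
  .tm 1 [8, 12, 4, 8, 6, 10, 8, 4, 8, 6, 10, 4] [] [⟨604, [], []⟩],
  .tm 31 [8, 7, 10, 8, 6, 10, 4, 8, 10] [] [⟨585, [8, 12, 4, 8, 10, 8, 6, 10, 4, 8, 2, 6, 10, 4], [169]⟩, ⟨139, [8, 4, 8, 12, 6, 10, 2], [266]⟩, ⟨187, [10, 8, 7, 10, 2, 8, 10, 7], []⟩],
  .tm 1 [4, 8, 6, 10, 8, 4, 8, 2, 15] [] [⟨606, [], []⟩]]

theorem fc523 : checkL (nat_lit 12) (nat_lit 4095) tH tK tK' BB FF TM XW d523 (nat_lit 523) = true := by decide +kernel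

def d608 : List Der := [.tm 31 [4, 8, 10, 4, 8, 7, 10, 8, 0, 6, 10, 6] [] [⟨400, [8, 4, 8, 10, 8, 6, 10, 4, 8, 0, 6], [169, 167, 216, 167, 169]⟩, ⟨139, [], []⟩, ⟨575, [2, 0], []⟩],
  .tm 1 [6, 10, 8, 4, 8, 7, 10, 8, 0, 15, 4, 7] [] [⟨608, [], []⟩],
  .tm 22 [10, 4, 8, 6, 10, 8, 4] [] [⟨583, [12, 10, 4, 8, 7, 10, 8, 6, 10, 8, 2, 15, 4, 7], [169, 167]⟩, ⟨139, [8, 12, 4, 8, 7, 10, 4, 2], [268]⟩, ⟨590, [8, 10, 4, 8, 6, 10, 8, 4, 8, 2, 6, 10, 4, 7], []⟩],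
  .tm 1 [4, 8, 10, 8, 7, 10, 4, 2, 8, 4, 6] [] [⟨610, [], []⟩],
  .tm 22 [12, 8, 7, 10, 8, 6, 10, 4, 8, 2, 6, 10, 4, 7] [] [⟨585, [8, 12, 7], [167]⟩, ⟨139, [8, 12, 8, 10, 8, 6, 10, 2], [268]⟩, ⟨307, [10, 8, 4, 8, 7, 10, 8, 0, 15, 4, 7], []⟩],
  .tm 1 [8, 7, 10, 8, 6, 10, 8, 2, 15, 6] [] [⟨612, [], []⟩],
  .tm 22 [12, 6, 10, 4, 8, 7, 10, 8, 15] [] [⟨306, [8, 0, 7], [167, 217, 167]⟩, ⟨139, [8, 12, 6, 10, 8, 7, 10, 2], []⟩, ⟨377, [8, 12, 4, 8, 10, 4, 8, 7, 10, 8, 0, 15, 4, 7], []⟩],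
  .tm 1 [8, 6, 10, 8, 6, 10, 4, 8, 2, 6, 10, 6] [] [⟨614, [], []⟩],
  .tm 22 [8, 12, 10, 8, 4, 8, 10, 8, 7, 10, 8, 10, 4, 7] [] [⟨166, [6, 10, 8, 4, 8, 0, 10, 4, 6], [167, 216, 167]⟩, ⟨139, [10, 8, 12, 7, 10, 8, 10, 2], []⟩, ⟨526, [8, 10, 8, 7, 10, 8, 10, 4, 8, 6, 10, 4, 7], []⟩],
  .tm 1 [6, 10, 8, 4, 8, 0, 6, 10, 4] [] [⟨616, [], []⟩],
  .tm 22 [8, 4, 8, 10, 2, 8, 6, 10, 4, 6] [] [⟨400, [8, 7, 10, 4, 8, 6, 10, 8, 10, 7], [169, 167, 216, 167]⟩, ⟨139, [10, 4, 8, 12, 10, 8, 10, 2], [266, 268]⟩, ⟨278, [4, 8, 0, 4], []⟩],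
  .tm 1 [8, 12, 8, 6, 10, 8, 6, 10, 4, 8, 15, 4, 7] [] [⟨618, [], []⟩],
  .tm 22 [4, 8, 10, 8, 7, 10, 8, 2, 15, 4, 7] [] [⟨613, [12, 8, 7, 10, 8, 4, 8, 0, 6, 10, 4, 7], [167, 169, 167, 216, 167]⟩, ⟨139, [8, 7, 10, 4, 8, 12, 10, 2], [268]⟩, ⟨384, [8, 7, 10, 8, 6, 10, 8, 10, 7], []⟩],
  .tm 1 [12, 8, 6, 10, 8, 6, 10, 8, 4, 8, 15, 4, 6] [] [⟨620, [], []⟩],
  .tm 22 [8, 12, 8, 10, 4, 8, 15] [] [⟨306, [8, 4, 8, 7, 10, 8, 6, 10, 4, 8, 2, 6, 10], [167, 169, 217, 167, 169]⟩, ⟨139, [8, 4, 8, 10, 8, 6, 10, 4], [268, 266]⟩, ⟨526, [8, 12, 8, 6, 10, 4, 8], []⟩],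
  .tm 1 [7, 10, 4, 8, 6, 10, 8, 10, 4, 7] [] [⟨622, [], []⟩],
  .tm 22 [6, 10, 8, 2, 10, 6] [] [⟨613, [12, 8, 4, 8, 10, 4, 8, 7, 10, 8, 6], [167, 169, 167, 216, 167, 169]⟩, ⟨139, [12, 4, 8, 10, 8, 6, 10, 4], []⟩, ⟨547, [8, 12, 10, 8, 7, 10, 8, 10, 4, 8, 7], []⟩],
  .tm 1 [10, 8, 10, 4, 8, 7, 10, 2, 8, 10, 4, 7] [] [⟨624, [], []⟩],
  .tm 22 [12, 8, 4, 8, 10, 2, 8, 6, 10] [] [⟨583, [12, 6], [169]⟩, ⟨139, [8, 10, 8, 12, 10, 8, 7, 10], []⟩, ⟨612, [12, 8, 7, 10, 8, 4, 8, 7, 10, 8, 6], []⟩],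
  .tm 1 [12, 10, 4, 8, 6, 10, 2, 8, 7] [] [⟨626, [], []⟩],
  .tm 22 [12, 7, 10, 8, 4, 8, 6, 10, 8, 10] [] [⟨625, [8, 7, 10, 8, 6, 10, 8, 15, 4], [167, 169, 217]⟩, ⟨139, [8, 12, 10, 8, 4, 2, 8, 10], [268, 266]⟩, ⟨478, [12, 8, 7, 10, 8, 6, 10, 8, 4, 8, 0, 6, 10, 4, 7], []⟩],
  .tm 1 [8, 12, 10, 8, 6, 10, 4, 8, 15, 7] [] [⟨628, [], []⟩],
  .tm 22 [8, 4, 8, 6, 10, 2, 8, 15, 6] [] [⟨267, [8, 4, 8, 7, 10, 8, 4, 8, 6, 10, 6], [167, 169, 167, 217, 167, 216]⟩, ⟨139, [4, 8, 12, 10, 8, 10, 8, 12], [266]⟩, ⟨278, [12, 10, 8, 6, 10, 8, 7, 10, 8, 6, 10, 4, 7], []⟩],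
  .tm 1 [8, 12, 10, 8, 6, 10, 4, 8, 2, 6] [] [⟨630, [], []⟩],
  .tm 22 [8, 10, 8, 6, 10, 8, 7, 10, 4, 8, 6, 10, 4] [] [⟨179, [8, 10, 8, 6, 10, 4, 8, 7, 10, 8, 6, 10, 4, 7], [169, 167, 217]⟩, ⟨139, [12, 7, 10, 4, 8, 7, 10, 8, 4], [266, 268, 266]⟩, ⟨612, [4, 8, 7, 10, 8, 6, 10, 8, 2, 6, 10], []⟩],
  .tm 1 [12, 8, 10, 8, 7, 10, 8, 4, 2, 8, 10, 6] [] [⟨632, [], []⟩],
  .tm 22 [12, 6, 10, 2, 8, 10, 6] [] [⟨613, [12, 8, 4, 8, 7, 10, 8, 6, 10, 8, 2, 4], [169, 167, 216]⟩, ⟨139, [12, 6, 10, 4, 8, 10, 8, 12, 4], [266, 268, 266]⟩, ⟨584, [8, 12, 6, 10, 8, 4, 8, 10, 8, 6, 10, 4, 6], []⟩],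
  .tm 1 [12, 7, 10, 8, 6, 10, 4, 8, 7, 10, 8, 7] [] [⟨634, [], []⟩],
  .tm 22 [10, 4, 8, 10, 7] [] [⟨179, [7, 10, 8, 4, 8, 7, 10, 8, 15, 4, 7], [169, 167, 217]⟩, ⟨139, [8, 4, 8, 12, 6, 10, 8, 6, 10, 0], [266, 268, 266]⟩, ⟨632, [8, 6, 10, 8, 4, 8, 2, 10, 4, 6], []⟩],
  .tm 1 [8, 12, 8, 10, 4, 8, 6, 10, 8, 15, 7] [] [⟨636, [], []⟩],
  .tm 22 [12, 4, 8, 10, 8, 6, 10, 4, 8, 6, 10, 4, 6] [] [⟨585, [8, 12, 8, 6], [167, 169, 167]⟩, ⟨139, [7, 10, 0], [268, 266]⟩, ⟨636, [12, 8, 7, 10, 8, 4, 8, 7, 10, 8, 6], []⟩],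
  .tm 1 [10, 8, 4, 8, 7, 10, 2, 8, 15, 4, 6] [] [⟨638, [], []⟩],
  .tm 22 [12, 4, 8, 4, 8, 7, 10, 8, 6, 10, 8, 4] [] [⟨637, [8, 10, 4, 8, 7, 10, 8, 4, 8, 2, 15, 6], [167, 169, 167, 216, 167, 169]⟩, ⟨139, [6, 10, 2, 8, 4], [266, 268, 266]⟩, ⟨590, [8, 12, 10, 8, 10, 4, 8, 10, 4], []⟩],
  .tm 1 [8, 12, 4, 8, 10, 8, 4, 8, 15, 6] [] [⟨640, [], []⟩],
  .tm 22 [12, 4, 8, 6, 10, 8, 7, 10, 4, 2, 8, 7] [] [⟨639, [12, 7, 10, 8, 4, 8, 0, 6], [169, 167, 216, 167]⟩, ⟨139, [10, 8, 7, 10, 4], [266, 268]⟩, ⟨548, [8, 12, 0, 10], []⟩],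
  .tm 1 [8, 12, 10, 4, 8, 7, 10, 4, 8, 2, 15, 4, 7] [] [⟨642, [], []⟩],
  .tm 11 [12, 6, 10, 8, 0, 6, 10, 7] [] [⟨625, [8, 4, 8, 10, 2, 8, 10, 6], [216, 167, 169]⟩, ⟨139, [7, 10, 2, 8, 6, 10], [268]⟩, ⟨620, [8, 6, 10, 8, 4, 8, 7, 10, 8, 15, 4], []⟩],
  .tm 1 [10, 8, 10, 4, 8, 7, 10, 8, 2, 10, 6] [] [⟨644, [], []⟩],
  .tm 11 [8, 12, 6, 10, 8, 7, 10, 8, 4, 8] [] [⟨259, [8, 12, 8, 10, 8, 6, 10, 8, 7, 10, 4, 8, 4, 7], [167, 217, 167]⟩, ⟨139, [8, 4, 8, 12, 6, 10], [266]⟩, ⟨187, [10, 8, 7, 10, 8, 2, 10, 7], []⟩],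
  .tm 1 [4, 8, 6, 10, 4, 8, 6, 10, 6] [] [⟨646, [], []⟩],
  .tm 11 [12, 4, 8, 10, 8, 6, 10, 8, 2, 15, 4, 6] [] [⟨544, [12, 6, 10, 8, 4, 8], [167, 169, 217]⟩, ⟨139, [4, 2, 8, 12, 7, 10], [266, 268, 266]⟩, ⟨187, [4, 8, 6, 10, 8, 7, 10, 4, 8, 2, 6, 10, 6], []⟩],
  .tm 1 [12, 8, 10, 8, 4, 8, 7, 10, 8, 0, 4, 6] [] [⟨648, [], []⟩],
  .tm 11 [7, 10, 8, 6, 10, 4, 8, 2, 6, 10, 4, 7] [] [⟨385, [8, 12, 8, 6, 10, 8, 7, 10, 4, 8, 0, 15, 4, 6], [169, 167]⟩, ⟨139, [8, 10, 8, 12, 8, 10], [266, 268]⟩, ⟨560, [12, 8, 10, 4, 8, 7, 10, 8, 6, 10, 4, 8, 15, 6], []⟩],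
  .tm 1 [8, 7, 10, 8, 4, 8, 6, 10, 8, 6, 10, 4, 6] [] [⟨650, [], []⟩],
  .tm 11 [12, 8, 4, 8, 6, 10, 8, 7, 10, 4, 8, 2, 6, 10, 4, 7] [] [⟨373, [8, 4, 8, 10, 8, 6, 10, 4, 8, 10, 6], [169, 167, 216, 167]⟩, ⟨139, [6, 10, 4, 8, 12, 10], []⟩, ⟨624, [10, 8, 6, 10, 2, 8, 6, 10, 6], []⟩],
  .tm 1 [8, 12, 8, 4, 8, 6, 10, 8, 2, 10, 4, 6] [] [⟨652, [], []⟩],
  .tm 11 [8, 10, 4, 8, 6, 10, 2, 8, 4, 6] [] [⟨243, [8, 12, 7, 10, 8, 6, 10, 4, 8, 2, 10, 4, 6], [167, 217, 167, 169]⟩, ⟨139, [10, 8, 6, 10, 4, 8, 0], [266, 268, 266]⟩, ⟨441, [8, 4, 8, 10, 8, 4, 8, 10, 7], []⟩],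
  .tm 1 [12, 8, 10, 4, 8, 6, 10, 8, 0, 6] [] [⟨654, [], []⟩],
  .tm 11 [8, 12, 8, 10, 8, 7, 10, 8, 4, 8, 0, 10, 4, 7] [] [⟨259, [8, 4, 8, 10, 8, 7, 10, 8, 0, 6, 10], [169, 217, 167, 169]⟩, ⟨139, [10, 8, 4, 8, 10, 8, 0], [268, 266]⟩, ⟨310, [8, 12, 8, 4, 8, 7, 10, 8, 6, 10, 4, 8, 2, 6, 10, 7], []⟩],
  .tm 1 [8, 12, 10, 8, 6, 10, 8, 7, 10, 4, 8, 0, 10, 4] [] [⟨656, [], []⟩],
  .tm 11 [12, 4, 8, 10, 8, 6, 10, 4, 2, 8, 6, 10, 4, 7] [] [⟨452, [6, 10, 8, 6, 10, 8, 4, 8, 2, 6, 10, 7], [169, 217]⟩, ⟨139, [4, 8, 12, 8, 6, 10, 0], [266, 268]⟩, ⟨652, [4, 8, 10, 4, 8, 7, 10, 8, 0, 15, 6], []⟩],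
  .tm 1 [12, 4, 8, 10, 4, 8, 7, 10, 8, 2, 10, 7] [] [⟨658, [], []⟩],
  .tm 11 [8, 12, 8, 10, 8, 4, 8, 10, 8, 2, 15, 4] [] [⟨613, [8, 12, 7, 10, 8, 4, 8, 10, 8, 2, 15, 7], [167, 216, 167, 217]⟩, ⟨139, [8, 10, 8, 12, 8, 10, 0], [266, 268]⟩, ⟨560, [12, 10, 4, 8, 7, 10, 8, 6, 10, 4, 8, 15, 6], []⟩],
  .tm 1 [8, 12, 10, 4, 8, 6, 10, 8, 4, 8, 2, 6, 10, 4, 6] [] [⟨660, [], []⟩],
  .tm 11 [8, 12, 7, 10, 8, 4, 8, 7, 10, 8, 15] [] [⟨625, [12, 6, 10, 8, 7, 10, 4, 8, 2, 6, 10, 7], [169, 216, 167]⟩, ⟨139, [8, 6, 10, 8, 4, 8, 2], []⟩, ⟨374, [12, 8, 7, 10, 8, 4, 8, 7, 10, 8, 15, 4, 7], []⟩],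
  .tm 1 [8, 12, 8, 10, 8, 6, 10, 2, 8, 6, 10] [] [⟨662, [], []⟩],
  .tm 11 [12, 8, 6, 10, 4, 8, 7, 10, 8, 2, 15, 7] [] [⟨518, [12, 8, 10, 8, 6, 10, 8, 10, 4, 8, 15, 4], [169, 167, 217, 167, 169]⟩, ⟨139, [10, 4, 8, 10, 4, 8, 2], []⟩, ⟨194, [12, 6, 10, 8, 4, 8, 10, 8, 4, 7], []⟩],
  .tm 1 [12, 8, 7, 10, 4, 8, 2, 7] [] [⟨664, [], []⟩],
  .tm 11 [12, 8, 10, 4, 8, 6, 10, 8, 7, 10, 4, 8, 2, 4, 7] [] [⟨420, [8, 12, 10, 4, 8, 7, 10, 4, 8, 10, 4, 6], [167, 169, 216]⟩, ⟨139, [4, 8, 10, 8, 6, 10, 2], [266, 268, 266]⟩, ⟨441, [10, 8, 7, 10, 8, 4, 8, 0, 15, 4, 6], []⟩],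
  .tm 1 [8, 12, 8, 10, 4, 8, 7, 10, 8, 4, 8, 2, 6, 10, 7] [] [⟨666, [], []⟩],
  .tm 11 [6, 10, 4, 7] [] [⟨430, [10, 8, 6, 10, 8, 4, 8, 2, 4, 7], [216, 167, 169]⟩, ⟨139, [12, 7, 10, 8, 7, 10, 2], [266, 268]⟩, ⟨573, [12, 6, 10, 8, 4, 8, 7, 10, 8, 0, 15, 4, 6], []⟩],
  .tm 1 [8, 12, 8, 6, 10, 8, 4, 8, 6, 10, 8, 2, 15, 4, 7] [] [⟨668, [], []⟩],
  .tm 11 [8, 12, 8, 4, 8, 10, 8, 7, 10, 4, 8, 2, 6, 10, 4, 7] [] [⟨315, [7, 10, 8, 10, 8, 4, 8, 7, 10, 8, 2, 4, 7], [217, 167, 216]⟩, ⟨139, [4, 8, 6, 10, 8, 10, 2], [268, 266]⟩, ⟨310, [8, 12, 7, 10, 8, 6, 10, 8, 4, 2, 8, 6, 10, 4], []⟩],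
  .tm 1 [8, 12, 8, 6, 10, 8, 7, 10, 8, 6, 10, 4, 8, 6, 10] [] [⟨670, [], []⟩],
  .tm 11 [7, 10, 8, 4, 8, 6, 10, 8, 2, 6, 10, 4, 6] [] [⟨518, [8, 12, 4, 8, 10, 8, 0, 6, 10], [167, 169, 217]⟩, ⟨139, [8, 12, 7, 10, 8, 10, 2], [268]⟩, ⟨557, [12, 8, 7, 10, 8, 6, 10, 8, 7, 10, 4, 8, 6, 10, 4, 7], []⟩],
  .tm 1 [8, 10, 4, 2, 8, 10, 4, 6] [] [⟨672, [], []⟩],
  .tm 11 [12, 8, 6, 10, 8, 7, 10, 4, 8, 0, 6, 10] [] [⟨497, [12, 8, 10, 8, 7, 10, 8, 6, 10, 4, 8, 2, 6], [169, 167, 216, 167]⟩, ⟨139, [7, 10, 4, 8, 12, 10, 2], [266, 268, 266]⟩, ⟨189, [10, 8, 7, 10, 2, 8, 10], []⟩],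
  .tm 1 [12, 8, 10, 4, 8, 7, 10, 4, 8, 2, 4, 6] [] [⟨674, [], []⟩],
  .tm 11 [8, 10, 4, 8, 6, 10, 8, 0, 10, 4, 6] [] [⟨373, [8, 12, 4, 8, 7, 10, 8, 6, 10, 8, 2, 7], [169, 167, 216, 167, 169]⟩, ⟨139, [12, 6, 10, 4, 2, 8, 4], [266]⟩, ⟨359, [4, 8, 6, 10, 8, 7, 10, 4, 2, 8, 6, 10], []⟩],
  .tm 1 [8, 12, 8, 10, 8, 7, 10, 4, 8, 2, 10, 7] [] [⟨676, [], []⟩],
  .tm 11 [7, 10, 4, 8, 6, 10, 8, 4, 7] [] [⟨613, [12, 10, 8, 7, 10, 8, 10, 4, 8, 2, 7], [169, 167, 217, 167, 169]⟩, ⟨139, [6, 10, 4, 8, 12, 8, 4], [266]⟩, ⟨310, [8, 12, 10, 8, 10, 8, 4, 8, 6, 10, 8, 2, 10, 4], []⟩],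
  .tm 1 [12, 4, 8, 10, 8, 7, 10, 8, 10, 4] [] [⟨678, [], []⟩],
  .tm 11 [10, 8, 7, 10, 8, 6, 10, 4, 8, 2, 15, 7] [] [⟨319, [8, 12, 8, 6, 10, 8, 6, 10, 8, 4, 8, 2, 6], [169, 216, 167, 217]⟩, ⟨139, [8, 12, 2, 8, 6, 10, 4], [268]⟩, ⟨374, [12, 8, 6, 10, 8, 0, 10, 6], []⟩],
  .tm 1 [8, 12, 10, 8, 7, 10, 4, 2, 8, 15, 6] [] [⟨680, [], []⟩],
  .tm 11 [8, 12, 4, 8, 7, 10, 8, 6, 10, 4, 8, 0, 15, 4, 6] [] [⟨325, [8, 10, 4, 8, 6, 10, 2, 8, 10, 4], [167, 169, 216]⟩, ⟨139, [8, 12, 6, 10, 8, 10, 4], [266, 268]⟩, ⟨310, [8, 12, 4, 8, 10, 8, 6, 10, 4, 2, 8, 6, 10, 7], []⟩],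
  .tm 1 [8, 12, 7, 10, 8, 4, 8, 7, 10, 8, 2, 4, 7] [] [⟨682, [], []⟩]]

theorem fc608 : checkL (nat_lit 12) (nat_lit 4095) tH tK tK' BB FF TM XW d608 (nat_lit 608) = true := by decide +kernel

def d684 : List Der := [.tm 11 [12, 10, 8, 7, 10, 4, 8, 6, 10, 8, 6, 10, 4, 7] [] [⟨275, [8, 12, 8, 4, 8, 7, 10, 8, 6, 10, 8, 15, 4, 6], [216, 167, 169]⟩, ⟨139, [8, 10, 4, 8, 12, 10, 4], []⟩, ⟨310, [8, 12, 10, 8, 6, 10, 8, 4, 8, 2, 6, 10, 4, 6], []⟩],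
  .tm 1 [12, 7, 10, 8, 4, 8, 6, 10, 8, 10, 6] [] [⟨684, [], []⟩],
  .tm 11 [8, 10, 4, 8, 6, 10, 4, 8, 2, 15, 4, 7] [] [⟨683, [12, 4, 8, 10, 8, 7, 10, 4, 8, 0, 15, 7], [167, 169, 216, 167, 217]⟩, ⟨139, [4, 8, 12, 6, 10, 2, 8], []⟩, ⟨624, [10, 4, 8, 7, 10, 8, 2, 15, 4, 7], []⟩],
  .tm 1 [8, 12, 10, 8, 6, 10, 8, 7, 10, 8, 2, 10, 4, 6] [] [⟨686, [], []⟩],
  .tm 11 [12, 10, 4, 8, 10] [] [⟨458, [12, 8, 10, 8, 7, 10, 8, 4, 8, 2, 4, 7], [167, 217, 167]⟩, ⟨139, [12, 10, 8, 7, 10, 2, 8], [268, 266]⟩, ⟨359, [10, 4, 8, 7, 10, 8, 6, 10, 8, 2, 6, 10, 4, 6], []⟩],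
  .tm 1 [12, 4, 8, 4, 8, 10, 8, 7, 10, 8, 2, 6, 10, 6] [] [⟨688, [], []⟩],
  .tm 11 [10, 8, 7, 10, 8, 10, 4, 8, 6, 10, 7] [] [⟨118, [8, 4, 8, 2, 4, 6], [169, 167, 216, 167, 169]⟩, ⟨139, [10, 8, 6, 10, 8, 4, 8], [268, 266]⟩, ⟨441, [8, 10, 4, 8, 7, 10, 2, 8, 15, 4, 6], []⟩],
  .tm 1 [6, 10, 8, 4, 8, 10, 8, 15, 4, 6] [] [⟨690, [], []⟩],
  .tm 11 [10, 2, 8, 10, 6] [] [⟨383, [4, 8, 10, 4, 8, 6, 10, 2, 8, 10, 4, 7], [169, 217, 167, 216]⟩, ⟨139, [7, 10, 8, 12, 7, 10, 8], [266, 268, 266]⟩, ⟨620, [10, 8, 10], []⟩],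
  .tm 1 [8, 12, 10, 8, 4, 8, 7, 10, 8, 6, 10, 4, 6] [] [⟨692, [], []⟩],
  .tm 11 [8, 12, 8, 7, 10, 8, 0, 10, 7] [] [⟨497, [8, 12, 8, 6, 10, 8, 6, 10, 8, 4, 8, 2, 6, 10, 7], [216, 167, 217]⟩, ⟨139, [8, 10, 8, 12, 8, 10, 8], [266, 268]⟩, ⟨560, [12, 8, 7, 10, 8, 6, 10, 4, 8, 7, 10, 8, 6, 10, 4], []⟩],
  .tm 1 [8, 12, 8, 10] [] [⟨694, [], []⟩],
  .tm 11 [12, 8, 10, 8, 7, 10, 8, 4, 8, 2, 10, 4, 7] [] [⟨633, [12, 4, 8, 10, 4, 8, 7], [167, 169, 167, 216]⟩, ⟨139, [8, 6, 10, 2, 8, 6, 10], [268]⟩, ⟨445, [8, 12, 8, 7, 10, 8, 6, 10, 8, 4, 8, 0, 6, 10, 4, 6], []⟩],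
  .tm 1 [12, 7, 10, 8, 6, 10, 4, 8, 6] [] [⟨696, [], []⟩],
  .tm 11 [4, 8, 6, 10, 8, 7, 10, 4, 8, 0, 10] [] [⟨251, [12, 8, 6, 10, 8, 7, 10, 4, 2, 8, 6], [216, 167]⟩, ⟨139, [8, 12, 10, 4, 8, 6, 10], [266, 268]⟩, ⟨441, [4, 8, 6, 10, 8, 7, 10, 4, 8, 0, 15], []⟩],
  .tm 1 [8, 12, 6, 10, 8, 4, 8, 7, 10, 8, 2] [] [⟨698, [], []⟩],
  .tm 11 [12, 8, 7, 10, 4, 2, 8, 10, 4, 6] [] [⟨683, [8, 12, 8, 4, 8, 10, 8, 6, 10, 8, 15, 4, 6], [167, 216, 167, 169]⟩, ⟨139, [8, 10, 4, 8, 12, 6, 10], [266]⟩, ⟨358, [4, 8, 4, 8, 10, 8, 7, 10, 8, 15, 6], []⟩],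
  .tm 1 [12, 8, 10, 8, 6, 10, 8, 7, 10, 4, 2, 8, 15, 4, 7] [] [⟨700, [], []⟩],
  .tm 11 [12, 10, 8, 6, 10, 4, 2, 8, 10, 4, 6] [] [⟨330, [12, 10, 8, 4, 8, 6, 10, 8, 7, 10, 8, 10, 4], [169, 167, 216, 167]⟩, ⟨139, [6, 10, 4, 2, 8, 7, 10], [268, 266]⟩, ⟨441, [8, 10, 8, 6, 10, 2, 8, 6, 10, 7], []⟩],
  .tm 1 [12, 8, 10, 4, 8, 6, 10, 8, 4, 8, 10, 7] [] [⟨702, [], []⟩],
  .tm 11 [4, 8, 7, 10, 8, 6, 10, 4, 8, 2, 10] [] [⟨627, [10, 4, 8, 6, 10, 8, 7, 10, 4, 8, 6, 10, 7], [167, 169, 167, 216, 167, 169]⟩, ⟨139, [4, 8, 10, 4, 8, 7, 10], [266, 268, 266]⟩, ⟨652, [8, 4, 8, 6, 10, 8, 7, 10, 8, 15, 4, 6], []⟩],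
  .tm 1 [8, 12, 8, 4, 8, 10, 8, 7, 10, 4, 8, 0, 15, 4, 6] [] [⟨704, [], []⟩],
  .tm 11 [8, 12, 8, 4, 8, 7, 10, 4, 8, 6, 10, 8, 6, 10, 7] [] [⟨215, [8, 12, 10, 8, 4, 8, 6, 10, 8, 7, 10, 8, 10, 4, 7], [167, 217, 167]⟩, ⟨139, [8, 7, 10, 8, 12, 7, 10], [268, 266]⟩, ⟨358, [8, 7, 10, 8, 0, 10], []⟩],
  .tm 1 [10, 4, 8, 15, 4, 6] [] [⟨706, [], []⟩],
  .tm 11 [4, 8, 10, 4, 8, 7, 10, 2, 8, 6, 10, 4, 7] [] [⟨571, [12, 7, 10, 8, 6, 10, 4, 2, 8, 10, 4], [169, 167, 216, 167]⟩, ⟨139, [7, 10, 8, 10, 4, 8, 12], [268, 266]⟩, ⟨624, [8, 10, 8, 4, 8, 10, 8, 4, 6], []⟩],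
  .tm 1 [4, 8, 6, 10, 8, 7, 10, 4, 2, 8, 6, 10, 4, 7] [] [⟨708, [], []⟩],
  .tm 11 [8, 12, 8, 10, 8, 10, 4, 8, 6, 10, 8, 15, 4, 6] [] [⟨515, [12, 4, 8, 4, 8, 10, 8, 7, 10, 8, 2, 15, 4, 7], [167, 216, 167]⟩, ⟨139, [6, 10, 8, 6, 10, 8, 12], [268, 266]⟩, ⟨189, [8, 10, 8, 7, 10, 4, 8, 0, 10, 4], []⟩],
  .tm 1 [12, 8, 4, 8, 10, 8, 7, 10, 8, 2, 4, 6] [] [⟨710, [], []⟩],
  .tm 11 [8, 12, 4, 8, 6, 10, 4, 8, 7, 10, 8, 2, 10, 6] [] [⟨156, [8, 12, 4, 8, 6, 10, 8, 7, 10, 8], [169, 216, 167, 217]⟩, ⟨139, [4, 8, 10, 8, 6, 10, 4, 0], [266, 268]⟩, ⟨189, [8, 6, 10, 4, 8, 6, 10, 4, 7], []⟩],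
  .tm 1 [2, 8] [] [⟨712, [], []⟩],
  .tm 11 [8, 6, 10, 8, 15, 4] [] [⟨683, [8, 12, 8, 10, 8, 4, 8, 7, 10, 8, 2, 6, 10, 4, 6], [169, 167, 216]⟩, ⟨139, [6, 10, 8, 10, 8, 12, 4, 0], [268, 266]⟩, ⟨703, [8, 10, 4, 8, 7, 10, 8, 4, 8, 15], []⟩],
  .tm 1 [8, 12, 8, 6, 10, 2, 8, 15, 6] [] [⟨714, [], []⟩],
  .tm 11 [12, 4, 8, 10, 8, 7, 10, 8, 0] [] [⟨458, [8, 12, 10, 8, 6, 10, 4, 8, 2, 10, 4, 6], [167, 217, 167, 169]⟩, ⟨139, [8, 10, 8, 6, 10, 4, 8, 0], [268]⟩, ⟨703, [8, 7, 10, 8, 4, 8, 6, 10, 8, 6, 10, 4], []⟩],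
  .tm 1 [8, 6, 10, 8, 7, 10, 8, 4, 8, 15, 6] [] [⟨716, [], []⟩],
  .tm 11 [8, 12, 10, 8, 10, 4, 8, 7, 10, 2, 8, 15, 4, 6] [] [⟨613, [8, 12, 4, 8, 10, 8, 6, 10, 8], [169, 167, 217, 167]⟩, ⟨139, [8, 6, 10, 4, 8, 12, 10, 0], [266]⟩, ⟨189, [4, 8, 10, 8, 0, 4, 6], []⟩],
  .tm 1 [12, 6, 10, 8, 7, 10, 8, 2, 7] [] [⟨718, [], []⟩],
  .tm 11 [10, 8, 7, 10, 8, 4, 2, 8, 15, 4, 7] [] [⟨200, [8, 12, 4, 8, 6, 10, 8, 7, 10, 4, 8, 15, 6], [167, 169, 216, 167, 217]⟩, ⟨139, [10, 8, 4, 8, 6, 10, 4, 2], [266, 268]⟩, ⟨358, [4, 8, 6, 10, 8, 7, 10, 8, 15, 4], []⟩],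
  .tm 1 [12, 8, 10, 8, 4, 8, 10, 8, 2, 15, 7] [] [⟨720, [], []⟩],
  .tm 11 [8, 12, 10, 4, 8, 6, 10, 2, 8, 4, 6] [] [⟨639, [8, 6, 10, 8, 6, 10, 8, 4, 8, 2, 6], [167, 169, 217, 167]⟩, ⟨139, [8, 6, 10, 4, 8, 7, 10, 2], [266, 268]⟩, ⟨703, [8, 10, 8, 4, 8, 6, 10, 8, 6, 10, 4, 6], []⟩],
  .tm 1 [10, 8, 7, 10, 8, 6, 10, 4, 8, 4, 7] [] [⟨722, [], []⟩],
  .tm 11 [8, 10, 8, 10, 4, 8, 6, 10, 8, 2, 6, 10, 4, 6] [] [⟨198, [10, 4, 8, 6, 10, 8, 7, 10, 4, 8, 15, 7], [169, 216, 167, 217]⟩, ⟨139, [4, 8, 10, 8, 12, 10, 8, 4], [266, 268]⟩, ⟨573, [12, 4, 8, 6, 10, 4, 8, 7, 10, 8, 15], []⟩],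
  .tm 1 [8, 12, 7, 10, 8, 4, 8, 2, 15, 4, 6] [] [⟨724, [], []⟩],
  .tm 11 [12, 10, 8, 6, 10, 8, 4, 2, 8, 10, 4, 7] [] [⟨325, [12, 8, 7, 10, 8, 6, 10, 4, 8, 2], [167, 216, 167]⟩, ⟨139, [7, 10, 8, 10, 8, 12, 8, 4], [266, 268, 266]⟩, ⟨374, [12, 8, 4, 8, 10, 8, 7, 10, 8, 15, 4, 7], []⟩],
  .tm 1 [12, 8, 10, 8, 7, 10, 4, 8, 0, 15] [] [⟨726, [], []⟩],
  .tm 11 [12, 10, 8, 4, 8, 6, 10, 8, 2, 7] [] [⟨190, [10, 8, 4, 8, 7, 10, 8, 0, 10, 4, 7], [217, 167, 216]⟩, ⟨139, [7, 10, 8, 4, 8, 6, 10, 4], [266, 268, 266]⟩, ⟨652, [4, 8, 4, 8, 10, 8, 7, 10, 8, 15], []⟩],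
  .tm 1 [12, 8, 7, 10, 4, 8, 2, 15, 4, 6] [] [⟨728, [], []⟩],
  .tm 11 [12, 8, 7, 10, 8, 4, 8, 7, 10, 8, 2, 15, 4, 6] [] [⟨627, [12, 6, 10, 4, 2, 8, 4, 6], [167, 169, 217, 167]⟩, ⟨139, [8, 4, 8, 10, 8, 6, 10, 4], [268]⟩, ⟨358, [8, 4, 8, 10, 8, 2, 10, 4, 7], []⟩],
  .tm 1 [8, 12, 8, 10, 8, 6, 10, 4, 8, 7, 10, 8, 2, 15, 7] [] [⟨730, [], []⟩],
  .tm 11 [4, 8, 10, 4, 8, 2, 6, 10, 4] [] [⟨383, [8, 12, 10, 8, 4, 8, 10, 8, 6, 10, 8, 15, 7], [169, 167, 216, 167, 217]⟩, ⟨139, [4, 8, 10, 8, 12, 7, 10, 4], []⟩, ⟨652, [8, 4, 8, 10, 8, 2, 10, 4], []⟩],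
  .tm 1 [10, 4, 8, 6, 10, 8, 7, 10, 4, 8, 10, 6] [] [⟨732, [], []⟩],
  .tm 11 [12, 4, 8, 10, 8, 7, 10, 4, 2, 8, 6, 10, 4] [] [⟨424, [12, 8, 6, 10, 8, 7, 10, 4, 8, 6, 10, 8], [216]⟩, ⟨139, [8, 4, 8, 6, 10, 8, 10, 4], []⟩, ⟨560, [12, 8, 6, 10, 8, 4, 8, 7, 10, 8, 15, 4, 7], []⟩],
  .tm 1 [8, 12, 8, 7, 10, 4, 2, 8, 10] [] [⟨734, [], []⟩],
  .tm 11 [7, 10, 8, 4, 8, 6, 10, 8, 0, 10, 4, 7] [] [⟨430, [12, 4, 8, 10, 4, 8, 7, 10, 2, 8, 10, 6], [169, 216]⟩, ⟨139, [6, 10, 8, 10, 8, 12, 4, 8], [268, 266]⟩, ⟨703, [6, 10, 8, 4, 8, 6, 10, 8, 6, 10, 4, 6], []⟩],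
  .tm 1 [12, 8, 6, 10, 4, 8, 7, 10, 8, 2, 6, 10, 4] [] [⟨736, [], []⟩],
  .tm 12 [10, 8, 6, 10, 8, 10, 4, 8, 2, 15, 4] [] [⟨166, [8, 10, 8, 10, 4, 8, 7, 10, 8, 2, 10, 4, 7], [167, 216]⟩, ⟨139, [4, 8, 4, 8, 12, 10, 8, 4], [268, 266]⟩, ⟨666, [8, 4, 8, 10, 8, 7, 10, 4, 8, 2, 15, 7], []⟩],
  .tm 1 [8, 12, 4, 8, 6, 10, 8, 7, 10, 4, 8, 6, 10, 6] [] [⟨738, [], []⟩],
  .tm 12 [12, 10, 4, 8, 7, 10, 8, 2, 15, 4] [] [⟨637, [6, 10, 8, 6, 10, 8, 4, 8, 2, 6, 10, 4, 6], [167, 169, 167, 216]⟩, ⟨139, [8, 6, 10, 8, 12, 6, 10, 4], [268]⟩, ⟨676, [12, 10, 8, 7, 10, 8, 4, 8, 4], []⟩],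
  .tm 1 [8, 7, 10, 8, 6, 10, 4, 8, 7, 10, 8, 2, 6, 10, 6] [] [⟨740, [], []⟩],
  .tm 12 [12, 8, 4, 8, 6, 10, 8, 7, 10, 8, 2, 6, 10, 6] [] [⟨639, [12, 8, 10, 4, 8, 6, 10, 4, 8, 4, 6], [169, 167, 216]⟩, ⟨139, [10, 8, 6, 10, 8, 7, 10, 4], [268]⟩, ⟨736, [8, 12, 10, 4, 8, 4, 6], []⟩],
  .tm 1 [12, 6, 10, 8, 7, 10, 8, 4, 8, 15] [] [⟨742, [], []⟩],
  .tm 12 [12, 6, 10, 8, 7, 10, 8, 6, 10, 4, 8, 2, 4, 6] [] [⟨637, [0, 7], [167, 169, 167, 216]⟩, ⟨139, [12, 10, 8, 4, 2, 8, 6, 10], [266, 268]⟩, ⟨670, [8, 12, 8, 6, 10, 8, 4, 8, 6, 10, 8, 2, 6, 10, 4, 7], []⟩],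
  .tm 1 [8, 10, 8, 4, 8] [] [⟨744, [], []⟩],
  .tm 12 [7, 10, 8] [] [⟨727, [8, 10, 8, 7, 10, 4, 8, 2, 10, 4, 7], [167, 169, 167, 217]⟩, ⟨139, [12, 6, 10, 4, 2, 8, 6, 10], [268]⟩, ⟨680, [10, 8, 10, 8, 4, 8, 7, 10, 8, 2, 15], []⟩],
  .tm 1 [12, 10, 4, 8, 0, 6, 10, 7] [] [⟨746, [], []⟩],
  .tm 12 [8, 12, 10, 8, 10, 4, 8, 6, 10, 8, 2, 10, 4] [] [⟨336, [10, 8, 6, 10, 8, 7, 10, 4, 8, 6, 10, 4], [167, 217, 167, 169]⟩, ⟨139, [10, 8, 6, 10, 2, 8, 6, 10], [268, 266]⟩, ⟨670, [12, 10, 8, 4, 8], []⟩],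
  .tm 1 [12, 4, 8, 10, 8, 4, 8, 6, 10, 4, 7] [] [⟨748, [], []⟩],
  .tm 12 [12, 4, 8, 7, 10, 8, 4, 8, 15, 7] [] [⟨585, [8, 12, 8, 10, 8, 6, 10, 8, 7, 10, 8, 2, 6, 10, 7], [167]⟩, ⟨139, [8, 12, 6, 10, 2, 8, 7, 10], [266, 268, 266]⟩, ⟨696, [12, 8, 4, 8, 7, 10, 8, 6, 10, 4, 8, 2, 15, 4, 6], []⟩],
  .tm 1 [8, 12, 4, 8, 10, 8, 7, 10, 4, 8, 0, 6, 10, 7] [] [⟨750, [], []⟩],
  .tm 12 [8, 12, 10, 8, 6, 10, 8, 4, 8, 2, 10, 4, 7] [] [⟨727, [8, 7, 10, 8, 7, 10, 8, 4, 8, 4, 6], [167, 169, 167, 217]⟩, ⟨139, [12, 7, 10, 8, 4, 8, 7, 10], [266, 268, 266]⟩, ⟨686, [8, 12, 8, 7, 10, 8, 4, 8, 0, 4], []⟩],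
  .tm 1 [10, 8, 7, 10, 4, 8, 6, 10, 8, 15, 4] [] [⟨752, [], []⟩],
  .tm 12 [12, 8, 10, 8, 10] [] [⟨753, [8, 4, 8, 10, 4, 8, 6, 10, 8, 2, 6, 10], [167]⟩, ⟨139, [8, 12, 10, 8, 4, 8, 7, 10], []⟩, ⟨742, [8, 12, 8, 10, 8, 4, 2, 8, 4], []⟩],
  .tm 1 [8, 12, 10, 4, 8, 6, 10, 8, 4, 8, 10, 4] [] [⟨754, [], []⟩],
  .tm 12 [8, 12, 10, 8, 7, 10, 8, 4, 8, 10, 6] [] [⟨727, [10, 4, 8, 6, 10, 8, 7, 10, 8, 15, 4], [169, 167, 217, 167]⟩, ⟨139, [8, 12, 6, 10, 4, 2, 8, 10], [266, 268]⟩, ⟨752, [8, 12, 10, 4, 8, 7, 10, 8, 6, 10, 8, 2, 15, 6], []⟩],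
  .tm 1 [12, 10, 8, 7, 10, 8, 6, 10, 4, 8, 0, 10, 4, 7] [] [⟨756, [], []⟩],
  .tm 12 [8, 12, 8, 6, 10, 8, 7, 10, 8, 4, 8, 10, 4, 6] [] [⟨635, [8, 12, 8, 10, 8, 7, 10, 8, 0, 6, 10], [167, 169, 217]⟩, ⟨139, [8, 12, 4, 8, 10, 4, 8, 12], [266, 268]⟩, ⟨695, [12, 4, 8, 6, 10], []⟩],
  .tm 1 [8, 7, 10, 8, 4, 8, 7, 10, 8, 6, 10, 6] [] [⟨758, [], []⟩]]

theorem fc684 : checkL (nat_lit 12) (nat_lit 4095) tH tK tK' BB FF TM XW d684 (nat_lit 684) = true := by decide +kernel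

def d760 : List Der := [.tm 12 [8, 12, 7, 10, 8, 4, 8, 2, 10, 4, 6] [] [⟨639, [12, 8, 7, 10, 8, 4, 8, 7, 10, 8, 10, 6], [169, 167, 216]⟩, ⟨139, [10, 8, 6, 10, 8, 7, 10, 4, 0], [268, 266]⟩, ⟨328, [6, 10, 4, 8, 4, 6], []⟩],
  .tm 1 [8, 12, 8, 6, 10, 8, 4, 8, 6, 10, 8, 2, 10, 4] [] [⟨760, [], []⟩],
  .tm 12 [8, 12, 8, 4, 8, 10, 2, 8, 15, 4, 6] [] [⟨625, [8, 10, 8, 6, 10, 8, 7, 10, 8, 2, 15, 4, 7], [167, 169, 217, 167, 169]⟩, ⟨139, [7, 10, 8, 4, 8, 12, 7, 10, 4], [266, 268, 266]⟩, ⟨666, [12, 10, 4, 8, 6, 10, 8, 7, 10, 8, 10, 6], []⟩],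
  .tm 1 [10, 8, 7, 10, 8, 0, 15] [] [⟨762, [], []⟩],
  .tm 12 [7, 10, 4, 8, 6, 10, 8, 4, 6] [] [⟨727, [8, 6, 10, 4, 8, 2, 6, 10, 4, 7], [169, 167, 217, 167]⟩, ⟨139, [4, 8, 12, 7, 10, 8, 10, 8, 4, 2], []⟩, ⟨384, [12, 7, 10, 8, 10, 8, 4, 8, 6, 10, 4, 7], []⟩],
  .tm 1 [8, 6, 10, 8, 4, 8, 0, 15, 6] [] [⟨764, [], []⟩],
  .tm 13 [8, 12, 7, 10, 8, 7, 10, 8, 4, 8, 4, 7] [] [⟨747, [8, 7, 10, 8, 10, 4, 6], [167, 169, 167, 217, 167]⟩, ⟨139, [4, 8, 12, 8, 7, 10, 0], []⟩, ⟨187, [4, 2, 8, 10, 4, 7], []⟩],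
  .tm 1 [4, 8, 7, 10, 4, 8, 4] [] [⟨766, [], []⟩],
  .tm 13 [12, 7, 10, 8, 4, 8, 6, 10, 8, 2, 6, 10, 4, 6] [] [⟨142, [4, 8, 7, 10, 8, 4, 8, 15, 7], [216, 167, 217]⟩, ⟨139, [12, 10, 8, 10, 4, 8, 2], [268]⟩, ⟨760, [8, 6, 10, 4, 8, 10, 4, 6], []⟩],
  .tm 1 [12, 2, 0, 6] [] [⟨768, [], []⟩],
  .tm 13 [8, 10, 8, 7, 10, 8, 0, 15, 6] [] [⟨160, [4, 8, 10, 4, 8, 7, 10, 8, 2, 15, 4], [169, 216, 167, 217]⟩, ⟨139, [10, 8, 12, 8, 10, 8, 4], [266]⟩, ⟨760, [6, 10, 4, 8, 0, 10, 4, 6], []⟩],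
  .tm 13 [4, 8, 10, 8, 7, 10, 4, 8, 10, 4] [] [⟨765, [12, 4, 8, 6, 10, 4, 8, 15], [167]⟩, ⟨139, [4, 8, 10, 8, 6, 10, 4], [268]⟩, ⟨359, [8, 7, 10, 8, 15], []⟩],
  .tm 1 [8, 12, 8, 10, 4, 8, 6, 10, 8, 10, 4, 6] [] [⟨771, [], []⟩],
  .tm 13 [8, 12, 4, 8, 10, 8, 7, 10, 4, 8, 0, 6, 10, 6] [] [⟨765, [8, 12, 8, 10, 8, 7, 10, 8, 4, 8, 2, 6, 10, 4], [169, 167, 217]⟩, ⟨139, [12, 8, 10, 4, 8, 10, 4], [266]⟩, ⟨445, [8, 12, 4, 8, 4], []⟩],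
  .tm 1 [4, 8, 10, 8, 4, 8, 4, 6] [] [⟨773, [], []⟩],
  .tm 13 [8, 10, 8, 4, 2, 8, 10, 4, 7] [] [⟨753, [12, 8, 7, 10, 4, 8, 0], [169, 216]⟩, ⟨139, [8, 4, 8, 10, 8, 10, 4], []⟩, ⟨194, [12, 10, 4, 8, 6, 10, 8, 7, 10, 4, 8, 6, 10, 7], []⟩],
  .tm 1 [10, 4, 8, 7, 10, 8, 6, 10, 8, 2, 15, 4] [] [⟨775, [], []⟩],
  .tm 13 [8, 12, 7, 10, 8, 4, 2, 8, 10, 4, 6] [] [⟨757, [8, 12, 8, 6, 10, 8, 6, 10, 4, 8, 2], [217, 167, 216]⟩, ⟨139, [12, 10, 8, 7, 10, 8, 10], [266, 268]⟩, ⟨260, [4, 8, 7, 10, 8, 0, 10], []⟩],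
  .tm 1 [12, 10, 4, 8, 7, 10, 8, 6, 10, 4, 8, 4, 6] [] [⟨777, [], []⟩],
  .tm 13 [8, 7, 10, 4, 8, 6, 10, 8, 2, 10, 4, 6] [] [⟨765, [10, 8, 4, 8, 10, 8, 6, 10, 8, 6, 10, 6], [167]⟩, ⟨139, [8, 12, 7, 10, 8, 7, 10, 0], []⟩, ⟨445, [8, 12, 7, 10, 8, 4, 8, 6, 10, 8, 6, 10, 4], []⟩],
  .tm 1 [7, 10, 8, 10, 8, 4, 8, 10, 4, 6] [] [⟨779, [], []⟩],
  .tm 13 [8, 12, 8, 4, 8, 6, 10, 8, 7, 10, 4, 8, 15, 4, 6] [] [⟨757, [8, 12, 8, 4, 8, 10, 8, 7, 10, 4, 8, 2, 10, 7], [167, 217]⟩, ⟨139, [8, 10, 8, 12, 7, 10, 4, 2], [266, 268]⟩, ⟨374, [12, 7, 10, 8, 10, 8, 4, 8, 7, 10, 8, 10, 4, 7], []⟩],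
  .tm 1 [8, 12, 4, 8, 10, 4, 8, 6, 10, 2, 8, 4, 6] [] [⟨781, [], []⟩],
  .tm 33 [12, 8, 10, 8, 7, 10, 8, 6, 10, 4, 8, 2] [] [⟨621, [8, 12, 7, 10, 4, 8, 6, 10, 8, 6, 10, 7], [167, 169, 217, 167, 169]⟩, ⟨139, [12, 8, 10, 8, 7, 10], []⟩, ⟨151, [12, 8, 7, 10, 2, 8, 15, 4, 7], []⟩],
  .tm 1 [12, 8, 4, 8, 10, 8, 6, 10, 4, 8, 0, 6, 10, 7] [] [⟨783, [], []⟩],
  .tm 33 [12, 6, 10, 4, 7] [] [⟨693, [8, 12, 0, 15], [167, 217, 167, 216]⟩, ⟨139, [12, 4, 8, 7, 10, 4, 2], [266]⟩, ⟨163, [7, 10, 8, 6, 10, 4, 8, 2, 15, 6], []⟩],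
  .tm 1 [12, 6, 10, 4, 8, 7, 10, 8, 2, 15, 4] [] [⟨785, [], []⟩],
  .tm 33 [10, 8, 10, 4, 8, 7, 10, 8, 0, 6, 10, 6] [] [⟨645, [8, 12, 10, 8, 10, 4, 8, 7, 10, 2, 8, 15, 4, 6], [216, 167, 217]⟩, ⟨139, [12, 6, 10, 8, 7, 10, 2], [266]⟩, ⟨163, [7, 10, 8, 6, 10, 8, 2, 15, 4, 7], []⟩],
  .tm 1 [8, 6, 10, 8, 4, 8, 6, 10] [] [⟨787, [], []⟩],
  .tm 33 [8, 12, 7, 10, 8, 4, 8, 7, 10, 8, 2, 6, 10, 6] [] [⟨625, [8, 7, 10, 8, 6, 10, 8, 7, 10, 4, 8], [167, 169, 217, 167]⟩, ⟨139, [12, 4, 8, 10, 4, 8, 4], [266, 268]⟩, ⟨167, [7, 10, 8, 4, 8, 6, 10, 2, 8, 6, 10, 7], []⟩],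
  .tm 1 [7, 10, 4, 8, 2, 6, 10, 6] [] [⟨789, [], []⟩],
  .tm 33 [8, 12, 4, 8, 10, 8, 4, 8, 6, 10, 8, 10, 4] [] [⟨635, [8, 12, 6, 10, 8, 7, 10, 4, 8, 6, 10, 8, 10, 4, 7], [167, 169, 217]⟩, ⟨139, [4], []⟩, ⟨167, [2, 0, 4], []⟩],
  .tm 1 [8, 10, 8, 6, 10, 4, 2, 8, 6, 10, 4] [] [⟨791, [], []⟩],
  .tm 33 [12, 10, 8, 7, 10, 4, 8, 6, 10, 8, 2, 6, 10, 7] [] [⟨727, [8, 6, 10, 8, 7, 10, 4, 8, 6, 10, 4, 7], [169, 167, 217, 167, 169]⟩, ⟨139, [10, 8, 10, 4], []⟩, ⟨167, [7, 10, 4, 2, 8, 10, 6], []⟩],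
  .tm 1 [12, 8, 6, 10, 8, 6, 10, 8, 4, 8, 2, 6] [] [⟨793, [], []⟩],
  .tm 33 [12, 10, 8, 6, 10, 8, 0, 4, 7] [] [⟨784, [8, 10, 4, 8, 7, 10, 4, 8, 15, 6], [167, 169, 167]⟩, ⟨139, [10, 8, 6, 10], [268, 266]⟩, ⟨151, [12, 8, 10, 8, 7, 10, 8, 4, 8, 10], []⟩],
  .tm 1 [12, 8, 4, 8, 6, 10, 8, 7, 10, 8, 2, 10, 7] [] [⟨795, [], []⟩],
  .tm 38 [8, 10, 4, 8, 7, 10, 2, 8, 10, 6] [] [⟨753, [6, 10, 2, 8, 10, 7], [169]⟩, ⟨139, [12, 10, 8, 6, 10, 4], [266, 268, 266]⟩, ⟨374, [12, 7, 10, 8, 6, 10, 4, 2, 8, 6, 10, 4, 6], []⟩],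
  .tm 1 [8, 12, 4, 8, 7, 10, 8, 6, 10, 8, 6] [] [⟨797, [], []⟩],
  .tm 38 [8, 7, 10, 8, 0, 4] [] [⟨757, [12, 10, 8, 7, 10, 8, 6, 10, 4, 8, 2, 15, 4, 7], [167, 169, 167]⟩, ⟨139, [12, 10, 4, 8, 10, 4], [266]⟩, ⟨445, [8, 12, 8, 2], []⟩],
  .tm 1 [12, 8, 4, 8, 10, 8, 7, 10, 4, 8, 6, 10, 4] [] [⟨799, [], []⟩],
  .tm 23 [8, 12, 8, 10, 8, 7, 10, 4, 8, 2, 7] [] [⟨613, [12, 8, 4, 8, 10, 8, 6, 10, 4, 2, 8, 15], [167, 169, 167, 216]⟩, ⟨139, [6, 10, 2, 8, 12, 10], [266, 268]⟩, ⟨708, [10, 8, 4, 8, 6, 10, 2, 8, 6, 10, 7], []⟩],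
  .tm 1 [12, 10, 8, 7, 10, 8, 6, 10, 4, 8, 0, 7] [] [⟨801, [], []⟩],
  .tm 23 [10, 8, 10, 8, 4, 8, 4, 6] [] [⟨99, [8, 7, 10, 8, 4, 8, 10, 8, 2, 4], [167, 216, 167]⟩, ⟨139, [6, 10, 4, 2, 8, 12], [266]⟩, ⟨377, [8, 10, 4, 8, 6, 10, 8, 7, 10, 4, 8, 2, 10, 4, 6], []⟩],
  .tm 1 [12, 10, 8, 4, 2, 8, 4] [] [⟨803, [], []⟩],
  .tm 23 [8, 12, 10, 8, 6, 10, 8, 7, 10, 8, 10, 6] [] [⟨645, [8, 12, 8, 10, 4, 8, 7, 10, 8, 6, 10, 8, 2, 6, 10, 4], [167, 169, 167, 217, 167, 216]⟩, ⟨139, [4, 8, 6, 10, 8, 4, 0], [266, 268, 266]⟩, ⟨282, [8, 4, 8, 10, 4, 8, 6, 10, 8, 2, 6], []⟩],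
  .tm 1 [12, 4, 8, 10, 8, 6, 10, 4, 8] [] [⟨805, [], []⟩],
  .tm 23 [8, 12, 10, 4, 8, 2, 15, 4] [] [⟨430, [6, 10, 8, 7, 10, 8, 4, 8, 6, 10], [217, 167, 216]⟩, ⟨139, [8, 7, 10, 8, 12, 4, 0], [268, 266]⟩, ⟨775, [8, 4, 8, 10, 8, 6, 10, 8, 2, 15, 4], []⟩],
  .tm 1 [8, 12, 8, 10, 8, 4, 8, 10, 8, 10, 6] [] [⟨807, [], []⟩],
  .tm 23 [8, 12, 7, 10, 4, 8, 0, 15, 6] [] [⟨321, [12, 8, 4, 8, 7, 10, 8, 2, 4, 6], [216, 167, 217]⟩, ⟨139, [8, 10, 4, 8, 6, 10, 0], [268]⟩, ⟨508, [7, 10, 8, 6, 10, 8, 7, 10, 4, 8, 2, 6], []⟩],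
  .tm 1 [12, 8, 10, 8, 4, 8, 2, 15, 4, 7] [] [⟨809, [], []⟩],
  .tm 23 [10, 8, 7, 10, 8, 6, 10, 4, 8, 0, 4, 6] [] [⟨753, [10, 4, 8, 7, 10, 8, 0, 15, 4, 7], [169, 167]⟩, ⟨139, [8, 12, 4, 8, 6, 10, 0], []⟩, ⟨735, [12, 10, 8, 6, 10, 8, 7, 10, 4, 8, 2, 6, 10, 7], []⟩],
  .tm 1 [8, 12, 4, 8, 10, 8, 7, 10, 4, 8, 0, 10, 6] [] [⟨811, [], []⟩],
  .tm 23 [8, 12, 8, 10, 8, 6, 10, 8, 2, 15, 4] [] [⟨583, [12, 8, 4, 8, 10, 8, 6, 10, 4, 8, 2, 6, 10], [169]⟩, ⟨139, [8, 4, 8, 12, 6, 10, 0], []⟩, ⟨526, [8, 12, 10, 8, 6, 10, 8, 7, 10, 4, 8, 2, 6], []⟩],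
  .tm 1 [12, 8, 10, 8, 7, 10, 8, 10, 4, 8, 2, 10, 4] [] [⟨813, [], []⟩],
  .tm 23 [8, 12, 10, 8, 7, 10, 8, 6, 10, 4, 8, 4] [] [⟨88, [12, 10, 4, 8, 6, 10, 8, 7, 10, 4, 8, 2, 10, 4], [217]⟩, ⟨139, [8, 10, 4, 8, 12, 10, 2], [266]⟩, ⟨661, [12, 10, 8, 4, 8, 2, 10, 4], []⟩],
  .tm 1 [8, 12, 4, 8, 10, 8, 6, 10, 4, 8, 0, 15, 4, 6] [] [⟨815, [], []⟩],
  .tm 23 [10, 4, 8, 6, 10, 4, 8, 15, 4] [] [⟨621, [8, 12, 10, 8, 10, 8, 4, 8, 6, 10, 8, 2, 10], [167, 217, 167]⟩, ⟨139, [10, 8, 6, 10, 4, 8, 4], [268, 266]⟩, ⟨816, [4, 8, 10, 8, 7, 10, 4, 2, 8, 6, 10, 4, 6], []⟩],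
  .tm 1 [10, 8, 10, 4, 8, 2, 6, 10, 4] [] [⟨817, [], []⟩],
  .tm 23 [12, 8, 4, 8, 10, 8, 6, 10, 4, 2, 8] [] [⟨645, [8, 12, 6, 10, 4, 8, 6, 10, 4, 7], [169, 217, 167, 216]⟩, ⟨139, [8, 12, 6, 10, 4, 8, 4], [268]⟩, ⟨638, [12, 4, 8, 6, 10, 2, 8, 15, 4], []⟩],
  .tm 1 [6, 10, 8, 7, 10, 4, 8, 6, 10, 8, 2, 6, 10, 4, 6] [] [⟨819, [], []⟩],
  .tm 23 [8, 12, 7, 10, 8, 2, 6, 10, 6] [] [⟨637, [8, 10, 8, 4, 8, 6, 10, 8, 2, 6, 10, 4, 6], [169, 167, 216, 167, 169]⟩, ⟨139, [7, 10, 2, 8, 6, 10, 4], []⟩, ⟨328, [12, 4, 8, 10, 8, 6, 10, 8, 2, 15, 4, 7], []⟩],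
  .tm 1 [8, 12, 8, 7, 10, 8, 6, 10, 8, 7, 10, 4, 8, 4, 7] [] [⟨821, [], []⟩],
  .tm 23 [8, 12, 8, 4, 8, 7, 10, 4, 8, 6, 10, 8, 6, 10, 6] [] [⟨625, [8, 4, 8, 10, 4, 8, 7, 10, 8, 2, 10, 4, 6], [167, 169, 217, 167, 169]⟩, ⟨139, [12, 6, 10, 4, 8, 6, 10], [268]⟩, ⟨680, [8, 10, 8, 4, 8, 7, 10, 2, 8, 10, 7], []⟩],
  .tm 1 [4, 8, 10, 8, 6, 10, 2, 8, 6, 10, 7] [] [⟨823, [], []⟩],
  .tm 23 [8, 12, 10, 8, 10, 4, 8, 6, 10, 8, 4, 6] [] [⟨824, [8, 12, 8, 4, 8, 10, 8, 6, 10, 4, 8, 6, 10, 7], []⟩, ⟨139, [7, 10, 4, 8, 12, 6, 10], [266]⟩, ⟨644, [10, 8, 7, 10, 8, 4, 8, 15, 4, 7], []⟩],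
  .tm 1 [8, 12, 8, 6, 10, 8, 7, 10, 4, 2, 8, 10, 4] [] [⟨825, [], []⟩],
  .tm 23 [8, 12, 10, 4, 8, 6, 10, 8, 10, 4, 7] [] [⟨639, [12, 8, 10, 8, 10, 4, 8, 7, 10, 8], [167, 169, 167, 216, 167, 169]⟩, ⟨139, [12, 6, 10, 4, 8, 7, 10], [266]⟩, ⟨783, [8, 12, 10, 8, 7, 10, 4, 8, 6], []⟩],
  .tm 1 [12, 8, 10, 8, 7, 10, 8, 6, 10, 4, 8, 2, 15, 7] [] [⟨827, [], []⟩],
  .tm 23 [8, 12, 7, 10, 8, 4, 8, 2, 7] [] [⟨818, [8, 12, 8, 10, 8, 6, 10, 8, 10, 4, 8, 10, 4], [169, 167, 216]⟩, ⟨139, [6, 10, 8, 12, 8, 7, 10], [268]⟩, ⟨514, [8, 4, 8, 6, 10, 2, 8, 10, 4, 7], []⟩],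
  .tm 1 [8, 6, 10, 8, 4, 8, 7, 10, 8, 0, 6, 10] [] [⟨829, [], []⟩],
  .tm 23 [12, 4, 8, 10, 8, 4, 8, 6, 10, 8] [] [⟨625, [8, 6, 10, 8, 7, 10, 8, 6, 10, 4, 8], [167, 217]⟩, ⟨139, [6, 10, 8, 4, 2, 8, 10], []⟩, ⟨686, [8, 12, 10, 8, 7, 10, 8, 6, 10, 4, 8, 0, 4, 7], []⟩],
  .tm 1 [8, 10, 8, 4, 8, 2, 15, 4, 6] [] [⟨831, [], []⟩],
  .tm 23 [12, 8, 10, 4, 8, 7, 10, 8, 6, 10, 8, 2, 15, 4, 7] [] [⟨164, [8, 12, 10, 4, 8, 7, 10, 2, 8, 10, 4, 6], [216, 167, 217]⟩, ⟨139, [10, 8, 6, 10, 4, 8, 10], [268, 266]⟩, ⟨562, [4, 8, 6, 10, 8, 4, 8, 2, 4, 6], []⟩],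
  .tm 1 [8, 4, 8, 6, 10, 8, 4, 8, 2, 10] [] [⟨833, [], []⟩],
  .tm 23 [8, 12, 7, 10, 8, 10, 8, 4, 8, 2, 10, 4, 7] [] [⟨625, [6, 10, 8, 4, 8, 10, 8, 15, 6], [167, 169, 217]⟩, ⟨139, [8, 12, 6, 10, 4, 8, 10], [266, 268]⟩, ⟨752, [8, 12, 4, 2, 8], []⟩],
  .tm 1 [8, 12, 8, 4, 8, 6, 10, 8, 4, 8, 2, 10, 4, 7] [] [⟨835, [], []⟩],
  .tm 23 [6, 10, 8, 10, 4, 8, 2, 6, 10, 4] [] [⟨757, [12, 10, 8, 2, 10, 6], [169, 167]⟩, ⟨139, [10, 8, 4, 2, 8, 12, 10], [268]⟩, ⟨661, [8, 12, 8, 10, 8, 4, 8, 2, 10, 4], []⟩],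
  .tm 1 [12, 8, 10, 4, 8, 7, 10, 8, 4, 6] [] [⟨837, [], []⟩]]

theorem fc760 : checkL (nat_lit 12) (nat_lit 4095) tH tK tK' BB FF TM XW d760 (nat_lit 760) = true := by decide +kernel

def d839 : List Der := [.tm 23 [8, 12, 8, 10, 8, 10, 4, 8, 6, 10, 8, 6, 10, 7] [] [⟨321, [12, 6, 10, 8, 7, 10, 8, 4, 8, 0, 4], [167, 169, 216, 167, 217]⟩, ⟨139, [4, 8, 6, 10, 8, 12, 10], [266]⟩, ⟨632, [12, 8, 4, 8, 6, 10, 8, 4, 8, 10, 4], []⟩],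
  .tm 1 [12, 8, 7, 10, 8, 6, 10, 8, 4, 8, 0, 6, 10, 7] [] [⟨839, [], []⟩],
  .tm 23 [12, 8, 6, 10, 8, 4, 8, 7, 10, 8, 6, 10, 4, 6] [] [⟨583, [12, 8, 10, 4, 8, 7, 10, 8, 6, 10, 8, 2, 15, 4], []⟩, ⟨139, [6, 10, 8, 4, 2, 8, 12], [266]⟩, ⟨377, [8, 12, 7, 10, 8, 2, 10, 4, 7], []⟩],
  .tm 1 [8, 12, 10, 8, 7, 10, 8, 4, 8, 0, 10, 4, 6] [] [⟨841, [], []⟩],
  .tm 23 [8, 4, 8, 10, 8, 2, 10, 4, 7] [] [⟨585, [8, 12, 10, 8, 10, 8, 4, 8, 6, 10, 8, 2, 10, 4, 7], []⟩, ⟨139, [6, 10, 8, 7, 10, 8, 12], []⟩, ⟨775, [12, 10, 8, 7, 10, 8, 10, 4, 8, 6, 10, 4, 6], []⟩],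
  .tm 1 [12, 10, 8, 6, 10, 4, 2, 8, 6, 10, 6] [] [⟨843, [], []⟩],
  .tm 23 [12, 7, 10, 4, 8, 6, 10, 8, 10] [] [⟨753, [4, 8, 6, 10, 4, 8, 10, 7], [169]⟩, ⟨139, [12, 10, 8, 6, 10, 8, 4, 0], [268]⟩, ⟨829, [8, 12, 8, 10, 8, 7, 10, 8, 6, 10, 4, 8, 0, 4], []⟩],
  .tm 1 [8, 10, 4, 8, 6, 10, 8, 4, 8, 2, 6] [] [⟨845, [], []⟩],
  .tm 23 [8, 12, 6, 10, 4, 8, 0, 15, 7] [] [⟨164, [8, 12, 10, 8, 4, 8, 7, 10, 8, 6, 10, 8, 15, 7], [167, 169, 217, 167, 216]⟩, ⟨139, [10, 8, 4, 8, 12, 10, 4, 0], [268]⟩, ⟨695, [8, 12, 10, 4, 8, 6, 10, 8, 7, 10, 8, 6], []⟩],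
  .tm 1 [8, 12, 8, 10, 8, 7, 10, 8, 4, 8, 0, 7] [] [⟨847, [], []⟩],
  .tm 23 [12, 8, 4, 8, 6, 10, 8, 7, 10, 4, 8, 10, 4] [] [⟨166, [8, 7, 10, 2, 8, 10, 7], [167, 216]⟩, ⟨139, [10, 4, 8, 10, 8, 12, 4, 0], [266]⟩, ⟨686, [7, 10, 8, 6, 10, 8, 4, 8, 0, 6, 10, 4], []⟩],
  .tm 1 [10, 8, 4, 8, 10, 8, 7, 10, 8, 0, 6] [] [⟨849, [], []⟩],
  .tm 23 [4, 8, 10, 8, 6, 10, 8, 0, 6] [] [⟨625, [7, 10, 8, 4, 8, 6, 10, 8, 0, 15, 6], [167, 169, 217, 167, 169]⟩, ⟨139, [12, 6, 10, 4, 8, 6, 10, 0], [268, 266]⟩, ⟨384, [12, 4, 8, 10, 4, 8, 7, 10, 8, 0, 10], []⟩],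
  .tm 1 [12, 8, 4, 8] [] [⟨851, [], []⟩],
  .tm 23 [8, 12, 8, 4, 8, 6, 10, 8, 10, 4, 6] [] [⟨637, [10, 4, 8, 7, 10, 8, 4, 8, 2, 15, 7], [169, 167, 216, 167, 169]⟩, ⟨139, [4, 8, 7, 10, 8, 6, 10, 0], [266, 268, 266]⟩, ⟨632, [8, 12, 8, 4, 8, 6, 10, 8, 4, 8, 10, 4, 7], []⟩],
  .tm 1 [8, 12, 8, 6, 10, 8, 4, 8, 7, 10, 8, 4] [] [⟨853, [], []⟩],
  .tm 23 [7, 10, 8, 6, 10, 8, 7, 10, 4, 8, 2, 15, 6] [] [⟨824, [8, 12, 4, 8, 10, 8, 6, 10, 4, 8, 0, 6, 10, 7], []⟩, ⟨139, [7, 10, 4, 8, 12, 6, 10, 0], [266, 268, 266]⟩, ⟨547, [12, 4, 8, 10, 8, 6, 10, 4, 8, 2, 7], []⟩],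
  .tm 1 [12, 4, 8, 10, 8, 4, 8, 2, 10] [] [⟨855, [], []⟩],
  .tm 23 [10, 4, 8, 7, 10, 8, 6, 10, 8, 15, 4, 7] [] [⟨693, [8, 12, 10, 8, 10, 4, 8, 7, 10, 8, 2, 4, 7], [169, 167, 216, 167, 217]⟩, ⟨139, [10, 8, 6, 10, 8, 7, 10, 0], []⟩, ⟨721, [12, 10, 8, 6, 10, 4, 8, 2, 6, 10, 7], []⟩],
  .tm 1 [8, 12, 8, 10, 8, 6, 10, 8, 10, 4, 8, 15] [] [⟨857, [], []⟩],
  .tm 23 [8, 12, 10, 4, 8, 6, 10, 8, 7, 10, 8, 2, 10, 4, 7] [] [⟨639, [12, 8, 10, 4, 8, 6, 10, 2, 8], [167, 169, 167, 216, 167, 169]⟩, ⟨139, [12, 10, 8, 6, 10, 8, 4, 2], [266]⟩, ⟨514, [12, 8, 10, 8, 4, 8, 7, 10, 2, 8, 7], []⟩],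
  .tm 1 [12, 4, 8, 10, 4, 8, 7, 10, 2, 8, 15, 4, 7] [] [⟨859, [], []⟩],
  .tm 23 [12, 7, 10, 2, 8, 15, 4, 6] [] [⟨309, [8, 6, 10, 8, 4, 8, 10, 8, 15], [167, 216]⟩, ⟨139, [8, 6, 10, 8, 6, 10, 4, 2], [268, 266]⟩, ⟨787, [8, 12, 8, 10, 8, 6, 10, 8, 7, 10, 4, 8, 2, 7], []⟩],
  .tm 1 [12, 7, 10, 8, 4, 8, 15, 7] [] [⟨861, [], []⟩],
  .tm 23 [8, 10, 8, 6, 10, 8, 2, 15, 6] [] [⟨306, [8, 0, 7], [167, 217, 167]⟩, ⟨139, [8, 12, 6, 10, 8, 7, 10, 2], [268, 266]⟩, ⟨590, [7, 10, 8, 6, 10, 4, 2, 8, 6, 10, 6], []⟩],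
  .tm 23 [7, 10, 8, 6, 10, 4, 8, 0, 10, 4, 7] [] [⟨645, [8, 12, 7, 10, 8, 7, 10, 8, 4, 8, 2, 4, 7], [167, 217, 167, 216]⟩, ⟨139, [8, 7, 10, 8, 12, 8, 10, 2], [266]⟩, ⟨680, [8, 12, 8, 7, 10, 4, 8, 2, 6, 10, 6], []⟩],
  .tm 1 [12, 4, 2, 8, 6] [] [⟨864, [], []⟩],
  .tm 23 [12, 8, 7, 10, 8, 4, 8, 7, 10, 8, 2, 15, 7] [] [⟨727, [6, 10, 8, 6, 10, 4, 8, 2, 4, 6], [169, 167, 217, 167]⟩, ⟨139, [10, 8, 4, 8, 10, 8, 12, 2], [268, 266]⟩, ⟨478, [12, 10, 8, 10, 4, 8, 6, 10, 8, 10, 4, 7], []⟩],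
  .tm 1 [8, 12, 8, 6, 10, 8, 10, 4, 8, 10, 6] [] [⟨866, [], []⟩],
  .tm 23 [12, 10, 8, 4, 8, 6, 10, 8, 2, 6, 10, 4, 6] [] [⟨336, [8, 4, 8, 10, 2, 8, 10, 4], [167, 217]⟩, ⟨139, [8, 4, 8, 12, 10, 4, 8, 4], [268, 266]⟩, ⟨666, [8, 6, 10, 8, 4, 8, 7, 10, 8, 0, 15, 4, 6], []⟩],
  .tm 1 [8, 4, 8, 6, 10, 8, 7, 10, 8, 4, 6] [] [⟨868, [], []⟩],
  .tm 23 [8, 12, 8, 10, 4, 8, 6, 10, 8, 7, 10, 8, 2, 6, 10, 4, 6] [] [⟨645, [8, 12, 8, 4, 8, 10, 8, 4, 8], [169, 167, 216, 167, 217]⟩, ⟨139, [4, 8, 10, 8, 7, 10, 8, 4], [266]⟩, ⟨644, [8, 12, 4, 8, 4, 8, 7, 10, 8, 6, 10, 8, 15], []⟩],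
  .tm 1 [8, 10, 8, 6, 10, 8, 4, 2, 8, 4, 6] [] [⟨870, [], []⟩],
  .tm 23 [12, 10, 8, 10, 8, 4, 8, 6, 10, 8, 2, 6, 10, 6] [] [⟨309, [7, 10, 8, 6, 10, 8, 7, 10, 4, 8], [167, 169, 216, 167, 169]⟩, ⟨139, [8, 10, 8, 12, 10, 8, 10, 4], [266, 268]⟩, ⟨278, [12, 2, 0, 4], []⟩],
  .tm 1 [8, 12, 6, 10, 8, 7, 10, 8, 2, 6, 10, 6] [] [⟨872, [], []⟩],
  .tm 23 [12, 7, 10, 8, 6, 10, 8, 4, 8, 2, 4, 7] [] [⟨871, [12, 8, 4, 8, 7, 10, 8, 6, 10, 8, 4, 7], [169, 167, 216, 167, 217]⟩, ⟨139, [10, 8, 7, 10, 2, 8, 12, 4], [266, 268, 266]⟩, ⟨857, [8, 12, 10, 8, 6, 10, 8, 0, 15, 4, 7], []⟩],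
  .tm 1 [10, 4, 8, 7, 10, 8, 4, 8, 2, 15, 7] [] [⟨874, [], []⟩],
  .tm 23 [12, 8, 10, 8, 4, 8, 10, 8, 2, 10, 6] [] [⟨430, [10, 8, 10, 8, 4, 8, 6, 10, 8, 2, 6, 10, 7], [167, 169, 167, 216, 167, 217]⟩, ⟨139, [12, 10, 8, 7, 10, 8, 12, 4], []⟩, ⟨860, [8, 12, 10, 8, 10, 8, 4, 8, 6, 10, 8, 2, 10, 4], []⟩],
  .tm 1 [8, 6, 10, 8, 4, 2, 8, 7] [] [⟨876, [], []⟩],
  .tm 23 [8, 4, 8, 10, 8, 7, 10, 4, 8, 6, 10, 7] [] [⟨583, [12, 10, 8, 4, 8, 10, 8, 7, 10, 8, 0, 10, 4, 6], [167, 169]⟩, ⟨139, [10, 8, 7, 10, 2, 8, 6, 10], [266, 268, 266]⟩, ⟨860, [8, 10, 8, 7, 10, 8, 6, 10, 4, 7], []⟩],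
  .tm 1 [8, 12, 8, 6, 10, 4, 8, 2, 15, 6] [] [⟨878, [], []⟩],
  .tm 23 [8, 7, 10, 8, 6, 10, 4, 8, 2, 10, 4, 7] [] [⟨727, [7, 10, 8, 4, 8, 7, 10, 8, 4], [169, 167, 217]⟩, ⟨139, [12, 6, 10, 8, 4, 8, 6, 10], [268]⟩, ⟨863, [8, 12, 6, 10, 8, 7, 10, 8, 6, 10, 4, 8, 2, 6, 10, 4, 7], []⟩],
  .tm 1 [12, 8, 10, 4, 8, 7, 10, 8, 6, 10, 4, 8, 2, 15] [] [⟨880, [], []⟩],
  .tm 23 [8, 10, 8, 7, 10, 2, 8, 7] [] [⟨621, [8, 12, 8, 7, 10, 8, 4, 2, 8, 10, 7], [167, 169, 217, 167]⟩, ⟨139, [8, 7, 10, 8, 12, 8, 7, 10], [266, 268, 266]⟩, ⟨822, [8, 12, 8, 10, 8, 6, 10, 8, 4, 8, 0, 6, 10, 4], []⟩],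
  .tm 1 [10, 8, 6, 10, 4, 2, 8, 6, 10, 6] [] [⟨882, [], []⟩],
  .tm 23 [8, 12, 8, 10, 4, 2, 8, 6, 10, 6] [] [⟨727, [8, 7, 10, 2, 8, 15, 7], [169, 167, 217, 167]⟩, ⟨139, [8, 12, 8, 10, 8, 4, 8, 10], [268]⟩, ⟨666, [12, 4, 8, 15, 6], []⟩],
  .tm 1 [8, 12, 8, 10, 8, 7, 10, 8, 2, 6] [] [⟨884, [], []⟩],
  .tm 23 [8, 10, 8, 6, 10, 8, 7, 10, 4, 8, 2, 6, 10] [] [⟨635, [8, 12, 8, 4, 8, 7, 10, 4, 8, 6, 10, 8, 10, 7], [167, 217, 167, 169]⟩, ⟨139, [10, 4, 8, 6, 10, 4, 8, 12], []⟩, ⟨864, [8, 12, 7, 10, 8, 6, 10, 8, 4, 8, 2, 4], []⟩],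
  .tm 1 [12, 4, 8, 7, 10, 8, 6, 10, 4, 2, 8, 4, 7] [] [⟨886, [], []⟩],
  .tm 23 [10, 4, 8, 6, 10, 8, 7, 10, 8, 2, 6] [] [⟨887, [12, 10, 8, 4, 8, 10, 8, 7, 10, 8, 0, 10, 4], [167, 169, 167]⟩, ⟨139, [8, 7, 10, 4, 8, 10, 8, 12], [266, 268, 266]⟩, ⟨670, [10, 8, 10, 4, 8, 6, 10, 8, 7, 10, 8, 6, 10, 7], []⟩],
  .tm 1 [12, 10, 8, 4, 8, 0, 4, 6] [] [⟨888, [], []⟩],
  .tm 23 [4, 8, 10, 8, 6, 10, 8, 2, 10] [] [⟨887, [12, 10, 4, 8, 6, 10, 8, 7, 10, 8, 2, 6, 10, 4, 7], [167]⟩, ⟨139, [8, 6, 10, 8, 12, 10, 8, 4, 0], [266, 268, 266]⟩, ⟨680, [12, 4, 8, 6, 10, 8, 7, 10, 4, 2, 8], []⟩],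
  .tm 1 [8, 7, 10, 8, 6, 10, 4, 8, 2, 7] [] [⟨890, [], []⟩],
  .tm 23 [8, 6, 10, 8, 6, 10, 8, 4, 8, 2, 6, 10, 4, 7] [] [⟨175, [6, 10, 8, 4, 8, 7, 10, 8, 15, 4, 6], [169, 167, 217]⟩, ⟨139, [10, 4, 8, 4, 8, 12, 8, 4, 0], []⟩, ⟨278, [10, 8, 6, 10, 8, 7, 10, 8, 6, 10, 7], []⟩],
  .tm 1 [8, 10, 4, 8, 6, 10, 2, 8, 15, 4, 7] [] [⟨892, [], []⟩],
  .tm 23 [8, 12, 10, 8, 10, 4, 8, 7, 10, 8, 0, 15, 6] [] [⟨321, [12, 7, 10, 8, 7, 10, 4, 8, 2, 10, 4, 7], [167, 217, 167, 216]⟩, ⟨139, [8, 12, 8, 10, 8, 6, 10, 4, 0], [266, 268]⟩, ⟨756, [8, 10, 8, 7, 10, 8, 6, 10, 4, 2, 8], []⟩],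
  .tm 1 [12, 10, 8, 6, 10, 4, 2, 8, 6] [] [⟨894, [], []⟩],
  .tm 23 [10, 8, 7, 10, 8, 6, 10, 4, 8, 2, 6, 10] [] [⟨887, [12, 8, 10, 8, 6, 10, 8, 4, 2, 8, 6, 10, 4, 6], [167]⟩, ⟨139, [8, 10, 8, 12, 8, 6, 10, 4, 0], [266]⟩, ⟨860, [12, 8, 10, 8, 7, 10, 8, 6, 10, 4, 8, 2], []⟩],
  .tm 1 [6, 10, 8, 10, 8, 4, 8, 15, 4, 6] [] [⟨896, [], []⟩],
  .tm 23 [12, 4, 8, 10, 4, 8, 6, 10, 7] [] [⟨613, [12, 10, 8, 7, 10, 4, 8, 6, 10, 8, 10, 4, 7], [167, 169, 167, 216, 167]⟩, ⟨139, [4, 8, 7, 10, 8, 12, 10, 4, 0], [268]⟩, ⟨885, [10, 8, 10, 4, 8, 7, 10, 8, 2, 4, 7], []⟩],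
  .tm 1 [12, 8, 10, 8, 6, 10, 4, 2, 8, 7] [] [⟨898, [], []⟩],
  .tm 23 [8, 4, 8, 10, 8, 2, 6, 10, 4, 7] [] [⟨321, [12, 4, 8, 6, 10, 8, 7, 10, 4, 8, 0, 7], [169, 217, 167, 216]⟩, ⟨139, [12, 7, 10, 8, 4, 8, 12, 4, 0], [266, 268]⟩, ⟨866, [8, 12, 8, 10, 8, 4, 8, 7, 10, 8, 10, 4, 7], []⟩],
  .tm 1 [12, 8, 10, 4, 8, 6, 10, 8, 7, 10, 8, 2, 15, 6] [] [⟨900, [], []⟩],
  .tm 23 [8, 12, 10, 8, 7, 10, 4, 8, 15, 4, 6] [] [⟨336, [7, 10, 8, 10, 6], [167, 217]⟩, ⟨139, [8, 6, 10, 4, 8, 12, 7, 10, 0], [268, 266]⟩, ⟨526, [4, 8, 10, 8, 6, 10, 4, 8, 6, 10, 6], []⟩],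
  .tm 1 [12, 6, 10, 4, 8, 7, 10, 8, 10, 7] [] [⟨902, [], []⟩],
  .tm 23 [4, 8, 10, 4, 8, 6, 10, 2, 8, 6, 10] [] [⟨175, [4, 8, 10, 8, 6, 10, 8, 0, 6, 10, 4], [169, 167, 217, 167]⟩, ⟨139, [8, 12, 6, 10, 4, 2, 8, 10, 4], []⟩, ⟨816, [8, 12, 10, 4, 8, 7, 10, 8, 15, 4], []⟩],
  .tm 1 [10, 8, 10, 4, 8, 7, 10, 8, 6, 10, 4, 6] [] [⟨904, [], []⟩],
  .tm 23 [8, 4, 8, 10, 8, 7, 10, 4, 2, 8, 15, 4, 7] [] [⟨184, [12, 6, 10, 8, 4, 8, 0, 6, 10, 4, 7], []⟩, ⟨139, [8, 12, 7, 10, 4, 2, 8, 10, 4], [266]⟩, ⟨898, [8, 12, 6, 10, 8, 7, 10, 8, 6, 10, 4, 8, 2, 10, 4], []⟩],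
  .tm 1 [4, 8, 7, 10, 8, 6, 10, 4, 2, 8, 10, 4] [] [⟨906, [], []⟩],
  .tm 23 [8, 12, 6, 10, 8, 10, 8, 4, 8, 6, 10, 8, 4, 7] [] [⟨400, [10, 8, 7, 10, 8, 4, 2, 8, 6, 10, 7], [169, 167, 216, 167, 169]⟩, ⟨139, [], [266]⟩, ⟨863, [8, 6, 10, 4, 8, 0, 10, 4, 6], []⟩],
  .tm 1 [12, 8, 4, 8, 6, 10, 8, 7, 10, 4, 8, 4] [] [⟨908, [], []⟩],
  .tm 16 [8, 10, 4, 8, 6, 10, 8, 7, 10, 4, 8, 2, 15, 4, 7] [] [⟨796, [8, 12, 8, 10, 4, 8, 6, 10, 2, 8, 7], [167, 169, 216]⟩, ⟨139, [10, 8, 6, 10, 8, 12, 8, 10], []⟩, ⟨652, [7, 10, 8, 0, 10], []⟩],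
  .tm 1 [8, 12, 8, 10, 8, 4, 8, 7, 10, 2, 8, 10, 4] [] [⟨910, [], []⟩],
  .tm 16 [10, 8, 7, 10, 8, 6, 10, 8, 2, 6, 10, 6] [] [⟨373, [8, 12, 4, 8, 7, 10, 8, 6, 10, 8, 7], [169, 167, 216, 167]⟩, ⟨139, [8, 6, 10, 4, 2, 8, 12, 10], [266]⟩, ⟨187, [4, 8, 10, 8, 4, 8, 6], []⟩],
  .tm 1 [12, 10, 8, 6, 10, 8, 4, 8, 0] [] [⟨912, [], []⟩]]

theorem fc839 : checkL (nat_lit 12) (nat_lit 4095) tH tK tK' BB FF TM XW d839 (nat_lit 839) = true := by decide +kernel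

def d914 : List Der := [.tm 16 [12, 7, 10, 8, 6, 10, 4, 8, 0, 10, 4, 6] [] [⟨639, [8, 6, 10, 8, 6, 10, 8, 4, 8], [167, 217, 167]⟩, ⟨139, [4, 8, 6, 10, 4, 8, 12, 10], [268, 266]⟩, ⟨703, [8, 6, 10, 8, 7, 10, 4, 8, 2, 15, 4, 7], []⟩],
  .tm 1 [8, 12, 8, 10, 4, 8, 6, 10, 8, 0, 4, 6] [] [⟨914, [], []⟩],
  .tm 16 [12, 7, 10, 8, 4, 8, 6, 10, 2, 8, 10, 4] [] [⟨871, [12, 6, 10, 8, 4, 8, 10, 8, 2, 15, 4, 6], [167, 217, 167, 169]⟩, ⟨139, [8, 4, 8, 7, 10, 8, 12, 10], [266, 268, 266]⟩, ⟨703, [8, 10, 4, 8, 7, 10, 8, 4, 8, 15, 6], []⟩],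
  .tm 1 [8, 12, 10, 8, 7, 10, 8, 4] [] [⟨916, [], []⟩],
  .tm 16 [8, 4, 8, 10, 8, 6, 10, 4, 8, 2, 15, 4] [] [⟨259, [8, 10, 8, 4, 8, 6, 10, 8, 2, 10], [169, 216, 167]⟩, ⟨139, [12, 10, 8, 6, 10, 2, 8, 12], [268, 266]⟩, ⟨859, [8, 6, 10, 8, 4, 8, 7, 10, 8, 0, 15, 4, 7], []⟩],
  .tm 1 [12, 8, 10, 4, 8, 7, 10, 4, 8, 2] [] [⟨918, [], []⟩],
  .tm 16 [12, 8, 7, 10, 8, 4, 8, 10, 8, 10, 4] [] [⟨862, [8, 6, 10, 8, 6, 10, 4, 8, 2, 6, 10], [167, 216, 167, 169]⟩, ⟨139, [12, 10, 8, 7, 10, 2, 8, 12], [268, 266]⟩, ⟨859, [4, 8, 6, 10, 2, 8, 10, 4, 6], []⟩],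
  .tm 1 [8, 12, 4, 8, 10, 8, 7, 10, 4, 8, 10, 4] [] [⟨920, [], []⟩],
  .tm 16 [12, 8, 10, 8, 2, 6] [] [⟨820, [12, 8, 4, 8, 10, 4, 8, 7, 10, 8, 4], [167, 169, 167, 216, 167]⟩, ⟨139, [7, 10, 8, 6, 10, 4, 8, 12], [268, 266]⟩, ⟨624, [8, 4, 8, 6, 10, 8, 7, 10, 4, 8, 15], []⟩],
  .tm 1 [8, 12, 8, 7, 10, 8, 6, 10, 4, 8, 0, 15, 4] [] [⟨922, [], []⟩],
  .tm 16 [12, 4, 8, 10, 8, 6, 10, 8, 10, 4] [] [⟨259, [8, 4, 8, 10, 8, 6, 10, 8, 15, 4, 6], [167, 169, 217, 167, 169]⟩, ⟨139, [7, 10, 4, 8, 10, 4, 8, 12], [266, 268]⟩, ⟨817, [12, 8, 10, 8, 10], []⟩],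
  .tm 1 [4, 8, 10, 8, 0, 6, 10, 4, 6] [] [⟨924, [], []⟩],
  .tm 16 [12, 10, 8, 10, 4, 8, 6, 10, 8, 2, 15, 4] [] [⟨497, [8, 10, 8, 7, 10, 8, 6, 10, 8, 2, 10, 4, 7], [216, 167, 217]⟩, ⟨139, [8, 12, 10, 8, 10, 4, 8, 12], [266, 268, 266]⟩, ⟨859, [4, 8, 4, 8, 7, 10, 8, 6, 10, 8, 6, 10, 7], []⟩],
  .tm 1 [12, 2, 8, 6, 10, 4, 6] [] [⟨926, [], []⟩],
  .tm 16 [8, 10, 8, 6, 10, 4, 8, 6, 10, 4, 7] [] [⟨862, [8, 10, 8, 7, 10, 8, 4, 8, 2, 10], [216, 167]⟩, ⟨139, [8, 6, 10, 8, 7, 10, 8, 12], []⟩, ⟨634, [12, 10, 8, 10, 8, 4, 8, 6, 10, 8, 10, 4, 6], []⟩],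
  .tm 1 [8, 12, 8, 10, 8, 4, 8, 7, 10, 8, 6, 10, 4] [] [⟨928, [], []⟩],
  .tm 16 [8, 12, 4, 8, 10, 8, 6, 10, 8, 10, 7] [] [⟨685, [8, 12, 8, 4, 8, 6, 10], [169, 167, 217, 167]⟩, ⟨139, [12, 8, 10, 8, 7, 10, 8, 12], [266, 268]⟩, ⟨859, [8, 4, 8, 6, 10, 8, 2, 10, 4, 6], []⟩],
  .tm 1 [8, 12, 8, 10, 8, 7, 10, 8, 6, 10, 4, 8, 6, 10] [] [⟨930, [], []⟩],
  .tm 16 [8, 4, 8, 10, 8, 6, 10, 4, 8, 2, 6, 10] [] [⟨929, [12, 8, 7, 10, 8, 4, 8, 2, 6, 10, 4], [216]⟩, ⟨139, [12, 8, 10, 8, 7, 10, 8, 4, 0], [266]⟩, ⟨703, [10, 8, 6, 10, 8, 7, 10, 8, 6, 10, 6], []⟩],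
  .tm 1 [8, 12, 10, 4, 8, 7, 10, 8, 6, 10, 8, 2, 15, 4] [] [⟨932, [], []⟩],
  .tm 16 [7, 10, 8, 7, 10, 4, 8, 10, 6] [] [⟨430, [12, 4, 8, 10, 4, 8, 7, 10, 8, 0, 10], [169, 216, 167]⟩, ⟨139, [7, 10, 4, 8, 12, 10, 8, 4, 0], []⟩, ⟨703, [10, 8, 7, 10, 4, 8, 2, 15, 4, 6], []⟩],
  .tm 1 [8, 4, 8, 7, 10, 8, 4, 8, 2, 6, 10] [] [⟨934, [], []⟩],
  .tm 16 [12, 6, 10, 8, 10, 8, 4, 8, 6, 10, 8, 4] [] [⟨852, [8, 7, 10, 8, 4, 8, 2, 6, 10, 7], [167, 217, 167, 216]⟩, ⟨139, [12, 8, 10, 8, 12, 10, 8, 4, 0], [266, 268, 266]⟩, ⟨760, [8, 4, 8, 10, 8, 6, 10, 8, 6, 10, 4], []⟩],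
  .tm 1 [8, 12, 8, 10, 8, 6, 10, 8, 7, 10, 4, 8, 4, 6] [] [⟨936, [], []⟩],
  .tm 16 [8, 12, 4, 8, 10, 4, 8, 2, 4, 6] [] [⟨621, [7, 10, 8, 6, 10, 4, 8, 4, 7], [169, 217, 167, 216]⟩, ⟨139, [8, 6, 10, 4, 8, 12, 8, 4, 0], [268]⟩, ⟨760, [8, 7, 10, 8, 4, 2, 8, 10, 4, 6], []⟩],
  .tm 1 [12, 7, 10, 8, 10, 4, 8, 6, 10] [] [⟨938, [], []⟩],
  .tm 16 [8, 12, 10, 4, 2, 8, 15] [] [⟨887, [8, 12, 4, 8, 10, 8, 7, 10, 4, 8, 2, 15, 7], [167, 217, 167, 216]⟩, ⟨139, [6, 10, 8, 10, 8, 12, 8, 4, 0], [266]⟩, ⟨703, [8, 10, 8, 4, 8, 6, 10, 8, 0, 6, 10, 4, 7], []⟩],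
  .tm 1 [12, 6, 10, 8, 2, 6, 10, 4] [] [⟨940, [], []⟩],
  .tm 16 [8, 12, 4, 8, 10, 8, 4, 8, 6, 10, 8, 0, 7] [] [⟨798, [8, 12, 10, 8, 7, 10, 8, 6, 10, 8, 7], [167, 169, 167, 217]⟩, ⟨139, [8, 7, 10, 4, 8, 6, 10, 4, 0], [268]⟩, ⟨620, [8, 4, 8, 10, 8, 6, 10, 8, 6, 10, 4], []⟩],
  .tm 1 [8, 12, 8, 4, 8, 7, 10, 8, 6, 10, 8, 15, 4, 7] [] [⟨942, [], []⟩],
  .tm 16 [8, 12, 8, 6, 10, 8, 7, 10, 4, 8, 0, 6] [] [⟨820, [8, 12, 10, 8, 6, 10, 8, 7, 10, 4, 8, 6, 10, 7], [167, 169, 167, 217, 167, 169]⟩, ⟨139, [12, 7, 10, 4, 8, 6, 10, 4, 0], [266]⟩, ⟨187, [8, 10, 8, 10, 4, 8, 7, 10, 8, 2, 15, 4, 7], []⟩],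
  .tm 1 [12, 10, 4, 8, 6, 10, 8, 4, 8, 2, 6, 10, 4] [] [⟨944, [], []⟩],
  .tm 16 [12, 8, 7, 10, 2, 8, 6, 10, 4, 6] [] [⟨497, [12, 8, 10, 8, 7, 10, 8, 6, 10, 4, 7], [167, 169, 167, 216, 167, 169]⟩, ⟨139, [8, 4, 8, 10, 8, 6, 10, 4, 0], [268]⟩, ⟨358, [4, 8, 10, 8, 2, 10, 4, 7], []⟩],
  .tm 1 [12, 6, 10, 8, 4, 2, 8, 15, 4] [] [⟨946, [], []⟩],
  .tm 16 [12, 6, 10, 8, 4, 8, 7, 10, 8, 6, 10] [] [⟨458, [8, 12, 7, 10, 4, 8, 0, 15, 4, 6], [167, 217, 167]⟩, ⟨139, [4, 8, 12, 10, 8, 6, 10, 4, 0], [266, 268, 266]⟩, ⟨703, [8, 10, 8, 7, 10, 8, 6, 10, 8, 15, 7], []⟩],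
  .tm 1 [4, 8, 6, 10, 8, 0, 15] [] [⟨948, [], []⟩],
  .tm 16 [12, 10, 8, 6, 10, 4, 8, 2, 10, 6] [] [⟨802, [8, 12, 7, 10, 8, 6, 10, 4, 2, 8, 6, 10, 4, 6], [167, 169, 167, 217, 167, 169]⟩, ⟨139, [8, 6, 10, 4, 8, 7, 10, 4, 0], [266, 268]⟩, ⟨359, [8, 10, 8, 10, 4, 8, 7, 10, 8, 2, 15, 4, 7], []⟩],
  .tm 1 [8, 12, 8, 4, 8, 7, 10, 8, 4, 8, 10, 6] [] [⟨950, [], []⟩],
  .tm 16 [8, 12, 10, 8, 6, 10, 8, 7, 10, 4, 8, 0, 10] [] [⟨887, [12, 8, 10, 4, 8, 6, 10, 8, 7, 10, 8, 2, 10], [169, 167, 216, 167, 217]⟩, ⟨139, [7, 10, 8, 12, 8, 7, 10, 4, 0], [268, 266]⟩, ⟨817, [12, 8, 4, 8, 7, 10, 4, 8, 6, 10, 8, 6, 10, 6], []⟩],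
  .tm 1 [12, 10, 8, 6, 10, 4, 8, 0, 10, 6] [] [⟨952, [], []⟩],
  .tm 16 [6, 10, 8, 7, 10, 8, 15, 6] [] [⟨923, [8, 12, 8, 7, 10, 8, 0, 15, 7], [167, 216, 167, 217]⟩, ⟨139, [4, 8, 7, 10, 8, 12, 10, 4, 0], [266]⟩, ⟨634, [12, 6, 10, 8, 10, 8, 4, 8, 6, 10, 8, 10, 4, 7], []⟩],
  .tm 1 [8, 12, 4, 8, 10, 8, 6, 10, 8, 0, 6, 10, 4] [] [⟨954, [], []⟩],
  .tm 16 [8, 12, 10, 4, 8, 6, 10, 8, 4, 8, 7] [] [⟨639, [12, 8, 4, 8, 10, 8, 6, 10, 6], [167, 217, 167, 169]⟩, ⟨139, [8, 4, 8, 6, 10, 8, 12, 4, 0], [268]⟩, ⟨573, [12, 7, 10, 8, 6, 10, 4, 8, 7, 10, 8, 6, 10, 4], []⟩],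
  .tm 1 [7, 10, 8, 10, 8, 4, 8, 7, 10, 8] [] [⟨956, [], []⟩],
  .tm 16 [8, 12, 10, 4, 8, 7, 10, 8, 6, 10, 8, 10, 4, 6] [] [⟨215, [8, 12, 8, 4, 8, 7, 10, 4, 8, 6, 10, 8, 10, 7], [167, 169, 217]⟩, ⟨139, [4, 8, 10, 8, 6, 10, 4, 8, 0], [266, 268]⟩, ⟨189, [8, 6, 10, 4, 8, 0, 6, 10, 4, 7], []⟩],
  .tm 1 [10, 8, 7, 10, 8, 0, 6, 10, 7] [] [⟨958, [], []⟩],
  .tm 16 [12, 4, 8, 10, 4, 8, 6, 10, 8, 6, 10, 6] [] [⟨683, [8, 12, 8, 10, 8, 4, 8, 7, 10, 8, 6, 10, 4, 6], [167, 169, 167, 216]⟩, ⟨139, [8, 4, 8, 12, 6, 10, 4, 8, 0], [268, 266]⟩, ⟨703, [10, 8, 7, 10, 4, 2, 8, 15, 4], []⟩],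
  .tm 1 [12, 8, 10, 4, 8, 6, 10, 8, 7, 10, 8, 4, 6] [] [⟨960, [], []⟩],
  .tm 16 [12, 7, 10, 8, 6, 10, 4, 8, 6, 10, 6] [] [⟨625, [8, 12, 10, 8, 7, 10, 8, 0, 6, 10, 4, 6], [169]⟩, ⟨139, [10, 8, 7, 10, 8, 12, 4, 8, 0], []⟩, ⟨930, [8, 10, 4, 8, 2, 10, 7], []⟩],
  .tm 1 [6, 10, 8, 4, 8, 10, 8, 2, 10, 6] [] [⟨962, [], []⟩],
  .tm 16 [12, 7, 10, 8, 4, 8, 6, 10, 8, 2, 4, 7] [] [⟨493, [8, 12, 4, 8, 6, 10, 8, 6, 10, 4, 6], [169]⟩, ⟨139, [10, 4, 8, 12, 8, 6, 10, 8, 0], [266, 268]⟩, ⟨938, [8, 10, 8, 6, 10, 8, 2, 6, 10, 7], []⟩],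
  .tm 1 [12, 8, 7, 10, 4, 8, 0, 7] [] [⟨964, [], []⟩],
  .tm 16 [8, 12, 8, 7, 10, 8, 7, 10, 4, 8, 2, 15, 7] [] [⟨477, [4, 8, 7, 10, 4, 8, 10, 6], [169, 216, 167, 217]⟩, ⟨139, [7, 10, 8, 4, 8, 7, 10, 8, 0], [268, 266]⟩, ⟨760, [8, 10, 8, 10], []⟩],
  .tm 1 [12, 8, 6, 10, 8, 6, 10, 4, 8, 2, 6, 10, 4, 6] [] [⟨966, [], []⟩],
  .tm 16 [8, 12, 8, 10, 4, 8, 6, 10, 8, 7, 10, 4, 8, 15, 4, 7] [] [⟨156, [12, 4, 8, 7, 10, 4, 8, 6, 10, 8, 2, 6, 10, 7], [169, 167, 216, 167, 217]⟩, ⟨139, [8, 7, 10, 8, 12, 7, 10, 8, 0], [268, 266]⟩, ⟨358, [7, 10, 8, 10], []⟩],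
  .tm 1 [12, 6, 10, 8, 7, 10, 8, 4, 8, 0, 15, 4, 7] [] [⟨968, [], []⟩],
  .tm 16 [4, 8, 10, 8, 7, 10, 4, 8, 0] [] [⟨685, [10, 8, 10, 4, 8, 2, 15, 4, 6], [169, 216, 167]⟩, ⟨139, [8, 6, 10, 8, 4, 8, 6, 10, 0], [266]⟩, ⟨927, [8, 6, 10, 8, 6, 10, 4, 8, 2, 6, 10, 4], []⟩],
  .tm 1 [8, 12, 7, 10, 8, 10, 8, 4, 8, 2, 15, 4] [] [⟨970, [], []⟩],
  .tm 16 [8, 7, 10, 8, 7, 10, 8, 4, 8, 2, 10, 4, 7] [] [⟨184, [7, 10, 4, 8, 2, 7], [169, 217]⟩, ⟨139, [12, 8, 10, 8, 4, 8, 6, 10, 0], [266, 268, 266]⟩, ⟨374, [12, 8, 4, 8, 7, 10, 8, 2, 10, 4], []⟩],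
  .tm 1 [8, 4, 8, 10, 8, 2, 6, 10, 4, 6] [] [⟨972, [], []⟩],
  .tm 16 [8, 12, 8, 7, 10, 8, 6, 10, 4, 8, 15] [] [⟨486, [12, 10, 8, 4, 8, 7, 10, 8, 0, 4, 6], [169, 216, 167]⟩, ⟨139, [12, 4, 8, 6, 10, 8, 6, 10, 0], [266]⟩, ⟨877, [4, 8, 6, 10, 8, 2, 10, 4, 6], []⟩],
  .tm 1 [4, 8, 10, 8, 4, 8, 2, 10, 7] [] [⟨974, [], []⟩],
  .tm 16 [12, 4, 8, 10, 8, 4, 8, 6, 10, 8, 7] [] [⟨788, [12, 10, 8, 4, 8, 10, 8, 2, 4], [216, 167, 217]⟩, ⟨139, [8, 12, 8, 7, 10, 8, 6, 10, 0], []⟩, ⟨624, [8, 10, 8, 7, 10, 8, 4, 8, 0, 15, 4, 6], []⟩],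
  .tm 1 [6, 10, 8, 4, 8, 10, 8, 2, 6, 10, 4, 6] [] [⟨976, [], []⟩],
  .tm 16 [6, 10, 8, 6, 10, 8, 4, 8, 6, 10, 6] [] [⟨806, [12, 4, 8, 10, 8, 4, 8, 6, 10, 8, 0, 10, 4], [167, 169, 167, 216, 167, 169]⟩, ⟨139, [10, 8, 12, 8, 10, 8, 6, 10, 0], []⟩, ⟨359, [4, 8, 4, 8, 7, 10, 8, 6, 10, 8, 15, 7], []⟩],
  .tm 1 [12, 8, 6, 10, 8, 15, 4, 6] [] [⟨978, [], []⟩],
  .tm 16 [12, 6, 10, 8, 7, 10, 8, 4, 2, 8, 15, 6] [] [⟨221, [8, 12, 4, 8, 6, 10, 2, 8, 10, 4, 7], [169, 167, 217, 167, 216]⟩, ⟨139, [7, 10, 8, 12, 10, 8, 6, 10, 0], [266, 268]⟩, ⟨938, [8, 7, 10, 4, 8, 10, 4, 6], []⟩],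
  .tm 1 [8, 12, 4, 8, 7, 10, 8, 4, 8, 15, 4, 7] [] [⟨980, [], []⟩],
  .tm 16 [12, 8, 7, 10, 8, 0, 4, 7] [] [⟨259, [8, 12, 4, 8, 10, 8, 6, 10, 8, 15, 4, 6], [167, 217, 167, 169]⟩, ⟨139, [10, 8, 6, 10, 8, 12, 6, 10, 0], [266]⟩, ⟨359, [8, 10, 8, 7, 10, 4, 8, 0, 10, 4], []⟩],
  .tm 1 [12, 8, 0] [] [⟨982, [], []⟩],
  .tm 16 [8, 12, 8, 6, 10, 4, 8, 7, 10, 8, 10, 6] [] [⟨747, [7, 10, 8, 10, 4, 8, 2], [169, 167, 217, 167, 169]⟩, ⟨139, [4, 8, 6, 10, 4, 8, 7, 10, 0], [268]⟩, ⟨359, [4, 8, 6, 10, 8, 7, 10, 4, 2, 8, 6, 10, 7], []⟩],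
  .tm 1 [8, 10, 8, 7, 10, 8, 6, 10, 8, 10, 7] [] [⟨984, [], []⟩],
  .tm 16 [10, 8, 7, 10, 8, 6, 10, 4, 8, 6] [] [⟨518, [12, 10, 8, 7, 10, 8, 4, 8, 2, 15, 7], [169, 216]⟩, ⟨139, [8, 12, 4, 8, 10, 8, 7, 10, 0], [268]⟩, ⟨374, [12, 8, 4, 8, 10, 8, 7, 10, 8, 15, 4, 7], []⟩],
  .tm 1 [8, 4, 8, 10, 8, 6, 10, 4, 2, 8, 6, 10, 4] [] [⟨986, [], []⟩]]

theorem fc914 : checkL (nat_lit 12) (nat_lit 4095) tH tK tK' BB FF TM XW d914 (nat_lit 914) = true := by decide +kernel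

def d988 : List Der := [.tm 16 [12, 10, 8, 6, 10, 4, 2, 8, 10, 6] [] [⟨828, [12, 10, 4, 8, 6, 10, 8, 4, 8, 15, 4], [217]⟩, ⟨139, [12, 8, 10, 8, 12, 8, 7, 10, 0], [266, 268]⟩, ⟨189, [10, 4, 8, 6, 10, 8, 7, 10, 8, 2, 15, 4], []⟩],
  .tm 1 [12, 8, 4, 8, 10, 8, 7, 10, 4, 8, 2] [] [⟨988, [], []⟩],
  .tm 16 [12, 10, 8, 7, 10, 8, 6, 10, 8, 15, 4, 6] [] [⟨452, [6, 10, 8, 6, 10, 8, 4, 8, 6, 10], [169, 217, 167, 169]⟩, ⟨139, [6, 10, 8, 4, 8, 12, 7, 10, 0], [266]⟩, ⟨624, [8, 4, 8, 10, 8, 4, 8, 10, 7], []⟩],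
  .tm 1 [6, 10, 8, 7, 10, 4, 8, 6, 10, 8, 2, 15, 4, 7] [] [⟨990, [], []⟩],
  .tm 16 [12, 8, 4, 8, 10, 8, 6, 10, 4, 8, 2, 4, 6] [] [⟨225, [4, 8, 10, 8, 4, 8, 7, 10, 8, 0, 10], [216, 167, 169]⟩, ⟨139, [4, 8, 6, 10, 8, 12, 7, 10, 0], [268, 266]⟩, ⟨877, [8, 10, 4, 8, 7, 10, 4, 8, 2, 15, 7], []⟩],
  .tm 1 [6, 10, 8, 7, 10, 8, 4, 7] [] [⟨992, [], []⟩],
  .tm 16 [8, 12, 8, 6, 10, 8, 6, 10, 8, 4, 8, 2, 15, 4] [] [⟨836, [10, 8, 10, 8, 4, 8, 6, 10, 8, 2, 6], [167, 217, 167]⟩, ⟨139, [6, 10, 8, 12, 10, 4, 8, 10, 0], []⟩, ⟨877, [10, 8, 0, 10, 6], []⟩],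
  .tm 1 [12, 10, 4, 8, 7, 10, 4, 8, 10, 4] [] [⟨994, [], []⟩],
  .tm 16 [8, 10, 8, 6, 10, 8, 7, 10, 8, 4, 6] [] [⟨786, [4, 8, 10, 4, 8, 7, 10, 2, 8, 15], [216]⟩, ⟨139, [4, 8, 10, 8, 12, 4, 8, 10, 0], []⟩, ⟨192, [7, 10, 8, 0, 10, 6], []⟩],
  .tm 1 [7, 10, 2, 8, 4, 7] [] [⟨996, [], []⟩],
  .tm 16 [12, 4, 8, 4, 8, 10, 8, 7, 10, 8, 15] [] [⟨458, [10, 8, 4, 8, 6, 10, 8, 7, 10, 8, 10, 4, 7], [167, 217]⟩, ⟨139, [8, 12, 10, 8, 6, 10, 8, 12, 0], [266, 268, 266]⟩, ⟨859, [8, 4, 8, 6, 10, 2, 8, 10, 4], []⟩],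
  .tm 1 [12, 8, 6, 10, 4, 8, 10] [] [⟨998, [], []⟩],
  .tm 16 [8, 12, 10, 8, 10, 8, 4, 8, 6, 10, 8, 2, 6, 10, 7] [] [⟨987, [8, 12, 6, 10, 2, 8], [169, 217]⟩, ⟨139, [12, 8, 10, 8, 7, 10, 8, 12, 0], [266, 268]⟩, ⟨859, [4, 8, 6, 10, 8, 2, 10, 4, 6], []⟩],
  .tm 1 [12, 8, 10, 8, 7, 10, 4, 8, 0, 15] [] [⟨1000, [], []⟩],
  .tm 16 [12, 6, 10, 8, 7, 10, 4, 8, 6, 10, 8] [] [⟨820, [8, 12, 8, 4, 8, 10, 8, 6, 10, 4, 7], [169, 167, 216, 167, 169]⟩, ⟨139, [8, 12, 10, 8, 7, 10, 8, 12, 0], [266, 268, 266]⟩, ⟨859, [6, 10, 8, 4, 8, 7, 10, 8, 0, 15, 4], []⟩],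
  .tm 1 [8, 7, 10, 8, 4, 8, 15, 4, 6] [] [⟨1002, [], []⟩],
  .tm 16 [12, 6, 10, 8, 6, 10, 4, 8, 2, 4, 7] [] [⟨477, [12, 6, 10, 8, 7, 10, 8, 6, 10, 4, 8, 10, 4, 7], [167, 169, 217, 167, 216]⟩, ⟨139, [6, 10, 8, 4, 8, 10, 8, 12, 0], [266, 268, 266]⟩, ⟨877, [7, 10, 8, 4, 8, 2, 10, 4, 7], []⟩],
  .tm 1 [6, 10, 8, 10, 4, 8, 6, 10, 4] [] [⟨1004, [], []⟩],
  .tm 16 [10, 8, 10, 4, 8, 7, 10, 8, 0, 6, 10] [] [⟨568, [12, 8, 7, 10, 8, 6, 10, 4, 7], [167, 216]⟩, ⟨139, [6, 10, 8, 4, 8, 10, 8, 4, 2], []⟩, ⟨194, [12, 10, 4, 8, 10, 4, 6], []⟩],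
  .tm 1 [8, 10, 4, 8, 7, 10, 8, 2, 6, 10, 4, 6] [] [⟨1006, [], []⟩],
  .tm 16 [12, 7, 10, 8, 6, 10, 8, 7, 10, 4, 8, 10, 7] [] [⟨118, [8, 12, 8, 4, 8, 2, 4, 6], [169, 167, 216]⟩, ⟨139, [8, 12, 6, 10, 4, 8, 10, 4, 2], [268]⟩, ⟨567, [8, 10, 8, 4, 8, 7, 10, 8, 2, 15], []⟩],
  .tm 1 [8, 12, 7, 10, 8, 4, 2, 8, 6, 10] [] [⟨1008, [], []⟩],
  .tm 16 [12, 10, 4, 8, 7, 10, 4, 8, 6, 10, 6] [] [⟨753, [10, 8, 4, 8, 6, 10, 8, 2, 6, 10, 4], [216, 167]⟩, ⟨139, [8, 12, 8, 10, 4, 8, 10, 4, 2], [268]⟩, ⟨573, [12, 8, 4, 8, 10, 8, 6, 10, 8, 0, 6, 10, 4], []⟩],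
  .tm 1 [12, 8, 4, 8, 10, 8, 7, 10, 4, 2, 8, 10, 6] [] [⟨1010, [], []⟩],
  .tm 16 [8, 12, 7, 10, 8, 4, 8, 6, 10, 8, 2, 10, 6] [] [⟨977, [10, 4, 8, 7, 10, 8, 6, 10, 4, 8, 4, 6], [169, 217, 167, 169]⟩, ⟨139, [8, 12, 8, 7, 10, 8, 10, 4, 2], [266]⟩, ⟨930, [10, 4, 8, 7, 10, 8, 6, 10, 4, 8, 15, 4], []⟩],
  .tm 1 [12, 8, 7, 10, 8, 7] [] [⟨1012, [], []⟩],
  .tm 16 [12, 6, 10, 4, 2, 8, 15] [] [⟨243, [8, 12, 6, 10, 4, 8, 0, 15, 4], [167, 217, 167]⟩, ⟨139, [10, 8, 12, 7, 10, 8, 4, 8, 2], [266]⟩, ⟨441, [10, 4, 8, 7, 10, 2, 8, 15, 4, 7], []⟩],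
  .tm 1 [8, 6, 10, 8, 7, 10, 8, 2, 10, 7] [] [⟨1014, [], []⟩],
  .tm 16 [8, 12, 6, 10, 8, 7, 10, 8, 2, 10, 7] [] [⟨515, [8, 12, 8, 6, 10, 8, 4, 8, 6, 10, 4, 7], [167, 169, 167, 217]⟩, ⟨139, [10, 8, 7, 10, 8, 10, 4, 8, 2], [266]⟩, ⟨927, [8, 7, 10, 8, 4, 2, 8, 10, 4, 6], []⟩],
  .tm 1 [8, 10, 4, 8, 7, 10, 8, 6, 10, 4, 8, 6, 10, 4] [] [⟨1016, [], []⟩],
  .tm 16 [8, 12, 8, 10, 4, 8, 6, 10, 2, 8, 10] [] [⟨991, [8, 6, 10, 8, 7, 10, 8, 4, 8, 10, 6], [167, 169, 217]⟩, ⟨139, [10, 4, 8, 12, 8, 6, 10, 8, 2], [266, 268, 266]⟩, ⟨624, [8, 10, 4, 8, 7, 10, 8, 2, 15, 4, 7], []⟩],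
  .tm 1 [7, 10, 8, 6, 10, 8, 4, 8, 6] [] [⟨1018, [], []⟩],
  .tm 16 [12, 4, 8, 10, 8, 4, 8, 2] [] [⟨782, [8, 12, 8, 10, 4, 8, 7, 10, 8, 2, 10, 7], [167, 169, 216, 167]⟩, ⟨139, [6, 10, 4, 8, 12, 6, 10, 8, 2], [266, 268, 266]⟩, ⟨358, [4, 8, 10, 4, 8, 7, 10, 8, 0, 15, 7], []⟩],
  .tm 1 [10, 4, 2, 8, 6] [] [⟨1020, [], []⟩],
  .tm 16 [8, 12, 4, 8, 7, 10, 8, 4, 8, 6, 10, 4, 6] [] [⟨259, [8, 12, 2, 0, 15], [217, 167]⟩, ⟨139, [7, 10, 8, 4, 8, 7, 10, 8, 2], []⟩, ⟨927, [4, 8, 4, 8, 7, 10, 8, 6, 10, 8, 6, 10, 6], []⟩],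
  .tm 1 [12, 8, 7, 10, 8, 6, 10, 8, 4, 8, 0, 4, 7] [] [⟨1022, [], []⟩],
  .tm 16 [8, 10, 8, 2, 10, 4, 6] [] [⟨493, [8, 12, 8, 7, 10, 8, 6, 10, 4, 8, 2, 15, 7], [169, 167, 217, 167]⟩, ⟨139, [8, 7, 10, 8, 4, 8, 10, 8, 2], [266, 268, 266]⟩, ⟨930, [4, 8, 6, 10, 4, 8, 10, 4, 6], []⟩],
  .tm 1 [12, 8, 7, 10, 8, 4, 8, 10, 8, 4, 7] [] [⟨1024, [], []⟩],
  .tm 16 [8, 10, 4, 8, 6, 10, 4, 8, 2, 10] [] [⟨458, [12, 8, 10, 8, 7, 10, 8, 4, 8, 4, 6], [167, 217, 167, 169]⟩, ⟨139, [6, 10, 8, 7, 10, 8, 12, 8, 2], [268, 266]⟩, ⟨187, [7, 10, 8, 4, 8, 0, 15, 4, 7], []⟩],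
  .tm 1 [8, 7, 10, 8, 4, 8, 6, 10, 8, 0, 4, 6] [] [⟨1026, [], []⟩],
  .tm 16 [8, 10, 4, 8, 7, 10, 8, 2, 6, 10, 4] [] [⟨828, [12, 4, 8, 10, 4, 8, 7, 10, 8, 2, 10], [169, 167, 216, 167, 169]⟩, ⟨139, [8, 6, 10, 8, 4, 8, 6, 10, 2], [266, 268, 266]⟩, ⟨760, [4, 8, 6, 10, 2, 8, 10, 4], []⟩],
  .tm 1 [12, 8, 10, 4, 8, 6, 10, 8, 4, 8, 15, 6] [] [⟨1028, [], []⟩],
  .tm 16 [12, 7, 10, 8, 4, 8, 2, 6, 10, 7] [] [⟨515, [8, 7, 10, 8, 7, 10, 8, 4, 8, 2, 10, 7], [167, 169, 216]⟩, ⟨139, [8, 12, 8, 6, 10, 8, 6, 10, 2], []⟩, ⟨445, [8, 12, 6, 10, 8, 6, 10, 8, 4, 8, 6, 10, 4, 7], []⟩],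
  .tm 1 [8, 12, 10, 8, 10, 4, 8, 7, 10, 8, 6, 10] [] [⟨1030, [], []⟩],
  .tm 16 [12, 4, 8, 6, 10, 4, 8, 2, 6, 10, 4, 6] [] [⟨911, [12, 8, 6, 10, 8, 6, 10, 8, 4, 8, 4], [167, 169, 217, 167, 216]⟩, ⟨139, [8, 7, 10, 4, 8, 12, 6, 10, 2], [266, 268]⟩, ⟨573, [12, 8, 7, 10, 8, 4, 2, 8, 10, 4], []⟩],
  .tm 1 [12, 4, 8, 7, 10, 8, 2] [] [⟨1032, [], []⟩],
  .tm 16 [6, 10, 8, 10, 8, 4, 8, 6, 10, 8, 15, 6] [] [⟨911, [8, 12, 7, 10, 8, 10, 8, 4, 8, 15, 4, 7], [217, 167, 216]⟩, ⟨139, [10, 8, 6, 10, 8, 12, 6, 10, 2], [268, 266]⟩, ⟨358, [4, 8, 10, 2, 8, 10, 4], []⟩],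
  .tm 1 [12, 8, 2, 6, 10, 4, 7] [] [⟨1034, [], []⟩],
  .tm 16 [12, 10, 4, 2, 8, 7] [] [⟨544, [12, 6, 10, 8, 4, 8, 2], [167, 169, 217]⟩, ⟨139, [8, 12, 4, 8, 4, 8, 7, 10, 2], []⟩, ⟨359, [4, 8, 10, 8, 4, 7], []⟩],
  .tm 1 [6, 10, 8, 7, 10, 8, 6, 10, 4, 8, 6, 10, 4, 7] [] [⟨1036, [], []⟩],
  .tm 16 [8, 12, 8, 10, 4, 8, 0, 6, 10, 4] [] [⟨671, [8, 7, 10, 4, 8, 6, 10, 8, 2, 6, 10, 6], [167, 169, 167, 217, 167]⟩, ⟨139, [10, 8, 12, 8, 6, 10, 8, 10, 2], [268]⟩, ⟨194, [12, 8, 6, 10, 8, 7, 10, 8, 4, 8, 0, 15, 4, 7], []⟩],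
  .tm 1 [8, 12, 10, 4, 8, 6, 10, 8, 4, 8, 2, 6, 10, 4, 6] [] [⟨1038, [], []⟩],
  .tm 16 [8, 12, 8, 10, 8, 6, 10, 4, 8, 15, 7] [] [⟨693, [8, 12, 8, 6, 10, 8, 6, 10, 4, 8, 2, 15, 4, 7], [167, 217]⟩, ⟨139, [6, 10, 8, 12, 7, 10, 8, 10, 2], [268]⟩, ⟨559, [12, 8, 10, 8, 10, 4, 8, 6, 10, 8, 10, 4, 7], []⟩],
  .tm 1 [12, 4, 8, 6, 10, 8, 7, 10, 8, 15, 4] [] [⟨1040, [], []⟩],
  .tm 16 [8, 12, 8, 4, 8, 10, 8, 2, 6, 10, 4] [] [⟨637, [8, 7, 10, 8, 4, 8, 10, 8, 2, 4, 6], [169, 167, 217, 167]⟩, ⟨139, [8, 6, 10, 8, 4, 8, 12, 10, 2], [268]⟩, ⟨573, [12, 8, 4, 8, 7, 10, 4, 8, 6, 10, 8, 6, 10, 7], []⟩],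
  .tm 1 [10, 4, 8, 7, 10, 8, 0, 4] [] [⟨1042, [], []⟩],
  .tm 16 [8, 12, 10, 8, 7, 10, 8, 6, 10, 4, 8, 2, 4, 7] [] [⟨125, [8, 12, 8, 4, 8, 10, 8, 4, 8, 6, 10], [169, 217, 167]⟩, ⟨139, [8, 10, 8, 12, 10, 8, 4, 8, 4], [266, 268]⟩, ⟨567, [10, 4, 8, 6, 10, 8, 7, 10, 8, 6, 10, 7], []⟩],
  .tm 1 [12, 8, 4, 8, 10, 8, 7, 10, 4, 8, 0, 15, 4, 6] [] [⟨1044, [], []⟩],
  .tm 16 [12, 7, 10, 8, 4, 8, 6, 10, 8, 7] [] [⟨515, [12, 4, 8, 4, 8, 10, 8, 7, 10, 8, 15, 4], [167, 216]⟩, ⟨139, [8, 12, 10, 4, 8, 6, 10, 8, 4], [266, 268, 266]⟩, ⟨358, [7, 10, 8, 0, 10], []⟩],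
  .tm 1 [4, 8, 7, 10, 4, 8, 2, 10, 7] [] [⟨1046, [], []⟩],
  .tm 16 [12, 8, 10, 8, 10, 4, 8, 6, 10, 8, 2, 6, 10, 4] [] [⟨497, [8, 10, 8, 7, 10, 8, 6, 10, 4, 2, 8, 6], [169, 167, 216, 167, 169]⟩, ⟨139, [4, 8, 12, 7, 10, 8, 10, 8, 4], [266]⟩, ⟨930, [8, 7, 10, 8, 4, 8, 10], []⟩],
  .tm 1 [8, 10, 8, 10, 4, 8, 2, 6, 10, 7] [] [⟨1048, [], []⟩],
  .tm 16 [8, 12, 8, 7, 10, 8, 4, 2, 8] [] [⟨991, [8, 12, 4, 8, 6, 10, 8, 7, 10, 4, 8, 10, 4, 7], [167, 216, 167, 217]⟩, ⟨139, [6, 10, 4, 8, 10, 8, 12, 8, 4], [266]⟩, ⟨358, [10, 8, 6, 10, 4, 2, 8, 6, 10, 4], []⟩],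
  .tm 1 [8, 12, 4, 8, 6, 10, 2, 8] [] [⟨1050, [], []⟩],
  .tm 16 [7, 10, 4, 8] [] [⟨765, [12, 4, 8, 7, 10, 8, 6, 10, 4, 2, 8, 10], [167, 169]⟩, ⟨139, [8, 12, 10, 4, 2, 8, 6, 10, 4], [266, 268, 266]⟩, ⟨187, [8, 4, 8, 7, 10, 2, 8, 15, 4], []⟩],
  .tm 1 [12, 10, 4, 8, 7, 10, 8, 6, 10, 8, 15] [] [⟨1052, [], []⟩],
  .tm 16 [8, 12, 7, 10, 4, 8, 6] [] [⟨987, [8, 12, 8, 10, 8, 4, 8, 7, 10, 2, 8, 10, 4, 6], [167, 216, 167]⟩, ⟨139, [8, 12, 8, 6, 10, 8, 6, 10, 4], [268]⟩, ⟨927, [7, 10, 8, 4, 8, 2, 10, 4, 6], []⟩],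
  .tm 1 [12, 4, 8, 10, 8, 7] [] [⟨1054, [], []⟩],
  .tm 16 [12, 10, 4, 8, 6, 10, 8, 0, 10, 7] [] [⟨251, [12, 8, 6, 10, 8, 7, 10, 4, 8, 0], [216]⟩, ⟨139, [8, 4, 8, 12, 10, 8, 7, 10, 4], []⟩, ⟨441, [4, 8, 6, 10, 4, 8, 2, 10, 7], []⟩],
  .tm 1 [8, 12, 6, 10, 8, 7, 10, 8, 4, 2, 8, 7] [] [⟨1056, [], []⟩],
  .tm 16 [8, 10, 8, 6, 10, 8, 7, 10, 4, 8, 2, 15, 6] [] [⟨757, [8, 12, 8, 10, 8, 7, 10, 8, 0, 10, 4, 7], [167, 216, 167, 217]⟩, ⟨139, [4, 8, 6, 10, 8, 12, 7, 10, 4], []⟩, ⟨192, [8, 4, 8, 10, 8, 2, 10, 4], []⟩],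
  .tm 1 [12, 4, 8, 6, 10, 8, 15] [] [⟨1058, [], []⟩],
  .tm 16 [4, 8, 6, 10, 4, 8, 2, 15, 4] [] [⟨534, [12, 8, 4, 8, 10, 8, 7, 10, 2, 8, 6], [167, 217, 167, 169]⟩, ⟨139, [12, 10, 4, 8, 6, 10, 8, 10, 4], [266, 268]⟩, ⟨560, [12, 4, 8, 6, 10, 8, 2, 10, 4], []⟩],
  .tm 1 [10, 4, 8, 7, 10, 8, 2, 10, 6] [] [⟨1060, [], []⟩],
  .tm 16 [8, 12, 4, 8, 6, 10, 4, 8, 2, 10, 6] [] [⟨518, [8, 12, 4, 8, 10, 2, 8, 6, 10, 6], [167, 217, 167, 169]⟩, ⟨139, [8, 4, 8, 6, 10, 2, 8, 12, 4], [268]⟩, ⟨569, [8, 10, 4, 8, 7, 10, 8, 6, 10, 4, 8, 15, 6], []⟩],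
  .tm 1 [12, 8, 4, 8, 7, 10, 8, 4, 8, 10, 4, 7] [] [⟨1062, [], []⟩]]

theorem fc988 : checkL (nat_lit 12) (nat_lit 4095) tH tK tK' BB FF TM XW d988 (nat_lit 988) = true := by decide +kernel

def d1064 : List Der := [.tm 16 [12, 8, 6, 10, 4, 8, 2, 15, 4, 6] [] [⟨836, [12, 10, 8, 6, 10, 8, 7, 10, 4, 8, 15, 7], [167, 169]⟩, ⟨139, [7, 10, 4, 8, 6, 10, 8, 12, 4], []⟩, ⟨938, [8, 6, 10, 8, 10, 4, 8, 2, 4, 7], []⟩],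
  .tm 1 [12, 8, 6, 10, 8, 4, 8, 6, 10, 8, 10, 7] [] [⟨1064, [], []⟩],
  .tm 16 [8, 12, 10, 8, 7, 10, 8, 0, 4, 6] [] [⟨820, [12, 10, 8, 6, 10, 8, 7, 10, 4, 8, 6, 10, 6], [169, 167, 217]⟩, ⟨139, [8, 12, 7, 10, 8, 7, 10, 4, 8], [266]⟩, ⟨760, [6, 10, 8, 6, 10, 4, 8, 2, 6, 10, 4], []⟩],
  .tm 1 [8, 12, 6, 10, 8, 4, 8, 7, 10, 8, 0, 6, 10] [] [⟨1066, [], []⟩],
  .tm 16 [4, 8, 6, 10, 8, 7, 10, 8, 10, 7] [] [⟨613, [8, 12, 4, 8, 10, 8, 6, 10, 8, 2, 6], [167, 169, 167, 217, 167]⟩, ⟨139, [4, 8, 6, 10, 4, 2, 8, 7, 10], [266, 268]⟩, ⟨358, [10, 8, 6, 10, 4, 8, 2, 6, 10, 4, 7], []⟩],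
  .tm 1 [8, 10, 8, 6, 10, 8, 7, 10, 4, 8, 2, 10, 4, 7] [] [⟨1068, [], []⟩],
  .tm 16 [12, 10, 4, 8, 6, 10, 8, 2, 6, 10, 7] [] [⟨871, [8, 12, 8, 10, 8, 6, 10, 4], [167, 169, 216, 167, 169]⟩, ⟨139, [10, 8, 7, 10, 8, 12, 8, 7, 10], []⟩, ⟨938, [4, 8, 6, 10, 4, 8, 2, 10], []⟩],
  .tm 1 [12, 6, 10, 8, 4, 8, 0, 15, 6] [] [⟨1070, [], []⟩],
  .tm 16 [8, 10, 8, 4, 8, 10, 8] [] [⟨943, [4, 8, 4, 8, 10, 8, 6, 10, 8, 10, 4, 7], [169, 167, 216, 167, 217]⟩, ⟨139, [6, 10, 8, 12, 10, 8, 4, 8, 10], []⟩, ⟨1062, [8, 10, 8, 4, 8, 7, 10, 8, 2, 15], []⟩],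
  .tm 1 [12, 8, 4, 8, 6, 10, 8, 4, 8, 2, 10, 4, 7] [] [⟨1072, [], []⟩],
  .tm 16 [12, 10, 4, 8, 6, 10, 8, 7, 10, 8, 2, 10, 7] [] [⟨306, [10, 8, 6, 10, 8, 7, 10, 4, 8, 2, 15, 4, 6], [169, 167, 216, 167]⟩, ⟨139, [4, 8, 12, 8, 6, 10, 4, 8, 10], [266, 268, 266]⟩, ⟨1062, [4, 8, 10, 8, 4, 8, 6, 10, 8, 0, 6, 10, 4, 7], []⟩],
  .tm 1 [8, 12, 6, 10, 8, 4, 8, 10, 8, 10, 4] [] [⟨1074, [], []⟩],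
  .tm 16 [2, 8, 6, 10, 7] [] [⟨1073, [8, 12, 4, 8, 4, 8, 10, 8, 7, 10, 8, 10], [167, 169, 217, 167]⟩, ⟨139, [12, 8, 4, 8, 6, 10, 8, 12, 10], [268]⟩, ⟨374, [12, 10, 4, 8, 6, 10, 8, 4, 8, 6, 10], []⟩],
  .tm 1 [6, 10, 8, 10, 4, 8, 15, 4] [] [⟨1076, [], []⟩],
  .tm 16 [8, 12, 8, 10, 8, 6, 10, 8, 10, 4] [] [⟨826, [8, 12, 10, 8, 2, 7], [216, 167]⟩, ⟨139, [8, 12, 4, 8, 7, 10, 4, 8, 12], [268]⟩, ⟨877, [4, 8, 10, 8, 6, 10, 8, 0, 6, 10, 4], []⟩],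
  .tm 1 [8, 12, 8, 10, 4, 8, 7, 10, 8, 2, 6, 10, 4, 6] [] [⟨1078, [], []⟩],
  .tm 16 [8, 12, 8, 7, 10, 8, 7, 10, 4, 8, 6, 10] [] [⟨534, [10, 8, 10, 4, 8, 7, 10, 8, 2, 15, 7], [167, 169, 217]⟩, ⟨139, [6, 10, 4, 8, 10, 8, 12, 8, 4, 0], [266]⟩, ⟨358, [8, 10, 8, 6, 10, 4, 2, 8, 6, 10, 4], []⟩],
  .tm 1 [8, 12, 10, 4, 8, 7, 10, 8, 6, 10, 4, 8, 2, 7] [] [⟨1080, [], []⟩],
  .tm 16 [10, 8, 6, 10, 8, 6] [] [⟨571, [10, 8, 6, 10, 4, 8, 10, 7], [169, 217, 167, 216]⟩, ⟨139, [10, 8, 6, 10, 8, 12, 8, 4, 8, 0], [268]⟩, ⟨930, [8, 4, 8, 10, 2, 8, 10, 6], []⟩],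
  .tm 1 [7, 10, 8, 6, 10, 8, 4, 8, 10] [] [⟨1082, [], []⟩],
  .tm 16 [12, 6, 10] [] [⟨826, [12, 10, 4, 8, 7, 10, 8, 4, 8, 2, 15, 4, 7], [216]⟩, ⟨139, [10, 8, 4, 8, 12, 10, 8, 6, 10, 8], [268, 266]⟩, ⟨359, [8, 6, 10, 8, 7, 10, 4, 8, 6, 10, 8, 4], []⟩],
  .tm 1 [8, 12, 7, 10, 8, 7, 10, 8, 4, 8, 2, 15] [] [⟨1084, [], []⟩],
  .tm 16 [8, 12, 8, 4, 8, 10, 8, 7, 10, 4, 2, 8, 4, 6] [] [⟨645, [8, 12, 10, 8, 10, 4, 8, 10, 4, 6], [167, 169, 217, 167]⟩, ⟨139, [0], []⟩, ⟨559, [12, 2, 8], []⟩],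
  .tm 1 [8, 7, 10, 4, 8, 6, 10, 8, 10, 4, 6] [] [⟨1086, [], []⟩],
  .tm 16 [12, 6, 10, 8, 4, 8, 7, 10, 8, 2, 7] [] [⟨613, [12, 7, 10, 8, 6, 10, 4, 8, 7, 10, 8, 10, 4, 6], [169, 216, 167, 217]⟩, ⟨139, [8, 0], []⟩, ⟨559, [12, 8, 2], []⟩],
  .tm 1 [12, 10, 8, 6, 10, 2, 8, 10, 7] [] [⟨1088, [], []⟩],
  .tm 16 [8, 12, 4, 8, 7, 10, 4, 8, 6, 10, 8, 2, 6, 10, 4, 6] [] [⟨747, [8, 12, 8, 10, 8, 4, 8, 6, 10, 8, 2, 4], [169, 167, 217]⟩, ⟨139, [6, 10, 2], [268, 266]⟩, ⟨938, [7, 10, 8, 6, 10, 8, 7, 10, 4, 8, 6, 10, 4, 6], []⟩],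
  .tm 1 [8, 12, 7, 10, 8, 6, 10, 8, 4, 8, 6, 10, 4, 6] [] [⟨1090, [], []⟩],
  .tm 16 [12, 8, 6, 10, 8, 10, 4, 8, 10, 4, 7] [] [⟨836, [8, 12, 7, 10, 8, 4, 8, 6, 10, 8, 10], [167, 217, 167, 169]⟩, ⟨139, [8, 12, 8], [268]⟩, ⟨560, [12, 10, 8, 0, 10], []⟩],
  .tm 1 [8, 12, 6, 10, 8, 7, 10, 8, 10, 4, 6] [] [⟨1092, [], []⟩],
  .tm 16 [8, 4, 8, 6, 10, 8, 6, 10, 4, 7] [] [⟨828, [8, 12, 8, 4, 8, 6, 10, 8, 7, 10, 8, 10, 4, 6], [169, 167, 216, 167]⟩, ⟨139, [8, 10, 8, 0], [266, 268, 266]⟩, ⟨859, [7, 10, 8, 6, 10, 4, 8, 7, 10, 8, 6, 10, 4], []⟩],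
  .tm 1 [8, 12, 8, 6, 10, 8, 4, 8, 2, 15, 4, 6] [] [⟨1094, [], []⟩],
  .tm 16 [8, 10, 8, 6, 10, 8, 4, 8, 7] [] [⟨424, [8, 6, 10, 8, 4, 8, 10, 8, 15, 4, 6], [169, 216]⟩, ⟨139, [6, 10, 2, 8], [268, 266]⟩, ⟨938, [6, 10, 8, 7, 10, 8, 6, 10, 4, 8, 15, 4, 6], []⟩],
  .tm 1 [12, 8, 10, 4, 8, 4] [] [⟨1096, [], []⟩],
  .tm 16 [12, 10, 8, 7, 10, 4, 8, 6, 10, 8, 2, 10, 7] [] [⟨1019, [8, 10, 4, 8, 0, 6], [167, 169, 216]⟩, ⟨139, [7, 10, 2, 8], [268]⟩, ⟨187, [10, 4, 8, 7, 10, 8, 6, 10, 8, 2, 6, 10, 4, 6], []⟩],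
  .tm 1 [8, 7, 10, 8, 4, 8, 0, 10, 7] [] [⟨1098, [], []⟩],
  .tm 16 [12, 7, 10, 4, 8, 6, 10, 7] [] [⟨269, [12, 8, 7, 10, 8, 6, 10, 4, 8, 7, 10, 8, 10, 6], [167, 217, 167, 216]⟩, ⟨139, [8, 7, 10, 8], [266, 268]⟩, ⟨358, [10, 4, 8, 6, 10, 8, 7, 10, 4, 8, 6, 10, 7], []⟩],
  .tm 1 [8, 12, 10, 8, 4, 8, 10, 8, 2, 15, 4, 7] [] [⟨1100, [], []⟩],
  .tm 16 [8, 12, 6, 10, 8, 0, 10, 6] [] [⟨289, [4, 8, 6, 10, 4, 8, 7, 10, 8, 2, 10, 4, 6], [169, 216, 167, 217]⟩, ⟨139, [8, 12, 4, 8, 0], [266, 268]⟩, ⟨930, [10, 8, 6, 10, 8, 2, 6, 10, 4, 6], []⟩],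
  .tm 1 [12, 8, 10, 8, 7, 10, 8, 10, 4, 8, 15, 4, 7] [] [⟨1102, [], []⟩],
  .tm 16 [8, 12, 8, 2, 10, 7] [] [⟨269, [8, 12, 8, 10, 8, 7, 10, 8, 4, 8, 10, 4, 7], [167, 169, 217]⟩, ⟨139, [8, 4, 8, 10, 2], [266]⟩, ⟨927, [8, 10, 8, 0, 10, 6], []⟩],
  .tm 1 [8, 6, 10, 8, 0, 4, 6] [] [⟨1104, [], []⟩],
  .tm 16 [12, 8, 6, 10, 8, 4, 8, 6, 10, 8, 10, 4] [] [⟨637, [12, 8, 7, 10, 8, 6, 10, 4, 8, 7, 10, 8, 2, 6, 10, 6], [169, 167, 217]⟩, ⟨139, [8, 10, 4, 8, 10], [266, 268, 266]⟩, ⟨930, [10, 8, 10, 8, 4, 8, 6, 10, 8, 10, 7], []⟩],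
  .tm 1 [8, 12, 4, 8, 6, 10, 8, 7, 10, 4, 8, 15, 6] [] [⟨1106, [], []⟩],
  .tm 16 [8, 12, 4, 8, 6, 10, 8, 7, 10, 4, 8, 2, 4, 6] [] [⟨291, [8, 12, 8, 4, 8, 7, 10, 8, 6, 10, 8, 2, 10, 7], [216]⟩, ⟨139, [8, 10, 4, 8, 10, 0], [266, 268, 266]⟩, ⟨930, [8, 10, 8, 7, 10, 4, 8, 0, 15, 7], []⟩],
  .tm 1 [8, 12, 10, 4, 8, 6, 10] [] [⟨1108, [], []⟩],
  .tm 16 [12, 4, 8, 4, 8, 7, 10, 8, 6, 10, 8, 15] [] [⟨424, [10, 8, 7, 10, 4, 8, 4], [167, 217]⟩, ⟨139, [6, 10, 8, 10, 8, 4], [268]⟩, ⟨1062, [8, 10, 8, 4, 8, 7, 10, 2, 8, 15], []⟩],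
  .tm 1 [12, 10, 8, 6, 10, 4, 8, 6, 10, 4] [] [⟨1110, [], []⟩],
  .tm 16 [8, 12, 6, 10, 8, 4, 8, 7, 10, 2, 8, 15, 4, 6] [] [⟨265, [12, 7, 10, 8, 7, 10, 4, 8, 6, 10], [216, 167, 169]⟩, ⟨139, [8, 4, 8, 10, 8, 10], [266, 268, 266]⟩, ⟨930, [8, 10, 8, 7, 10, 4, 8, 15, 7], []⟩],
  .tm 1 [6, 10, 8, 7, 10, 8, 6, 10, 4, 8, 10] [] [⟨1112, [], []⟩],
  .tm 16 [8, 12, 6, 10, 8, 7, 10, 4, 8, 6, 10, 8, 2, 7] [] [⟨788, [8, 7, 10, 8, 2, 10, 7], [216, 167, 169]⟩, ⟨139, [8, 10, 4, 8, 10, 8, 4], [268, 266]⟩, ⟨192, [8, 7, 10, 8, 10, 6], []⟩],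
  .tm 1 [12, 4, 8, 10, 4, 8, 7, 10, 2, 8, 10, 4, 6] [] [⟨1114, [], []⟩],
  .tm 16 [8, 12, 6, 10, 8, 2, 4] [] [⟨200, [12, 8, 10, 4, 8, 6, 10, 8, 7, 10, 8, 2, 15, 7], [216, 167, 217]⟩, ⟨139, [8, 7, 10, 4, 8, 6, 10, 0], [266, 268]⟩, ⟨1074, [4, 8, 10, 8, 6, 10, 8, 0, 6, 10, 4, 7], []⟩],
  .tm 1 [8, 12, 10, 8, 10, 4, 8, 6, 10] [] [⟨1116, [], []⟩],
  .tm 16 [8, 10, 8, 6, 10, 8, 6, 10, 4, 7] [] [⟨887, [12, 4, 8, 10, 8, 4, 8, 2, 6, 10], [169, 217, 167, 169]⟩, ⟨139, [4, 8, 10, 8, 12, 7, 10, 2], [266]⟩, ⟨1074, [8, 10, 8, 10], []⟩],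
  .tm 1 [12, 8, 10, 4, 8, 2] [] [⟨1118, [], []⟩],
  .tm 16 [10, 8, 10, 4, 8, 6, 10, 8, 7, 10, 8, 6, 10, 4, 7] [] [⟨862, [8, 12, 4, 8, 7, 10, 8, 6, 10, 4, 8, 2, 15, 7], [216, 167]⟩, ⟨139, [10, 8, 6, 10, 4, 8, 12, 4], [266]⟩, ⟨1062, [10, 8, 6, 10, 8, 10, 4, 8, 15, 6], []⟩],
  .tm 1 [12, 8, 4, 8, 10, 8, 7, 10, 2, 8, 4] [] [⟨1120, [], []⟩],
  .tm 16 [8, 4, 8, 6, 10, 8, 7, 10, 8, 6, 10, 4, 7] [] [⟨1117, [12, 7, 10, 4, 8, 10, 4], [217, 167, 216]⟩, ⟨139, [4, 8, 10, 4, 8, 6, 10, 8], [266, 268]⟩, ⟨359, [4, 8, 10, 8, 0, 4, 6], []⟩],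
  .tm 1 [8, 12, 8, 6, 10, 8, 7, 10, 8, 6, 10, 4, 8, 10, 7] [] [⟨1122, [], []⟩],
  .tm 32 [8, 6, 10, 4, 2, 8, 10, 4] [] [⟨184, [12, 10, 8, 4, 8, 10, 8, 6, 10, 8, 0, 6, 10, 4, 6], [167]⟩, ⟨139, [8, 10, 4, 8, 12, 2, 8, 10], [266, 268, 266]⟩, ⟨1066, [8, 6, 10, 8, 4, 8, 10, 4], []⟩],
  .tm 1 [8, 12, 10, 8, 7, 10, 8, 6, 10, 4, 8, 2, 10, 4, 6] [] [⟨1124, [], []⟩],
  .tm 32 [8, 12, 8, 4, 8, 6, 10, 8, 7, 10, 4, 8, 2, 15, 7] [] [⟨309, [8, 10, 8, 7, 10, 8, 6, 10, 4, 8, 2, 6, 10, 7], [167, 216, 167]⟩, ⟨139, [8, 10, 8, 7, 10, 4, 8, 10], [266, 268, 266]⟩, ⟨1037, [8, 12, 8, 7, 10, 4, 8, 2, 15, 6], []⟩],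
  .tm 1 [8, 10, 8, 6, 10, 4, 8, 7, 10, 8, 10, 7] [] [⟨1126, [], []⟩],
  .tm 32 [12, 4, 8, 7, 10, 8, 0, 6, 10] [] [⟨267, [7, 10, 8, 6, 10, 8, 4, 8, 2, 4, 6], [216, 167, 217]⟩, ⟨139, [4, 8, 4, 8, 12, 10, 8, 10], [266]⟩, ⟨1052, [8, 12, 6, 10, 8, 7, 10, 8, 4, 8, 2, 10, 4], []⟩],
  .tm 1 [12, 10, 8, 10, 4, 8, 6, 10, 2, 8, 6, 10, 4, 6] [] [⟨1128, [], []⟩],
  .tm 32 [8, 12, 4, 8, 7, 10, 8, 4, 8, 4, 6] [] [⟨88, [12, 8, 10, 8, 4, 2, 8, 6, 10], [217, 167]⟩, ⟨139, [7, 10, 4, 8, 12, 10, 8, 10], []⟩, ⟨1066, [8, 12, 8, 6, 10, 8, 4, 8, 10, 4, 7], []⟩],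
  .tm 1 [12, 8, 4, 8, 6, 10, 8, 2, 15] [] [⟨1130, [], []⟩],
  .tm 32 [8, 12, 8, 10, 8, 7, 10, 8, 10, 4, 8, 2, 10, 7] [] [⟨977, [8, 12, 6, 10, 8, 7, 10, 4, 8, 2, 15, 4, 7], [169, 217, 167, 216]⟩, ⟨139, [12, 8, 10, 4, 2, 8, 12, 10], []⟩, ⟨934, [8, 12, 6, 10, 2, 8, 4, 7], []⟩],
  .tm 1 [10, 8, 7, 10, 8, 6, 10, 4, 2, 8, 6] [] [⟨1132, [], []⟩],
  .tm 32 [7, 10, 8, 4, 8, 6, 10, 8, 10, 4, 7] [] [⟨693, [8, 12, 2, 0, 15, 6], [167, 169, 167, 217, 167, 216]⟩, ⟨139, [12, 6, 10, 8, 4, 2, 8, 12], []⟩, ⟨1129, [8, 12, 7, 10, 8, 6, 10, 8, 7, 10, 4, 8, 10], []⟩],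
  .tm 1 [10, 4, 8, 6, 10, 4, 8, 6] [] [⟨1134, [], []⟩],
  .tm 32 [8, 10, 4, 8, 6, 10, 8, 0, 15, 6] [] [⟨583, [12, 10, 4, 8, 7, 10, 8, 6, 10, 8, 15, 4, 7], [167, 169, 167]⟩, ⟨139, [12, 7, 10, 8, 4, 2, 8, 12], [266, 268, 266]⟩, ⟨1129, [12, 7, 10, 8, 6, 10, 8, 7, 10, 4, 8, 10, 6], []⟩],
  .tm 1 [12, 6, 10, 8, 4, 8, 6, 10, 8, 10, 7] [] [⟨1136, [], []⟩],
  .tm 32 [12, 10, 8, 10, 4, 8, 6, 10, 8, 7, 10, 8, 6, 10, 7] [] [⟨693, [8, 12, 8, 6, 10, 8, 10, 4, 8, 6, 10, 4, 7], [216, 167, 217]⟩, ⟨139, [7, 10, 8, 6, 10, 2, 8, 12], []⟩, ⟨1118, [8, 12, 8, 10, 8, 4, 8, 7, 10, 8, 0, 7], []⟩],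
  .tm 1 [7, 10, 8, 6, 10, 8, 2, 10] [] [⟨1138, [], []⟩],
  .tm 32 [12, 10, 4, 8, 7, 10, 8, 6, 10, 8, 2, 4, 7] [] [⟨911, [12, 8, 7, 10, 8, 6, 10, 8, 7, 10, 4, 8, 4, 6], [167, 169, 217]⟩, ⟨139, [8, 6, 10, 4, 8, 4, 8, 12], [268]⟩, ⟨736, [7, 10, 8, 6, 10, 8, 7, 10, 4, 8, 2, 4], []⟩],
  .tm 1 [12, 6, 10, 4, 2, 8, 4] [] [⟨1140, [], []⟩]]

theorem fc1064 : checkL (nat_lit 12) (nat_lit 4095) tH tK tK' BB FF TM XW d1064 (nat_lit 1064) = true := by decide +kernel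

def d1142 : List Der := [.tm 32 [8, 12, 6, 10, 8, 4, 8, 7, 10, 8, 7] [] [⟨693, [8, 12, 10, 8, 10, 8, 4, 8, 6, 10, 8, 2, 15, 4], [167, 169, 216, 167, 217]⟩, ⟨139, [4, 8, 6, 10, 8, 4, 8, 12], [268, 266]⟩, ⟨1110, [8, 4, 8, 7, 10, 8, 6, 10, 4, 8, 2, 15, 7], []⟩],
  .tm 1 [12, 7, 10, 8, 7, 10, 4, 8, 15] [] [⟨1142, [], []⟩],
  .tm 32 [8, 12, 10, 8, 7, 10, 8, 6, 10, 8, 10] [] [⟨1075, [4, 8, 10, 8, 4, 8, 7, 10, 8, 15], [169]⟩, ⟨139, [8, 10, 8, 7, 10, 4, 8, 12], [268, 266]⟩, ⟨777, [12, 8, 10, 8, 6, 10, 8, 7, 10, 4, 8, 6], []⟩],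
  .tm 1 [8, 12, 6, 10, 8, 7, 10, 8, 4, 8, 0, 15, 4, 6] [] [⟨1144, [], []⟩],
  .tm 32 [8, 12, 8, 10, 8, 7, 10, 8, 4, 2, 8, 15, 4, 6] [] [⟨784, [7, 10, 8, 4, 2, 8, 10, 4], [167, 169]⟩, ⟨139, [8, 10, 8, 6, 10, 4, 8, 4, 0], [266, 268, 266]⟩, ⟨1091, [8, 12, 10, 8, 6, 10, 4, 8, 6, 10], []⟩],
  .tm 1 [8, 10, 4, 8, 6, 10, 8, 4, 8, 2, 4, 6] [] [⟨1146, [], []⟩],
  .tm 32 [12, 4, 8, 4, 8, 10, 8, 7, 10, 8, 2, 15, 6] [] [⟨796, [8, 7, 10, 4, 8, 0, 10, 4, 7], [169, 167]⟩, ⟨139, [8, 12, 8, 7, 10, 4, 8, 4, 0], []⟩, ⟨1138, [8, 12, 8, 4, 8, 6, 10, 8, 7, 10, 4, 8, 6, 10, 4], []⟩],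
  .tm 1 [10, 4, 8, 7, 10, 8, 6, 10, 4, 8] [] [⟨1148, [], []⟩],
  .tm 32 [8, 12, 7, 10, 8, 4, 8, 2, 6, 10, 7] [] [⟨911, [12, 10, 8, 7], [167, 169, 217, 167, 169]⟩, ⟨139, [8, 10, 8, 12, 8, 7, 10, 4, 0], [268, 266]⟩, ⟨721, [8, 12, 8, 10, 4, 8, 6, 10, 2, 8, 15, 4], []⟩],
  .tm 1 [8, 10, 8, 10, 4, 8, 7, 10, 8, 2, 10, 6] [] [⟨1150, [], []⟩],
  .tm 32 [8, 10, 8, 10, 4, 8, 7, 10, 8, 6, 10, 7] [] [⟨309, [10, 8, 4, 8, 7, 10, 2, 8, 10], [167, 169, 216, 167, 169]⟩, ⟨139, [10, 8, 4, 8, 12, 8, 10, 4, 0], [266, 268, 266]⟩, ⟨1052, [8, 7, 10, 8, 4, 2, 8, 6, 10, 4], []⟩],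
  .tm 1 [12, 6, 10, 8, 7, 10, 8, 4, 8, 15, 6] [] [⟨1152, [], []⟩],
  .tm 32 [12, 0, 4] [] [⟨911, [12, 8, 7, 10, 8, 4, 8, 6, 10, 8, 0, 15, 4, 6], [167, 169, 217, 167]⟩, ⟨139, [10, 8, 6, 10, 8, 12, 10, 4, 0], [266, 268, 266]⟩, ⟨1079, [12, 8, 6, 10, 8, 6, 10, 4, 8, 2, 6, 10, 6], []⟩],
  .tm 1 [8, 4, 8, 2] [] [⟨1154, [], []⟩],
  .tm 32 [8, 10, 8, 2, 10] [] [⟨336, [6, 10, 8, 4, 8, 10, 4, 6], [167, 217, 167]⟩, ⟨139, [8, 4, 8, 6, 10, 8, 12, 4, 0], [266, 268]⟩, ⟨1123, [12, 10, 8, 6, 10, 8, 0, 6, 10, 7], []⟩],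
  .tm 1 [12, 4, 8, 10, 4, 8, 6, 10, 8, 15, 6] [] [⟨1156, [], []⟩],
  .tm 32 [12, 8, 10, 8, 7, 10, 8, 0, 6, 10, 4] [] [⟨757, [12, 8, 7, 10, 8, 4, 2, 8, 10, 4, 7], [167]⟩, ⟨139, [12, 10, 4, 8, 10, 8, 12, 4, 0], [266, 268, 266]⟩, ⟨1052, [12, 4, 8, 4, 8, 10, 8, 6, 10, 8, 2, 6, 10, 6], []⟩],
  .tm 1 [8, 12, 7, 10, 8, 6, 10, 4, 8, 6, 10, 6] [] [⟨1158, [], []⟩],
  .tm 32 [12, 4, 8, 7, 10, 8, 4, 8, 6, 10, 4, 7] [] [⟨818, [8, 12, 10, 8, 7, 10, 8, 4, 8, 2, 6, 10, 4], [167, 169, 167, 216, 167, 169]⟩, ⟨139, [4, 8, 12, 7, 10, 8, 7, 10, 0], [266, 268, 266]⟩, ⟨1091, [8, 4, 8, 6, 10, 8, 4, 8, 4, 6], []⟩],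
  .tm 1 [12, 7, 10, 8, 0, 10, 4] [] [⟨1160, [], []⟩],
  .tm 32 [10, 8, 10, 4, 8, 6, 10, 8, 2, 10, 4, 6] [] [⟨336, [8, 7, 10, 2, 8, 10, 6], [167, 217]⟩, ⟨139, [8, 6, 10, 4, 8, 12, 7, 10, 0], [266, 268, 266]⟩, ⟨1010, [4, 8, 10, 8, 7, 10, 2, 8, 15, 4, 7], []⟩],
  .tm 1 [12, 8, 6, 10, 8, 7, 10, 4, 8, 7] [] [⟨1162, [], []⟩],
  .tm 32 [10, 2, 8, 4] [] [⟨88, [12, 6, 10, 4, 8, 7, 10, 8, 2, 6], [217, 167]⟩, ⟨139, [10, 4, 8, 12, 7, 10, 8, 10, 0], [266, 268]⟩, ⟨1032, [8, 12, 8, 4, 8, 7, 10, 8, 6, 10, 4, 8, 2, 6, 10, 6], []⟩],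
  .tm 1 [4, 8, 7, 10, 4, 8, 6, 10, 8, 2, 10, 4, 7] [] [⟨1164, [], []⟩],
  .tm 32 [12, 8, 10, 8, 7, 10, 8, 10, 4, 8, 2, 10, 4, 6] [] [⟨977, [8, 12, 8, 10, 8, 4, 8, 6, 10, 8, 0, 6, 10, 4], [167, 169, 167, 217, 167, 216]⟩, ⟨139, [8, 10, 8, 12, 7, 10, 8, 10, 0], [268]⟩, ⟨1079, [8, 12, 7, 10, 8, 10, 8, 4, 8, 10], []⟩],
  .tm 1 [12, 7, 10, 4, 8, 6, 10, 8, 6, 10, 6] [] [⟨1166, [], []⟩],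
  .tm 32 [8, 12, 8, 6, 10, 8, 7, 10, 4, 8, 6, 10, 8, 7] [] [⟨977, [8, 12, 4, 8, 0, 4, 6], [167, 169, 167, 217, 167, 216]⟩, ⟨139, [10, 8, 10, 4, 8, 12, 8, 10, 0], []⟩, ⟨1066, [12, 8, 6, 10, 8, 4, 8, 10, 4], []⟩],
  .tm 1 [12, 8, 6, 10, 8, 4, 8, 2, 6, 10, 4, 7] [] [⟨1168, [], []⟩],
  .tm 32 [12, 4, 8, 7, 10, 8, 6, 10, 8] [] [⟨911, [12, 8, 4, 8, 10, 8, 7, 10, 8, 0, 10, 4], [167, 217, 167]⟩, ⟨139, [10, 4, 8, 7, 10, 4, 8, 4, 2], [266, 268]⟩, ⟨740, [8, 12, 7, 10, 8, 6, 10, 8, 4, 8, 2, 10, 7], []⟩],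
  .tm 1 [7, 10, 8, 6, 10, 8, 4, 8, 4] [] [⟨1170, [], []⟩],
  .tm 32 [12, 8, 4, 8, 6, 10, 8, 7, 10, 4, 8, 2, 15, 4] [] [⟨977, [8, 12, 8, 10, 8, 7, 10, 4, 8, 2, 15, 4, 7], [169, 217, 167, 216]⟩, ⟨139, [7, 10, 8, 7, 10, 4, 8, 4, 2], [268]⟩, ⟨1169, [8, 6, 10, 4, 8, 7, 10, 8, 2, 10, 6], []⟩],
  .tm 1 [8, 4, 8, 10, 8, 6, 10, 4, 2, 8, 10, 4, 7] [] [⟨1172, [], []⟩],
  .tm 32 [12, 7, 10, 8, 6, 10, 8, 4, 2, 8, 15, 4, 7] [] [⟨306, [4, 8, 7, 10, 8, 6, 10, 4, 8, 0, 6, 10, 6], [167, 169, 217, 167, 169]⟩, ⟨139, [8, 6, 10, 4, 8, 7, 10, 4, 2], [266]⟩, ⟨1040, [12, 8, 10, 8, 10, 4, 8, 7, 10, 8, 2, 6, 10], []⟩],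
  .tm 1 [4, 8, 10, 2, 8, 10, 4, 6] [] [⟨1174, [], []⟩],
  .tm 32 [8, 10, 8, 7, 10, 8, 4, 8, 6] [] [⟨637, [10, 8, 4, 8, 6, 10, 8, 0, 6, 10, 4, 7], [169, 167, 216]⟩, ⟨139, [8, 10, 8, 12, 8, 7, 10, 4, 2], [266]⟩, ⟨1101, [6, 10, 8, 6, 10, 8, 4, 8, 15, 4, 6], []⟩],
  .tm 1 [8, 12, 8, 4, 8, 10, 8, 7, 10, 8, 2, 6, 10, 4] [] [⟨1176, [], []⟩],
  .tm 32 [12, 10, 8, 4, 8, 7, 10, 8, 6, 10, 8, 15] [] [⟨583, [12, 8, 7, 10, 8, 6, 10, 8, 4, 8, 6, 10, 4, 7], []⟩, ⟨139, [6, 10, 8, 7, 10, 4, 8, 12, 2], [266, 268, 266]⟩, ⟨1091, [12, 8, 10, 4, 8, 6, 10, 2, 8, 15, 4, 6], []⟩],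
  .tm 1 [4, 8, 10, 8, 7, 10, 4, 8, 2, 15, 7] [] [⟨1178, [], []⟩],
  .tm 32 [8, 6, 10, 4, 8, 2, 7] [] [⟨613, [12, 4, 8, 6, 10, 8, 7, 10, 4, 8, 2, 10], [167, 169, 167, 216]⟩, ⟨139, [7, 10, 8, 12, 7, 10, 4, 8, 4], [268]⟩, ⟨1169, [12, 10, 8, 4, 8, 7, 10, 8, 10, 7], []⟩],
  .tm 1 [8, 6, 10, 8, 7, 10, 4, 8, 0, 10] [] [⟨1180, [], []⟩],
  .tm 32 [10, 4, 8, 7, 10, 2, 8, 4] [] [⟨977, [8, 12, 8, 7, 10, 8, 4, 8, 6, 10, 8, 0, 6, 10, 4, 7], [169, 217, 167, 216]⟩, ⟨139, [4, 8, 7, 10, 2, 8, 7, 10, 4], [266]⟩, ⟨508, [12, 8, 4, 8, 7, 10, 8, 6, 10, 4, 8, 2, 6, 10, 7], []⟩],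
  .tm 1 [8, 12, 8, 6, 10, 8, 7, 10, 8, 10, 6] [] [⟨1182, [], []⟩],
  .tm 32 [8, 12, 8, 7, 10, 8, 6, 10, 4, 8, 6, 10, 6] [] [⟨637, [8, 10, 8, 4, 8, 6, 10, 8, 0, 6, 10, 4, 7], [169, 167, 216]⟩, ⟨139, [8, 10, 8, 12, 2, 8, 7, 10, 4], [266, 268]⟩, ⟨1118, [8, 4, 8, 6, 10, 8, 0, 10, 4, 7], []⟩],
  .tm 1 [8, 4, 8, 10, 8, 7, 10, 4, 2, 8, 15, 4, 6] [] [⟨1184, [], []⟩],
  .tm 32 [8, 12, 8, 4, 8, 6, 10, 8, 2, 15, 6] [] [⟨639, [12, 4, 8, 10, 8, 4, 8, 6, 10, 8, 4], [169, 167, 216]⟩, ⟨139, [7, 10, 8, 10, 4, 2, 8, 7, 10], []⟩, ⟨1174, [7, 10, 8, 10, 8, 4, 8, 6, 10, 4], []⟩],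
  .tm 32 [8, 12, 10, 8, 10, 4, 8, 7, 10, 8, 2, 10] [] [⟨727, [8, 10, 8, 4, 8, 7, 10, 2, 8, 10, 4, 7], [167, 169, 167, 217]⟩, ⟨139, [12, 10, 8, 7, 10, 4, 2, 8, 10], [266]⟩, ⟨1183, [8, 10, 8, 7, 10, 8, 0, 6, 10, 4, 6], []⟩],
  .tm 1 [8, 2, 10, 6] [] [⟨1187, [], []⟩],
  .tm 32 [12, 6, 10, 8, 4, 8, 6, 10, 8, 6, 10, 6] [] [⟨871, [12, 8, 10, 8, 4, 8, 6, 10, 8, 2, 15, 4, 7], [169, 167, 216, 167, 217]⟩, ⟨139, [12, 10, 8, 7, 10, 8, 4, 8, 10], [266, 268]⟩, ⟨1098, [12, 10, 8, 7, 10, 8, 10, 4, 8, 2, 6, 10, 4, 6], []⟩],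
  .tm 1 [8, 12, 4, 8, 10, 8, 6, 10, 4, 2, 8] [] [⟨1189, [], []⟩],
  .tm 32 [12, 10, 8, 6, 10, 8, 4, 8, 2, 10, 4, 6] [] [⟨625, [8, 10, 8, 4, 8, 7, 10, 2, 8, 10], [167, 217]⟩, ⟨139, [12, 10, 8, 4, 8, 12, 4, 8, 10], [268, 266]⟩, ⟨1082, [12, 10, 4, 8, 6, 10, 2, 8, 15], []⟩],
  .tm 1 [6, 10, 4, 8, 6, 10, 4, 7] [] [⟨1191, [], []⟩],
  .tm 32 [8, 12, 10, 8, 4, 8, 7, 10, 2, 8, 10, 4, 7] [] [⟨727, [8, 4, 8, 6, 10, 8, 4, 8, 6, 10, 6], [167, 169, 167, 217, 167, 169]⟩, ⟨139, [12, 10, 4, 8, 10, 8, 12, 8, 10], [268]⟩, ⟨967, [12, 10, 4, 8, 7, 10, 8, 6, 10, 8, 15, 4, 6], []⟩],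
  .tm 1 [12, 8, 10, 8, 6, 10, 4, 8, 7, 10, 8, 6] [] [⟨1193, [], []⟩],
  .tm 32 [4, 8, 10, 8, 7, 10, 8, 10, 4] [] [⟨784, [4, 8, 6, 10, 4, 8, 7, 10, 8, 15], [169, 167]⟩, ⟨139, [10, 8, 10, 8, 6, 10, 8, 12, 10], [266, 268, 266]⟩, ⟨1174, [12, 8, 6, 10, 8, 7, 10, 4, 2, 8, 4], []⟩],
  .tm 1 [12, 4, 8, 10, 8, 7, 10, 2, 8, 10, 4, 6] [] [⟨1195, [], []⟩],
  .tm 32 [8, 12, 8, 10, 8, 10, 4, 8, 7, 10, 8, 2, 15] [] [⟨635, [8, 12, 8, 7, 10, 4, 8, 6, 10, 8, 2, 10, 4, 6], [167, 169, 217, 167]⟩, ⟨139, [8, 10, 4, 8, 6, 10, 8, 6, 10, 0], []⟩, ⟨1180, [12, 8, 4, 8, 10, 8, 6, 10, 4, 8, 2, 6, 10], []⟩],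
  .tm 1 [12, 4, 8, 6, 10, 8, 15, 7] [] [⟨1197, [], []⟩],
  .tm 32 [12, 8, 10, 8, 4, 8, 6, 10, 8, 2, 6, 10, 4] [] [⟨179, [8, 10, 4, 8, 6, 10, 8, 4, 8, 2, 6, 10], [169, 167, 217]⟩, ⟨139, [8, 4, 8, 12, 6, 10, 8, 6, 10, 0], [266]⟩, ⟨1129, [10, 4, 8, 6, 10, 8, 6, 10, 4, 6], []⟩],
  .tm 1 [2, 8, 10] [] [⟨1199, [], []⟩],
  .tm 32 [8, 12, 8, 10, 8, 4, 8, 10, 8, 2, 6, 10, 4, 6] [] [⟨911, [12, 0, 10], [167, 217]⟩, ⟨139, [6, 10, 8, 12, 4, 8, 10, 8, 12, 0], [268]⟩, ⟨562, [8, 12, 8, 10, 4, 8, 6, 10, 2, 8, 15, 4, 7], []⟩],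
  .tm 1 [8, 12, 8, 7, 10, 8, 10, 4, 6] [] [⟨1201, [], []⟩],
  .tm 32 [8, 10, 8, 7, 10, 8, 0, 15, 4, 7] [] [⟨625, [8, 10, 8, 6, 10, 8, 4, 8, 0, 10], [167, 217]⟩, ⟨139, [12, 8, 6, 10, 4, 8, 12, 8, 4, 2], []⟩, ⟨1198, [12, 7, 10, 8, 6, 10, 4, 2, 8], []⟩],
  .tm 1 [12, 8, 4, 8, 7, 10, 2, 8, 10, 4, 6] [] [⟨1203, [], []⟩],
  .tm 32 [8, 12, 10, 8, 4, 8, 6, 10, 8, 6, 10, 4, 6] [] [⟨179, [8, 7, 10, 8, 4, 8, 7, 10, 8, 2, 15, 4, 6], [169, 167, 217]⟩, ⟨139, [4, 8, 7, 10, 8, 12, 6, 10, 4, 2], [266, 268]⟩, ⟨1199, [12, 7, 10, 8, 6, 10, 8, 4, 2, 8, 6, 10, 4, 7], []⟩],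
  .tm 1 [8, 12, 6, 10, 8, 4, 8, 6, 10, 8, 4, 7] [] [⟨1205, [], []⟩],
  .tm 32 [8, 12, 4, 8, 7, 10, 8, 6, 10, 8, 2, 15, 4, 6] [] [⟨784, [10, 4, 8, 7, 10, 4, 8, 2, 15], [169]⟩, ⟨139, [8, 10, 8, 12, 8, 10, 8, 7, 10, 2], [268]⟩, ⟨1198, [8, 12, 10, 4, 8, 6, 10, 8, 10, 4], []⟩],
  .tm 1 [8, 12, 10, 8, 6, 10, 4, 8, 0, 15] [] [⟨1207, [], []⟩],
  .tm 32 [8, 12, 6, 10, 8, 4, 8, 7, 10, 8, 2, 15] [] [⟨635, [8, 12, 10, 8, 10, 8, 4, 8, 6, 10, 8, 15, 4], [167, 169, 217]⟩, ⟨139, [4], []⟩, ⟨967, [8, 12, 8, 10, 4, 8, 6, 10, 8, 7, 10, 8, 2, 6, 10, 4, 7], []⟩],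
  .tm 1 [12, 10, 8, 6, 10, 8, 7, 10, 4, 8, 10, 4, 7] [] [⟨1209, [], []⟩],
  .tm 32 [8, 10, 8, 7, 10, 8, 6, 10, 4, 2, 8, 6, 10, 4] [] [⟨1075, [10, 8, 7, 10, 8, 6, 10, 8, 2, 15, 6], []⟩, ⟨139, [10], [266]⟩, ⟨1082, [10, 8, 10, 4, 8, 7, 10, 8, 2, 10, 4, 6], []⟩],
  .tm 1 [6, 10, 8, 7, 10, 4, 8, 0, 10, 4, 6] [] [⟨1211, [], []⟩],
  .tm 32 [8, 10, 8, 7, 10, 8, 4, 8, 0, 6, 10, 4, 7] [] [⟨693, [8, 12, 8, 10, 8, 7, 10, 8, 6, 10, 4, 2, 8, 4], [167, 169, 167, 217, 167, 216]⟩, ⟨139, [6, 10, 2], [268]⟩, ⟨1148, [8, 12, 8, 10, 8, 10, 4, 8, 2, 15, 4, 6], []⟩],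
  .tm 1 [8, 12, 8, 10, 8, 4, 8, 7, 10, 8, 0, 6, 10, 7] [] [⟨1213, [], []⟩],
  .tm 32 [4, 8, 10, 8, 6, 10, 2, 8, 10, 7] [] [⟨321, [12, 4, 8, 6, 10, 2, 8, 15, 4, 7], [169, 167, 216, 167, 217]⟩, ⟨139, [8, 12, 4, 8, 7, 10, 0], [266]⟩, ⟨1199, [10, 8, 7, 10, 8, 6, 10, 4, 2, 8, 4, 7], []⟩]]

theorem fc1142 : checkL (nat_lit 12) (nat_lit 4095) tH tK tK' BB FF TM XW d1142 (nat_lit 1142) = true := by decide +kernel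

def d1216 : List Der := [.tm 1 [12, 8, 10, 4, 8, 6, 10, 8, 7, 10, 4, 8, 2, 4, 6] [] [⟨1215, [], []⟩],
  .tm 34 [8, 10, 4, 8, 7, 10, 8, 0, 15, 4, 7] [] [⟨1121, [8, 10, 8, 4, 8, 6, 10, 2, 8, 15, 4, 7], [167, 217, 167, 216]⟩, ⟨139, [6, 10, 4, 8, 10, 8, 4], []⟩, ⟨323, [12, 7, 10, 8, 4, 8, 6, 10, 8, 0, 15, 4, 7], []⟩],
  .tm 1 [8, 7, 10, 8, 6, 10, 4, 8, 2, 6, 10, 7] [] [⟨1217, [], []⟩],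
  .tm 34 [10, 4, 8, 7, 10, 8, 15, 4, 6] [] [⟨142, [8, 12, 10, 8, 7, 10, 8, 4, 8, 2, 10, 4, 6], [216, 167, 217]⟩, ⟨139, [10, 8, 12, 8, 10, 8, 4], [268]⟩, ⟨1150, [12, 10, 8, 4, 8, 10, 8, 4, 7], []⟩],
  .tm 1 [8, 12, 10, 8, 6, 10, 8, 10, 4, 8, 15, 6] [] [⟨1219, [], []⟩],
  .tm 34 [8, 10, 8, 6, 10, 8, 7, 10, 4, 8, 6, 10, 6] [] [⟨887, [7, 10, 4, 2, 8, 10], [169, 217, 167]⟩, ⟨139, [7, 10, 2, 8, 7, 10, 4], [266]⟩, ⟨1152, [4, 8, 10, 8, 6, 10, 4, 8, 6, 10, 7], []⟩],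
  .tm 1 [8, 12, 10, 8, 7, 10, 8, 6, 10, 4, 8, 15, 7] [] [⟨1221, [], []⟩],
  .tm 34 [8, 4, 8, 10, 8, 7, 10, 8, 6, 10, 4, 7] [] [⟨1139, [12, 4, 8, 10, 4, 8, 6], [167, 169, 217, 167]⟩, ⟨139, [12, 10, 8, 10, 8, 12, 4], [266]⟩, ⟨1150, [12, 8, 10, 8, 4, 8, 10, 8, 4, 7], []⟩],
  .tm 1 [8, 4, 8, 6, 10, 8, 7, 10, 8, 6, 10, 4, 6] [] [⟨1223, [], []⟩],
  .tm 34 [8, 12, 10, 4, 8, 6, 10, 8, 7, 10, 8, 15, 7] [] [⟨1121, [12, 8, 10, 4, 8, 6, 10, 4, 8, 2, 10, 4, 6], [216, 167, 217]⟩, ⟨139, [12, 6, 10, 4, 8, 4, 8], [266]⟩, ⟨359, [4, 8, 6, 10, 8, 7, 10, 4, 2, 8, 6, 10], []⟩],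
  .tm 1 [8, 4, 8, 10, 8, 6, 10, 4, 8, 0, 15] [] [⟨1225, [], []⟩],
  .tm 34 [8, 12, 10, 8, 10, 4, 8, 6, 10, 8, 7, 10, 8, 15] [] [⟨1117, [8, 12, 8, 10, 8, 6, 10, 8, 7, 10, 4, 8, 2, 10, 4, 6], [169, 216, 167, 217]⟩, ⟨139, [8, 7, 10, 8, 12, 4, 8], [266, 268]⟩, ⟨1152, [8, 7, 10, 8, 6, 10, 8, 4, 8, 0, 6, 10, 4, 6], []⟩],
  .tm 1 [12, 4, 8, 10, 8, 7, 10, 4, 8, 6, 10, 6] [] [⟨1227, [], []⟩],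
  .tm 34 [12, 8, 4, 8, 6, 10, 8, 15, 6] [] [⟨887, [8, 12, 10, 8, 7, 10, 4, 8, 6, 10, 8], [169, 217, 167, 169]⟩, ⟨139, [7, 10, 4, 8, 6, 10, 8], [266, 268, 266]⟩, ⟨1140, [8, 10, 4, 8, 7, 10, 8, 6, 10, 4, 8, 15, 6], []⟩],
  .tm 1 [12, 8, 10, 8, 10, 4, 8, 2, 10, 7] [] [⟨1229, [], []⟩],
  .tm 34 [8, 12, 8, 10, 8, 7, 10, 8, 6, 10, 8, 2, 15] [] [⟨854, [8, 12, 6, 10, 8, 7, 10, 4, 8, 6, 10, 8, 2, 15, 7], [169, 167, 216, 167, 217]⟩, ⟨139, [10, 8, 4, 2, 8, 7, 10], [266, 268, 266]⟩, ⟨1140, [4, 8, 4, 8, 7, 10, 8, 6, 10, 8, 6, 10, 6], []⟩],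
  .tm 1 [8, 12, 8, 7, 10, 8, 4, 8, 10, 8, 2, 4, 6] [] [⟨1231, [], []⟩],
  .tm 34 [8, 12, 6, 10, 2, 8, 6, 10, 4, 6] [] [⟨627, [8, 12, 8, 6, 10, 8, 4, 8, 10, 6], [167, 169, 167, 216, 167, 169]⟩, ⟨139, [12, 6, 10, 4, 8, 7, 10], []⟩, ⟨1140, [7, 10, 8, 6, 10, 4, 8, 7, 10, 8, 6, 10, 4], []⟩],
  .tm 1 [10, 8, 7, 10, 8, 10, 4, 8, 2, 6] [] [⟨1233, [], []⟩],
  .tm 34 [8, 4, 8, 10, 8, 6, 10, 8, 10, 4, 7] [] [⟨1139, [12, 4, 8, 10, 4, 8, 6, 10, 2, 8, 10], [169, 167, 217, 167]⟩, ⟨139, [10, 8, 12, 8, 4, 8, 10], [268, 266]⟩, ⟨1150, [12, 10, 4, 8, 7, 10, 2, 8, 15, 4, 6], []⟩],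
  .tm 1 [12, 10, 8, 4, 8, 6, 10, 8, 2] [] [⟨1235, [], []⟩],
  .tm 34 [4, 8, 10, 8, 7, 10, 8, 2, 15, 4, 7] [] [⟨156, [10, 4, 8, 7, 10, 2, 8, 10, 4], [169, 167, 217, 167, 216]⟩, ⟨139, [10, 8, 7, 10, 4, 8, 10], []⟩, ⟨1150, [12, 4, 8, 6, 10, 8, 7, 10, 4, 8, 0, 15, 7], []⟩],
  .tm 1 [8, 10, 8, 6, 10, 8, 7, 10, 4, 2, 8, 15, 6] [] [⟨1237, [], []⟩],
  .tm 34 [8, 12, 4, 8, 10, 8, 4, 8, 6, 10, 8, 0, 10, 4, 7] [] [⟨1121, [12, 10, 8, 7, 10, 8, 6, 10, 8, 2, 15, 4, 6], [169, 167]⟩, ⟨139, [10, 8, 10, 8, 12, 8, 10], []⟩, ⟨859, [8, 10, 8, 10], []⟩],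
  .tm 1 [8, 12, 8, 4, 8, 10, 8, 6, 10, 4, 8, 10, 6] [] [⟨1239, [], []⟩],
  .tm 34 [8, 12, 8, 4, 8, 10, 8, 6, 10, 4, 8, 0, 10, 4, 6] [] [⟨645, [12, 8, 10, 8, 6, 10, 4, 8, 2, 15, 4, 6], [169, 167, 217, 167]⟩, ⟨139, [7, 10, 4, 8, 6, 10, 8, 0], [266, 268, 266]⟩, ⟨1140, [10, 4, 8, 7, 10, 8, 6, 10, 4, 8, 15, 6], []⟩],
  .tm 1 [8, 6, 10, 8, 15, 4] [] [⟨1241, [], []⟩],
  .tm 34 [8, 6, 10, 8, 4, 2, 8, 6, 10] [] [⟨613, [10, 4, 8, 6, 10, 8, 6, 10, 6], [217, 167, 216]⟩, ⟨139, [4, 8, 12, 4, 8, 10, 8, 0], [268, 266]⟩, ⟨1152, [10, 4, 8, 6, 10, 8, 7, 10, 8, 6, 10, 4, 7], []⟩],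
  .tm 1 [8, 12, 10, 4, 8, 6, 10, 8, 0, 4, 6] [] [⟨1243, [], []⟩],
  .tm 34 [12, 7, 10, 8, 7, 10, 4, 8, 2, 6, 10, 4, 7] [] [⟨871, [12, 8, 4, 8, 10, 8, 7, 10, 4, 8, 0, 10, 4], [167, 216]⟩, ⟨139, [12, 6, 10, 4, 8, 7, 10, 0], []⟩, ⟨1140, [8, 7, 10, 8, 6, 10, 4, 8, 7, 10, 8, 6, 10, 4], []⟩],
  .tm 1 [6, 10, 8, 6, 10, 4, 8, 6, 10, 6] [] [⟨1245, [], []⟩],
  .tm 34 [8, 12, 7, 10, 8, 6, 10, 4, 8, 0, 6, 10, 4, 7] [] [⟨929, [8, 12, 8, 7, 10, 8, 4, 8, 6, 10, 4, 7], [169, 216, 167, 169]⟩, ⟨139, [6, 10, 8, 12, 7, 10, 4, 2], [268, 266]⟩, ⟨1152, [10, 8, 10, 4, 8, 6, 10, 8, 10, 4, 7], []⟩],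
  .tm 1 [8, 7, 10, 4, 8, 15, 4, 6] [] [⟨1247, [], []⟩],
  .tm 34 [8, 12, 10, 4, 8, 6, 10, 2, 8, 4, 6] [] [⟨1143, [10, 8, 6, 10, 8, 4, 2, 8, 4, 7], [169, 217]⟩, ⟨139, [4, 8, 12, 8, 10, 8, 10, 4], [266]⟩, ⟨310, [8, 12, 8, 10, 4, 8, 7, 10, 8, 6, 10, 8, 2, 15, 4, 6], []⟩],
  .tm 1 [10, 8, 6, 10, 4, 8, 7, 10, 8, 2, 15, 6] [] [⟨1249, [], []⟩],
  .tm 34 [8, 12, 4, 8, 7, 10, 4, 8, 6, 10, 4, 6] [] [⟨1164, [8, 6, 10, 8, 6, 10, 8, 4, 8, 4], [169, 167, 217, 167, 216]⟩, ⟨139, [8, 12, 4, 8, 6, 10, 2, 8], [266]⟩, ⟨1140, [4, 8, 6, 10, 2, 8, 10, 4], []⟩],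
  .tm 1 [12, 8, 7, 10, 8, 6, 10, 4, 8, 7, 10, 8, 2, 10, 7] [] [⟨1251, [], []⟩],
  .tm 34 [12, 10, 8, 4, 2, 8, 15] [] [⟨815, [8, 12, 8, 6, 10, 8, 10, 4, 6], [167, 169, 217, 167]⟩, ⟨139, [10, 4, 8, 7, 10, 8, 4, 8], [266, 268]⟩, ⟨1224, [4, 8, 10, 8, 2, 10, 4, 7], []⟩],
  .tm 1 [8, 6, 10, 8, 2, 6, 10, 7] [] [⟨1253, [], []⟩],
  .tm 34 [8, 12, 8, 7, 10, 8, 4, 8, 7, 10, 8, 2, 15, 4, 7] [] [⟨160, [10, 8, 4, 8, 7, 10, 8, 15], [169, 167, 216, 167, 217]⟩, ⟨139, [12, 10, 8, 10, 8, 12, 4, 8], [266]⟩, ⟨1150, [12, 4, 8, 10, 8, 4, 8, 10, 7], []⟩],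
  .tm 34 [12, 4, 8, 10, 4, 8, 6, 10, 8, 10, 4, 7] [] [⟨1139, [8, 12, 6, 10, 8, 7, 10, 4, 8, 4], [167, 169, 167, 217]⟩, ⟨139, [6, 10, 8, 12, 10, 8, 10, 8], [268]⟩, ⟨194, [12, 8, 10, 4, 8, 0, 10, 4, 6], []⟩],
  .tm 1 [8, 10, 4, 8, 0, 10, 6] [] [⟨1256, [], []⟩],
  .tm 34 [8, 12, 8, 4, 8, 10, 8, 6, 10, 8, 2, 15, 7] [] [⟨671, [12, 6, 10, 8, 4, 8, 10, 8, 15, 7], [169, 167, 217]⟩, ⟨139, [8, 10, 8, 10, 4, 8, 6, 10], [266, 268, 266]⟩, ⟨1140, [8, 4, 8, 6, 10, 8, 2, 10, 4], []⟩],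
  .tm 1 [12, 8, 6, 10, 8, 7, 10, 8, 6, 10, 4, 8, 6, 10, 4] [] [⟨1258, [], []⟩],
  .tm 34 [12, 4, 8, 10, 8, 6, 10, 4, 8, 6, 10, 6] [] [⟨309, [12, 8, 10, 8, 4, 8, 0, 10, 7], [169, 217]⟩, ⟨139, [12, 8, 10, 2, 8, 12, 6, 10], [268]⟩, ⟨1224, [10, 4, 8, 6, 10, 8, 7, 10, 4, 8, 6, 10], []⟩],
  .tm 1 [4, 8, 4, 8, 10, 8, 6, 10, 8, 2, 4, 6] [] [⟨1260, [], []⟩],
  .tm 34 [12, 10, 4, 8, 7, 10, 8, 6, 10, 4, 8, 2, 15, 4, 6] [] [⟨828, [8, 12, 8, 4, 8, 10, 8, 6, 10, 4, 7], [169, 217]⟩, ⟨139, [10, 4, 8, 7, 10, 8, 4, 8, 0], [266, 268]⟩, ⟨1224, [8, 4, 8, 10, 8, 2, 10, 4, 7], []⟩],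
  .tm 1 [10, 8, 4, 8, 10, 8, 7, 10, 8, 10, 7] [] [⟨1262, [], []⟩],
  .tm 34 [8, 4, 8, 7, 10, 8, 6, 10, 4, 8, 2, 10, 4, 7] [] [⟨765, [10, 4, 8, 6, 10, 8, 4, 8, 15, 4], [167, 169, 167, 217, 167]⟩, ⟨139, [12, 10, 4, 8, 10, 8, 12, 8, 0], []⟩, ⟨1152, [6, 10, 8, 10, 8, 4, 8, 6, 10, 8, 10, 4, 6], []⟩],
  .tm 1 [8, 12, 10, 8, 6, 10, 4, 2, 8, 6, 10, 4, 6] [] [⟨1264, [], []⟩],
  .tm 34 [8, 4, 8, 10, 4, 8, 7, 10, 8, 15, 4, 6] [] [⟨1250, [8, 10, 8, 4, 8, 7], [169, 167]⟩, ⟨139, [8, 6, 10, 8, 4, 8, 6, 10, 2], [266]⟩, ⟨927, [10, 4, 8, 7, 10, 4, 8, 2, 15, 7], []⟩],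
  .tm 1 [8, 12, 4, 8, 10, 8, 7, 10, 4, 8, 6, 10, 4] [] [⟨1266, [], []⟩],
  .tm 39 [8, 12, 8, 6, 10, 8, 4, 8, 7, 10, 8, 0, 6, 10] [] [⟨1075, [8, 4, 8, 4], [167, 169]⟩, ⟨139, [8, 12, 8, 10, 2], [266, 268]⟩, ⟨859, [10, 2, 8, 10], []⟩],
  .tm 1 [8, 12, 10, 8, 7, 10, 4, 8, 0, 4, 6] [] [⟨1268, [], []⟩],
  .tm 39 [12, 8, 10, 2, 8, 4, 7] [] [⟨871, [12, 4, 8, 4, 8, 10, 8, 7, 10, 8, 2, 7], [167, 169, 216, 167, 217]⟩, ⟨139, [10, 8, 10, 8, 4], [268, 266]⟩, ⟨930, [4, 8, 10, 4, 8, 6, 10, 8, 6, 10, 4, 6], []⟩],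
  .tm 1 [8, 12, 8, 10, 8, 6, 10, 8, 10, 4, 8, 10, 7] [] [⟨1270, [], []⟩],
  .tm 39 [12, 8, 10, 8, 6, 10, 4, 8, 2, 6, 10] [] [⟨164, [8, 12, 10, 8, 7, 10, 8, 6, 10, 4, 8, 2, 6, 10, 4], [167, 217, 167, 216]⟩, ⟨139, [8, 12, 10, 8, 4], [268, 266]⟩, ⟨1150, [12, 10, 8, 4, 8, 10, 8, 2, 4, 7], []⟩],
  .tm 1 [8, 12, 7, 10, 8, 2, 15, 4] [] [⟨1272, [], []⟩],
  .tm 39 [8, 2, 15, 6] [] [⟨887, [12, 8, 10, 8, 6, 10, 8, 4, 2, 8, 6, 10, 4], [167, 169, 167]⟩, ⟨139, [8, 12, 7, 10, 4], [266, 268, 266]⟩, ⟨703, [4, 8, 10, 8, 4, 8, 7, 10, 8, 15, 6], []⟩],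
  .tm 1 [8, 12, 8, 10, 8, 4, 8, 6, 10, 8, 7] [] [⟨1274, [], []⟩],
  .tm 39 [12, 10, 8, 10, 8, 4, 8, 7, 10, 8, 2, 6] [] [⟨637, [10, 4, 8, 7, 10, 8, 4, 8, 2, 15], [169, 167, 216]⟩, ⟨139, [12, 7, 10, 8, 4, 2], [268, 266]⟩, ⟨1272, [12, 8, 10, 8, 10, 4, 8, 6, 10, 8, 2, 10, 4, 7], []⟩],
  .tm 1 [8, 10, 8, 6, 10, 7] [] [⟨1276, [], []⟩],
  .tm 39 [6, 10, 8, 7, 10, 8, 4, 2, 8, 6] [] [⟨430, [10, 8, 6, 10, 4, 8, 7, 10, 8, 15, 6], [167, 169, 167, 216, 167, 217]⟩, ⟨139, [4, 8, 10, 4, 8, 4], [266]⟩, ⟨1152, [4, 8, 7, 10, 8, 6, 10, 4, 2, 8, 6, 10, 7], []⟩],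
  .tm 1 [8, 12, 8, 10, 8, 4, 8, 0, 6, 10] [] [⟨1278, [], []⟩],
  .tm 35 [12, 8, 10, 8, 6, 10, 8, 7, 10, 8, 2, 6] [] [⟨1218, [7, 10, 8, 4, 2, 8, 10], [167, 169, 167, 217, 167]⟩, ⟨139, [7, 10, 8, 12, 4, 2], [268]⟩, ⟨167, [6, 10, 8, 4, 8, 7, 10, 8, 15], []⟩],
  .tm 1 [8, 12, 7, 10, 8, 15, 4, 7] [] [⟨1280, [], []⟩],
  .tm 35 [10, 4, 8, 7, 10, 8, 6, 10, 8, 2, 6, 10] [] [⟨826, [8, 12, 10, 4, 8, 6, 10, 2, 8, 6], [167, 169, 167, 217, 167, 216]⟩, ⟨139, [12, 8, 6, 10, 8, 4], [266]⟩, ⟨161, [6, 10, 8, 0], []⟩],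
  .tm 1 [6, 10, 8, 4, 8, 7, 10, 2, 8] [] [⟨1282, [], []⟩],
  .tm 35 [12, 7, 10, 8, 4] [] [⟨887, [12, 8, 10, 8, 7, 10, 8, 10, 4, 8, 6, 10, 4, 7], []⟩, ⟨139, [8, 12, 7, 10, 8, 4], []⟩, ⟨161, [8, 6, 10, 8, 4, 8, 0, 4, 6], []⟩],
  .tm 1 [8, 12, 10, 8, 4, 8, 6, 10, 8, 0, 15, 4] [] [⟨1284, [], []⟩],
  .tm 35 [10, 8, 6, 10, 4, 8, 7, 10, 8, 6, 10, 6] [] [⟨871, [12, 4, 8, 10, 8, 6, 10, 8, 15, 4], [169, 167, 216, 167, 217]⟩, ⟨139, [12, 7, 10, 8, 7, 10, 4], [266, 268]⟩, ⟨167, [10, 8, 2, 10, 4, 6], []⟩],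
  .tm 1 [12, 8, 10, 4, 2, 8, 10, 7] [] [⟨1286, [], []⟩],
  .tm 40 [8, 10, 8, 10, 4, 8, 7, 10, 8, 10, 6] [] [⟨693, [8, 12, 8, 10, 8, 7, 10, 8, 6, 10, 4, 2, 8, 4, 7], [216, 167, 217]⟩, ⟨139, [12, 7, 10], [268]⟩, ⟨938, [6, 10, 8, 7, 10, 8, 6, 10, 4, 8, 15, 4, 7], []⟩],
  .tm 1 [10, 4, 8, 7, 10, 8, 6, 10, 4, 8, 10, 4] [] [⟨1288, [], []⟩],
  .tm 40 [8, 12, 8, 4, 8, 6, 10, 8, 2, 6, 10, 4] [] [⟨625, [8, 10, 8, 4, 8, 7, 10, 8, 2, 10], [167, 217, 167, 169]⟩, ⟨139, [8, 12, 4, 2], [266, 268]⟩, ⟨930, [4, 8, 10, 4, 8, 6, 10, 8, 2, 6, 10, 4, 6], []⟩],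
  .tm 1 [8, 12, 8, 4, 8, 10, 8, 7, 10, 8, 2, 7] [] [⟨1290, [], []⟩],
  .tm 40 [12, 8, 7, 10, 8, 7, 10, 4, 8, 2, 10, 4, 6] [] [⟨911, [12, 8, 10, 4, 8, 6, 10, 2, 8, 10, 4, 7], [167, 217]⟩, ⟨139, [6, 10, 8, 4, 2], [268]⟩, ⟨1272, [12, 8, 10, 8, 10, 4, 8, 6, 10, 8, 10, 4, 6], []⟩],
  .tm 1 [8, 10, 4, 2, 8, 6, 10, 6] [] [⟨1292, [], []⟩]]

theorem fc1216 : checkL (nat_lit 12) (nat_lit 4095) tH tK tK' BB FF TM XW d1216 (nat_lit 1216) = true := by decide +kernel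

def d1294 : List Der := [.tm 40 [12, 10, 8, 6, 10, 4, 8, 7, 10, 8, 6, 10, 4] [] [⟨977, [8, 12, 8, 6, 10, 8, 4, 8, 6, 10, 8, 6, 10, 4, 6], [169, 167, 216, 167, 217]⟩, ⟨139, [4, 8, 12, 10, 2], []⟩, ⟨445, [8, 12, 2, 0], []⟩],
  .tm 1 [8, 12, 4, 8, 10, 8, 6, 10, 6] [] [⟨1294, [], []⟩],
  .tm 40 [12, 8, 10, 8, 6, 10, 8, 7, 10, 4, 2, 8, 15, 6] [] [⟨309, [10, 8, 7, 10, 4, 2, 8, 10], [167, 216]⟩, ⟨139, [4, 8, 10, 4, 8, 4], [266]⟩, ⟨1152, [4, 8, 7, 10, 8, 6, 10, 4, 8, 0, 6, 10, 7], []⟩],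
  .tm 1 [8, 6, 10, 8, 7, 10, 4, 8, 4] [] [⟨1296, [], []⟩],
  .tm 24 [12, 4, 8, 7, 10, 8, 6, 10, 4, 8, 0, 6, 10, 6] [] [⟨693, [8, 12, 0, 15], [167, 217, 167, 216]⟩, ⟨139, [12, 4, 8, 7, 10, 4, 2], [266]⟩, ⟨1224, [8, 4, 8, 6, 10, 8, 7, 10, 8, 2, 15, 4], []⟩],
  .tm 1 [8, 12, 8, 6, 10, 8] [] [⟨1298, [], []⟩],
  .tm 24 [12, 10, 8, 10, 4, 8, 7, 10, 2, 8, 10, 4, 7] [] [⟨826, [8, 12, 8, 10, 8, 6, 10, 4, 8, 7, 10, 8, 10, 6], [167, 217, 167, 216]⟩, ⟨139, [8, 12, 8, 7, 10, 4, 2], [266, 268]⟩, ⟨441, [8, 7, 10, 4, 2, 8, 10, 4, 6], []⟩],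
  .tm 1 [4, 8, 7, 10, 8, 2, 15, 4, 7] [] [⟨1300, [], []⟩],
  .tm 24 [8, 12, 4, 8, 10, 8, 4, 8, 6, 10, 8, 0] [] [⟨635, [8, 12, 6, 10, 8, 7, 10, 4, 8, 6, 10, 8, 10, 4, 7], [167, 169, 217]⟩, ⟨139, [4], [268]⟩, ⟨877, [4, 8, 7, 10, 4, 8, 6, 10, 8, 2, 6, 10, 7], []⟩],
  .tm 1 [12, 8, 10, 8, 7, 10, 4, 8, 2, 10, 7] [] [⟨1302, [], []⟩],
  .tm 25 [8, 4, 8, 7, 10, 8, 4, 8, 2, 6, 10, 4, 7] [] [⟨683, [12, 8, 7, 10, 8, 0, 6, 10, 4, 6], [169, 167, 216, 167, 169]⟩, ⟨139, [10, 4, 8, 4, 8, 6, 10, 8], [268, 266]⟩, ⟨1074, [12, 7, 10, 8, 6, 10, 4, 8, 7, 10, 8, 10, 4], []⟩],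
  .tm 1 [8, 12, 4, 8, 6, 10, 4, 8, 7, 10, 8, 15, 6] [] [⟨1304, [], []⟩],
  .tm 25 [4, 8, 10, 8, 7, 10, 4, 8, 10, 4] [] [⟨493, [12, 8, 10, 8, 0, 15, 4, 6], []⟩, ⟨139, [10, 8, 10, 4, 8, 6, 10, 8], []⟩, ⟨1288, [8, 12, 6, 10, 8, 7, 10, 4, 8, 6, 10, 8, 2, 6, 10, 7], []⟩],
  .tm 1 [10, 8, 10, 4, 8, 6, 10, 8, 0, 15, 4, 7] [] [⟨1306, [], []⟩],
  .tm 25 [12, 10, 8, 6, 10, 4, 8, 2, 4] [] [⟨991, [8, 12, 8, 10, 8, 6, 10, 4, 2, 8, 15, 4, 6], [167, 169, 217]⟩, ⟨139, [10, 8, 12, 4, 8, 6, 10, 8], [268]⟩, ⟨1288, [12, 6, 10, 8, 7, 10, 4, 8, 6, 10, 8, 2, 6, 10, 7], []⟩],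
  .tm 1 [12, 8, 10, 8, 7, 10, 8, 4, 2, 8, 6, 10] [] [⟨1308, [], []⟩],
  .tm 25 [8, 4, 8, 10, 8, 6, 10, 4, 8, 2, 15, 4] [] [⟨887, [8, 12, 10, 4, 8, 7, 10, 4, 8, 2, 15, 7], [216, 167, 217]⟩, ⟨139, [12, 8, 4, 8, 12, 6, 10, 8], [266]⟩, ⟨703, [8, 12, 10, 8, 6, 10, 8, 7, 10, 8, 2, 15, 7], []⟩],
  .tm 1 [8, 12, 8, 7, 10, 8, 4, 8, 0, 6, 10, 4, 6] [] [⟨1310, [], []⟩],
  .tm 25 [8, 10, 8, 4, 8, 6, 10, 8, 10] [] [⟨973, [8, 12, 8, 10, 4, 8, 2, 7], [167, 169, 167, 216]⟩, ⟨139, [7, 10, 4, 8, 12, 6, 10, 8], [266, 268, 266]⟩, ⟨1140, [8, 12, 7, 10, 8, 6, 10, 4, 8, 7, 10, 8, 6, 10, 4], []⟩],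
  .tm 1 [10, 8, 4, 8, 10, 8, 2, 10, 7] [] [⟨1312, [], []⟩],
  .tm 25 [12, 4, 8, 6, 10, 8, 15] [] [⟨852, [4, 8, 7, 10, 4, 8, 6, 10, 8, 15, 4, 7], [167, 216]⟩, ⟨139, [8, 6, 10, 8, 12, 6, 10, 8], [268]⟩, ⟨445, [12, 15, 4], []⟩],
  .tm 1 [12, 8, 4, 8, 10, 4, 8, 6, 10, 8, 2, 15, 4, 6] [] [⟨1314, [], []⟩],
  .tm 25 [12, 10, 4, 8, 6, 10, 8, 7, 10, 8, 2, 6, 10, 6] [] [⟨309, [12, 10, 8, 4, 8, 0, 10, 6], [217, 167]⟩, ⟨139, [8, 12, 10, 4, 8, 7, 10, 8], []⟩, ⟨938, [12, 4, 8, 10, 8, 4, 8, 7], []⟩],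
  .tm 1 [12, 8, 4, 8, 6, 10, 8, 2, 7] [] [⟨1316, [], []⟩],
  .tm 25 [8, 12, 8, 7, 10, 8, 7, 10, 4, 8, 2, 7] [] [⟨1305, [12, 10, 8, 7, 10, 8, 6, 10, 4, 2, 8, 10, 4, 6], [169, 216, 167, 217]⟩, ⟨139, [8, 7, 10, 8, 12, 7, 10, 8], [268, 266]⟩, ⟨1310, [12, 7, 10, 8, 6, 10, 4, 8, 7, 10, 8, 15, 4, 7], []⟩],
  .tm 1 [8, 12, 8, 10, 8, 10, 4, 8, 7, 10, 8, 6, 10, 6] [] [⟨1318, [], []⟩],
  .tm 25 [8, 12, 8, 10, 8, 4, 8, 10, 8, 6, 10, 7] [] [⟨265, [8, 12, 8, 10, 8, 4, 8, 2, 15, 4], [169, 216, 167]⟩, ⟨139, [12, 10, 4, 8, 4, 8, 10, 8], [266, 268]⟩, ⟨877, [12, 10, 4, 8, 7, 10, 8, 6, 10, 4, 8, 2, 15, 4, 6], []⟩],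
  .tm 1 [8, 4, 8, 6, 10, 8, 6, 10, 4] [] [⟨1320, [], []⟩],
  .tm 25 [8, 10, 8, 7, 10, 4, 8, 6, 10, 8, 2, 6] [] [⟨1139, [10, 4, 8, 7, 10, 8, 4, 6], [169, 167, 217]⟩, ⟨139, [8, 6, 10, 8, 4, 8, 10, 8], [268]⟩, ⟨573, [10, 4, 8, 7, 10, 8, 6, 10, 4, 8, 2, 6, 10, 4, 7], []⟩],
  .tm 1 [8, 12, 10, 8, 6, 10, 8, 7, 10, 4, 8, 0, 6, 10, 6] [] [⟨1322, [], []⟩],
  .tm 25 [10, 8, 10, 4, 8, 6, 10, 8, 0, 6, 10, 7] [] [⟨786, [8, 12, 6, 10, 8, 4, 8, 10, 8, 2, 6, 10, 4, 7], [169, 216, 167]⟩, ⟨139, [8, 12, 10, 8, 4, 8, 10, 8], []⟩, ⟨557, [10, 8, 4, 8, 10, 8, 2, 15, 4, 6], []⟩],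
  .tm 1 [8, 12, 10, 4, 8, 6, 10, 8, 7, 10, 8, 2, 10, 4, 7] [] [⟨1324, [], []⟩],
  .tm 25 [12, 10, 4, 8, 6, 10, 8, 15, 4, 7] [] [⟨782, [8, 10, 4, 8, 0, 6, 10], [167, 216, 167]⟩, ⟨139, [7, 10, 8, 12, 4, 8, 10, 8], []⟩, ⟨1310, [8, 12, 7, 10, 8, 6, 10, 4, 8, 7, 10, 8, 15], []⟩],
  .tm 1 [12, 10, 8, 10, 4, 8, 7, 10, 8, 6, 10, 8] [] [⟨1326, [], []⟩],
  .tm 25 [2, 6, 10, 4] [] [⟨221, [8, 12, 8, 6, 10, 4, 2, 8, 10, 4, 6], [167, 169, 217, 167, 216]⟩, ⟨139, [10, 8, 12, 6, 10, 8, 10, 8], [266]⟩, ⟨1224, [8, 12, 10, 4, 8, 6, 10, 8, 7, 10, 4, 8, 6], []⟩],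
  .tm 1 [8, 7, 10, 4, 8, 2, 4, 6] [] [⟨1328, [], []⟩],
  .tm 25 [8, 12, 8, 10, 4, 8, 6, 10, 4, 8, 4] [] [⟨788, [12, 8, 7, 10, 8, 7, 10, 8, 4, 8, 2, 10, 6], [169, 216, 167, 169]⟩, ⟨139, [7, 10, 8, 12, 10, 8, 10, 8], [266]⟩, ⟨445, [10, 4, 7], []⟩],
  .tm 1 [12, 4, 8, 0, 6, 10, 4, 6] [] [⟨1330, [], []⟩],
  .tm 25 [8, 12, 8, 10, 4, 8, 2, 15] [] [⟨820, [12, 8, 10, 8, 6, 10, 8, 7, 10, 4, 8, 6, 10, 6], [169, 167, 217, 167]⟩, ⟨139, [8, 10, 8, 4, 2, 8, 6, 10], [266, 268]⟩, ⟨1150, [8, 12, 8, 10, 8, 4, 8, 10, 8, 2, 10, 4], []⟩],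
  .tm 1 [10, 4, 8, 7, 10, 4, 8, 10, 4, 7] [] [⟨1332, [], []⟩],
  .tm 25 [8, 12, 4, 8, 10, 8, 6, 10, 4, 8, 0, 15, 6] [] [⟨991, [8, 7, 10, 8, 4, 8, 0, 6, 10], [167, 217]⟩, ⟨139, [8, 12, 6, 10, 2, 8, 6, 10], [266, 268, 266]⟩, ⟨652, [12, 10, 4, 8, 6, 10, 8, 7, 10, 4, 8, 15, 6], []⟩],
  .tm 1 [6, 10, 8, 10, 4, 8, 2, 4, 7] [] [⟨1334, [], []⟩],
  .tm 25 [8, 12, 8, 6, 10, 8, 7, 10, 4, 8, 0, 6, 10] [] [⟨1077, [8, 12, 6, 10, 2, 8, 15, 7], [169, 216, 167]⟩, ⟨139, [8, 12, 8, 10, 2, 8, 6, 10], [266, 268]⟩, ⟨560, [8, 12, 8, 7, 10, 8, 6, 10, 4, 8, 7, 10, 8, 15, 4], []⟩],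
  .tm 1 [10, 8, 10, 4, 8, 7, 10, 8, 2, 6] [] [⟨1336, [], []⟩],
  .tm 25 [8, 12, 8, 4, 8, 10, 8, 6, 10, 4, 2, 8, 10, 7] [] [⟨683, [6, 10, 8, 7, 10, 8, 4, 8, 2, 6, 10], [169, 167, 216, 167, 169]⟩, ⟨139, [12, 10, 4, 8, 4, 8, 6, 10], [266]⟩, ⟨930, [8, 12, 10, 8, 7, 10, 8, 6, 10, 4, 8, 15, 7], []⟩],
  .tm 1 [8, 12, 8, 6, 10, 8, 7, 10, 4, 8, 0, 10, 6] [] [⟨1338, [], []⟩],
  .tm 25 [10, 8, 10, 4, 8, 6, 10, 8, 7, 10, 8, 10, 6] [] [⟨991, [12, 4, 8, 10, 4, 8, 6, 10, 8, 0, 6, 10, 4], [167, 217, 167]⟩, ⟨139, [8, 7, 10, 8, 4, 8, 6, 10], [266, 268]⟩, ⟨1152, [8, 12, 8, 6, 10, 4, 7], []⟩],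
  .tm 1 [8, 12, 4, 8, 7, 10, 4, 8, 2, 6, 10, 4, 7] [] [⟨1340, [], []⟩],
  .tm 25 [8, 12, 8, 6, 10, 8, 10, 4, 8, 2, 6] [] [⟨424, [10, 8, 6, 10, 8, 4, 2, 8, 10, 4, 7], [216]⟩, ⟨139, [10, 4, 8, 6, 10, 8, 6, 10], []⟩, ⟨1224, [8, 12, 6, 10, 8, 7, 10, 4, 8, 6, 10, 8, 2, 6], []⟩],
  .tm 1 [12, 7, 10, 8, 6, 10, 8] [] [⟨1342, [], []⟩],
  .tm 25 [8, 12, 8, 10, 4, 8, 2, 15] [] [⟨820, [8, 12, 8, 10, 8, 6, 10, 8, 7, 10, 4, 8, 6, 10, 6], [169, 167, 217]⟩, ⟨139, [8, 12, 7, 10, 2, 8, 7, 10], [268]⟩, ⟨359, [12, 4, 8, 6, 10, 8, 7, 10, 4, 8, 0, 10, 4, 6], []⟩],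
  .tm 1 [10, 8, 10, 8, 4, 8, 7, 10, 8, 10] [] [⟨1344, [], []⟩],
  .tm 25 [12, 10, 8, 6, 10, 8, 7, 10, 4, 8, 6] [] [⟨1164, [12, 8, 4, 8, 10, 8, 6, 10, 4, 8, 0, 7], [167, 169, 217, 167, 216]⟩, ⟨139, [6, 10, 4, 8, 4, 8, 7, 10], [266, 268, 266]⟩, ⟨877, [8, 12, 7, 10, 8, 6, 10, 4, 8, 7, 10, 8, 15, 4, 7], []⟩],
  .tm 1 [8, 12, 8, 10, 4, 8, 7, 10, 8, 4, 6] [] [⟨1346, [], []⟩],
  .tm 25 [12, 8, 4, 8, 6, 10, 8, 7, 10, 8, 2, 6, 10, 6] [] [⟨319, [12, 4, 8, 10, 4, 8, 7, 10, 2, 8], [169, 167, 217, 167, 216]⟩, ⟨139, [12, 10, 4, 8, 4, 8, 7, 10], [266]⟩, ⟨930, [8, 12, 10, 8, 7, 10, 8, 6, 10, 4, 8, 6, 10, 6], []⟩],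
  .tm 1 [8, 7, 10, 4, 8, 2, 15, 6] [] [⟨1348, [], []⟩],
  .tm 25 [8, 12, 10, 8, 7, 10, 8, 2, 15] [] [⟨891, [12, 8, 10, 8, 10, 4, 8, 7, 10, 8, 2, 15, 4], [169, 167, 217, 167, 169]⟩, ⟨139, [4, 8, 6, 10, 4, 8, 7, 10], [268]⟩, ⟨817, [8, 12, 8, 10, 4, 8, 7, 10, 8, 6, 10, 4, 8, 2, 15, 7], []⟩],
  .tm 1 [8, 4, 8, 10, 2, 8, 15, 7] [] [⟨1350, [], []⟩],
  .tm 25 [8, 12, 8, 10, 8, 6, 10, 8, 4, 8, 2, 4] [] [⟨408, [12, 8, 6, 10, 8, 4, 8, 0, 4], [217, 167, 169]⟩, ⟨139, [12, 4, 8, 10, 4, 8, 7, 10], [268]⟩, ⟨927, [8, 12, 10, 4, 8, 7, 10, 8, 6, 10, 4, 8, 2, 15, 4, 6], []⟩],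
  .tm 1 [12, 10, 8, 10, 4, 8, 6, 10, 8, 7, 10, 8] [] [⟨1352, [], []⟩],
  .tm 25 [8, 12, 6, 10, 8, 10, 8, 4, 8, 6, 10, 8, 2, 6, 10, 7] [] [⟨828, [8, 7, 10, 8, 7, 10, 4, 8, 2, 7], [217]⟩, ⟨139, [8, 10, 8, 10, 4, 8, 7, 10], [266]⟩, ⟨877, [12, 10, 4, 8, 7, 10, 8, 6, 10, 4, 8, 2, 10, 7], []⟩],
  .tm 1 [12, 8, 10, 8, 6, 10, 8, 10, 4, 8, 6, 10, 4] [] [⟨1354, [], []⟩],
  .tm 25 [8, 12, 8, 10, 8, 4, 8, 7, 10, 8, 2, 6] [] [⟨309, [7, 10, 8, 6, 10, 8, 7, 10, 4, 8, 2, 6, 10, 4, 6], [217, 167]⟩, ⟨139, [8, 10, 8, 12, 4, 8, 7, 10], []⟩, ⟨927, [12, 10, 4, 8, 7, 10, 8, 6, 10, 4, 8, 2, 10], []⟩],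
  .tm 1 [12, 10, 4, 8, 6, 10, 8, 4, 8, 2, 10, 4] [] [⟨1356, [], []⟩],
  .tm 25 [8, 12, 8, 4, 8, 6, 10, 8, 4, 8, 2, 6, 10, 7] [] [⟨486, [8, 12, 8, 10, 8, 6, 10, 8, 7, 10, 4, 8, 6], [217]⟩, ⟨139, [4, 8, 12, 8, 10, 8, 7, 10], [268, 266]⟩, ⟨1062, [8, 12, 4, 8, 2, 6, 10, 4, 6], []⟩],
  .tm 1 [8, 12, 8, 10, 8, 6, 10, 8, 0, 15, 4, 7] [] [⟨1358, [], []⟩],
  .tm 25 [8, 10, 8, 6, 10, 8, 6, 10] [] [⟨786, [12, 6, 10, 8, 4, 8, 10, 8, 2, 6, 10, 4, 6], [169, 216, 167, 169]⟩, ⟨139, [8, 6, 10, 8, 4, 2, 8, 10], [266, 268, 266]⟩, ⟨1150, [8, 12, 8, 4, 8, 10, 8, 4, 8, 6, 10, 4, 7], []⟩],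
  .tm 1 [8, 12, 4, 8, 7, 10, 8, 6, 10, 8, 2, 6, 10] [] [⟨1360, [], []⟩],
  .tm 25 [4, 8, 6, 10, 8, 2, 6, 10, 6] [] [⟨568, [8, 12, 8, 4, 8, 10, 4, 8, 6, 10, 8, 4, 7], [167, 169, 216, 167, 169]⟩, ⟨139, [8, 10, 8, 12, 4, 2, 8, 10], []⟩, ⟨927, [8, 12, 10, 4, 8, 7, 10, 8, 6, 10, 4, 8, 2, 6, 10], []⟩],
  .tm 1 [8, 12, 8, 10, 8, 4, 8, 6, 10, 8, 0, 4] [] [⟨1362, [], []⟩],
  .tm 25 [8, 10, 8, 4, 8, 6, 10, 8, 15, 7] [] [⟨1119, [8, 12, 8, 10, 8, 7, 10, 2, 8, 15, 4, 7], [169, 167, 216, 167, 217]⟩, ⟨139, [6, 10, 8, 12, 10, 2, 8, 10], []⟩, ⟨573, [8, 12, 8, 10, 4, 8, 7, 10, 8, 6, 10, 4, 8, 2, 6, 10, 7], []⟩],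
  .tm 1 [12, 8, 7, 10, 8, 6, 10, 4, 2, 8] [] [⟨1364, [], []⟩],
  .tm 25 [8, 12, 6, 10, 8, 7, 10, 8, 4, 2, 8] [] [⟨265, [6, 10, 4, 8, 10, 6], [169, 216, 167]⟩, ⟨139, [8, 12, 10, 4, 8, 4, 8, 10], [266, 268]⟩, ⟨927, [12, 10, 4, 8, 7, 10, 8, 6, 10, 4, 8, 2, 6, 10, 4], []⟩],
  .tm 1 [10, 8, 4, 8, 10, 8, 6, 10, 8, 0, 15, 6] [] [⟨1366, [], []⟩],
  .tm 25 [8, 10, 4, 8, 6, 10, 4, 8, 6] [] [⟨753, [8, 12, 2, 8, 15, 4], [169, 216]⟩, ⟨139, [8, 10, 8, 12, 8, 4, 8, 10], [268, 266]⟩, ⟨1150, [8, 12, 8, 10, 8, 4, 8, 10, 8, 2, 15, 4], []⟩],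
  .tm 1 [8, 12, 8, 10, 8, 7, 10, 8, 10, 4, 8, 2, 10] [] [⟨1368, [], []⟩],
  .tm 25 [8, 7, 10, 8, 4, 8, 6, 10, 8, 0, 6, 10, 4] [] [⟨757, [8, 10, 8, 7, 10, 8, 4, 8, 2, 6, 10, 7], [167, 169, 217, 167, 216]⟩, ⟨139, [8, 12, 8, 7, 10, 4, 8, 10], [268]⟩, ⟨1140, [8, 12, 10, 4, 8, 7, 10, 8, 6, 10, 4, 8, 2, 10, 7], []⟩],
  .tm 1 [8, 12, 8, 4, 8, 7, 10, 4, 8, 6, 10, 8, 7] [] [⟨1370, [], []⟩]]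

theorem fc1294 : checkL (nat_lit 12) (nat_lit 4095) tH tK tK' BB FF TM XW d1294 (nat_lit 1294) = true := by decide +kernel

def d1372 : List Der := [.tm 25 [4, 8, 4, 8, 10, 8, 7, 10, 8, 2, 6, 10, 7] [] [⟨765, [12, 8, 7, 10, 8, 15, 4, 7], [169, 167, 217]⟩, ⟨139, [8, 4, 8, 12, 10, 4, 8, 10], [266, 268, 266]⟩, ⟨1310, [12, 10, 4, 8, 7, 10, 8, 6, 10, 4, 8, 2, 10, 4, 7], []⟩],
  .tm 1 [4, 8, 6, 10, 8, 7, 10, 4, 8, 4, 7] [] [⟨1372, [], []⟩],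
  .tm 25 [8, 7, 10, 8, 6, 10, 4, 8, 7, 10, 8, 2, 7] [] [⟨493, [8, 12, 10, 8, 4, 8, 10, 8, 6, 10, 8, 0, 6, 10, 4, 6], [167]⟩, ⟨139, [6, 10, 4, 8, 12, 4, 8, 10], [268]⟩, ⟨1224, [12, 6, 10, 8, 7, 10, 4, 8, 6, 10, 8, 2, 10], []⟩],
  .tm 1 [12, 8, 4, 8, 6, 10, 8, 7, 10, 8, 15] [] [⟨1374, [], []⟩],
  .tm 25 [8, 12, 4, 8, 4, 8, 7, 10, 8, 6, 10, 8, 4, 6] [] [⟨1119, [12, 10, 8, 4, 8, 6, 10, 8, 0], [167, 169, 216, 167, 217]⟩, ⟨139, [4, 8, 10, 8, 12, 4, 8, 10], [266, 268]⟩, ⟨445, [2, 0, 10, 4], []⟩],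
  .tm 1 [12, 7, 10, 8, 6, 10, 4, 8, 7, 10, 8, 2, 15] [] [⟨1376, [], []⟩],
  .tm 25 [8, 10, 8, 7, 10, 8, 0, 10] [] [⟨871, [8, 10, 4, 8, 0, 10, 6], [167, 217, 167]⟩, ⟨139, [4, 8, 12, 8, 7, 10, 8, 10], [266, 268, 266]⟩, ⟨817, [10, 4, 8, 7, 10, 8, 6, 10, 4, 8, 2, 6, 10, 7], []⟩],
  .tm 1 [12, 7, 10, 8, 6, 10, 4, 8, 7, 10, 8, 2, 7] [] [⟨1378, [], []⟩],
  .tm 25 [8, 12, 10, 8, 7, 10, 8, 4, 2, 8, 15, 4] [] [⟨852, [8, 12, 8, 4, 8, 10, 8, 4, 8, 15, 4], [167, 217, 167, 216]⟩, ⟨139, [8, 4, 8, 12, 8, 10, 8, 10], [268]⟩, ⟨1150, [4, 8, 10, 8, 4, 8, 10, 7], []⟩],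
  .tm 1 [8, 12, 8, 6, 10, 8, 6, 10, 8, 4, 8, 2, 6] [] [⟨1380, [], []⟩],
  .tm 25 [8, 12, 6, 10, 8, 4, 8, 7, 10, 2, 8, 6, 10, 4, 7] [] [⟨828, [12, 8, 10, 8, 10, 4, 8, 2, 6, 10, 7], [217, 167]⟩, ⟨139, [7, 10, 4, 8, 12, 4, 8, 4, 0], [268]⟩, ⟨358, [8, 12, 6, 10, 8, 7, 10, 4, 8, 6, 10, 8, 2, 6, 10, 4, 6], []⟩],
  .tm 1 [12, 8, 10, 4, 8, 7, 10, 8, 6, 10, 8, 7] [] [⟨1382, [], []⟩],
  .tm 25 [12, 7, 10, 8, 10, 8, 4, 8, 6, 10, 4, 6] [] [⟨871, [10, 4, 8, 0, 15, 4], [167, 169, 216, 167, 169]⟩, ⟨139, [7, 10, 4, 8, 6, 10, 8, 4, 0], [266, 268]⟩, ⟨1310, [8, 12, 7, 10, 8, 6, 10, 4, 8, 7, 10, 8, 6, 10, 4, 7], []⟩],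
  .tm 1 [12, 8, 4, 8, 10, 8, 7, 10, 8, 0, 10, 7] [] [⟨1384, [], []⟩],
  .tm 25 [4, 8, 10, 8, 6, 10, 8, 0, 4, 7] [] [⟨987, [10, 8, 7, 10, 8, 4, 8, 0, 10], [167, 216, 167, 217]⟩, ⟨139, [6, 10, 8, 12, 6, 10, 8, 4, 0], [266, 268]⟩, ⟨445, [6, 10, 6], []⟩],
  .tm 1 [12, 8, 4, 8, 6] [] [⟨1386, [], []⟩],
  .tm 25 [10, 8, 6, 10, 8, 7, 10, 4, 8, 2, 10, 7] [] [⟨854, [10, 8, 4, 8, 6, 10, 8, 2, 15, 4], [169, 167, 216]⟩, ⟨139, [4, 8, 10, 8, 7, 10, 8, 4, 0], [268, 266]⟩, ⟨1272, [8, 12, 10], []⟩],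
  .tm 1 [7, 10, 8, 10, 7] [] [⟨1388, [], []⟩],
  .tm 25 [10, 4, 8, 6, 10, 8, 0, 10, 4, 6] [] [⟨1121, [8, 12, 7, 10, 8, 6, 10, 4, 8, 0, 10, 6], [167, 169, 216, 167, 217]⟩, ⟨139, [4, 8, 12, 8, 7, 10, 8, 4, 0], [268]⟩, ⟨1377, [12, 2, 7], []⟩],
  .tm 1 [12, 8, 7, 10, 8, 4, 8, 6, 10, 8, 15, 4, 7] [] [⟨1390, [], []⟩],
  .tm 25 [8, 12, 10, 8, 10, 4, 8, 6, 10, 4, 7] [] [⟨627, [6, 10, 8, 0], [167, 217]⟩, ⟨139, [7, 10, 4, 8, 12, 10, 8, 4, 0], [268, 266]⟩, ⟨930, [8, 12, 10, 8, 7, 10, 8, 6, 10, 4, 2, 8, 15], []⟩],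
  .tm 1 [8, 12, 4, 8, 0, 15, 6] [] [⟨1392, [], []⟩],
  .tm 25 [6, 10, 4, 2, 8, 6, 10, 7] [] [⟨430, [8, 12, 8, 4, 8, 7, 10, 2, 8, 6, 10, 4, 7], [169, 216]⟩, ⟨139, [10, 8, 6, 10, 8, 6, 10, 4, 0], [266, 268]⟩, ⟨1288, [12, 10, 4, 8, 6, 10, 8, 7, 10, 4, 8, 10, 4, 7], []⟩],
  .tm 1 [8, 12, 2, 10] [] [⟨1394, [], []⟩],
  .tm 25 [8, 7, 10, 8, 4, 8, 0, 6, 10, 4] [] [⟨887, [12, 8, 10, 4, 8, 7, 10, 8, 6, 10, 4, 8, 2, 4, 6], [169, 167, 216, 167, 217]⟩, ⟨139, [8, 6, 10, 4, 8, 7, 10, 4, 0], []⟩, ⟨1272, [2, 8, 6, 10, 4], []⟩],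
  .tm 1 [12, 7, 10, 8, 10, 4, 8, 15] [] [⟨1396, [], []⟩],
  .tm 25 [8, 12, 4, 8, 10, 4, 8, 7, 10, 8, 0] [] [⟨306, [12, 10, 8, 10, 4, 8, 15, 4], [169, 167, 217, 167, 169]⟩, ⟨139, [7, 10, 8, 6, 10, 8, 4, 8, 0], [268]⟩, ⟨1140, [8, 12, 7, 10, 8, 6, 10, 4, 8, 7, 10, 8, 15, 7], []⟩],
  .tm 1 [12, 6, 10, 8, 6, 10, 8, 4, 8, 4, 6] [] [⟨1398, [], []⟩],
  .tm 25 [12, 8, 7, 10, 8, 7, 10, 8, 4, 8, 15, 7] [] [⟨497, [12, 8, 4, 8, 10, 8, 6, 10, 8, 0, 4], [169, 167, 217, 167, 216]⟩, ⟨139, [12, 10, 4, 8, 6, 10, 4, 8, 0], [266, 268]⟩, ⟨1377, [0, 10, 4, 6], []⟩],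
  .tm 1 [8, 12, 8, 4, 8, 10, 4, 8, 7, 10, 8, 2, 10] [] [⟨1400, [], []⟩],
  .tm 25 [8, 4, 8, 7, 10, 8, 6, 10, 4, 8, 6, 10, 6] [] [⟨259, [8, 12, 8, 10, 8, 4, 8, 7, 10, 2, 8, 6, 10], [169, 216]⟩, ⟨139, [8, 12, 10, 8, 7, 10, 4, 8, 0], [268, 266]⟩, ⟨1272, [8, 12, 2, 0], []⟩],
  .tm 1 [8, 12, 4, 8, 10, 8, 4, 8, 2, 4, 7] [] [⟨1402, [], []⟩],
  .tm 25 [8, 4, 8, 6, 10, 8, 6, 10, 4] [] [⟨836, [8, 12, 7, 10, 8, 6, 10, 4, 8, 7, 10, 8, 6], [167, 169, 167]⟩, ⟨139, [4, 8, 6, 10, 8, 12, 4, 8, 0], [268]⟩, ⟨620, [12, 7, 10, 8, 6, 10, 4, 8, 7, 10, 8, 4, 6], []⟩],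
  .tm 1 [12, 10, 8, 7, 10, 8, 2, 15, 4] [] [⟨1404, [], []⟩],
  .tm 25 [8, 2, 10, 4] [] [⟨225, [8, 12, 10, 4, 8, 7, 10, 4, 8, 2, 4, 7], [169, 216]⟩, ⟨139, [8, 4, 8, 12, 8, 6, 10, 8, 0], [266]⟩, ⟨1140, [8, 12, 7, 10, 8, 6, 10, 4, 8, 7, 10, 8, 10, 4, 7], []⟩],
  .tm 1 [10, 8, 6, 10, 8, 0, 4, 6] [] [⟨1406, [], []⟩],
  .tm 25 [12, 8, 10, 4, 8, 0, 4, 6] [] [⟨221, [12, 10, 8, 7, 10, 8, 10, 4, 8, 2, 10, 6], [167, 216, 167, 217]⟩, ⟨139, [4, 8, 6, 10, 8, 7, 10, 8, 0], [268, 266]⟩, ⟨877, [12, 7, 10, 8, 6, 10, 4, 8, 7, 10, 8, 15, 7], []⟩],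
  .tm 1 [8, 10, 4, 8, 7, 10, 8, 6, 10, 8, 2, 15, 6] [] [⟨1408, [], []⟩],
  .tm 25 [10, 8, 10, 4, 8, 6, 10, 8, 7, 10, 8, 7] [] [⟨891, [4, 8, 6, 10, 8, 2, 15, 4], [167, 169, 167, 217]⟩, ⟨139, [8, 6, 10, 4, 8, 12, 10, 8, 0], [266, 268]⟩, ⟨877, [8, 12, 10, 4, 8, 7, 10, 8, 6, 10, 4, 8, 2, 10, 4, 6], []⟩],
  .tm 1 [12, 6, 10, 8, 4, 8, 7, 10, 8, 0, 4, 6] [] [⟨1410, [], []⟩],
  .tm 25 [12, 10, 4, 8, 6, 10, 8, 4, 8, 10, 7] [] [⟨798, [12, 8, 7, 10, 8, 2, 4, 6], [169, 167, 217, 167, 169]⟩, ⟨139, [7, 10, 4, 8, 10, 8, 12, 8, 0], [268, 266]⟩, ⟨930, [8, 12, 10, 8, 7, 10, 8, 6, 10, 4, 8, 15, 4], []⟩],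
  .tm 1 [12, 7, 10, 8, 6, 10, 4, 8, 2, 15, 4] [] [⟨1412, [], []⟩],
  .tm 25 [4, 8, 10, 8, 6, 10, 4, 8, 0, 15, 4, 6] [] [⟨991, [12, 8, 6, 10, 4, 8, 0, 15, 4, 6], [169, 167, 217, 167, 216]⟩, ⟨139, [6, 10, 8, 10, 4, 8, 6, 10, 0], [268]⟩, ⟨817, [8, 12, 8, 10, 4, 8, 7, 10, 8, 6, 10, 4, 8, 2, 15, 4, 6], []⟩],
  .tm 1 [8, 12, 10, 8, 7, 10, 8, 2, 15, 4, 6] [] [⟨1414, [], []⟩],
  .tm 25 [12, 7, 10, 4, 8, 0, 10, 4, 7] [] [⟨911, [8, 4, 8, 10, 8, 6, 10, 4, 2, 8, 7], [167, 169, 217, 167, 216]⟩, ⟨139, [6, 10, 8, 12, 4, 8, 6, 10, 0], [268]⟩, ⟨1272, [2, 8, 6, 10, 7], []⟩],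
  .tm 1 [8, 12, 10, 8, 6, 10, 8, 4, 8, 6, 10, 4, 6] [] [⟨1416, [], []⟩],
  .tm 25 [12, 6, 10, 8, 6, 10, 8, 4, 8, 2, 10, 6] [] [⟨1077, [12, 4, 8, 10, 8, 4, 8, 6, 10, 8, 10], [216]⟩, ⟨139, [10, 4, 8, 6, 10, 8, 6, 10, 0], [266]⟩, ⟨652, [12, 6, 10, 8, 7, 10, 4, 8, 6, 10, 8, 2, 6, 10, 6], []⟩],
  .tm 1 [2, 6] [] [⟨1418, [], []⟩],
  .tm 25 [6, 10, 8, 4, 2, 8, 10, 4] [] [⟨871, [12, 8, 7, 10, 8, 4, 8, 0, 15, 4, 7], [167, 217]⟩, ⟨139, [4, 8, 12, 7, 10, 8, 6, 10, 0], [266, 268]⟩, ⟨703, [12, 10, 8, 7, 10, 8, 6, 10, 8, 4], []⟩],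
  .tm 1 [8, 10, 8, 6, 10, 4, 8, 0, 6, 10, 4, 7] [] [⟨1420, [], []⟩],
  .tm 25 [12, 8, 10, 8, 7, 10, 8, 4, 8, 2, 10, 4, 6] [] [⟨977, [12, 4, 8, 10, 8, 4, 8, 6, 10, 8, 6, 10, 4, 7], [217, 167]⟩, ⟨139, [6, 10, 4, 8, 12, 8, 6, 10, 0], [266]⟩, ⟨817, [7, 10, 8, 6, 10, 4, 8, 7, 10, 8, 6], []⟩],
  .tm 1 [8, 12, 8, 10, 4, 8, 7, 10, 8, 6, 10, 8, 2, 4, 7] [] [⟨1422, [], []⟩],
  .tm 25 [12, 8, 10, 4, 8, 7, 10, 4, 8, 4] [] [⟨987, [8, 12, 8, 6, 10, 4, 2, 8, 6, 10, 4, 7], [167, 216]⟩, ⟨139, [8, 10, 8, 4, 8, 12, 6, 10, 0], [266]⟩, ⟨1319, [8, 15, 6], []⟩],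
  .tm 1 [8, 12, 10, 8, 7, 10, 4, 8, 2, 15, 7] [] [⟨1424, [], []⟩],
  .tm 25 [8, 12, 8, 6, 10, 8, 7, 10, 8, 4, 8, 0, 10, 4] [] [⟨241, [8, 6, 10, 8, 10, 4, 8, 10, 6], [169, 217, 167, 169]⟩, ⟨139, [12, 10, 8, 4, 8, 12, 6, 10, 0], [266]⟩, ⟨930, [8, 12, 10, 8, 7, 10, 8, 6, 10, 4, 2, 8, 15, 4, 7], []⟩],
  .tm 1 [8, 12, 6, 10, 8, 6, 10, 8, 4, 8, 2, 15] [] [⟨1426, [], []⟩],
  .tm 25 [4, 8, 10, 4, 8, 6, 10, 8, 2, 6, 10] [] [⟨518, [10, 4, 8, 7, 10, 8, 6, 10, 4, 8, 2, 7], [169, 167, 217]⟩, ⟨139, [12, 7, 10, 8, 4, 8, 7, 10, 0], []⟩, ⟨877, [8, 12, 7, 10, 8, 6, 10, 4, 8, 7, 10, 8, 6, 10, 6], []⟩],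
  .tm 1 [8, 10, 8, 6, 10, 4, 2, 8, 10, 7] [] [⟨1428, [], []⟩],
  .tm 25 [12, 10, 8, 4, 8, 10, 8, 6, 10, 8, 0, 4, 6] [] [⟨633, [8, 12, 10, 8, 4, 8, 10, 8, 2, 10, 4, 6], [169, 167, 216, 167, 169]⟩, ⟨139, [10, 8, 6, 10, 4, 8, 7, 10, 0], [266]⟩, ⟨1140, [12, 10, 4, 8, 7, 10, 8, 6, 10, 4, 8, 2, 15, 6], []⟩],
  .tm 1 [8, 12, 10, 8, 6, 10, 8, 7, 10, 8, 4, 7] [] [⟨1430, [], []⟩],
  .tm 25 [12, 8, 4, 8, 10, 2, 8, 10, 6] [] [⟨1415, [8, 12, 8, 6, 10, 8, 4, 8, 10, 8, 6, 10, 6], [167, 216, 167, 217]⟩, ⟨139, [12, 10, 8, 6, 10, 8, 7, 10, 0], [266, 268, 266]⟩, ⟨634, [2, 8, 15], []⟩],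
  .tm 1 [8, 10, 8, 6, 10, 8, 7, 10, 8, 10] [] [⟨1432, [], []⟩],
  .tm 25 [8, 12, 7, 10, 8, 6, 10, 8, 4, 8, 6, 10, 4] [] [⟨1419, [4, 8, 6, 10, 8, 7, 10, 8, 10, 4], [167, 216, 167, 169]⟩, ⟨139, [4, 8, 12, 7, 10, 8, 7, 10, 0], [266, 268]⟩, ⟨703, [12, 10, 8, 7, 10, 8, 6, 10, 8, 15, 4, 7], []⟩],
  .tm 1 [8, 10, 4, 8, 7, 10, 8, 4, 8, 2, 10, 6] [] [⟨1434, [], []⟩],
  .tm 25 [8, 7, 10, 8, 4, 8, 7, 10, 8, 6, 10, 4, 7] [] [⟨306, [8, 10, 8, 7, 10, 2, 8, 4, 6], [167, 169, 167, 217, 167, 169]⟩, ⟨139, [10, 8, 12, 8, 10, 8, 7, 10, 0], []⟩, ⟨859, [12, 7, 10, 8, 6, 10, 4, 8, 7, 10, 8, 15, 4, 6], []⟩],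
  .tm 1 [8, 12, 8, 10, 4, 8, 7, 10, 8, 4, 8, 2] [] [⟨1436, [], []⟩],
  .tm 25 [8, 10, 8, 10, 4, 7] [] [⟨518, [4, 8, 10, 4, 7], [169, 216, 167]⟩, ⟨139, [6, 10, 8, 4, 8, 12, 7, 10, 0], [266, 268, 266]⟩, ⟨877, [8, 12, 10, 4, 8, 7, 10, 8, 6, 10, 4, 8, 2, 4], []⟩],
  .tm 1 [8, 12, 10, 8, 10, 4, 8, 7, 10, 8, 0, 4, 7] [] [⟨1438, [], []⟩],
  .tm 25 [12, 10, 8, 6, 10, 8, 7, 10, 4, 2, 8, 6, 10, 4] [] [⟨241, [8, 12, 6, 10, 8, 7, 10, 8, 4, 8, 2, 15, 4, 6], [217, 167, 169]⟩, ⟨139, [8, 6, 10, 4, 8, 12, 7, 10, 0], []⟩, ⟨1272, [8, 6, 10], []⟩],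
  .tm 1 [12, 10, 8, 7, 10, 8, 0, 6, 10, 7] [] [⟨1440, [], []⟩],
  .tm 25 [12, 8, 7, 10, 8, 4, 8, 10, 8, 2, 10, 4, 7] [] [⟨198, [8, 12, 10, 4, 8, 6, 10, 8, 4, 8, 2, 10, 4, 7], [217, 167, 216]⟩, ⟨139, [8, 12, 6, 10, 8, 4, 8, 10, 0], [266, 268, 266]⟩, ⟨927, [8, 12, 7, 10, 8, 6, 10, 4, 8, 7, 10, 8], []⟩],
  .tm 1 [12, 10, 4, 8, 7, 10, 8, 6, 10, 4, 8, 2, 6, 10, 6] [] [⟨1442, [], []⟩],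
  .tm 25 [8, 12, 10, 8, 4, 8, 2, 15, 4] [] [⟨1121, [10, 4, 8, 6, 10, 8, 7, 10, 8, 2, 6, 10], [169, 167]⟩, ⟨139, [12, 8, 7, 10, 8, 4, 8, 10, 0], [266, 268, 266]⟩, ⟨930, [8, 12, 10, 8, 7, 10, 8, 6, 10, 4, 2, 8, 10, 7], []⟩],
  .tm 1 [12, 8, 7, 10, 4, 8, 6, 10, 8, 4, 6] [] [⟨1444, [], []⟩],
  .tm 25 [8, 12, 10, 4, 8, 6, 10, 8, 7, 10, 8, 6, 10, 4, 7] [] [⟨275, [12, 10, 8, 7, 10, 8, 6, 10, 8, 6, 10, 7], [169, 216, 167]⟩, ⟨139, [4, 8, 12, 10, 8, 4, 8, 10, 0], []⟩, ⟨1310, [8, 12, 7, 10, 8, 6, 10, 4, 8, 7, 10, 8], []⟩],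
  .tm 1 [8, 12, 6, 10, 8, 10, 4, 8, 2, 4, 7] [] [⟨1446, [], []⟩],
  .tm 25 [8, 10, 8, 7, 10, 2, 8, 10, 4, 7] [] [⟨836, [8, 4, 8, 7, 10, 4, 8, 6, 10, 8, 6, 10], [167, 169]⟩, ⟨139, [6, 10, 8, 7, 10, 4, 8, 10, 0], [268, 266]⟩, ⟨1152, [8, 12, 2, 8, 6, 10, 7], []⟩],
  .tm 1 [8, 12, 10, 8, 10, 4, 8, 7, 10, 8, 0, 15] [] [⟨1448, [], []⟩]]

theorem fc1372 : checkL (nat_lit 12) (nat_lit 4095) tH tK tK' BB FF TM XW d1372 (nat_lit 1372) = true := by decide +kernel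

def d1450 : List Der := [.tm 25 [12, 8, 10, 8, 7, 10, 8, 6, 10, 4, 2, 8, 15, 4] [] [⟨1077, [12, 7, 10, 4, 8, 15, 6], [167, 169, 216, 167, 217]⟩, ⟨139, [7, 10, 8, 12, 6, 10, 8, 10, 0], [268, 266]⟩, ⟨1288, [8, 12, 6, 10, 8, 7, 10, 4, 8, 6, 10, 8, 2, 15, 4], []⟩],
  .tm 1 [12, 8, 0, 15, 4] [] [⟨1450, [], []⟩],
  .tm 25 [8, 12, 8, 10, 8, 7, 10, 8, 6, 10, 4, 8, 2, 15] [] [⟨259, [8, 12, 7, 10, 4, 2, 8, 4], [169, 217, 167]⟩, ⟨139, [8, 6, 10, 8, 4, 8, 12, 10, 0], [268, 266]⟩, ⟨1319, [8, 12, 2, 0, 10, 4], []⟩],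
  .tm 1 [8, 12, 4, 8, 7, 10, 8, 4, 8, 2, 6, 10, 4] [] [⟨1452, [], []⟩],
  .tm 25 [8, 12, 8, 10, 8, 7, 10, 4, 8, 6, 10, 4] [] [⟨850, [10, 4, 8, 6, 10, 8, 2, 10, 7], [167, 169, 217]⟩, ⟨139, [6, 10, 8, 7, 10, 4, 8, 12, 0], [268, 266]⟩, ⟨1152, [8, 12, 8, 15, 6], []⟩],
  .tm 1 [8, 4, 8, 7, 10, 8, 2, 15, 4] [] [⟨1454, [], []⟩],
  .tm 25 [8, 12, 8, 10, 8, 6, 10, 8, 4, 8, 0, 15, 4, 7] [] [⟨1335, [8, 12, 8, 6, 10, 2, 8, 15, 4], [216]⟩, ⟨139, [12, 10, 4, 8, 7, 10, 8, 12, 0], []⟩, ⟨189, [12, 4, 8, 6, 10, 8, 7, 10, 4, 8, 2, 6, 10, 6], []⟩],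
  .tm 1 [8, 12, 8, 10, 4, 8, 6, 10, 4, 8, 2, 7] [] [⟨1456, [], []⟩],
  .tm 25 [12, 8, 7, 10, 8, 4, 8, 7, 10, 8, 2, 10, 7] [] [⟨1077, [4, 8, 6, 10, 4, 8, 7, 10, 8, 4, 6], [167, 169, 167, 217, 167, 216]⟩, ⟨139, [8, 12, 8, 6, 10, 8, 4, 8, 2], [268, 266]⟩, ⟨930, [8, 12, 10, 8, 7, 10, 8, 6, 10, 4, 2, 8, 6, 10], []⟩],
  .tm 1 [8, 12, 10, 8, 6, 10, 4, 2, 8, 4] [] [⟨1458, [], []⟩],
  .tm 25 [4, 2, 8, 10, 4, 7] [] [⟨269, [10, 8, 7, 10, 8, 10, 4, 8, 10, 4, 6], [216, 167, 217]⟩, ⟨139, [4, 8, 12, 7, 10, 8, 4, 8, 2], []⟩, ⟨859, [12, 7, 10, 8, 6, 10, 4, 8, 7, 10, 8, 10], []⟩],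
  .tm 1 [4, 8, 10, 4, 8, 7, 10, 8, 4, 7] [] [⟨1460, [], []⟩],
  .tm 25 [12, 6, 10, 8, 4, 2, 8] [] [⟨424, [8, 12, 6, 10, 8, 10, 8, 4, 8, 6, 10, 8, 4], [167, 217, 167, 169]⟩, ⟨139, [10, 8, 4, 8, 6, 10, 4, 8, 2], [268, 266]⟩, ⟨1074, [8, 12, 7, 10, 8, 6, 10, 4, 8, 7, 10, 8, 10, 4], []⟩],
  .tm 1 [8, 12, 8, 10, 8, 6, 10, 4, 2, 8, 10] [] [⟨1462, [], []⟩],
  .tm 25 [4, 8, 10, 8, 6, 10, 8, 0, 10, 4, 6] [] [⟨315, [8, 12, 8, 10, 8, 6, 10, 8, 10, 4, 8, 2, 6], [169, 216, 167, 217]⟩, ⟨139, [8, 12, 4, 8, 7, 10, 4, 8, 2], [266]⟩, ⟨1272, [8, 12, 15, 6], []⟩],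
  .tm 1 [8, 10, 8, 7, 10, 8, 4, 2, 8, 6, 10, 6] [] [⟨1464, [], []⟩],
  .tm 25 [8, 12, 4, 8, 10, 8, 2, 10] [] [⟨820, [8, 7, 10, 8, 7, 10, 4, 8, 7], [167, 169, 167, 216, 167]⟩, ⟨139, [8, 10, 8, 12, 7, 10, 4, 8, 2], [268]⟩, ⟨1074, [12, 7, 10, 8, 6, 10, 4, 8, 7, 10, 8, 6, 10], []⟩],
  .tm 1 [4, 8, 0, 15] [] [⟨1466, [], []⟩],
  .tm 25 [12, 8, 6, 10, 8, 6, 10, 8, 4, 8, 6, 10, 4, 7] [] [⟨200, [12, 8, 10, 8, 7, 10, 4, 8, 6, 10, 8, 2, 6, 10, 7], [167, 217, 167, 216]⟩, ⟨139, [8, 4, 8, 10, 8, 6, 10, 8, 2], [266, 268]⟩, ⟨1377, [2, 15, 4, 7], []⟩],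
  .tm 1 [8, 12, 4, 8, 10, 4, 8, 7, 10, 2, 8, 6, 10, 7] [] [⟨1468, [], []⟩],
  .tm 25 [6, 10, 8, 10, 8, 4, 8, 6, 10, 8, 6, 10, 4, 7] [] [⟨420, [12, 7, 10, 8, 6, 10, 4, 8, 10, 4, 7], [167, 216]⟩, ⟨139, [6, 10, 4, 8, 12, 6, 10, 8, 2], []⟩, ⟨927, [8, 12, 7, 10, 8, 6, 10, 4, 8, 7, 10, 8, 6, 10, 4], []⟩],
  .tm 1 [12, 4, 8, 10, 8, 6, 10, 4, 8, 2] [] [⟨1470, [], []⟩],
  .tm 25 [8, 12, 10, 8, 4, 8, 7, 10, 8, 6, 10, 8, 4] [] [⟨1415, [8, 4, 8, 10, 8, 6, 10, 8, 0, 15, 4, 6], [169, 167, 216, 167]⟩, ⟨139, [7, 10, 4, 8, 12, 6, 10, 8, 2], []⟩, ⟨374, [10, 8, 7, 10, 4, 8, 6, 10, 8, 2, 15, 4, 7], []⟩],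
  .tm 1 [8, 12, 8, 4, 8, 7, 10, 8, 0, 10, 4] [] [⟨1472, [], []⟩],
  .tm 25 [12, 4, 8, 10, 8, 6, 10, 4, 8, 0, 6, 10, 4] [] [⟨306, [8, 12, 8, 10, 4, 8, 7, 10, 8, 6, 10, 4, 8, 2, 6, 10, 6], [169, 167, 216, 167]⟩, ⟨139, [10, 8, 4, 8, 12, 7, 10, 8, 2], [266, 268, 266]⟩, ⟨1140, [12, 10, 4, 8, 7, 10, 8, 6, 10, 4, 8, 2, 6, 10, 4, 6], []⟩],
  .tm 1 [12, 7, 10, 8, 10, 8, 4, 8, 7, 10, 8, 10, 4, 6] [] [⟨1474, [], []⟩],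
  .tm 25 [8, 4, 8, 10, 4, 8, 7, 10, 8, 2, 6, 10, 7] [] [⟨477, [8, 7, 10, 8, 10, 6], [167, 169, 217, 167, 216]⟩, ⟨139, [6, 10, 4, 8, 4, 8, 10, 8, 2], [266, 268, 266]⟩, ⟨1150, [8, 12, 8, 4, 8, 10, 8, 4, 8, 6, 10, 7], []⟩],
  .tm 1 [8, 12, 7, 10, 8, 6, 10, 4, 8, 0, 15, 4, 6] [] [⟨1476, [], []⟩],
  .tm 25 [12, 8, 7, 10, 8, 4, 2, 8, 6, 10, 7] [] [⟨709, [12, 8, 4, 8, 10, 8, 4, 6], [169, 167, 217]⟩, ⟨139, [7, 10, 4, 8, 4, 8, 10, 8, 2], [266, 268]⟩, ⟨1152, [12, 8, 7], []⟩],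
  .tm 25 [12, 6, 10, 8, 4, 8, 6, 10, 8, 2, 6, 10, 4, 6] [] [⟨1467, [8, 10, 4, 7], []⟩, ⟨139, [4, 8, 6, 10, 4, 8, 6, 10, 2], [266]⟩, ⟨1377, [12, 2, 6, 10, 4, 6], []⟩],
  .tm 1 [12, 6, 10, 8, 10, 4, 8, 6, 10, 4, 6] [] [⟨1479, [], []⟩],
  .tm 25 [8, 12, 8, 10, 4, 8, 0, 15] [] [⟨259, [10, 8, 6, 10, 8, 2, 15, 6], [167, 217]⟩, ⟨139, [6, 10, 8, 12, 4, 8, 6, 10, 2], [268]⟩, ⟨1272, [8, 12, 2, 0, 6, 10, 7], []⟩],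
  .tm 1 [12, 7, 10, 8, 4, 8, 4, 6] [] [⟨1481, [], []⟩],
  .tm 25 [12, 8, 7, 10, 8, 4, 8, 15, 4, 6] [] [⟨1351, [12, 10, 8, 10, 4, 8, 7, 10, 8, 6, 10, 7], [167, 169, 167, 216, 167, 217]⟩, ⟨139, [7, 10, 8, 12, 4, 8, 7, 10, 2], [266]⟩, ⟨1474, [8, 12, 6], []⟩],
  .tm 1 [12, 8, 6, 10, 8, 4, 8, 10, 8, 6, 10] [] [⟨1483, [], []⟩],
  .tm 25 [8, 12, 8, 10, 4, 2, 8, 6] [] [⟨757, [6, 10, 8, 10, 8, 4, 8, 6, 10, 8, 2, 6, 10, 4, 6], [167, 217, 167]⟩, ⟨139, [10, 8, 12, 8, 10, 8, 7, 10, 2], []⟩, ⟨859, [8, 12, 7, 10, 8, 6, 10, 4, 8, 7, 10, 8, 15, 4, 6], []⟩],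
  .tm 1 [12, 6, 10, 8, 7, 10, 8, 15, 4, 6] [] [⟨1485, [], []⟩],
  .tm 25 [12, 10, 8, 7, 10, 2, 8, 15, 6] [] [⟨1019, [8, 12, 10, 8, 10, 4, 8, 7, 10, 8, 6, 10, 8, 15, 4], [167, 169, 216, 167]⟩, ⟨139, [12, 10, 8, 6, 10, 4, 8, 10, 2], [266, 268, 266]⟩, ⟨1272, [8, 12, 2, 0, 15], []⟩],
  .tm 1 [7, 10, 8, 6, 10, 4, 8, 7, 10, 8, 15, 6] [] [⟨1487, [], []⟩],
  .tm 25 [8, 12, 8, 10, 8, 6, 10, 8, 7, 10, 4, 8, 0, 4, 7] [] [⟨424, [8, 12, 8, 7, 10, 4, 2, 8, 7], [169, 167, 216, 167]⟩, ⟨139, [8, 6, 10, 8, 12, 4, 8, 10, 2], [266, 268, 266]⟩, ⟨1140, [8, 12, 10, 4, 8, 7, 10, 8, 6, 10, 4, 8, 2, 6, 10], []⟩],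
  .tm 1 [12, 8, 10, 8, 10, 4, 8, 6, 10, 8, 2, 6, 10, 4] [] [⟨1489, [], []⟩],
  .tm 25 [12, 7, 10, 8, 6, 10, 4, 8, 4] [] [⟨1473, [6, 10, 8, 7, 10, 4, 2, 8, 15, 4, 6], [167, 169, 167, 216, 167]⟩, ⟨139, [12, 10, 4, 8, 6, 10, 8, 10, 2], [266, 268]⟩, ⟨938, [8, 12, 10, 8, 4, 8, 10, 8, 2, 4, 6], []⟩],
  .tm 1 [12, 10, 8, 4, 8, 10, 8, 4, 7] [] [⟨1491, [], []⟩],
  .tm 25 [12, 4, 8, 10, 4, 8, 7, 10, 8, 0, 6, 10] [] [⟨911, [8, 12, 8, 4, 8, 6, 10, 8, 7, 10, 4, 8, 10], [167, 169, 217, 167, 216]⟩, ⟨139, [12, 10, 4, 8, 7, 10, 8, 10, 2], []⟩, ⟨189, [8, 12, 8, 4, 8, 10, 8, 0, 6, 10, 4, 6], []⟩],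
  .tm 1 [8, 12, 4, 8, 10, 8, 7, 10, 8, 0] [] [⟨1493, [], []⟩],
  .tm 25 [12, 15, 4, 7] [] [⟨987, [12, 4, 8, 10, 8, 7, 10, 8, 0, 7], [167, 216, 167]⟩, ⟨139, [4, 8, 10, 8, 6, 10, 2, 8, 4], [266, 268]⟩, ⟨1474, [2, 8, 15, 7], []⟩],
  .tm 1 [8, 4, 8, 10, 8, 7, 10, 8, 2, 10, 4, 6] [] [⟨1495, [], []⟩],
  .tm 25 [12, 8, 10, 8, 4, 8, 6, 10, 8, 2, 10, 4, 7] [] [⟨1415, [12, 4, 8, 10, 8, 6, 10, 4, 8, 6, 10, 4], [169, 167, 216, 167]⟩, ⟨139, [4, 8, 10, 8, 7, 10, 2, 8, 4], [266]⟩, ⟨1074, [8, 12, 10, 4, 8, 7, 10, 8, 6, 10, 4, 8, 2, 6, 10, 4, 7], []⟩],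
  .tm 1 [12, 8, 7, 10, 8, 6, 10, 4, 8, 6] [] [⟨1497, [], []⟩],
  .tm 25 [8, 12, 8, 6, 10, 4, 8, 7, 10, 8, 2, 6, 10, 6] [] [⟨1473, [15, 4], [167, 216, 167]⟩, ⟨139, [10, 8, 12, 8, 7, 10, 2, 8, 4], [268, 266]⟩, ⟨359, [12, 4, 8, 6, 10, 8, 7, 10, 4, 8, 0, 15], []⟩],
  .tm 1 [8, 6, 10, 8, 4, 8, 6, 10, 8, 2, 6, 10] [] [⟨1499, [], []⟩],
  .tm 25 [10, 8, 10, 4, 8, 6, 10, 8, 7, 10, 8, 15, 4, 6] [] [⟨1419, [6, 10, 8, 7, 10, 8, 4, 2, 8, 4], [167, 169, 217, 167]⟩, ⟨139, [4, 8, 12, 8, 7, 10, 4, 8, 4], []⟩, ⟨938, [8, 12, 4, 8, 10, 8, 4, 8, 10, 4, 7], []⟩],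
  .tm 1 [10, 8, 6, 10, 4, 8, 15, 4, 7] [] [⟨1501, [], []⟩],
  .tm 25 [8, 12, 10, 8, 4, 8, 6, 10, 8, 2, 4, 6] [] [⟨806, [12, 7, 10, 8, 10, 4, 8, 6, 10], [167, 169, 167, 216, 167]⟩, ⟨139, [8, 7, 10, 4, 8, 12, 4, 8, 4], [266, 268]⟩, ⟨187, [12, 4, 8, 6, 10, 8, 7, 10, 4, 8, 2, 6, 10, 4, 6], []⟩],
  .tm 1 [8, 12, 10, 8, 6, 10, 8, 4, 8, 2, 15, 4, 7] [] [⟨1503, [], []⟩],
  .tm 25 [8, 6, 10, 8, 7, 10, 8, 2, 10, 4] [] [⟨1473, [12, 10, 8, 7, 10, 8, 6, 10, 8, 6, 10, 4, 6], [169, 167, 216]⟩, ⟨139, [8, 4, 8, 12, 8, 7, 10, 8, 4], [268]⟩, ⟨1474, [8, 7], []⟩],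
  .tm 1 [8, 12, 8, 7, 10, 8, 6, 10, 4, 8, 2, 10, 4, 6] [] [⟨1505, [], []⟩],
  .tm 25 [8, 12, 8, 10, 8, 7, 10, 8, 6, 10, 4, 8, 0, 10, 6] [] [⟨1405, [12, 8, 4, 8, 7, 10, 8, 6, 10, 4, 8, 15, 6], [167, 169, 217, 167, 169]⟩, ⟨139, [10, 8, 4, 8, 12, 7, 10, 8, 4], []⟩, ⟨374, [10, 8, 6, 10, 4, 8, 7, 10, 8, 4], []⟩],
  .tm 1 [12, 8, 7, 10, 8, 7, 10, 8, 4, 8, 2, 15, 4, 7] [] [⟨1507, [], []⟩],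
  .tm 25 [8, 12, 6, 10, 8, 10, 8, 4, 8, 6, 10, 8, 4, 7] [] [⟨493, [12, 10, 8, 10, 4, 8], [167, 169, 167, 217, 167, 169]⟩, ⟨139, [4, 8, 4, 8, 12, 8, 10, 8, 4], [268, 266]⟩, ⟨1152, [8, 12, 8], []⟩],
  .tm 1 [8, 12, 8, 10, 4, 8, 7, 10, 8, 6, 10, 4, 8, 2, 6, 10] [] [⟨1509, [], []⟩],
  .tm 25 [8, 7, 10, 8, 4, 6] [] [⟨1121, [8, 12, 8, 4, 8, 2, 4], [169, 167]⟩, ⟨139, [10, 8, 10, 8, 12, 8, 10, 8, 4], [268]⟩, ⟨559, [8, 4], []⟩],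
  .tm 1 [12, 4, 8, 10, 8, 6, 10, 4, 8, 2] [] [⟨1511, [], []⟩],
  .tm 25 [12, 4, 8, 10, 4, 8, 7, 10, 8, 0, 6] [] [⟨1415, [12, 6, 10, 8, 10, 8, 4, 8, 6, 10, 8, 2, 15, 4, 7], []⟩, ⟨139, [12, 7, 10, 8, 6, 10, 4, 2, 8], []⟩, ⟨1489, [8, 12, 4, 8, 10, 8, 4, 8, 10, 7], []⟩],
  .tm 1 [8, 12, 8, 4, 8, 6, 10, 8, 7, 10, 4, 8, 2, 6, 10, 6] [] [⟨1513, [], []⟩],
  .tm 25 [8, 10, 8, 6, 10, 8, 10, 4, 8, 2, 15, 7] [] [⟨383, [12, 4, 8, 6, 10, 8, 7, 10, 8, 10, 4], [169, 217, 167, 216]⟩, ⟨139, [7, 10, 8, 12, 7, 10, 4, 2, 8], [266, 268]⟩, ⟨1489, [12, 4, 8, 10, 8, 4, 8, 6, 10, 7], []⟩],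
  .tm 1 [12, 4, 8, 10, 4, 8, 6, 10, 8, 0, 6, 10, 7] [] [⟨1515, [], []⟩],
  .tm 25 [7, 10, 8, 10, 8, 4, 8, 7, 10, 8, 6, 10, 7] [] [⟨1149, [12, 7, 10, 8, 6, 10, 8, 4, 8, 2, 6, 10, 4], [169, 217, 167, 216]⟩, ⟨139, [10, 8, 4, 8, 12, 8, 10, 2, 8], [266, 268, 266]⟩, ⟨1489, [8, 12, 10, 8, 4, 8, 10, 8, 2, 10, 4, 7], []⟩],
  .tm 1 [7, 10, 4, 8, 6, 10, 8, 6, 10, 7] [] [⟨1517, [], []⟩],
  .tm 25 [8, 12, 4, 8, 10, 8, 6, 10, 4, 2, 8, 15, 6] [] [⟨1419, [8, 12, 4, 8, 10, 8, 7, 10, 4, 8, 0, 10, 4, 6], [167, 169, 217, 167]⟩, ⟨139, [12, 4, 8, 7, 10, 4, 8, 4, 8], []⟩, ⟨561, [4, 8, 6, 10, 8, 4, 8, 15, 6], []⟩],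
  .tm 1 [10, 4, 8, 0, 4, 7] [] [⟨1519, [], []⟩],
  .tm 25 [12, 10, 4, 8, 7, 10, 8, 6, 10, 8, 10, 6] [] [⟨973, [12, 8, 10, 4, 8, 7], [169, 167, 216, 167, 169]⟩, ⟨139, [12, 6, 10, 4, 8, 7, 10, 4, 8], [268]⟩, ⟨1152, [8, 12, 2, 8, 6, 10, 4, 7], []⟩],
  .tm 1 [8, 4, 8, 7, 10, 8, 4, 8, 2, 15] [] [⟨1521, [], []⟩],
  .tm 25 [8, 12, 7, 10, 8, 6, 10, 8, 4, 8, 0, 4, 6] [] [⟨905, [8, 12, 7, 10, 2, 8, 6, 10, 4, 7], [169, 167, 216, 167]⟩, ⟨139, [8, 12, 6, 10, 4, 8, 7, 10, 8], [266, 268]⟩, ⟨194, [8, 12, 8, 4, 8, 6, 10, 8, 4, 8, 15], []⟩],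
  .tm 1 [8, 6, 10, 8, 4, 8, 7, 10, 8, 0, 10, 6] [] [⟨1523, [], []⟩],
  .tm 25 [8, 12, 4, 8, 7, 10, 8, 4, 8, 2, 10] [] [⟨1250, [8, 10, 4, 8, 0, 6], []⟩, ⟨139, [10, 4, 8, 4, 8, 12, 8, 10, 8], []⟩, ⟨1319, [8, 6, 10, 4, 6], []⟩],
  .tm 1 [6, 10, 4, 8, 7, 10, 8, 2, 6] [] [⟨1525, [], []⟩]]

theorem fc1450 : checkL (nat_lit 12) (nat_lit 4095) tH tK tK' BB FF TM XW d1450 (nat_lit 1450) = true := by decide +kernel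

def d1527 : List Der := [.tm 25 [8, 12, 10, 4, 8, 6, 10, 8, 0, 6] [] [⟨854, [8, 12, 6, 10, 8, 6, 10], [169, 167, 216, 167, 169]⟩, ⟨139, [8, 7, 10, 4, 8, 4, 8, 6, 10], [266]⟩, ⟨1489, [8, 12, 10, 8, 4, 8, 10, 8, 2, 15, 4], []⟩],
  .tm 1 [6, 10, 8, 10, 8, 4, 8, 6, 10, 8, 15, 4, 6] [] [⟨1527, [], []⟩],
  .tm 25 [8, 12, 4, 8, 10, 8, 7, 10, 4, 2, 8, 6] [] [⟨515, [8, 12, 8, 7, 10, 8, 6, 10, 8, 7, 10, 4, 8, 15, 4], [167, 169, 216, 167]⟩, ⟨139, [6, 10, 8, 6, 10, 4, 8, 7, 10], [268]⟩, ⟨1474, [2, 8, 15, 4, 7], []⟩],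
  .tm 1 [12, 4, 8, 6, 10, 4, 8, 15] [] [⟨1529, [], []⟩],
  .tm 25 [2, 6, 10, 6] [] [⟨1415, [4, 8, 6, 10, 8, 4, 8, 2, 15, 4, 6], [217, 167, 216]⟩, ⟨139, [8, 10, 8, 12, 8, 10, 8, 7, 10], [268]⟩, ⟨559, [8, 12, 6, 10, 6], []⟩],
  .tm 1 [8, 12, 8, 0, 6, 10, 7] [] [⟨1531, [], []⟩],
  .tm 25 [12, 8, 10, 8, 4, 8, 10, 8, 7] [] [⟨798, [12, 8, 4, 8, 10, 8, 7, 10, 2, 8, 6], [169, 167, 216, 167]⟩, ⟨139, [6, 10, 8, 12, 4, 8, 4, 8, 10], [266, 268]⟩, ⟨1474, [8, 4, 6], []⟩],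
  .tm 1 [8, 6, 10, 4, 8, 2, 6, 10] [] [⟨1533, [], []⟩],
  .tm 25 [12, 4, 8, 10, 8, 6, 10, 8, 2, 15, 4] [] [⟨1139, [12, 4, 8, 10, 8, 4, 6], [167, 217, 167, 169]⟩, ⟨139, [12, 8, 10, 8, 12, 10, 4, 8, 4, 0], [268]⟩, ⟨760, [8, 12, 7, 10, 8, 6, 10, 4, 8, 7, 10, 8, 10, 4], []⟩],
  .tm 1 [8, 12, 6, 10, 8, 4, 8, 6, 10, 8, 2, 15, 4, 6] [] [⟨1535, [], []⟩],
  .tm 25 [10, 8, 6, 10, 8, 10, 4, 8, 2, 4, 6] [] [⟨408, [8, 12, 10, 8, 6, 10, 8, 7, 10, 4, 2, 8, 7], [217, 167, 169]⟩, ⟨139, [4, 8, 10, 8, 12, 6, 10, 8, 4, 0], []⟩, ⟨1533, [8, 12, 8, 4, 8, 10, 8, 4, 8, 7], []⟩],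
  .tm 1 [8, 12, 10, 8, 10, 8, 4, 8, 2, 10, 7] [] [⟨1537, [], []⟩],
  .tm 25 [8, 4, 8, 6, 10, 8, 7, 10, 4, 8, 2, 10, 4] [] [⟨987, [10, 8, 7, 10, 8, 10, 4, 8, 15, 6], [167, 169, 216]⟩, ⟨139, [10, 8, 7, 10, 4, 8, 6, 10, 4, 0], [268]⟩, ⟨1533, [8, 12, 8, 10, 8, 4, 8, 10, 8, 2, 6, 10], []⟩],
  .tm 1 [8, 10, 4, 8, 6, 10, 8, 6, 10, 4, 7] [] [⟨1539, [], []⟩],
  .tm 25 [8, 12, 8, 6, 10, 8, 4, 8, 7, 10, 8, 15, 4] [] [⟨319, [4, 8, 10, 8, 6, 10, 4, 8, 0, 4, 7], [217, 167, 216]⟩, ⟨139, [10, 8, 7, 10, 4, 8, 7, 10, 4, 0], [268]⟩, ⟨1533, [8, 12, 8, 10, 8, 4, 8, 10, 8, 2, 15], []⟩],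
  .tm 1 [10, 8, 10, 8, 4, 8, 6, 10, 8, 2, 6, 10, 4, 6] [] [⟨1541, [], []⟩],
  .tm 25 [4, 8, 0, 6, 10, 4, 7] [] [⟨693, [12, 8, 7, 10, 8, 2, 10, 6], [167, 169, 217, 167, 169]⟩, ⟨139, [7, 10, 8, 12, 6, 10, 8, 10, 4, 0], [268, 266]⟩, ⟨1288, [8, 12, 6, 10, 8, 7, 10, 4, 8, 6, 10, 8, 2, 15], []⟩],
  .tm 1 [12, 10, 8, 4, 8, 10, 8, 6, 10, 8, 0, 6, 10, 7] [] [⟨1543, [], []⟩],
  .tm 25 [6, 10, 8, 7, 10, 8, 2, 15, 4] [] [⟨798, [6, 10, 4, 8, 2, 6, 10, 4, 7], [167, 169, 167, 216, 167]⟩, ⟨139, [4, 8, 6, 10, 4, 8, 7, 10, 8, 0], [268]⟩, ⟨310, [12, 0, 15, 6], []⟩],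
  .tm 1 [8, 12, 8, 10, 8, 7, 10, 4, 8, 15, 7] [] [⟨1545, [], []⟩],
  .tm 25 [12, 10, 8, 7, 10, 8, 4, 8, 6, 10, 4] [] [⟨796, [8, 12, 8, 7, 10, 8, 4, 8, 7, 10, 8, 2, 10], [167, 169, 216]⟩, ⟨139, [6, 10, 8, 4, 8, 7, 10, 8, 12, 0], [266]⟩, ⟨624, [8, 12, 4, 8, 10, 8, 4, 8, 10, 7], []⟩],
  .tm 1 [8, 12, 10, 8, 6, 10, 8, 10, 4, 8, 2, 10, 7] [] [⟨1547, [], []⟩],
  .tm 25 [12, 8, 7, 10, 8, 6, 10, 8, 7, 10, 4, 8, 6, 10, 4, 7] [] [⟨693, [8, 10, 8, 10, 4, 8, 6, 10, 8, 2, 15, 4, 7], [167, 169, 217, 167, 169]⟩, ⟨139, [4, 8, 12, 6, 10, 4, 8, 10, 8, 2], [266, 268]⟩, ⟨1533, [4, 8, 10, 8, 4, 8, 10, 4, 7], []⟩],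
  .tm 1 [8, 12, 8, 10, 8, 6, 10, 4, 2, 8, 6] [] [⟨1549, [], []⟩],
  .tm 25 [8, 7, 10, 4, 8, 6, 10, 8, 2, 6] [] [⟨1467, [8, 12, 10, 4], [169, 167]⟩, ⟨139, [6, 10, 8, 4, 8, 12, 8, 10, 8, 2], [266, 268, 266]⟩, ⟨1545, [12, 7, 10, 8, 4, 8, 10, 8, 2, 4, 6], []⟩],
  .tm 1 [12, 4, 8, 10, 4, 8, 7, 10, 2, 8, 10, 6] [] [⟨1551, [], []⟩],
  .tm 25 [12, 6, 10, 8, 7, 10, 4, 8, 15, 4, 7] [] [⟨1552, [12, 4, 8, 7, 10, 8, 6, 10, 8, 2, 10, 7], [169, 167, 217, 167, 216]⟩, ⟨139, [12, 8, 7, 10, 8, 12, 7, 10, 8, 4], [266, 268]⟩, ⟨260, [8, 12, 10, 8, 6, 10, 8, 7, 10, 4, 8, 0, 10, 4, 6], []⟩],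
  .tm 1 [8, 12, 7, 10, 8, 6, 10, 8, 4, 8, 2, 6, 10, 7] [] [⟨1553, [], []⟩],
  .tm 25 [12, 10, 4, 8, 7, 10, 8, 2] [] [⟨1552, [8, 10, 8, 10, 4, 8, 7, 10, 8, 15, 7], [167, 169, 217, 167, 216]⟩, ⟨139, [8, 7, 10, 8, 12, 10, 8, 6, 10, 8], [266, 268]⟩, ⟨938, [12, 10, 8, 4, 8, 10, 8, 2, 15, 6], []⟩],
  .tm 1 [8, 6, 10, 8, 7, 10, 4, 8, 0, 15] [] [⟨1555, [], []⟩],
  .tm 25 [7, 10, 4, 8, 6, 10, 4, 6] [] [⟨1143, [12, 4, 8, 10, 8, 7, 10, 4, 8, 2, 10, 6], [217, 167]⟩, ⟨139, [0], [268]⟩, ⟨560, [8, 12, 8, 10, 4, 8, 7, 10, 8, 6, 10, 4, 8, 2, 6, 10, 7], []⟩],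
  .tm 1 [12, 7, 10, 8, 6, 10, 8, 7] [] [⟨1557, [], []⟩],
  .tm 25 [8, 12, 8, 4, 8, 6, 10, 8, 4, 8, 2] [] [⟨1508, [8, 12, 2, 8, 15, 4], [216, 167, 169]⟩, ⟨139, [4, 8, 0], [268, 266]⟩, ⟨1489, [8, 12, 4, 8, 10, 8, 4, 8, 15], []⟩],
  .tm 1 [8, 6, 10, 8, 4, 8, 7] [] [⟨1559, [], []⟩],
  .tm 25 [8, 12, 8, 6, 10, 8, 4, 2, 8, 6, 10, 6] [] [⟨901, [8, 12, 8, 10, 4, 8, 7, 10, 4, 8, 4, 6], [169, 217]⟩, ⟨139, [8, 10, 4], [268]⟩, ⟨859, [8, 12, 7, 10, 8, 6, 10, 4, 8, 7, 10, 8, 6, 10], []⟩],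
  .tm 1 [8, 10, 8, 7, 10, 4, 8, 2, 6, 10] [] [⟨1561, [], []⟩],
  .tm 25 [8, 4, 8, 10, 8, 7, 10, 8, 2] [] [⟨160, [8, 12, 6, 10, 8, 7, 10, 8, 6, 10, 4, 8, 2, 10, 4], [169, 167, 217, 167, 216]⟩, ⟨139, [2, 8, 10], [268]⟩, ⟨859, [12, 7, 10, 8, 6, 10, 4, 8, 7, 10, 8, 6, 10, 4], []⟩],
  .tm 1 [8, 12, 8, 6, 10, 8, 6, 10, 4, 8, 6, 10] [] [⟨1563, [], []⟩],
  .tm 25 [8, 12, 8, 4, 8, 7, 10, 8, 4, 8, 2, 10, 4, 7] [] [⟨1149, [8, 12, 7, 10, 4, 8, 7], [167, 169, 216, 167, 217]⟩, ⟨139, [4, 8, 10, 4, 0], [268, 266]⟩, ⟨1489, [8, 12, 4, 8, 10, 8, 4, 8, 4, 7], []⟩],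
  .tm 1 [8, 12, 8, 6, 10, 8, 10, 4, 8, 2, 15, 4] [] [⟨1565, [], []⟩],
  .tm 25 [8, 12, 10, 4, 8, 6, 10, 8, 7, 10, 4, 8, 2, 6, 10, 6] [] [⟨1351, [8, 12, 7, 10, 8, 6, 10, 8, 2], [169, 217, 167, 216]⟩, ⟨139, [4, 8, 10, 8, 12, 0], []⟩, ⟨445, [], []⟩],
  .tm 1 [8, 10, 4, 8, 6, 10, 8, 4, 8, 6, 10, 4, 7] [] [⟨1567, [], []⟩],
  .tm 25 [7, 10, 4, 8, 6, 10, 8, 2, 6, 10, 7] [] [⟨424, [8, 12, 8, 10, 4, 8, 2, 10, 6], [216]⟩, ⟨139, [6, 10, 4, 8, 10, 2], [266, 268, 266]⟩, ⟨1474, [8, 12, 6, 10], []⟩],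
  .tm 1 [12, 8, 10, 8, 0, 15] [] [⟨1569, [], []⟩],
  .tm 25 [4, 8, 7, 10, 8, 6, 10, 4, 8, 0, 10, 6] [] [⟨891, [8, 12, 4, 8, 10, 8, 2, 15, 4, 6], [167, 169, 167, 217]⟩, ⟨139, [6, 10, 4, 8, 12, 10, 0], [266, 268, 266]⟩, ⟨1474, [2, 8, 6, 10], []⟩],
  .tm 1 [12, 8, 7, 10, 4, 8, 2, 10, 4, 7] [] [⟨1571, [], []⟩],
  .tm 26 [12, 10, 8, 10, 4, 8, 2, 6, 10, 6] [] [⟨1379, [8, 6, 10, 8, 7, 10, 8, 2, 15, 4, 7], [169, 167, 217, 167]⟩, ⟨139, [8, 12, 4, 8, 7, 10, 8, 12, 10, 0], [266]⟩, ⟨1086, [8, 12, 8, 10, 4, 8, 7, 10, 8, 6, 10, 8, 2, 10, 4], []⟩],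
  .tm 1 [12, 10, 8, 6, 10, 8, 2, 10, 4, 7] [] [⟨1573, [], []⟩],
  .tm 26 [8, 12, 8, 4, 8, 6, 10, 8, 7, 10, 4, 8, 15, 4] [] [⟨309, [8, 12, 4, 8, 6, 10, 8, 7, 10, 8, 10, 4], [167, 216, 167]⟩, ⟨139, [12, 10, 4, 8, 7, 10, 4, 8, 12, 0], [266]⟩, ⟨1248, [8, 12, 10, 4, 8, 6, 10, 8, 7, 10, 4, 8, 4], []⟩],
  .tm 1 [8, 12, 6, 10, 8, 7, 10, 8, 6, 10, 4, 8, 6, 10, 7] [] [⟨1575, [], []⟩],
  .tm 26 [8, 12, 8, 6, 10, 8, 6, 10, 8, 4, 8, 10, 6] [] [⟨977, [2, 0, 6, 10, 4, 6], [167, 217, 167, 216]⟩, ⟨139, [12, 4, 8, 10, 8, 7, 10, 8, 12, 0], [268, 266]⟩, ⟨1503, [12, 0, 10, 4, 7], []⟩],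
  .tm 1 [8, 12, 4, 8, 10, 4, 8, 6, 10, 4] [] [⟨1577, [], []⟩],
  .tm 26 [8, 12, 6, 10, 8, 7, 10, 8, 4, 8, 2, 10, 7] [] [⟨826, [12, 8, 7, 10, 4, 2, 8, 15], [167, 217, 167, 216]⟩, ⟨139, [12, 8, 7, 10, 4, 8, 10, 8, 12, 0], []⟩, ⟨1511, [12, 10, 4, 8, 6, 10, 8, 4, 6], []⟩],
  .tm 1 [4, 8, 7, 10, 8, 6, 10, 4, 2, 8, 10, 4, 6] [] [⟨1579, [], []⟩],
  .tm 26 [8, 12, 8, 10, 4, 2, 8, 7] [] [⟨1379, [8, 7, 10, 8, 6, 10, 8, 6, 10, 6], [167, 169, 167, 217, 167, 169]⟩, ⟨139, [8, 4, 8, 12, 8, 6, 10, 8, 4, 2], [266]⟩, ⟨1239, [8, 12, 10, 8, 6, 10, 8, 15, 4, 6], []⟩],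
  .tm 1 [8, 10, 4, 8, 6, 10, 8, 4, 8, 6] [] [⟨1581, [], []⟩],
  .tm 26 [12, 8, 4, 8, 10, 8, 6, 10, 4, 2, 8, 6, 10, 6] [] [⟨826, [10, 8, 4, 8, 10, 8, 7, 10, 8, 10, 7], [167, 217, 167, 216]⟩, ⟨139, [6, 10, 4, 8, 12, 6, 10, 8, 4, 2], [266, 268]⟩, ⟨822, [10, 8, 0, 4], []⟩],
  .tm 1 [8, 12, 7, 10, 8, 6, 10, 8, 2, 10, 4, 7] [] [⟨1583, [], []⟩],
  .tm 26 [8, 12, 8, 10, 8, 6, 10, 4, 8, 7, 10, 8, 10, 4, 6] [] [⟨824, [12, 8, 10, 8, 6, 10, 8, 7, 10, 8, 15, 4, 6], [169, 167]⟩, ⟨139, [7, 10, 8, 4, 8, 7, 10, 8, 4, 2], [266, 268, 266]⟩, ⟨1066, [10, 4, 8, 6, 10, 8, 7, 10, 4, 8, 6, 10, 4, 6], []⟩],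
  .tm 1 [8, 12, 7, 10, 8, 4, 8, 6, 10, 8, 2, 4, 6] [] [⟨1585, [], []⟩],
  .tm 26 [12, 8, 7, 10, 8, 6, 10, 4, 8, 7, 10, 8, 6] [] [⟨824, [8, 10, 8, 6, 10, 8, 7, 10, 8, 10, 4], [169]⟩, ⟨139, [4, 8, 10, 8, 6, 10, 8, 10, 4, 2], [266]⟩, ⟨508, [8, 10], []⟩],
  .tm 1 [10, 8, 7, 10, 8, 10, 4, 8, 2, 15, 6] [] [⟨1587, [], []⟩],
  .tm 26 [12, 10, 4, 8, 7, 10, 2, 8, 4, 6] [] [⟨1379, [8, 6, 10, 8, 7, 10, 8, 2, 15], [169, 167, 217, 167, 169]⟩, ⟨139, [8, 12, 8, 10, 8, 4, 8, 6, 10, 2], [266]⟩, ⟨956, [12, 10, 8, 7, 10, 8, 6, 10, 4, 2, 8, 4], []⟩],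
  .tm 1 [10, 8, 0, 10, 4, 6] [] [⟨1589, [], []⟩],
  .tm 26 [8, 12, 8, 4, 8, 10, 8, 6, 10, 8, 15, 4] [] [⟨977, [12, 15], [169, 167, 216, 167, 217]⟩, ⟨139, [10, 8, 12, 8, 6, 10, 8, 6, 10, 2], [266, 268, 266]⟩, ⟨547, [10, 8, 4, 8, 6, 10, 8, 2, 15, 4, 7], []⟩],
  .tm 1 [8, 12, 10, 8, 6, 10, 8, 0, 6, 10] [] [⟨1591, [], []⟩],
  .tm 26 [8, 12, 4, 8, 6, 10, 4, 8, 2, 10, 4] [] [⟨796, [12, 10, 8, 6, 10, 4, 8, 7, 10, 8, 15, 4, 6], [167, 169]⟩, ⟨139, [12, 6, 10, 8, 4, 8, 12, 7, 10, 2], [266, 268]⟩, ⟨1174, [8, 12, 4, 8, 7, 10, 8, 6, 10, 7], []⟩],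
  .tm 1 [8, 12, 10, 8, 7, 10, 8, 4, 2, 8, 6, 10, 4, 7] [] [⟨1593, [], []⟩],
  .tm 26 [8, 12, 10, 8, 6, 10, 8, 4, 2, 8, 15] [] [⟨824, [8, 10, 8, 7, 10, 8, 6, 10, 8, 2, 6, 10, 4, 7], [169, 167]⟩, ⟨139, [10, 4, 8, 6, 10, 8, 4, 8, 10, 2], [266, 268]⟩, ⟨1558, [8, 10, 4, 8, 6, 10, 4, 8, 2, 6, 10, 4, 7], []⟩],
  .tm 1 [8, 10, 4, 8, 7, 10, 4, 8, 6, 10] [] [⟨1595, [], []⟩],
  .tm 26 [12, 6, 10, 8, 7, 10, 8, 15] [] [⟨164, [6, 10, 8, 4, 2, 8, 15, 4], [167, 169, 217, 167, 216]⟩, ⟨139, [8, 10, 8, 4, 8, 6, 10, 8, 12, 2], [268]⟩, ⟨1511, [12, 10, 4, 8, 0, 6, 10, 4], []⟩],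
  .tm 1 [8, 12, 8, 10, 8, 7, 10, 4, 8, 6, 10, 8, 15, 4, 6] [] [⟨1597, [], []⟩],
  .tm 26 [12, 8, 4, 8, 10, 8, 7, 10, 8, 10, 4, 7] [] [⟨306, [8, 12, 10, 8, 7, 10, 8, 6, 10, 8, 15], [167, 217, 167, 169]⟩, ⟨139, [8, 12, 7, 10, 8, 6, 10, 8, 12, 2], [268, 266]⟩, ⟨1129, [6, 10, 4, 8, 0, 10], []⟩],
  .tm 1 [8, 6, 10, 2, 8, 6, 10, 7] [] [⟨1599, [], []⟩],
  .tm 26 [8, 12, 8, 10, 8, 4, 8, 7, 10, 8, 2, 10, 4, 6] [] [⟨727, [8, 12, 8, 4, 8, 10, 8, 2, 6], [167, 169, 167, 217, 167, 169]⟩, ⟨139, [12, 8, 7, 10, 4, 8, 12, 2, 8, 4], [266]⟩, ⟨1198, [8, 6, 10, 8, 10, 4, 8, 2, 6, 10, 4, 7], []⟩],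
  .tm 1 [12, 10, 8, 4, 8, 4, 6] [] [⟨1601, [], []⟩]]

theorem fc1527 : checkL (nat_lit 12) (nat_lit 4095) tH tK tK' BB FF TM XW d1527 (nat_lit 1527) = true := by decide +kernel

def d1603 : List Der := [.tm 26 [12, 8, 10, 8, 2, 15, 6] [] [⟨784, [12, 4, 8, 7, 10, 8, 4, 8, 4, 7], [167, 169]⟩, ⟨139, [12, 8, 4, 8, 12, 7, 10, 4, 8, 4], [266]⟩, ⟨1551, [2, 6, 10, 7], []⟩],
  .tm 1 [12, 8, 10, 8, 4, 8, 7, 10, 8, 2, 6, 10, 4, 6] [] [⟨1603, [], []⟩],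
  .tm 26 [12, 4, 8, 6, 10, 8, 10, 4] [] [⟨309, [8, 12, 4, 8, 7, 10, 8, 6, 10, 8, 2, 6, 10], [167, 216, 167, 169]⟩, ⟨139, [8, 12, 8, 7, 10, 8, 7, 10, 8, 4], [266, 268]⟩, ⟨1088, [12, 7, 10, 4, 8, 0, 4, 6], []⟩],
  .tm 1 [12, 8, 4, 8, 10, 8, 10] [] [⟨1605, [], []⟩],
  .tm 26 [12, 8, 10, 2, 8, 15, 4, 6] [] [⟨306, [8, 12, 10, 8, 7, 10, 8, 6, 10, 8, 6, 10, 4, 7], [167, 169, 217, 167]⟩, ⟨139, [8, 4, 8, 10, 2, 8, 12, 7, 10, 4], [268, 266]⟩, ⟨1535, [8, 12, 8, 6, 10, 4, 8, 0, 10, 6], []⟩],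
  .tm 1 [8, 6, 10, 8, 7, 10, 8, 4, 8, 0, 15, 7] [] [⟨1607, [], []⟩],
  .tm 26 [8, 10, 8, 6, 10, 8, 0, 6, 10, 4, 7] [] [⟨796, [12, 10, 8, 6, 10, 4, 8, 7, 10, 8, 15, 7], [167, 169]⟩, ⟨139, [12, 8, 7, 10, 8, 12, 4, 8, 10, 4], [266, 268, 266]⟩, ⟨1582, [8, 12, 4, 8, 10, 8, 7, 10, 8, 0, 6, 10, 4, 7], []⟩],
  .tm 1 [12, 8, 7, 10, 8, 4, 8, 10, 8, 2, 4, 7] [] [⟨1609, [], []⟩],
  .tm 26 [6, 10, 8, 4, 8, 7, 10, 2, 8, 7] [] [⟨824, [8, 10, 8, 6, 10, 8, 7, 10, 8, 4], [169, 167]⟩, ⟨139, [8, 4, 8, 10, 8, 6, 10, 8, 10, 4], [268, 266]⟩, ⟨1079, [12, 8, 10, 8, 6, 10, 8, 10, 4, 8, 2, 15, 4, 6], []⟩],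
  .tm 1 [12, 8, 6, 10, 8, 4, 8, 0, 15, 4, 7] [] [⟨1611, [], []⟩],
  .tm 26 [8, 12, 8, 10, 8, 7, 10, 8, 2, 4, 7] [] [⟨887, [8, 12, 8, 10, 8, 7, 10, 8, 6, 10, 8, 15, 4, 6], [167, 169, 167]⟩, ⟨139, [4, 8, 12, 4, 8, 10, 2, 8, 6, 10], [268, 266]⟩, ⟨885, [8, 12, 10, 8, 4, 8, 10, 8, 6, 10, 8, 6, 10, 4, 6], []⟩],
  .tm 1 [8, 4, 8, 7, 10, 8, 6, 10, 4, 8, 2, 7] [] [⟨1613, [], []⟩],
  .tm 26 [8, 12, 10, 8, 7, 10, 4, 8, 6, 10, 8, 10, 6] [] [⟨95, [8, 12, 10, 8, 0, 4, 6], [167, 216, 167, 169]⟩, ⟨139, [12, 10, 8, 6, 10, 2, 8, 12, 7, 10], [266, 268]⟩, ⟨1097, [12, 8, 10, 4, 8, 7, 10, 8, 6, 10, 4, 8, 2, 6, 10, 4], []⟩],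
  .tm 1 [10, 8, 6, 10, 8, 0] [] [⟨1615, [], []⟩],
  .tm 26 [10, 8, 7, 10, 8, 6, 10, 4, 8, 0, 4, 6] [] [⟨784, [8, 12, 4, 8, 7, 10, 8, 4, 8, 4, 6], [167, 169]⟩, ⟨139, [12, 6, 10, 8, 7, 10, 8, 12, 8, 10], [268]⟩, ⟨1138, [12, 8, 10, 8, 6, 10, 8, 4, 8, 2, 10, 4, 6], []⟩],
  .tm 1 [8, 4, 8, 10, 8, 6, 10, 4, 8, 0, 6, 10, 4, 7] [] [⟨1617, [], []⟩],
  .tm 26 [8, 4, 8, 10, 8, 6, 10, 8, 6, 10, 4] [] [⟨309, [8, 12, 4, 8, 7, 10, 8, 6, 10, 8, 2, 15], [167, 216, 167]⟩, ⟨139, [10, 4], [268, 266]⟩, ⟨900, [7, 10, 8, 6, 10, 4, 8, 2, 6, 10, 7], []⟩],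
  .tm 1 [8, 7, 10, 4, 8, 6, 10, 8, 2, 15, 4, 7] [] [⟨1619, [], []⟩],
  .tm 26 [7, 10, 8, 6, 10, 8, 2, 6, 10, 4] [] [⟨309, [12, 8, 6, 10, 8, 7, 10, 4, 2, 8, 15, 4], [167, 216, 167]⟩, ⟨139, [10, 4, 0], [266, 268, 266]⟩, ⟨1610, [8, 0, 4], []⟩],
  .tm 1 [8, 12, 8, 10, 8, 10, 4, 8, 2, 15] [] [⟨1621, [], []⟩],
  .tm 26 [8, 12, 8, 7, 10, 8, 4, 8, 2, 15, 4] [] [⟨583, [8, 12, 8, 10, 8, 6, 10, 8, 7, 10, 8, 2, 6, 10, 4], [167, 169, 167]⟩, ⟨139, [7, 10, 0], [268, 266]⟩, ⟨819, [10, 8, 7, 10, 8, 2, 15, 4], []⟩],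
  .tm 1 [4, 8, 10, 8, 6, 10, 4, 8, 0, 4, 7] [] [⟨1623, [], []⟩],
  .tm 26 [8, 12, 10, 8, 6, 10, 4, 8, 2, 10, 4] [] [⟨175, [8, 12, 4, 8, 7, 10, 8, 4, 8, 2, 10, 4, 6], [169, 167, 217, 167, 169]⟩, ⟨139, [4, 8, 4], [266]⟩, ⟨863, [12, 4, 8, 7, 10, 8, 4, 8, 6, 10, 4, 7], []⟩],
  .tm 1 [8, 12, 8, 4, 8, 6, 10, 8, 2, 15, 4] [] [⟨1625, [], []⟩],
  .tm 26 [8, 12, 4, 8, 4, 8, 7, 10, 8, 6, 10, 8, 15] [] [⟨871, [8, 12, 8, 7, 10, 8, 4, 8, 6, 10, 8, 10, 4, 6], [216, 167, 217]⟩, ⟨139, [8, 12, 4, 0], [266]⟩, ⟨1083, [12, 10, 8, 7, 10, 4, 8, 15, 4, 7], []⟩],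
  .tm 1 [8, 12, 8, 4, 8, 10, 4, 8, 6, 10, 8, 2, 4, 6] [] [⟨1627, [], []⟩],
  .tm 26 [10, 8, 4, 8, 7, 10, 8, 15, 4, 7] [] [⟨625, [8, 12, 8, 6, 10, 8, 7, 10, 4, 2, 8, 10, 7], [167, 217, 167, 169]⟩, ⟨139, [8, 12, 4, 2], []⟩, ⟨967, [8, 0, 4], []⟩],
  .tm 1 [12, 8, 10, 4, 8, 7, 10, 4, 8, 2, 6, 10, 4, 7] [] [⟨1629, [], []⟩],
  .tm 26 [4, 8, 6, 10, 4, 8, 2, 6, 10, 7] [] [⟨267, [8, 12, 8, 4, 8, 6, 10, 8, 6, 10, 7], [167, 169, 167, 217, 167, 216]⟩, ⟨139, [4, 2, 8, 10], [268, 266]⟩, ⟨1352, [12, 7, 10, 8, 7, 10, 4, 8, 6, 10, 4, 7], []⟩],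
  .tm 1 [8, 12, 10, 4, 8, 7, 10, 4, 8, 2, 6, 10] [] [⟨1631, [], []⟩],
  .tm 26 [8, 10, 8, 4, 8, 6, 10, 8, 6, 10] [] [⟨818, [12, 8, 10, 8, 4, 8, 6, 10, 8, 0, 6, 10, 7], [167, 169, 167, 216, 167]⟩, ⟨139, [10, 4, 8, 4, 0], [266]⟩, ⟨1082, [8, 12, 4, 8, 6, 10, 8, 4, 8, 7], []⟩],
  .tm 1 [4, 8, 7, 10, 8, 6, 10, 8, 2, 4, 6] [] [⟨1633, [], []⟩],
  .tm 26 [8, 12, 4, 8, 6, 10, 8, 7, 10, 8, 2, 6, 10, 6] [] [⟨911, [8, 12, 8, 6, 10, 8, 4, 8, 6, 10, 8, 2, 15, 7], [167, 217]⟩, ⟨139, [6, 10, 2, 8, 4], [268, 266]⟩, ⟨696, [12, 7, 10, 8, 6, 10, 4, 8, 0, 15, 4, 7], []⟩],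
  .tm 1 [10, 8, 4, 8, 2, 10, 4] [] [⟨1635, [], []⟩],
  .tm 26 [6, 10, 4, 2, 8, 15, 4, 6] [] [⟨1433, [8, 10, 4, 8, 6, 10, 8, 7, 10, 8], [167, 169, 216]⟩, ⟨139, [8, 7, 10, 8, 4], [266, 268, 266]⟩, ⟨1248, [12, 10, 4, 8, 6, 10, 8, 0, 15], []⟩],
  .tm 1 [7, 10, 4, 8, 6, 10, 8, 2, 4] [] [⟨1637, [], []⟩],
  .tm 26 [12, 10, 8, 7, 10, 8, 6, 10, 8, 7] [] [⟨621, [12, 7, 10, 8, 4, 8, 2, 15, 4, 7], [167, 217, 167]⟩, ⟨139, [4, 8, 7, 10, 4], [268]⟩, ⟨1409, [12, 10, 8, 0, 4, 7], []⟩],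
  .tm 1 [12, 4, 8, 10, 8, 4, 8, 6, 10, 8, 0, 6, 10, 4] [] [⟨1639, [], []⟩],
  .tm 26 [12, 4, 8, 10, 8, 7, 10, 8, 2, 10, 4] [] [⟨136, [8, 12, 8, 6, 10, 4, 8, 2, 10, 4, 6], [216, 167, 169]⟩, ⟨139, [10, 4, 8, 10, 4], [268, 266]⟩, ⟨1240, [8, 6, 10, 4, 8, 0, 4], []⟩],
  .tm 1 [12, 8, 10, 4, 8, 7, 10, 4, 8, 15, 4, 7] [] [⟨1641, [], []⟩],
  .tm 26 [8, 12, 8, 6, 10, 8, 7, 10, 8, 4, 8, 10, 4] [] [⟨430, [8, 12, 10, 8, 10, 8, 4, 8, 6, 10, 4, 7], [167, 216, 167, 217]⟩, ⟨139, [8, 4, 8, 12, 4], [266]⟩, ⟨863, [8, 12, 8, 10, 8, 4, 8, 7, 10, 2, 8], []⟩],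
  .tm 1 [8, 12, 4, 8, 7, 10, 4, 8, 6, 10, 8, 6, 10] [] [⟨1643, [], []⟩],
  .tm 26 [8, 12, 8, 4, 8, 10, 8, 4, 8, 2, 4, 7] [] [⟨796, [12, 10, 8, 7, 10, 4, 8, 6, 10, 8, 2, 15, 4], [167, 169, 167]⟩, ⟨139, [8, 10, 8, 6, 10], [266, 268, 266]⟩, ⟨1091, [8, 10, 4, 8, 6, 10, 8, 7, 10, 8, 2, 4, 7], []⟩],
  .tm 1 [8, 7, 10, 8, 6, 10, 4, 2, 8, 4, 6] [] [⟨1645, [], []⟩],
  .tm 26 [8, 12, 10, 8, 10, 4, 8, 7, 10, 8, 0, 15, 4, 7] [] [⟨1433, [12, 8, 4, 2, 8, 6, 10, 4, 7], [167, 169, 216]⟩, ⟨139, [8, 7, 10, 8, 4, 0], []⟩, ⟨1409, [10, 4, 7], []⟩],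
  .tm 1 [10, 8, 10, 8, 4, 8, 6, 10, 8, 2, 7] [] [⟨1647, [], []⟩],
  .tm 26 [7, 10, 4, 2, 8, 15, 4, 7] [] [⟨1379, [8, 12, 8, 10, 4, 8, 7, 10, 8, 4, 8, 2, 4, 7], [169, 167, 217]⟩, ⟨139, [8, 7, 10, 8, 4, 2], [268, 266]⟩, ⟨1638, [8, 12, 8, 10, 4, 8, 7, 10, 2, 8, 10], []⟩],
  .tm 1 [12, 6, 10, 8, 7, 10, 8, 4, 7] [] [⟨1649, [], []⟩],
  .tm 26 [8, 12, 8, 6, 10, 8, 4, 6] [] [⟨796, [12, 10, 8, 6, 10, 4, 8, 7, 10, 8, 6, 10], [167, 169]⟩, ⟨139, [4, 8, 7, 10, 4, 2], [266, 268]⟩, ⟨1248, [10, 8, 4, 8, 7, 10, 8, 15, 7], []⟩],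
  .tm 1 [8, 12, 8, 4, 8, 10, 8, 6, 10, 4, 8, 6, 10, 4, 7] [] [⟨1651, [], []⟩],
  .tm 26 [12, 8, 4, 8, 6, 10, 8, 7, 10, 8, 10, 6] [] [⟨824, [8, 10, 8, 7, 10, 8, 6, 10, 8, 2, 10], [169]⟩, ⟨139, [7, 10, 8, 7, 10, 2], [268]⟩, ⟨1169, [8, 12, 8, 10, 4, 8, 6, 10, 4, 8, 2, 4], []⟩],
  .tm 1 [12, 8, 6, 10, 8, 7, 10, 8, 4, 8, 0, 6, 10, 4, 6] [] [⟨1653, [], []⟩],
  .tm 26 [8, 10, 4, 8, 7, 10, 8, 6, 10, 8, 15, 6] [] [⟨585, [8, 10, 8, 7, 10, 8, 6, 10, 8, 6], [167]⟩, ⟨139, [4, 8, 12, 7, 10, 2], [268, 266]⟩, ⟨1549, [8, 12, 10, 8, 0, 10, 6], []⟩],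
  .tm 1 [6, 10, 4, 8, 7, 10, 8, 2] [] [⟨1655, [], []⟩],
  .tm 26 [12, 10, 4, 8, 6, 10, 8, 7, 10, 4, 8, 2, 4] [] [⟨322, [4, 8, 6, 10, 8, 4, 8, 2, 6], [169, 167, 217, 167]⟩, ⟨139, [4, 8, 12, 4, 8, 4], []⟩, ⟨1291, [8, 10, 8, 7, 10, 8, 6, 10, 8, 15, 4, 6], []⟩],
  .tm 1 [8, 4, 8, 2, 15, 4, 6] [] [⟨1657, [], []⟩],
  .tm 26 [10, 8, 6, 10, 8, 7, 10, 4, 8, 6, 10] [] [⟨757, [8, 12, 8, 7, 10, 8, 4, 8, 10, 8, 2, 6, 10, 6], [167]⟩, ⟨139, [8, 4, 8, 10, 8, 4], [268, 266]⟩, ⟨1093, [12, 8, 4, 8, 7, 10, 8, 4, 8, 10, 4, 6], []⟩],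
  .tm 1 [4, 8, 7, 10, 8, 0, 6, 10, 7] [] [⟨1659, [], []⟩],
  .tm 26 [12, 8, 6, 10, 8, 7, 10, 4, 8, 0, 6, 10, 4, 6] [] [⟨309, [12, 8, 6, 10, 8, 7, 10, 4, 8, 10, 7], [167, 216, 167, 169]⟩, ⟨139, [4, 8, 12, 10, 8, 4], []⟩, ⟨1052, [8, 4, 8, 10, 8, 6, 10, 4, 2, 8, 15, 4], []⟩],
  .tm 1 [12, 8, 10, 8, 6, 10, 4, 8, 10, 6] [] [⟨1661, [], []⟩],
  .tm 26 [8, 6, 10, 4, 8, 0, 10, 6] [] [⟨1379, [8, 12, 8, 6, 10, 8, 4, 8, 6, 10, 8, 15], [167, 169, 167, 217]⟩, ⟨139, [7, 10, 8, 12, 10, 4], [268, 266]⟩, ⟨1042, [8, 12, 4, 8, 7, 10, 8, 6, 10, 4, 8, 0, 10, 4, 6], []⟩],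
  .tm 1 [8, 12, 4, 8, 6, 10, 4, 8, 7, 10, 8, 7] [] [⟨1663, [], []⟩],
  .tm 26 [4, 8, 4, 8, 10, 8, 7, 10, 8, 6, 10, 4, 7] [] [⟨826, [12, 8, 7, 10, 4, 2, 8, 4, 6], [216, 167, 217]⟩, ⟨139, [6, 10, 4, 8, 7, 10], [268, 266]⟩, ⟨508, [8, 10, 4, 8, 0, 4, 7], []⟩],
  .tm 1 [8, 12, 8, 10, 4, 8, 7, 10, 8, 6, 10, 4, 8, 6, 10, 4, 6] [] [⟨1665, [], []⟩],
  .tm 26 [10, 8, 7, 10, 8, 2, 15, 4] [] [⟨625, [8, 12, 8, 6, 10, 8, 7, 10, 4, 8, 15, 4, 7], [167, 217]⟩, ⟨139, [6, 10, 8, 4, 8, 10], [268]⟩, ⟨1639, [12, 10, 8, 4, 8, 7, 10, 8, 6, 10, 8, 6, 10, 4, 7], []⟩],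
  .tm 26 [10, 8, 10, 4, 8, 10, 6] [] [⟨430, [12, 10, 8, 7, 10, 8, 4, 8, 2, 15, 7], [169, 216, 167, 217]⟩, ⟨139, [8, 12, 8, 4, 8, 10], []⟩, ⟨1352, [8, 12, 7, 10, 8, 7, 10, 4, 8, 6, 10, 4, 7], []⟩],
  .tm 1 [8, 4, 8, 0, 6, 10, 7] [] [⟨1668, [], []⟩],
  .tm 26 [8, 12, 6, 10, 8, 6, 10, 4, 8, 10, 4] [] [⟨1075, [8, 12, 8, 2, 10, 4, 6], [167, 169, 167]⟩, ⟨139, [8, 7, 10, 2, 8, 12], [266]⟩, ⟨1091, [8, 12, 6, 10, 8, 7, 10, 8, 4, 8, 15, 4, 6], []⟩],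
  .tm 1 [12, 8, 10, 8, 4, 8, 4, 6] [] [⟨1670, [], []⟩],
  .tm 26 [8, 12, 8, 4, 8, 10, 4, 8, 7, 10, 8, 15, 6] [] [⟨1218, [8, 12, 10, 8, 7, 10, 8, 6, 10, 4, 8, 10, 6], [169, 167, 217]⟩, ⟨139, [10, 4, 8, 4, 8, 12], [266]⟩, ⟨1082, [12, 4, 8, 6, 10, 4, 8, 7], []⟩],
  .tm 1 [12, 10, 4, 8, 6, 10, 2, 8, 6, 10] [] [⟨1672, [], []⟩],
  .tm 26 [10, 4, 8, 6, 10, 8, 0, 6, 10] [] [⟨309, [8, 12, 4, 8, 7, 10, 8, 6, 10, 8, 2], [167, 169, 216, 167]⟩, ⟨139, [4, 8, 7, 10, 8, 12], [268, 266]⟩, ⟨1549, [6, 10, 8, 4, 2, 8, 6, 10, 7], []⟩],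
  .tm 1 [8, 10, 8, 7, 10, 8, 4, 8, 0] [] [⟨1674, [], []⟩],
  .tm 26 [8, 12, 7, 10, 8, 6, 10, 4, 8, 7, 10, 8, 2, 6] [] [⟨322, [8, 12, 8, 4, 8, 6, 10, 8, 4, 8, 2, 10, 4, 6], [169, 167, 217, 167]⟩, ⟨139, [10, 8, 12, 4, 8, 4, 0], [268, 266]⟩, ⟨1657, [12, 4, 8, 6, 10, 8, 4, 8, 7], []⟩],
  .tm 1 [12, 8, 4, 8, 7, 10, 4, 8, 6, 10, 8, 15] [] [⟨1676, [], []⟩],
  .tm 26 [6, 10, 8, 7, 10, 4, 8, 0, 15] [] [⟨1552, [8, 12, 8, 15, 4, 6], [169]⟩, ⟨139, [8, 4, 8, 12, 10, 4, 0], [266, 268, 266]⟩, ⟨1590, [8, 12, 10, 8, 4, 8, 10, 8, 6, 10, 8, 6, 10, 4, 6], []⟩],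
  .tm 1 [4, 8, 6, 10, 4, 8, 7, 10, 8, 2, 6, 10, 4] [] [⟨1678, [], []⟩],
  .tm 26 [8, 12, 7, 10, 8, 7, 10, 4, 8, 2, 15, 4, 6] [] [⟨309, [8, 12, 4, 8, 6, 10, 8, 7, 10, 8, 10], [167, 169, 216, 167, 169]⟩, ⟨139, [8, 7, 10, 8, 12, 4, 0], [268, 266]⟩, ⟨1638, [8, 12, 8, 10, 8, 4, 8, 7, 10, 2, 8, 10], []⟩],
  .tm 1 [12, 8, 10, 8, 6, 10, 8, 15] [] [⟨1680, [], []⟩]]

theorem fc1603 : checkL (nat_lit 12) (nat_lit 4095) tH tK tK' BB FF TM XW d1603 (nat_lit 1603) = true := by decide +kernel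

end Cfsg.Agent.Lib.ThD
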