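import Cfsg.Agent.Lib.ThDR
import Cfsg.Agent.Lib.ThDT
import Cfsg.Agent.Lib.ThDF
import Cfsg.Agent.Lib.ThDM

set_option autoImplicit false
set_option maxRecDepth 100000

namespace Cfsg.Agent.Lib.ThD
open Cfsg.Agent.Lib.PermNet Cfsg.Agent.Lib.DCE

def d1682 : List Der := [.tm 26 [8, 12, 8, 4, 8, 7, 10, 8, 0] [] [⟨639, [7, 10, 4, 8, 2, 4, 6], [169, 167, 216]⟩, ⟨139, [10, 8, 4, 8, 7, 10, 0], [268]⟩, ⟨1198, [12, 8, 10, 8, 7, 10, 4, 8, 2, 4, 7], []⟩],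
  .tm 1 [8, 12, 10, 8, 4, 8, 6, 10, 8, 2, 10, 7] [] [⟨1682, [], []⟩],
  .tm 26 [12, 6, 10, 8, 6, 10, 8, 4, 8, 15, 6] [] [⟨826, [12, 8, 7, 10, 4, 2, 8, 6, 10, 7], [216, 167, 217]⟩, ⟨139, [10, 8, 6, 10, 8, 4, 2], []⟩, ⟨1542, [8, 12, 8, 4, 8, 10, 8, 6, 10, 4, 8, 0, 6, 10, 4], []⟩],
  .tm 1 [8, 12, 6, 10, 8, 4, 8, 7, 10, 2, 8, 10, 4, 6] [] [⟨1684, [], []⟩],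
  .tm 26 [8, 12, 8, 10, 4, 8, 6, 10, 8, 6] [] [⟨753, [8, 12, 10, 8, 6, 10, 4, 8, 7, 10, 8, 15, 4, 6], [167]⟩, ⟨139, [8, 12, 8, 6, 10, 4, 2], [268]⟩, ⟨1649, [8, 7, 10, 8, 0, 10, 4, 7], []⟩],
  .tm 1 [8, 12, 10, 8, 4, 8, 6, 10, 2, 8, 4, 6] [] [⟨1686, [], []⟩],
  .tm 26 [6, 10, 8, 6, 10, 4, 7] [] [⟨1433, [12, 8, 4, 8, 10, 4], [167, 216]⟩, ⟨139, [7, 10, 8, 12, 10, 4, 2], [268, 266]⟩, ⟨1249, [8, 12, 4, 8, 7, 10, 8, 6, 10, 4, 8, 0, 10, 4, 6], []⟩],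
  .tm 1 [10, 8, 6, 10, 8, 7, 10, 4, 8, 0, 10, 7] [] [⟨1688, [], []⟩],
  .tm 26 [6, 10, 8, 7, 10, 4, 8, 6, 10, 8, 2, 6, 10, 4, 6] [] [⟨164, [12, 8, 4, 8, 6, 10, 8, 7, 10, 4, 8], [167, 169, 216, 167, 217]⟩, ⟨139, [8, 6, 10, 8, 12, 4, 2], [266, 268, 266]⟩, ⟨910, [8, 12, 8, 10, 8, 2, 6, 10, 4], []⟩],
  .tm 1 [8, 12, 10, 4, 8, 7, 10, 8, 2, 15] [] [⟨1690, [], []⟩],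
  .tm 26 [8, 12, 4, 8, 10, 8, 4, 8, 7, 10, 8, 10, 4, 7] [] [⟨887, [8, 12, 8, 10, 8, 6, 10, 8, 7, 10, 8, 2, 10, 4], [169, 167]⟩, ⟨139, [10, 8, 4, 8, 6, 10, 2], []⟩, ⟨384, [12, 8, 4, 8, 10, 8, 6, 10, 4, 8, 0, 10, 4], []⟩],
  .tm 1 [7, 10, 8, 6, 10, 4, 2, 8, 6, 10, 6] [] [⟨1692, [], []⟩],
  .tm 26 [12, 4, 8, 0, 10, 4, 6] [] [⟨621, [12, 7, 10, 8, 4, 8, 0, 4], [167, 217, 167]⟩, ⟨139, [8, 6, 10, 8, 7, 10, 2], [266, 268, 266]⟩, ⟨1662, [12, 7, 10, 8, 6, 10, 4, 8, 0, 15, 4, 7], []⟩],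
  .tm 1 [4, 8, 6, 10, 4, 8, 2, 10] [] [⟨1694, [], []⟩],
  .tm 26 [12, 8, 10, 8, 6, 10, 8, 4, 8, 0, 15, 7] [] [⟨871, [8, 10, 8, 6, 10, 2, 8, 6, 10, 4, 6], [167, 169, 216, 167, 217]⟩, ⟨139, [6, 10, 8, 4, 8, 10, 2], [268]⟩, ⟨1590, [12, 7, 10, 8, 6, 10, 4, 8, 4, 6], []⟩],
  .tm 1 [12, 7, 10, 8, 4, 8, 7, 10, 8, 15, 4] [] [⟨1696, [], []⟩],
  .tm 26 [8, 7, 10, 8, 6, 10, 8, 4] [] [⟨400, [8, 12, 7, 10, 8, 10, 8, 4, 8, 2, 6, 10, 4, 6], [169, 167, 216]⟩, ⟨139, [10, 8, 6, 10, 8, 12, 2], [268, 266]⟩, ⟨816, [12, 8, 4, 8, 10, 8, 4, 8, 2, 6, 10], []⟩],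
  .tm 1 [8, 12, 10, 4, 8, 7, 10, 4, 8] [] [⟨1698, [], []⟩],
  .tm 26 [12, 8, 10, 8, 7, 10, 8, 6, 10, 8, 2, 15, 7] [] [⟨911, [8, 7, 10, 8, 6, 10, 8, 2, 10], [167, 217, 167, 169]⟩, ⟨139, [4, 8, 12, 6, 10, 8, 4], [266]⟩, ⟨912, [8, 10, 8, 0, 4, 6], []⟩],
  .tm 1 [12, 2, 10, 6] [] [⟨1700, [], []⟩],
  .tm 26 [8, 12, 7, 10, 4, 8, 6, 10, 8] [] [⟨1405, [8, 12, 6, 10, 8, 7, 10, 4, 8, 6, 10, 8, 15, 6], [169, 167, 216, 167, 217]⟩, ⟨139, [10, 4, 8, 7, 10, 8, 4], []⟩, ⟨377, [8, 12, 10, 8, 7, 10, 8, 0, 15, 6], []⟩],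
  .tm 1 [8, 12, 7, 10, 4, 8, 4, 7] [] [⟨1702, [], []⟩],
  .tm 26 [12, 10, 8, 10, 8, 4, 8, 7, 10, 8, 10] [] [⟨826, [12, 8, 7, 10, 4, 8, 10, 6], [169, 217, 167, 216]⟩, ⟨139, [8, 6, 10, 8, 7, 10, 4], [266]⟩, ⟨1666, [8, 12, 10, 7], []⟩],
  .tm 1 [10, 8, 4, 8, 10, 8, 7, 10, 8, 15, 6] [] [⟨1704, [], []⟩],
  .tm 26 [12, 8, 4, 8, 6, 10, 8, 6, 10, 4] [] [⟨911, [8, 12, 8, 10, 4, 8, 7, 10, 8, 4, 8, 6, 10], [167, 169, 217]⟩, ⟨139, [6, 10, 4, 8, 12, 10, 4], []⟩, ⟨1199, [8, 7, 10, 8, 0, 4, 7], []⟩],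
  .tm 1 [12, 7, 10, 8, 0, 10, 4] [] [⟨1706, [], []⟩],
  .tm 26 [12, 10, 8, 7, 10, 4, 8, 2, 15, 7] [] [⟨88, [8, 7, 10, 8, 10, 4, 8, 4, 6], [217]⟩, ⟨139, [10, 4, 8, 10, 8, 12, 4], [266]⟩, ⟨1093, [8, 12, 8, 4, 8, 7, 10, 8, 4, 8, 10, 4, 6], []⟩],
  .tm 1 [4, 8, 10, 8, 7, 10, 8, 2, 10, 4, 7] [] [⟨1708, [], []⟩],
  .tm 26 [8, 12, 8, 10, 8, 6, 10, 4, 8, 7, 10, 8, 4, 6] [] [⟨887, [8, 12, 8, 10, 8, 6, 10, 8, 7, 10, 8, 2, 10], [167, 169]⟩, ⟨139, [6, 10, 8, 10, 8, 12, 4], [268, 266]⟩, ⟨1516, [8, 12, 8, 10, 4, 8, 6, 10, 8, 2, 4], []⟩],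
  .tm 1 [8, 12, 10, 8, 6, 10, 4, 8, 2, 10, 4] [] [⟨1710, [], []⟩],
  .tm 26 [12, 4, 8, 7, 10, 8, 6, 10, 4, 2, 8, 10, 4, 7] [] [⟨267, [8, 12, 8, 4, 8, 6, 10, 2, 8, 10, 6], [167, 169, 167, 217, 167, 216]⟩, ⟨139, [6, 10, 8, 4, 8, 6, 10], [266, 268]⟩, ⟨1676, [8, 12, 8, 10, 8, 7, 10, 8, 4, 8, 2, 10, 4], []⟩],
  .tm 1 [12, 8, 7, 10, 8, 6, 10, 8, 4, 8, 4, 7] [] [⟨1712, [], []⟩],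
  .tm 26 [8, 10, 4, 8, 6, 10, 8, 4, 8, 6, 10, 4, 7] [] [⟨88, [8, 7, 10, 8, 10, 4, 8, 15], [217, 167, 169]⟩, ⟨139, [10, 8, 6, 10, 8, 6, 10], [266, 268]⟩, ⟨1535, [8, 7, 10, 8, 4, 8, 10, 8, 2, 15, 4, 6], []⟩],
  .tm 1 [12, 6, 10, 8, 0, 15, 4] [] [⟨1714, [], []⟩],
  .tm 26 [8, 12, 10, 8, 7, 10, 8, 0, 6, 10, 4, 6] [] [⟨1691, [8, 4], [167, 217, 167, 169]⟩, ⟨139, [7, 10, 8, 4, 8, 7, 10], []⟩, ⟨1240, [8, 6, 10, 6], []⟩],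
  .tm 1 [12, 4, 8, 10, 4, 8, 7, 10, 8, 2, 6, 10, 4, 6] [] [⟨1716, [], []⟩],
  .tm 26 [12, 8, 6, 10, 8, 4, 8, 7, 10, 8, 0, 10, 7] [] [⟨1592, [12, 8, 10, 4, 8, 7, 10, 8, 4, 8, 15, 6], [169, 167, 216, 167]⟩, ⟨139, [8, 6, 10, 4, 8, 7, 10], [268]⟩, ⟨1392, [8, 12, 8, 10, 8, 6, 10, 8, 4, 2, 8, 6, 10, 7], []⟩],
  .tm 1 [12, 4, 8, 10, 4, 8, 6, 10, 2, 8, 10] [] [⟨1718, [], []⟩],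
  .tm 26 [12, 8, 10, 8, 6, 10, 8, 7, 10, 4, 2, 8, 10, 7] [] [⟨1552, [12, 2, 8, 15, 4, 6], [167, 169]⟩, ⟨139, [8, 10, 8, 4, 2, 8, 10], [268, 266]⟩, ⟨1685, [12, 7, 10, 8, 7, 10, 4, 8, 6, 10, 4, 7], []⟩],
  .tm 1 [8, 12, 4, 8, 7, 10, 8, 6, 10, 4, 8, 10, 7] [] [⟨1720, [], []⟩],
  .tm 26 [10, 8, 0, 6, 10, 4] [] [⟨1218, [8, 12, 10, 8, 7, 10, 8, 6, 10, 4, 2, 8, 6, 10, 6], [169, 167, 217, 167]⟩, ⟨139, [8, 12, 7, 10, 4, 8, 10], [268, 266]⟩, ⟨956, [7, 10, 8, 6, 10, 8, 4, 2, 8, 6, 10, 4], []⟩],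
  .tm 1 [8, 12, 10, 8, 7, 10, 8, 6, 10, 8, 2, 15, 7] [] [⟨1722, [], []⟩],
  .tm 26 [12, 6, 10, 8, 4, 2, 8, 6, 10, 7] [] [⟨887, [8, 12, 8, 10, 8, 7, 10, 8, 6, 10, 8, 10, 4, 7], [169]⟩, ⟨139, [7, 10, 8, 10, 4, 8, 10], []⟩, ⟨1526, [12, 0, 7], []⟩],
  .tm 1 [4, 8, 10, 8, 7, 10, 8, 0, 15, 4, 7] [] [⟨1724, [], []⟩],
  .tm 26 [6, 10, 8, 7, 10, 8, 4, 8, 15, 4] [] [⟨796, [8, 12, 10, 8, 6, 10, 4, 8, 7, 10, 8, 10, 4, 7], [167, 169]⟩, ⟨139, [10, 8, 6, 10, 4, 8, 4, 0], [266, 268, 266]⟩, ⟨1198, [8, 4, 8, 7, 10, 8, 6, 10, 4, 8, 2, 10], []⟩],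
  .tm 1 [8, 12, 10, 8, 6, 10, 8, 4, 8, 2, 6, 10, 7] [] [⟨1726, [], []⟩],
  .tm 26 [8, 4, 8, 6, 10, 8, 4, 8, 2, 15] [] [⟨1592, [12, 8, 6, 10, 8, 4, 8, 6, 10, 8, 2, 15, 6], [169, 167, 216, 167]⟩, ⟨139, [6, 10, 8, 7, 10, 8, 4, 0], [266, 268, 266]⟩, ⟨1425, [8, 12, 8, 7, 10, 8, 6, 10, 8, 2, 4], []⟩],
  .tm 1 [8, 12, 10, 8, 4, 8, 7, 10, 8, 0, 6, 10, 4, 7] [] [⟨1728, [], []⟩],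
  .tm 26 [7, 10, 8, 6, 10, 4, 8, 7, 10, 8, 2] [] [⟨1218, [12, 8, 7, 10, 8, 4, 8, 4, 7], [167, 169, 167, 217]⟩, ⟨139, [8, 4, 8, 12, 10, 8, 4, 0], [268, 266]⟩, ⟨651, [8, 12, 4, 8, 6, 10, 4, 8], []⟩],
  .tm 1 [8, 12, 10, 8, 7, 10, 4, 8, 6, 10, 4, 7] [] [⟨1730, [], []⟩],
  .tm 26 [8, 12, 10, 4, 8, 7, 10, 8, 4, 6] [] [⟨306, [12, 10, 8, 6, 10, 8, 7, 10, 8, 2, 4, 6], [167, 169, 217, 167, 169]⟩, ⟨139, [4, 8, 10, 4, 8, 6, 10, 0], [268, 266]⟩, ⟨860, [8, 12, 7, 10, 8, 6, 10, 8, 4, 8, 2, 6, 10, 7], []⟩],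
  .tm 1 [8, 12, 8, 6, 10, 8, 4, 8, 6, 10, 8, 2, 4, 6] [] [⟨1732, [], []⟩],
  .tm 26 [8, 12, 10, 4, 8, 7, 10, 8, 6, 10, 8, 2, 15, 4, 6] [] [⟨911, [8, 12, 8, 6, 10, 8, 4, 8, 6, 10, 8, 2, 10, 4, 6], [167, 217]⟩, ⟨139, [10, 8, 10, 4, 8, 6, 10, 0], [266, 268]⟩, ⟨1037, [8, 12, 6, 10, 8, 7, 10, 8, 4, 8, 2, 6, 10, 4], []⟩],
  .tm 1 [8, 12, 10, 8, 7, 10, 4, 8, 6, 10, 8, 10] [] [⟨1734, [], []⟩],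
  .tm 26 [4, 8, 10, 8, 7, 10, 4, 8, 0, 15, 4, 7] [] [⟨1691, [8, 12, 4], [167, 217, 167, 169]⟩, ⟨139, [7, 10, 8, 4, 8, 7, 10, 0], [266, 268, 266]⟩, ⟨651, [12, 4, 8, 6, 10, 4, 8, 6], []⟩],
  .tm 1 [10, 8, 10, 4, 8, 2, 10, 4, 6] [] [⟨1736, [], []⟩],
  .tm 26 [8, 12, 8, 6, 10, 8, 2, 15, 6] [] [⟨637, [12, 2, 8, 10, 7], [167, 169, 167, 216, 167]⟩, ⟨139, [6, 10, 4, 8, 12, 10, 4, 2], []⟩, ⟨1205, [12, 7, 10, 8, 4, 7], []⟩],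
  .tm 1 [4, 8, 6, 10, 8, 4, 8, 2, 10, 4, 7] [] [⟨1738, [], []⟩],
  .tm 26 [4, 8, 4, 8, 10, 8, 7, 10, 8, 4, 7] [] [⟨625, [8, 12, 8, 6, 10, 8, 7, 10, 4, 8, 6, 10, 4], [167, 169, 217]⟩, ⟨139, [8, 12, 6, 10, 4, 8, 10, 2], []⟩, ⟨1701, [12, 10, 8, 4, 8, 7, 10, 8, 6, 10, 8, 4], []⟩],
  .tm 1 [8, 10, 8, 10, 7] [] [⟨1740, [], []⟩],
  .tm 26 [4, 8, 10, 8, 7, 10, 4, 8, 2, 6, 10, 4, 6] [] [⟨871, [8, 12, 4, 8, 10, 8, 4, 8, 7, 10, 8, 0, 15, 6], [167, 217, 167, 216]⟩, ⟨139, [10, 8, 6, 10, 8, 6, 10, 4], [266, 268]⟩, ⟨885, [10, 8, 4, 8, 6, 10, 8, 7, 10, 8, 10, 6], []⟩],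
  .tm 1 [8, 4, 8, 6, 10, 8, 4, 8, 2, 15, 4, 6] [] [⟨1742, [], []⟩],
  .tm 26 [10, 8, 7, 10, 8, 4, 2, 8, 15, 6] [] [⟨321, [8, 12, 8, 6, 10, 8, 4, 8, 7, 10, 8, 4, 7], [169, 167, 216, 167, 217]⟩, ⟨139, [6, 10, 2, 8, 12, 6, 10, 4], [266, 268]⟩, ⟨915, [8, 12, 4, 8, 7, 10, 8, 6, 10, 4, 8, 0, 6, 10, 4], []⟩],
  .tm 1 [8, 4, 8, 6, 10, 8, 7, 10, 8, 4] [] [⟨1744, [], []⟩],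
  .tm 26 [12, 8, 4, 8, 7, 10, 8, 2, 10] [] [⟨826, [12, 8, 7, 10, 4, 8, 4], [167, 169, 167, 217, 167, 216]⟩, ⟨139, [8, 10, 4, 8, 12, 6, 10, 4], [266, 268, 266]⟩, ⟨1633, [8, 12, 8, 4, 8, 0, 15, 7], []⟩],
  .tm 1 [8, 12, 8, 10, 4, 8, 6, 10, 8, 7, 10, 8, 2, 6, 10, 4, 7] [] [⟨1746, [], []⟩],
  .tm 26 [8, 10, 8, 2] [] [⟨625, [12, 4, 8, 7, 10, 8, 6, 10, 8, 2, 6, 10, 4, 6], [167, 169, 217, 167, 169]⟩, ⟨139, [8, 6, 10, 8, 12, 7, 10, 4], [266]⟩, ⟨1666, [8, 12, 10, 4, 8, 0, 4, 7], []⟩],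
  .tm 1 [8, 12, 4, 8, 4, 8, 10, 8, 7, 10, 8, 6, 10] [] [⟨1748, [], []⟩],
  .tm 26 [12, 8, 10, 8, 6, 10, 8, 7, 10, 8, 2, 10, 4, 6] [] [⟨175, [12, 7, 10, 8, 4, 8, 10, 8, 15, 4, 6], [169, 167, 217, 167]⟩, ⟨139, [8, 12, 6, 10, 4, 8, 10, 4], [268, 266]⟩, ⟨1252, [8, 12, 4, 8, 7, 10, 8, 4, 8, 6, 10, 4, 6], []⟩],
  .tm 1 [8, 12, 4, 8, 10, 4, 8, 6, 10, 2, 8, 6, 10] [] [⟨1750, [], []⟩],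
  .tm 26 [8, 12, 10, 8, 7, 10, 4, 8, 6, 10, 8, 10, 4, 6] [] [⟨184, [8, 12, 6, 10, 8, 7, 10, 8, 15, 7], []⟩, ⟨139, [8, 12, 7, 10, 4, 8, 10, 4], [268]⟩, ⟨1239, [12, 10, 8, 7, 10, 8, 6, 10, 8, 10, 4, 7], []⟩],
  .tm 1 [4, 8, 7, 10, 4, 8, 6, 10, 8, 2, 15, 4, 7] [] [⟨1752, [], []⟩],
  .tm 26 [8, 12, 10, 8, 4, 8, 7, 10, 2, 8, 7] [] [⟨871, [8, 12, 4, 8, 10, 8, 4, 8, 7, 10, 8, 0, 15, 4, 7], [216, 167, 217]⟩, ⟨139, [8, 4, 8, 6, 10, 4, 8, 12], [268, 266]⟩, ⟨1428, [8, 12, 8, 10, 8, 6, 10, 8, 7, 10, 4, 8, 2, 6, 10, 4], []⟩],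
  .tm 1 [12, 8, 10, 8, 6, 10, 8, 4, 8, 2, 15, 7] [] [⟨1754, [], []⟩],
  .tm 26 [8, 10, 4, 8, 7, 10, 8, 6, 10, 8, 2, 10, 4] [] [⟨818, [12, 8, 10, 8, 4, 8, 6, 10, 8, 0, 15, 7], [169, 167, 216, 167]⟩, ⟨139, [8, 7, 10, 8, 12, 4, 8, 4, 0], [266]⟩, ⟨1425, [12, 8, 10, 8, 10, 4, 8, 7, 10, 8, 2], []⟩],
  .tm 1 [12, 10, 8, 7, 10, 8, 6, 10, 4, 8, 15] [] [⟨1756, [], []⟩],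
  .tm 26 [4, 8, 6, 10, 8, 4, 8, 15, 4, 7] [] [⟨639, [7, 10, 4, 8, 2, 10, 6], [167, 169, 167, 216, 167, 169]⟩, ⟨139, [8, 7, 10, 8, 12, 10, 8, 4, 0], []⟩, ⟨1239, [8, 7, 10, 8, 4, 8, 6, 10, 8, 6, 10, 6], []⟩],
  .tm 1 [8, 12, 8, 10, 8, 4, 8, 7, 10, 8, 6, 10, 4, 6] [] [⟨1758, [], []⟩]]

theorem fc1682 : checkL (nat_lit 12) (nat_lit 4095) tH tK tK' BB FF TM XW d1682 (nat_lit 1682) = true := by decide +kernel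

def d1760 : List Der := [.tm 26 [12, 8, 10, 4, 8, 6, 10, 8, 2, 10, 7] [] [⟨1691, [8, 10, 4, 6], [167, 217, 167]⟩, ⟨139, [12, 10, 8, 10, 8, 4, 8, 12, 4], []⟩, ⟨1756, [12, 8, 10, 8, 6, 10, 8, 7, 10, 4, 2, 8, 10, 4, 7], []⟩],
  .tm 1 [8, 12, 8, 6, 10, 8, 7, 10, 8, 4, 8, 10] [] [⟨1760, [], []⟩],
  .tm 36 [8, 7, 10, 8, 6, 10, 8, 4, 8, 0, 6, 10, 4, 6] [] [⟨424, [8, 12, 8, 4, 8, 10, 8, 7, 10, 8, 6, 10, 4, 7], [167, 169, 167, 216, 167, 169]⟩, ⟨139, [12, 10, 8, 7, 10, 2, 8, 6, 10], []⟩, ⟨1754, [7, 10, 8, 4, 8, 10, 4, 7], []⟩],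
  .tm 1 [12, 10, 8, 6, 10, 8, 7, 10, 4, 8, 6, 10, 4] [] [⟨1762, [], []⟩],
  .tm 36 [8, 12, 10, 4, 8, 6, 10, 4, 8, 6, 10, 6] [] [⟨1433, [8, 12, 8, 10, 4, 2, 8, 6], [167, 169, 167, 216]⟩, ⟨139, [10, 8, 12, 4, 8, 4, 8, 6, 10], [268, 266]⟩, ⟨1652, [10, 4, 8, 7, 10, 8, 6, 10, 4, 8, 2, 15, 4, 7], []⟩],
  .tm 1 [12, 10, 8, 10, 4, 8, 7, 10, 8, 2, 6, 10] [] [⟨1764, [], []⟩],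
  .tm 36 [12, 6, 10, 4, 8, 7, 10, 8, 2] [] [⟨1305, [12, 8, 6, 10, 8, 7, 10, 8, 4, 8, 0, 10, 6], [169, 167, 217, 167, 216]⟩, ⟨139, [4, 8, 12, 7, 10, 4, 8, 7, 10], [266, 268]⟩, ⟨1754, [8, 10, 2, 8, 10, 7], []⟩],
  .tm 1 [12, 8, 4, 8, 10, 8, 7, 10, 4, 8, 15, 4, 7] [] [⟨1766, [], []⟩],
  .tm 36 [10, 8, 6, 10, 8, 0, 6, 10, 6] [] [⟨671, [4, 8, 10, 8, 10, 4, 6], [167, 169, 167, 217, 167]⟩, ⟨139, [4, 8, 12, 7, 10, 4, 2, 8, 10], [266, 268]⟩, ⟨1754, [6, 10, 8, 4, 8, 7, 10, 2, 8, 15, 4, 6], []⟩],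
  .tm 1 [8, 12, 10, 8, 7, 10, 8, 6, 10, 4, 8, 2] [] [⟨1768, [], []⟩],
  .tm 36 [8, 6, 10, 8, 7, 10, 8, 4, 8, 6, 10, 4] [] [⟨515, [8, 12, 7, 10, 8, 7, 10, 8, 4, 8, 2, 10, 7], [167, 216]⟩, ⟨139, [12, 8, 4, 8, 10, 8, 7, 10, 4, 0], [268]⟩, ⟨1587, [12, 0, 6], []⟩],
  .tm 1 [12, 10, 8, 0, 10, 6] [] [⟨1770, [], []⟩],
  .tm 36 [8, 12, 2, 8, 10, 7] [] [⟨1467, [8, 7, 10, 8, 4, 8, 10, 7], [167, 217]⟩, ⟨139, [4, 8, 12, 7, 10, 4, 8, 10, 4, 0], [268, 266]⟩, ⟨1718, [10, 8, 6, 10, 4, 8, 6, 10, 4, 7], []⟩],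
  .tm 1 [12, 4, 8, 10, 4, 8, 6, 10, 2, 8, 15, 7] [] [⟨1772, [], []⟩],
  .tm 36 [8, 12, 8, 4, 8, 0, 10, 4] [] [⟨1624, [8, 12, 8, 6, 10, 4, 8, 7, 10, 8, 7], [216]⟩, ⟨139, [7, 10, 8, 12, 6, 10, 8, 10, 4, 0], [266]⟩, ⟨1702, [12, 8, 10, 8, 6, 10, 8, 4, 8, 2, 10, 4, 6], []⟩],
  .tm 1 [8, 12, 10, 4, 2, 8, 15] [] [⟨1774, [], []⟩],
  .tm 36 [12, 8, 10, 4, 8, 0, 4, 7] [] [⟨1708, [7, 10, 8, 6, 10, 4, 2, 8, 10, 6], [169, 167, 217, 167, 216]⟩, ⟨139, [8, 4, 8, 12, 6, 10, 8, 4, 8, 0], [268]⟩, ⟨573, [12, 10, 4, 8, 7, 10, 8, 6, 10, 4, 8, 2, 15, 6], []⟩],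
  .tm 1 [8, 12, 6, 10, 8, 7, 10, 4, 2, 8, 6, 10, 7] [] [⟨1776, [], []⟩],
  .tm 36 [8, 10, 4, 8, 6, 10, 8, 4, 8, 15, 4, 7] [] [⟨1592, [8, 12, 6, 10, 8, 4, 8, 6, 10, 8, 6, 10], [167, 169]⟩, ⟨139, [6, 10, 4, 8, 10, 4, 8, 12, 8, 0], []⟩, ⟨560, [12, 6, 10, 8, 4, 8, 7, 10, 2, 8, 15, 4, 7], []⟩],
  .tm 1 [12, 10, 8, 0, 15, 7] [] [⟨1778, [], []⟩],
  .tm 36 [8, 4, 8, 6, 10, 2, 8, 10, 4, 7] [] [⟨336, [10, 8, 7, 10, 8, 6, 10, 4, 8, 15, 4, 6], [217, 167, 169]⟩, ⟨139, [8, 12, 4, 8, 10, 4, 8, 12, 8, 0], [266]⟩, ⟨1694, [8, 7, 10, 4, 8, 2, 10, 4, 6], []⟩],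
  .tm 1 [8, 7, 10, 8, 6, 10, 8, 7, 10, 4, 8, 4] [] [⟨1780, [], []⟩],
  .tm 36 [8, 12, 4, 8, 6, 10, 4, 8, 2, 15, 7] [] [⟨486, [10, 8, 4, 8, 7, 10, 8, 0, 4, 6], [169, 216, 167, 169]⟩, ⟨139, [12, 10, 8, 4, 8, 12, 8, 7, 10, 0], [268, 266]⟩, ⟨1652, [4, 8, 7, 10, 8, 6, 10, 8, 6, 10, 6], []⟩],
  .tm 1 [8, 12, 7, 10, 8, 6, 10, 8, 4, 8, 7] [] [⟨1782, [], []⟩],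
  .tm 36 [8, 4, 8, 7, 10, 8, 10] [] [⟨571, [12, 4, 8, 10, 8, 0, 6, 10, 7], [169, 167, 216, 167, 169]⟩, ⟨139, [4, 8, 7, 10, 4, 8, 12, 8, 10, 0], [268, 266]⟩, ⟨1718, [8, 10, 8, 4, 8, 7, 10, 2, 8, 15, 4], []⟩],
  .tm 1 [4, 8, 7, 10, 4, 8, 2, 10] [] [⟨1784, [], []⟩],
  .tm 36 [10, 8, 6, 10, 8, 4, 8, 6, 10, 7] [] [⟨840, [8, 12, 8, 7, 10, 8, 4, 8, 6, 10, 8, 0, 6, 10], [167, 169, 167, 216, 167, 169]⟩, ⟨139, [12, 6, 10, 4, 8, 7, 10, 8, 12, 0], [266]⟩, ⟨1694, [10, 8, 7, 10, 8, 4, 2, 8, 15, 4, 7], []⟩],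
  .tm 1 [6, 10, 4, 8, 10, 7] [] [⟨1786, [], []⟩],
  .tm 36 [8, 12, 8, 4, 8, 10, 8, 7, 10, 4, 2, 8, 6, 10, 4, 7] [] [⟨1708, [12, 10, 8, 4, 8, 6, 10, 8, 0, 15, 4, 6], [167, 216, 167, 217]⟩, ⟨139, [12, 10, 8, 4, 8, 6, 10, 2, 8, 4], [266, 268]⟩, ⟨358, [8, 4, 8, 6, 10, 8, 7, 10, 8, 2, 15, 4], []⟩],
  .tm 1 [6, 10, 8, 4, 8, 6, 10, 8, 4] [] [⟨1788, [], []⟩],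
  .tm 36 [12, 10, 8, 6, 10, 4, 2, 8, 6] [] [⟨820, [12, 6, 10, 8, 4, 8, 10, 8, 4, 6], [167, 169, 167, 217, 167, 169]⟩, ⟨139, [4, 8, 12, 7, 10, 4, 8, 7, 10, 4], [266, 268]⟩, ⟨1754, [4, 8, 6, 10, 4, 8, 7, 10, 8, 2, 15], []⟩],
  .tm 1 [12, 10, 8, 6, 10, 4, 8, 10, 4] [] [⟨1790, [], []⟩],
  .tm 36 [8, 12, 7, 10, 8, 4, 8, 6, 10, 2, 8, 10, 6] [] [⟨818, [8, 10, 8, 6, 10, 8, 7, 10, 4, 8, 2, 10, 4], [167, 169, 217]⟩, ⟨139, [10, 8, 12, 10, 4, 8, 7, 10, 2, 8], [266]⟩, ⟨1754, [8, 10, 4, 8, 7, 10, 8, 6, 10, 4, 8, 2, 15, 6], []⟩],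
  .tm 1 [12, 4, 8, 4, 8, 10, 8, 7, 10, 8, 2, 15] [] [⟨1792, [], []⟩],
  .tm 36 [12, 6, 10, 8, 7, 10, 4, 8, 4, 7] [] [⟨1592, [8, 12, 8, 6, 10, 8, 4, 8, 6, 10, 8, 6, 10, 7], [167, 169]⟩, ⟨139, [8, 10, 8, 12, 10, 8, 7, 10, 4, 8], [266, 268, 266]⟩, ⟨1074, [8, 6, 10, 8, 6, 10, 4, 8, 6, 10, 4], []⟩],
  .tm 1 [8, 10, 4, 8, 7, 10, 8, 6, 10, 4, 8, 2, 6, 10] [] [⟨1794, [], []⟩],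
  .tm 36 [8, 7, 10, 8, 6, 10, 4, 2, 8, 4, 7] [] [⟨515, [8, 12, 8, 4, 8, 7, 10, 8, 6, 10, 4, 8, 15, 4], [169, 167, 217]⟩, ⟨139, [10, 8, 12, 8, 10, 8, 6, 10, 8, 10], [266, 268]⟩, ⟨1754, [10, 8, 4, 8, 7, 10, 8, 6, 10, 8, 15, 4], []⟩],
  .tm 1 [8, 12, 4, 8, 10, 8, 6, 10, 4, 8, 0, 15, 4, 7] [] [⟨1796, [], []⟩],
  .tm 36 [8, 4, 8, 6, 10, 8, 0, 6] [] [⟨1624, [8, 12, 4, 8, 10, 8, 2, 10, 4, 6], [167, 169, 217, 167, 216]⟩, ⟨139, [2, 0], [268]⟩, ⟨561, [12, 8, 7, 10, 4, 8, 6, 10, 8, 6, 10, 4, 6], []⟩],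
  .tm 1 [8, 4, 8, 7, 10, 8, 4, 8, 6, 10, 4] [] [⟨1798, [], []⟩],
  .tm 36 [12, 6, 10, 8, 4, 8, 2, 10, 4, 6] [] [⟨1624, [12, 7, 10, 8, 4, 8, 2, 15], [167, 169, 217, 167, 216]⟩, ⟨139, [8, 12, 4, 8, 0], [268]⟩, ⟨1652, [10, 8, 6, 10, 8, 6, 10, 4, 6], []⟩],
  .tm 1 [4, 8, 6, 10, 4, 8, 2, 6, 10, 7] [] [⟨1800, [], []⟩],
  .tm 36 [12, 8, 7, 10, 8, 6, 10, 4, 8, 4, 6] [] [⟨836, [8, 12, 4, 8, 10, 8, 6, 10, 2, 8, 4, 7], [167, 217, 167, 169]⟩, ⟨139, [8, 12, 4, 8, 2], [268]⟩, ⟨1652, [4, 8, 10, 4, 8, 6, 10, 8, 6, 10, 4, 6], []⟩],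
  .tm 1 [8, 12, 8, 10, 4, 8, 7, 10, 8, 0, 10, 6] [] [⟨1802, [], []⟩],
  .tm 36 [8, 12, 2, 6, 10, 4] [] [⟨350, [8, 12, 10, 8, 10, 8, 4, 8, 6, 10, 8, 2, 4, 6], [167, 169, 216, 167, 169]⟩, ⟨139, [8, 7, 10, 2, 8], [266, 268, 266]⟩, ⟨1754, [8, 4, 8, 10, 8, 6, 10, 8, 2, 6, 10, 4, 6], []⟩],
  .tm 1 [8, 12, 10, 4, 8, 7, 10, 8, 4, 8, 15, 7] [] [⟨1804, [], []⟩],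
  .tm 36 [8, 12, 8, 10, 8, 4, 8, 6, 10, 8, 0, 6, 10, 4] [] [⟨1689, [8, 12, 7, 10, 8, 2, 6], [167, 217]⟩, ⟨139, [8, 7, 10, 8, 12, 8, 0], [266, 268]⟩, ⟨189, [4, 8, 6, 10, 8, 7, 10, 4, 8, 0, 6, 10, 6], []⟩],
  .tm 1 [12, 8, 10, 8, 7, 10, 8, 4, 7] [] [⟨1806, [], []⟩],
  .tm 36 [8, 12, 10, 8, 6, 10, 8, 4, 8, 0, 6, 10] [] [⟨818, [12, 7, 10, 8, 6, 10, 8, 4, 8, 0, 10, 6], [167, 217, 167, 169]⟩, ⟨139, [10, 8, 6, 10, 8, 12, 0], [268]⟩, ⟨1702, [12, 7, 10, 8, 10, 8, 4, 8, 7, 10, 8, 6, 10, 4, 6], []⟩],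
  .tm 1 [12, 8, 6, 10, 8, 7, 10, 4, 8, 6, 10, 8, 2, 15, 4] [] [⟨1808, [], []⟩],
  .tm 36 [8, 12, 8, 10, 4, 8, 6, 10, 8, 7, 10, 8, 4, 6] [] [⟨251, [12, 10, 8, 6, 10], [216, 167, 169]⟩, ⟨139, [4, 8, 10, 8, 6, 10, 4, 0], []⟩, ⟨1587, [12, 8], []⟩],
  .tm 1 [8, 12, 8, 4, 8, 10, 4, 8, 7, 10, 8, 2, 10, 7] [] [⟨1810, [], []⟩],
  .tm 41 [10, 8, 7, 10, 8, 4, 8, 0, 15] [] [⟨95, [12, 6, 10, 8, 4, 8, 6, 10, 8, 10, 7], [167, 216, 167]⟩, ⟨139, [8, 10, 8, 12, 8, 10, 8, 2], [266]⟩, ⟨1766, [8, 12, 8, 10, 8, 7, 10, 8, 6, 10, 8, 15, 6], []⟩],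
  .tm 1 [8, 6, 10, 8, 4, 8, 10, 8, 6, 10, 4, 6] [] [⟨1812, [], []⟩],
  .tm 41 [8, 12, 4, 8, 6, 10, 8, 7, 10, 8, 2, 6, 10] [] [⟨871, [6, 10, 8, 2, 6, 10, 4, 7], [169, 217, 167, 216]⟩, ⟨139, [8, 12, 8, 10, 4, 2, 8, 4], [268, 266]⟩, ⟨1766, [8, 10, 4, 8, 7, 10, 8, 6, 10, 8, 2, 15, 4, 6], []⟩],
  .tm 1 [7, 10, 8, 4, 2, 8, 6, 10, 4, 6] [] [⟨1814, [], []⟩],
  .tm 41 [4, 8, 10, 8, 7, 10, 8, 10, 7] [] [⟨430, [8, 12, 4, 8, 7, 10, 4, 8, 6, 10, 8, 4], [167, 169, 167, 216, 167, 217]⟩, ⟨139, [4, 8, 12, 10, 2, 8, 10, 4], [266]⟩, ⟨1766, [12, 4, 8], []⟩],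
  .tm 1 [10, 4, 8, 2, 6, 10, 4] [] [⟨1816, [], []⟩],
  .tm 41 [8, 12, 10, 8, 4, 8, 10, 8, 7, 10, 8, 15, 7] [] [⟨753, [12, 10, 8, 4, 8, 10, 8, 6, 10, 4, 7], [169]⟩, ⟨139, [10, 8, 12, 8, 6, 10, 4, 8], []⟩, ⟨1784, [12, 8, 6, 10, 2, 8, 15, 4, 6], []⟩],
  .tm 1 [7, 10, 8, 6, 10, 4, 8, 15, 7] [] [⟨1818, [], []⟩],
  .tm 41 [8, 10, 8, 4, 8, 7, 10, 8, 0] [] [⟨826, [10, 8, 7, 10, 4, 2, 8, 6, 10, 4, 7], [169, 217, 167, 216]⟩, ⟨139, [10, 8, 6, 10, 8, 12, 4, 8], [268]⟩, ⟨1805, [10, 8, 7, 10, 2, 8, 6, 10, 4], []⟩],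
  .tm 1 [6, 10, 8, 7, 10, 4, 8, 10, 6] [] [⟨1820, [], []⟩],
  .tm 41 [8, 7, 10, 4, 8, 6, 10, 8, 2, 10, 4] [] [⟨784, [12, 10, 4, 8, 7, 10, 8, 6, 10, 4, 8, 6, 10, 6], [169]⟩, ⟨139, [4, 8, 12, 8, 6, 10, 4, 8, 0], []⟩, ⟨1779, [12, 4, 8, 6, 10, 8, 0, 7], []⟩],
  .tm 1 [12, 10, 8, 10, 4, 8, 6, 10, 8, 6, 10, 7] [] [⟨1822, [], []⟩],
  .tm 41 [8, 12, 7, 10, 8, 2, 10, 4, 6] [] [⟨753, [12, 10, 8, 4, 8, 10, 8, 10, 4, 7], [167, 169, 167]⟩, ⟨139, [10, 8, 7, 10, 8, 12, 4, 8, 0], []⟩, ⟨1805, [10, 8, 6, 10, 8, 7, 10, 8, 2, 10, 4, 6], []⟩],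
  .tm 1 [8, 6, 10, 8, 6, 10, 4, 8, 2, 6, 10, 4, 7] [] [⟨1824, [], []⟩],
  .tm 41 [12, 8, 7, 10, 4, 8, 0, 6, 10, 7] [] [⟨309, [12, 10, 8, 6, 10, 8, 4, 8, 2, 15, 4, 7], [167, 169, 216, 167, 169]⟩, ⟨139, [10, 4, 8, 12, 8, 10, 8, 4, 2], [268]⟩, ⟨1821, [12, 10, 8, 6, 10, 8, 7, 10, 8, 6, 10, 4, 6], []⟩],
  .tm 1 [8, 12, 4, 8, 0, 6] [] [⟨1826, [], []⟩],
  .tm 41 [8, 12, 8, 6, 10, 8, 7, 10, 4, 2, 8] [] [⟨824, [4, 6], [169]⟩, ⟨139, [12, 8, 4, 8, 10, 8, 10, 4, 2], [266]⟩, ⟨1821, [8, 12, 8, 10, 8, 6, 10, 8, 7, 10, 8, 2, 6, 10, 4, 6], []⟩],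
  .tm 1 [12, 4, 8, 7, 10, 8, 2, 4] [] [⟨1828, [], []⟩],
  .tm 41 [12, 8, 10, 8, 7, 10, 8, 6, 10, 4, 2, 8, 4, 6] [] [⟨637, [8, 12, 10, 8, 6, 10, 8, 7, 10, 8, 7], [167, 169, 167, 216, 167]⟩, ⟨139, [12, 10, 4, 8, 6, 10, 4, 2, 8], [268, 266]⟩, ⟨1829, [8, 12, 10, 8, 6, 10, 4, 2, 8, 15, 4, 6], []⟩],
  .tm 1 [12, 8, 7, 10, 8, 10, 4, 8, 2, 15, 4] [] [⟨1830, [], []⟩],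
  .tm 27 [4, 8, 6, 10, 8, 7, 10, 4, 8, 0, 4, 6] [] [⟨1415, [10, 8, 10, 6], [167]⟩, ⟨139, [8, 7, 10, 8, 12, 8, 2], [268]⟩, ⟨1526, [8, 12, 10, 4, 8, 6, 10, 8, 7, 10, 8, 6, 10, 6], []⟩],
  .tm 1 [12, 8, 10, 8, 6, 10, 8, 10, 4, 8, 2, 15, 4] [] [⟨1832, [], []⟩],
  .tm 27 [12, 10, 4, 8, 7, 10, 4, 8, 6, 10, 4, 6] [] [⟨887, [4, 8, 10, 4, 8, 7, 10, 8, 6, 10, 4], [216, 167, 217]⟩, ⟨139, [4, 8, 4, 8, 6, 10, 2], [266, 268]⟩, ⟨1032, [10, 4, 8, 2, 4, 6], []⟩],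
  .tm 1 [8, 12, 8, 7, 10, 8, 4, 8, 6, 10, 8, 6, 10, 4, 6] [] [⟨1834, [], []⟩],
  .tm 27 [12, 10, 8, 6, 10, 8, 10, 4, 8, 2, 4, 7] [] [⟨269, [12, 8, 6, 10, 8, 7, 10, 8, 6, 10, 4, 8, 6, 10], [167, 169, 216, 167, 217]⟩, ⟨139, [12, 7, 10, 8, 6, 10, 2], [266, 268, 266]⟩, ⟨1638, [12, 6, 10, 4, 8, 7, 10, 8, 10], []⟩],
  .tm 1 [12, 10, 4, 8, 7, 10, 8, 6, 10, 8, 15, 6] [] [⟨1836, [], []⟩]]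

theorem fc1760 : checkL (nat_lit 12) (nat_lit 4095) tH tK tK' BB FF TM XW d1760 (nat_lit 1760) = true := by decide +kernel

def d1838 : List Der := [.tm 27 [12, 4, 8, 2, 4, 7] [] [⟨309, [7, 10, 8, 6, 10, 8, 7, 10, 4, 8, 2, 6, 10, 4, 6], [169, 217]⟩, ⟨139, [8, 10, 4, 8, 7, 10, 2], [266, 268, 266]⟩, ⟨328, [12, 6, 10, 8, 2, 4], []⟩],
  .tm 1 [8, 12, 6, 10, 4, 8, 0, 6] [] [⟨1838, [], []⟩],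
  .tm 27 [8, 12, 8, 7, 10, 8, 6, 10, 8, 4, 8, 0, 7] [] [⟨757, [6, 10, 8, 10, 8, 4, 8, 6, 10, 8, 2, 6, 10, 4, 6], [167, 169, 217, 167]⟩, ⟨139, [8, 12, 10, 8, 7, 10, 2], [266]⟩, ⟨1632, [8, 12, 8, 4, 8, 6, 10, 8, 10, 4, 6], []⟩],
  .tm 1 [12, 8, 4, 8, 10, 2, 8, 15, 7] [] [⟨1840, [], []⟩],
  .tm 27 [12, 8, 7, 10, 4, 8, 10, 6] [] [⟨319, [12, 10, 8, 10, 4, 8, 2, 6, 10, 4, 6], [167, 216, 167, 217]⟩, ⟨139, [8, 4, 8, 12, 7, 10, 2], [266, 268, 266]⟩, ⟨816, [7, 10, 8, 6, 10, 8, 4, 8, 10, 4, 7], []⟩],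
  .tm 1 [12, 8, 7, 10, 2, 8, 4, 7] [] [⟨1842, [], []⟩],
  .tm 27 [10, 8, 10, 4, 8, 6, 10, 8, 7, 10, 8, 10] [] [⟨625, [8, 12, 8, 10, 8, 6, 10, 8, 4, 8, 2, 10, 4, 6], [216, 167, 169]⟩, ⟨139, [8, 10, 8, 12, 7, 10, 2], [266, 268, 266]⟩, ⟨1432, [8, 12, 10, 8, 2, 15, 7], []⟩],
  .tm 1 [8, 6, 10, 8, 7, 10, 4, 8, 6, 10, 8, 2, 6, 10, 4] [] [⟨1844, [], []⟩],
  .tm 27 [8, 12, 10, 8, 6, 10, 8, 4, 8, 2, 6, 10, 6] [] [⟨923, [12, 4, 8, 10, 8, 6, 10, 8, 0, 7], [167, 216, 167, 217]⟩, ⟨139, [8, 7, 10, 4, 8, 10, 2], [266, 268]⟩, ⟨1183, [8, 12, 7, 10, 8, 6, 10, 8, 4, 2, 8, 6, 10], []⟩],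
  .tm 1 [8, 12, 8, 0, 15, 4, 6] [] [⟨1846, [], []⟩],
  .tm 27 [4, 8, 10, 2, 8, 4] [] [⟨802, [12, 10, 8, 7, 10, 4, 8, 2, 10, 7], [169, 216, 167]⟩, ⟨139, [10, 8, 10, 4, 8, 12, 2], [266, 268]⟩, ⟨1291, [8, 12, 10, 8, 6, 10, 8, 7, 10, 8, 2, 6, 10, 4, 7], []⟩],
  .tm 1 [12, 10, 8, 4, 8, 10, 8, 2, 4, 7] [] [⟨1848, [], []⟩],
  .tm 27 [12, 6, 10, 8, 4, 8, 6, 10, 8, 10, 7] [] [⟨571, [12, 8, 10, 8, 4, 8, 7, 10, 8, 2, 6, 10, 7], [169, 167, 216, 167, 217]⟩, ⟨139, [10, 8, 7, 10, 2, 8, 4], [266, 268]⟩, ⟨548, [8, 10, 8, 2, 4], []⟩],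
  .tm 1 [12, 8, 7, 10, 8, 6, 10, 4, 8, 4, 7] [] [⟨1850, [], []⟩],
  .tm 27 [8, 12, 4, 8, 10, 8, 6, 10, 4, 8, 0, 10] [] [⟨786, [8, 12, 8, 10, 8, 4, 8, 6, 10, 8, 0, 4], [216, 167]⟩, ⟨139, [8, 4, 8, 10, 2, 8, 4], [266, 268, 266]⟩, ⟨1590, [8, 12, 10, 8, 10, 4, 8, 6, 10, 8, 2, 6, 10, 4, 6], []⟩],
  .tm 1 [12, 4, 8, 7, 10, 8, 6, 10, 4, 8, 10] [] [⟨1852, [], []⟩],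
  .tm 27 [12, 8, 10, 8, 7, 10, 4, 8, 0, 10, 4] [] [⟨1845, [8, 12, 8, 6, 10, 8, 4, 8, 7, 10, 8, 0, 4], [167, 216, 167, 169]⟩, ⟨139, [8, 12, 8, 7, 10, 8, 4], [266, 268, 266]⟩, ⟨1805, [8, 7, 10, 8, 2, 4, 7], []⟩],
  .tm 1 [12, 4, 8, 10, 4, 8, 6, 10, 2, 8, 6, 10, 6] [] [⟨1854, [], []⟩],
  .tm 27 [12, 4, 8, 10, 8, 0, 6] [] [⟨518, [8, 12, 8, 10, 4, 8, 7, 10, 8, 2, 6, 10, 4], [167, 169, 167, 217, 167]⟩, ⟨139, [10, 8, 4, 8, 10, 8, 4], [268]⟩, ⟨970, [8, 12, 2, 8, 15, 4, 7], []⟩],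
  .tm 1 [8, 12, 8, 4, 8, 0, 15, 4] [] [⟨1856, [], []⟩],
  .tm 27 [12, 6, 10, 8, 10, 4, 8, 15, 4, 7] [] [⟨325, [8, 7, 10, 4, 8, 0, 15, 4], [167, 169, 216, 167, 169]⟩, ⟨139, [10, 4, 2, 8, 6, 10, 4], [266, 268, 266]⟩, ⟨1337, [12, 10, 4, 8, 6, 10, 8, 2, 15], []⟩],
  .tm 1 [8, 12, 8, 6, 10, 8, 4, 8, 6, 10, 8, 7] [] [⟨1858, [], []⟩],
  .tm 27 [8, 12, 10, 4, 8, 6, 10, 8, 2, 4, 6] [] [⟨1423, [8, 12, 10, 8, 6, 10, 8, 4, 8, 4, 6], [167, 169, 167, 217, 167]⟩, ⟨139, [8, 12, 4, 8, 6, 10, 4], []⟩, ⟨1337, [8, 12, 10, 4, 8, 6, 10, 8, 2, 15], []⟩],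
  .tm 1 [8, 12, 6, 10, 8, 4, 8, 7, 10, 8, 0, 6, 10, 7] [] [⟨1860, [], []⟩],
  .tm 27 [12, 10, 8, 6, 10, 4, 8, 7] [] [⟨289, [8, 12, 4, 8, 10, 8, 2, 6, 10], [167, 216, 167, 217]⟩, ⟨139, [8, 12, 10, 2, 8, 10, 4], []⟩, ⟨1850, [12, 10, 4, 8, 7, 10, 2, 8, 6, 10, 6], []⟩],
  .tm 1 [8, 12, 8, 4, 8, 7, 10, 8, 4, 8, 15] [] [⟨1862, [], []⟩],
  .tm 27 [12, 8, 6, 10, 8, 7, 10, 8, 6, 10, 4, 6] [] [⟨613, [8, 12, 8, 10, 8, 4, 8, 7, 10, 8, 2, 6], [167, 216, 167, 217]⟩, ⟨139, [8, 12, 8, 10, 8, 10, 4], [266, 268, 266]⟩, ⟨1732, [7, 10, 8, 6, 10, 4, 8, 0, 6, 10, 7], []⟩],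
  .tm 1 [4, 8, 7, 10, 8, 4, 8, 2, 15, 6] [] [⟨1864, [], []⟩],
  .tm 27 [8, 7, 10, 4, 8, 6, 10, 8, 10, 4, 6] [] [⟨627, [8, 12, 8, 4, 8, 10, 8, 6, 10, 4, 8, 0, 6, 10], [167, 217, 167]⟩, ⟨139, [8, 6, 10, 8, 12, 10, 4], [268, 266]⟩, ⟨1392, [10, 4, 8, 0, 4, 7], []⟩],
  .tm 1 [12, 6, 10, 8, 7, 10, 4, 2, 8, 4, 7] [] [⟨1866, [], []⟩],
  .tm 27 [12, 8, 4, 8, 7, 10, 8, 4, 8, 6, 10, 4, 6] [] [⟨683, [12, 6, 10, 8, 6, 10, 4, 8, 2, 6, 10, 4], [167, 169, 216, 167, 217]⟩, ⟨139, [4, 8, 6, 10, 8, 12, 4], [266]⟩, ⟨912, [2, 8, 10, 4, 6], []⟩],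
  .tm 1 [12, 8, 10, 8, 6, 10, 4, 8, 2, 6, 10] [] [⟨1868, [], []⟩],
  .tm 27 [8, 12, 8, 4, 8, 10, 8, 6, 10, 4, 8, 6, 10, 4] [] [⟨221, [8, 4, 8, 7, 10, 8, 4, 8, 2, 6, 10, 4, 6], [167, 169, 167, 216, 167, 217]⟩, ⟨139, [7, 10, 8, 10, 8, 12, 4], [266]⟩, ⟨1061, [10, 8, 4, 8, 10, 7], []⟩],
  .tm 1 [10, 8, 6, 10, 8, 7, 10, 8, 6, 10, 7] [] [⟨1870, [], []⟩],
  .tm 27 [10, 8, 6, 10, 8, 7, 10, 4, 8, 15, 4] [] [⟨221, [8, 12, 6, 10, 4, 8, 2, 10, 4, 6], [167, 216, 167, 217]⟩, ⟨139, [10, 4, 8, 6, 10, 2, 8], [266, 268, 266]⟩, ⟨735, [8, 10, 8, 6, 10, 8, 7, 10, 4, 8, 2, 6, 10, 7], []⟩],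
  .tm 1 [8, 10, 8, 6, 10, 8, 7, 10, 4, 8, 10, 6] [] [⟨1872, [], []⟩],
  .tm 27 [12, 4, 8, 10, 8, 7, 10, 8, 0, 4, 7] [] [⟨788, [8, 12, 7, 10, 8, 6, 10, 8, 7, 10, 4, 8, 6, 10], [169, 167, 216, 167, 217]⟩, ⟨139, [7, 10, 8, 6, 10, 2, 8], [268]⟩, ⟨910, [4, 8, 7, 10, 8, 0, 6, 10], []⟩],
  .tm 1 [12, 8, 7, 10, 4, 8, 6, 10, 8, 6, 10] [] [⟨1874, [], []⟩],
  .tm 27 [12, 10, 8, 10, 4, 8, 2, 15, 6] [] [⟨862, [4, 8, 10, 8, 7, 10, 4, 2, 8, 15, 4, 6], [167, 216, 167]⟩, ⟨139, [6, 10, 8, 7, 10, 2, 8], []⟩, ⟨1638, [8, 7, 10, 8, 4, 8, 7, 10, 8, 10, 7], []⟩],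
  .tm 1 [8, 7, 10, 4, 8, 2, 15, 4, 6] [] [⟨1876, [], []⟩],
  .tm 27 [8, 12, 10, 8, 4, 8, 10, 8, 6, 10, 8, 10, 4] [] [⟨1708, [8, 12, 10, 4, 8, 6, 10, 4, 8, 10, 4], [169, 216, 167, 217]⟩, ⟨139, [6, 10, 8, 12, 10, 2, 8], [266, 268]⟩, ⟨885, [12, 7, 10, 8, 2, 6, 10], []⟩],
  .tm 1 [12, 8, 4, 8, 7, 10, 8, 6, 10, 8, 2, 15, 6] [] [⟨1878, [], []⟩],
  .tm 27 [6, 10, 4, 8, 7, 10, 8, 15, 4, 6] [] [⟨458, [8, 12, 10, 4, 8, 6, 10, 8, 0, 10, 4], [167, 217, 167]⟩, ⟨139, [12, 10, 8, 7, 10, 4, 8], []⟩, ⟨1248, [8, 10, 8, 4, 8, 7, 10, 2, 8, 15, 7], []⟩],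
  .tm 1 [12, 4, 8, 10, 8, 7, 10, 4, 2, 8, 7] [] [⟨1880, [], []⟩],
  .tm 27 [8, 12, 7, 10, 8, 7, 10, 4, 8, 2, 15, 6] [] [⟨424, [12, 8, 10, 4, 8, 6, 10, 8, 2, 10, 4], [167, 217, 167]⟩, ⟨139, [7, 10, 4, 8, 10, 4, 8], [268]⟩, ⟨1040, [8, 12, 4, 8, 7, 10, 8, 4, 8, 6, 10, 7], []⟩],
  .tm 1 [8, 12, 10, 8, 6, 10, 8, 4, 2, 8, 6, 10, 4] [] [⟨1882, [], []⟩],
  .tm 27 [8, 12, 7, 10, 2, 8, 6, 10, 4] [] [⟨486, [12, 7, 10, 8, 4, 8, 6, 10, 8, 2, 6, 10, 6], [169, 217, 167]⟩, ⟨139, [8, 4, 8, 12, 6, 10, 8], [266, 268, 266]⟩, ⟨1535, [8, 12, 8, 6, 10, 4, 8, 2, 10], []⟩],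
  .tm 1 [12, 8, 6, 10, 8, 4, 8, 7, 10, 8, 7] [] [⟨1884, [], []⟩],
  .tm 27 [12, 8, 7, 10, 8, 6, 10, 8, 4, 8, 6, 10, 4] [] [⟨1473, [8, 12, 8, 7, 10, 8, 6, 10, 8, 4, 8, 6, 10, 4], [167, 216, 167, 169]⟩, ⟨139, [6, 10, 8, 12, 7, 10, 8], [266, 268]⟩, ⟨771, [8, 12, 0, 4], []⟩],
  .tm 1 [8, 12, 6, 10, 8, 6, 10, 4, 8, 6, 10, 4, 7] [] [⟨1886, [], []⟩],
  .tm 27 [12, 8, 10, 8, 6, 10, 8, 7, 10, 4, 8, 6, 10, 4] [] [⟨477, [12, 10, 4, 8, 6, 10, 8, 7, 10, 4, 8, 10, 6], [167, 169, 167, 216, 167, 217]⟩, ⟨139, [10, 8, 4, 8, 12, 10, 8], [268, 266]⟩, ⟨1558, [8, 7, 10, 8, 7, 10, 4, 8, 15], []⟩],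
  .tm 1 [8, 12, 10, 8, 4, 8, 0, 6, 10, 4, 6] [] [⟨1888, [], []⟩],
  .tm 27 [6, 10, 8, 7, 10, 8, 4, 8, 2, 15, 4, 6] [] [⟨424, [10, 8, 0, 15, 7], [167, 217, 167]⟩, ⟨139, [7, 10, 4, 8, 12, 10, 8], [268]⟩, ⟨1535, [10, 8, 7, 10, 8, 10, 4, 8, 2, 10, 4], []⟩],
  .tm 1 [4, 8, 10, 8, 7, 10, 4, 2, 8, 6, 10, 6] [] [⟨1890, [], []⟩],
  .tm 27 [8, 12, 8, 7, 10, 8, 4, 8, 10, 8, 2, 6] [] [⟨639, [8, 6, 10, 8, 0, 6, 10, 4, 6], [167, 169, 217, 167, 169]⟩, ⟨139, [8, 7, 10, 4, 8, 6, 10], [268, 266]⟩, ⟨1282, [8, 12, 10, 8, 10, 4, 8, 6, 10, 8, 2, 6, 10, 4], []⟩],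
  .tm 1 [4, 8, 7, 10, 8, 4, 8, 6] [] [⟨1892, [], []⟩],
  .tm 27 [8, 12, 7, 10, 8, 10, 4, 8, 2, 4, 7] [] [⟨826, [12, 10, 8, 6, 10, 8, 4, 8, 0, 6, 10, 7], [169, 216, 167]⟩, ⟨139, [4, 8, 7, 10, 8, 6, 10], []⟩, ⟨1443, [8, 6, 10, 8, 4, 8, 6, 10, 7], []⟩],
  .tm 1 [8, 7, 10, 8, 10, 4, 8, 15, 7] [] [⟨1894, [], []⟩],
  .tm 27 [12, 6, 10, 8, 7, 10, 4, 2, 8, 10, 7] [] [⟨350, [12, 8, 6, 10, 4, 8, 15, 4, 6], [167, 216]⟩, ⟨139, [12, 8, 7, 10, 8, 6, 10], [266, 268]⟩, ⟨1796, [2, 8, 10, 4], []⟩],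
  .tm 1 [4, 8, 10, 4, 7] [] [⟨1896, [], []⟩],
  .tm 27 [8, 12, 10, 4, 8, 7, 10, 8, 15, 4, 7] [] [⟨806, [12, 7, 10, 8, 10, 4, 8, 6, 10, 7], [167, 169, 167, 216]⟩, ⟨139, [7, 10, 8, 12, 8, 6, 10], [266]⟩, ⟨771, [8, 2, 4], []⟩],
  .tm 1 [8, 6, 10, 8, 7, 10, 8, 10, 4, 7] [] [⟨1898, [], []⟩],
  .tm 27 [8, 10, 8, 7, 10, 8, 6, 10, 8, 2, 15, 6] [] [⟨309, [12, 10, 8, 4, 8, 10, 8], [217, 167, 169]⟩, ⟨139, [7, 10, 2, 8, 12, 6, 10], [268]⟩, ⟨1268, [8, 12, 10, 8, 2, 4, 6], []⟩],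
  .tm 1 [12, 4, 8, 10, 8, 10, 6] [] [⟨1900, [], []⟩],
  .tm 27 [8, 12, 10, 4, 8, 2, 15, 6] [] [⟨887, [12, 8, 6, 10, 8, 4, 8, 15, 4], [169, 217, 167, 169]⟩, ⟨139, [7, 10, 4, 8, 12, 6, 10], [266]⟩, ⟨644, [8, 12, 10, 8, 4, 8, 10, 8, 2, 10], []⟩],
  .tm 1 [12, 8, 6, 10, 4, 8, 7, 10, 8, 15, 4] [] [⟨1902, [], []⟩],
  .tm 27 [12, 8, 4, 8, 10, 8, 4, 8, 10, 4, 6] [] [⟨1693, [10, 8, 7, 10, 8, 4, 8, 2, 4, 6], [169, 167, 216]⟩, ⟨139, [4, 8, 10, 2, 8, 7, 10], [266]⟩, ⟨787, [2, 8, 6, 10, 6], []⟩],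
  .tm 1 [12, 8, 7, 10, 2, 8, 10, 4] [] [⟨1904, [], []⟩],
  .tm 27 [12, 10, 8, 6, 10, 8, 7, 10, 4, 2, 8, 10, 4, 6] [] [⟨1077, [12, 4, 8, 10, 8, 6, 10, 4, 8, 10, 7], [169, 216, 167]⟩, ⟨139, [8, 12, 6, 10, 8, 7, 10], [266, 268, 266]⟩, ⟨696, [4, 8, 6, 10, 4, 8, 7, 10, 8, 2, 15, 4, 6], []⟩],
  .tm 1 [6, 10, 8, 4, 8, 6, 10, 8, 15, 7] [] [⟨1906, [], []⟩],
  .tm 27 [12, 4, 8, 7, 10, 8, 6, 10, 4, 2, 8, 4, 7] [] [⟨1620, [8, 12, 8, 6, 10, 8, 4, 8, 0, 15, 4, 7], [167, 217]⟩, ⟨139, [4, 8, 12, 10, 2, 8, 10], [266]⟩, ⟨1434, [8, 12, 8, 10, 8, 6, 10, 8, 7, 10, 8, 2, 6, 10, 4, 7], []⟩],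
  .tm 1 [12, 6, 10, 8, 6, 10, 4, 8, 4] [] [⟨1908, [], []⟩],
  .tm 27 [12, 4, 8, 4, 8, 10, 8, 6, 10, 8, 4] [] [⟨753, [8, 12, 8, 7, 10, 4, 2, 8, 7], [169, 216, 167]⟩, ⟨139, [8, 6, 10, 8, 4, 8, 10], [268]⟩, ⟨1639, [12, 8, 4, 8, 7, 10, 4, 8, 6, 10, 8, 15, 6], []⟩],
  .tm 1 [] [] [⟨1910, [], []⟩],
  .tm 27 [8, 10, 4, 8, 2, 15, 4, 7] [] [⟨637, [12, 10, 4, 8, 7, 10, 8, 6, 10, 4, 8, 2, 15, 4, 7], [167, 169, 167, 217, 167]⟩, ⟨139, [8, 12, 8, 10, 4, 8, 10], [266, 268]⟩, ⟨1685, [12, 10, 4, 8, 6, 10, 4, 8, 2, 15, 6], []⟩]]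

theorem fc1838 : checkL (nat_lit 12) (nat_lit 4095) tH tK tK' BB FF TM XW d1838 (nat_lit 1838) = true := by decide +kernel

def d1913 : List Der := [.tm 1 [12, 8, 10, 8, 6, 10, 8, 4, 8, 10, 4, 7] [] [⟨1912, [], []⟩],
  .tm 27 [12, 4, 8, 6, 10, 8, 7, 10, 4, 8, 2, 6, 10, 6] [] [⟨991, [8, 12, 4, 8, 7, 10, 4, 8, 6, 10, 8, 4, 7], [167, 216, 167, 217]⟩, ⟨139, [8, 4, 8, 6, 10, 8, 10], []⟩, ⟨756, [12, 2, 0, 15, 6], []⟩],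
  .tm 1 [8, 6, 10, 8, 4, 8, 7, 10, 8, 0, 4, 6] [] [⟨1914, [], []⟩],
  .tm 27 [8, 12, 4, 8, 10, 4, 8, 6, 10, 2, 8, 10] [] [⟨259, [12, 8, 7, 10, 8, 6, 10, 4, 8, 0, 4, 6], [169, 216]⟩, ⟨139, [10, 4, 8, 6, 10, 8, 10], [266]⟩, ⟨1292, [12, 10, 8, 2, 6, 10, 4], []⟩],
  .tm 1 [8, 12, 7, 10, 8, 6, 10, 4, 8, 2, 7] [] [⟨1916, [], []⟩],
  .tm 27 [10, 8, 10, 8, 4, 8, 10, 6] [] [⟨259, [8, 12, 7, 10, 8, 4, 8, 2, 4, 6], [217, 167]⟩, ⟨139, [8, 10, 4, 8, 12, 8, 10], [266, 268, 266]⟩, ⟨661, [12, 10, 8, 7, 10, 4, 8, 6, 10, 8, 2, 15, 6], []⟩],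
  .tm 27 [12, 8, 6, 10, 8, 10, 4, 8, 2, 10, 4, 6] [] [⟨291, [8, 12, 8, 4, 8, 6, 10, 8, 7, 10, 4, 8, 2, 4, 7], [216, 167, 169]⟩, ⟨139, [10, 4, 8, 4, 8, 12, 10], [268]⟩, ⟨651, [12, 6, 10, 8, 10, 4, 8, 2, 10, 4], []⟩],
  .tm 1 [12, 7, 10, 8, 6, 10, 8, 4, 8, 2, 6, 10, 7] [] [⟨1919, [], []⟩],
  .tm 27 [8, 12, 10, 8, 6, 10, 8, 7, 10, 4, 8, 2, 15, 4, 6] [] [⟨1689, [8, 7, 10, 8, 4, 8, 0, 4], [167, 217, 167]⟩, ⟨139, [12, 7, 10, 8, 6, 10, 4, 0], []⟩, ⟨1425, [8, 12, 8, 6, 10, 8, 7, 10, 8, 10, 4], []⟩],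
  .tm 1 [12, 8, 4, 8, 10, 8, 4, 8, 2, 10, 4, 6] [] [⟨1921, [], []⟩],
  .tm 27 [12, 8, 10, 4, 8, 2, 6, 10] [] [⟨1077, [4, 8, 6, 10, 4, 8, 7, 10, 8, 4], [169, 217, 167, 216]⟩, ⟨139, [8, 4, 8, 12, 7, 10, 4, 0], [266, 268, 266]⟩, ⟨1649, [12, 8, 10, 8, 10, 4, 8, 6, 10, 8, 2, 15, 7], []⟩],
  .tm 1 [12, 10, 8, 6, 10, 4, 2, 8, 15, 7] [] [⟨1923, [], []⟩],
  .tm 27 [10, 4, 8, 6, 10, 4, 8, 6, 10, 4, 6] [] [⟨1121, [8, 10, 8, 6, 10, 8, 7, 10, 8, 6, 10, 4, 7], [167]⟩, ⟨139, [8, 12, 10, 8, 10, 4, 8, 0], [268, 266]⟩, ⟨1610, [12, 2, 0, 4], []⟩],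
  .tm 1 [8, 12, 4, 8, 10, 8, 0, 6, 10, 4, 7] [] [⟨1925, [], []⟩],
  .tm 27 [8, 12, 8, 4, 8, 10, 4, 8, 7, 10, 8, 2, 10, 7] [] [⟨215, [10, 8, 0, 15, 7], [167, 217, 167]⟩, ⟨139, [6, 10, 8, 12, 6, 10, 8, 0], [268, 266]⟩, ⟨1511, [8, 12, 8, 4, 8, 10, 8, 7, 10, 8], []⟩],
  .tm 1 [8, 12, 10, 8, 6, 10, 4, 8, 0, 10, 7] [] [⟨1927, [], []⟩],
  .tm 27 [12, 8, 4, 8, 10, 8, 7, 10, 4, 8, 2, 15, 4, 6] [] [⟨1708, [12, 4, 8, 10, 8, 4, 8, 6, 10, 8, 15, 7], [167, 216]⟩, ⟨139, [6, 10, 8, 4, 8, 10, 8, 0], []⟩, ⟨970, [8, 10, 8, 10, 4, 8, 6, 10, 8, 2, 10, 6], []⟩],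
  .tm 1 [12, 8, 4, 8, 7, 10, 8, 2, 10, 7] [] [⟨1929, [], []⟩],
  .tm 27 [12, 4, 8, 6, 10, 8, 7, 10, 4, 8, 0, 6, 10, 7] [] [⟨671, [4, 8, 7, 10, 8, 6, 10, 8, 2, 6, 10], [167, 169, 167, 217, 167, 169]⟩, ⟨139, [7, 10, 8, 10, 8, 12, 8, 0], [268, 266]⟩, ⟨1086, [12, 8, 6, 10, 8, 7, 10, 8, 4, 8, 15, 4, 6], []⟩],
  .tm 1 [12, 10, 8, 10, 4, 8, 6, 10, 8, 15, 4, 6] [] [⟨1931, [], []⟩],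
  .tm 27 [12, 10, 8, 6, 10, 8, 4, 2, 8, 6, 10, 4, 6] [] [⟨901, [8, 12, 8, 10, 4, 8, 7, 10, 8, 4, 8, 4, 6], [217]⟩, ⟨139, [12, 10, 8, 10, 8, 12, 8, 0], []⟩, ⟨1608, [2, 8, 10, 4], []⟩],
  .tm 1 [8, 12, 10, 8, 7, 10, 8, 6, 10, 4, 8, 6, 10, 6] [] [⟨1933, [], []⟩],
  .tm 27 [12, 10, 8, 4, 8, 2, 6, 10, 6] [] [⟨796, [8, 12, 8, 10, 4, 8, 6, 10, 4, 8, 2, 4, 6], [167, 169, 216, 167, 169]⟩, ⟨139, [6, 10, 8, 12, 8, 6, 10, 0], [266]⟩, ⟨1909, [8, 12, 10, 8, 10, 4, 8, 6, 10, 8, 2, 6, 10, 4], []⟩],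
  .tm 1 [8, 12, 10, 8, 7, 10, 8, 10, 4, 8, 2, 6, 10, 7] [] [⟨1935, [], []⟩],
  .tm 27 [8, 4, 8, 7, 10, 4, 8, 6, 10, 8, 10, 4, 7] [] [⟨1618, [12, 8, 4, 8, 10, 8, 7, 10, 4, 2, 8, 4], [167, 169, 167, 217, 167, 216]⟩, ⟨139, [8, 7, 10, 8, 4, 8, 10, 0], [266]⟩, ⟨1098, [8, 12, 2, 0, 6, 10, 4], []⟩],
  .tm 1 [8, 12, 4, 8, 7, 10, 8, 0, 15, 6] [] [⟨1937, [], []⟩],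
  .tm 27 [8, 12, 6, 10, 8, 4, 8, 0, 10, 7] [] [⟨385, [2, 10], [169, 167]⟩, ⟨139, [4, 8, 10, 8, 12, 8, 10, 0], [268, 266]⟩, ⟨967, [8, 12, 0, 4], []⟩],
  .tm 1 [10, 8, 10, 4, 8, 6, 10, 8, 0] [] [⟨1939, [], []⟩],
  .tm 27 [12, 10, 8, 6, 10, 4, 2, 8] [] [⟨828, [8, 12, 8, 4, 8, 10, 8, 6, 10, 8, 4], [169, 217, 167, 169]⟩, ⟨139, [4, 8, 6, 10, 8, 12, 10, 0], [266, 268]⟩, ⟨1417, [2, 0, 4, 6], []⟩],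
  .tm 1 [10, 8, 6, 10, 8, 10, 4, 8, 2, 6, 10, 6] [] [⟨1941, [], []⟩],
  .tm 27 [8, 4, 8, 6, 10, 2, 8, 6, 10, 4, 7] [] [⟨1415, [8, 12, 8, 6, 10, 8, 4, 8, 10, 8, 6, 10, 7], [167, 169, 167, 216, 167, 217]⟩, ⟨139, [8, 4, 8, 7, 10, 8, 4, 2], [266, 268, 266]⟩, ⟨1701, [8, 12, 8, 10, 4, 8, 6, 10, 8, 10, 4], []⟩],
  .tm 1 [12, 8, 6, 10, 8, 6, 10, 8, 4, 8, 2] [] [⟨1943, [], []⟩],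
  .tm 27 [7, 10, 8, 10, 4, 8, 10, 6] [] [⟨683, [8, 12, 4, 8, 7, 10, 4, 8, 6, 10, 8, 2, 10], [169, 167, 216, 167]⟩, ⟨139, [7, 10, 4, 8, 10, 4, 8, 2], [268]⟩, ⟨1712, [12, 8, 10, 4, 8, 7, 10, 8, 6, 10, 4, 8, 2, 15, 4, 7], []⟩],
  .tm 1 [12, 7, 10, 8, 6, 10, 8, 4, 8, 4, 6] [] [⟨1945, [], []⟩],
  .tm 27 [4, 8, 7, 10, 8, 6, 10, 4, 8, 2, 6] [] [⟨1689, [8, 12, 8, 7, 10, 8, 4, 8, 0, 15, 4], [167, 169, 167, 216]⟩, ⟨139, [7, 10, 4, 8, 6, 10, 8, 2], [266]⟩, ⟨1088, [12, 2, 0, 15], []⟩],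
  .tm 1 [8, 12, 8, 6, 10, 8, 7, 10, 8, 4, 8, 10, 6] [] [⟨1947, [], []⟩],
  .tm 27 [8, 4, 8, 10, 8, 7, 10, 4, 8] [] [⟨497, [7, 10, 8, 0, 15, 4, 7], [169, 216, 167, 217]⟩, ⟨139, [4, 8, 10, 4, 8, 7, 10, 2], []⟩, ⟨1235, [7, 10, 8, 10, 8, 4, 8, 6, 10, 7], []⟩],
  .tm 1 [8, 7, 10, 8, 4, 8, 6, 10, 8] [] [⟨1949, [], []⟩],
  .tm 27 [12, 10, 8, 6, 10, 4, 8, 7, 10, 8, 15, 4, 7] [] [⟨306, [8, 12, 4, 8, 7, 10, 8, 6, 10, 4, 8, 0, 15, 6], [167, 169, 167, 216]⟩, ⟨139, [10, 8, 6, 10, 4, 8, 12, 2], [266]⟩, ⟨1097, [8, 7, 10, 8, 6, 10, 4, 8, 7, 10, 8], []⟩],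
  .tm 1 [8, 12, 10, 4, 8, 7, 10, 8, 4, 8, 2, 15, 6] [] [⟨1951, [], []⟩],
  .tm 27 [8, 12, 8, 10, 4, 8, 0, 4, 6] [] [⟨452, [7, 10, 8, 4, 8, 6, 10, 2, 8, 6, 10, 6], [217, 167, 169]⟩, ⟨139, [10, 4, 8, 6, 10, 8, 12, 2], [268, 266]⟩, ⟨1909, [4, 8, 4, 8, 7, 10, 8, 6, 10, 8, 10, 4, 6], []⟩],
  .tm 1 [8, 12, 8, 10, 8, 4, 8, 6, 10, 8, 0, 6, 10, 7] [] [⟨1953, [], []⟩],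
  .tm 27 [10, 4, 8, 7, 10, 8, 6, 10, 4, 8, 6] [] [⟨275, [12, 7, 10, 8, 6, 10, 8, 15, 6], [216, 167]⟩, ⟨139, [8, 4, 8, 12, 10, 4, 8, 4], [268, 266]⟩, ⟨666, [12, 10, 4, 8, 7, 10, 8, 6, 10, 4, 8, 2], []⟩],
  .tm 1 [12, 8, 10, 8, 7, 10, 4, 8, 2, 4, 7] [] [⟨1955, [], []⟩],
  .tm 27 [8, 12, 10, 8, 7, 10, 8, 4, 8, 10, 4] [] [⟨1903, [8, 10], [167]⟩, ⟨139, [4, 8, 4, 8, 6, 10, 8, 4], [266, 268, 266]⟩, ⟨1839, [12, 10, 8, 10, 4, 8, 2, 10, 4, 6], []⟩],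
  .tm 1 [8, 12, 8, 6, 10, 8, 7, 10, 4, 8, 6, 10, 8, 15, 6] [] [⟨1957, [], []⟩],
  .tm 27 [8, 10, 8, 6, 10, 8, 7, 10, 8, 6, 10, 6] [] [⟨973, [8, 10, 8, 6, 10, 8, 4, 8, 2, 6, 10, 4, 6], [167, 169, 167, 216]⟩, ⟨139, [4, 8, 10, 8, 7, 10, 8, 4], [266]⟩, ⟨644, [8, 4, 8, 6, 10, 8, 7, 10, 4, 8, 2, 15, 4], []⟩],
  .tm 1 [10, 8, 4, 8, 10, 8, 2, 15, 4, 7] [] [⟨1959, [], []⟩],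
  .tm 27 [8, 12, 10, 8, 6, 10, 8, 4, 8, 2, 10, 6] [] [⟨765, [8, 12, 4, 8, 10, 8, 6, 10, 2, 8, 4, 7], [169, 167, 217, 167, 169]⟩, ⟨139, [12, 8, 10, 4, 8, 10, 8, 4], [266, 268]⟩, ⟨1459, [12, 10, 4, 8, 7, 10, 8, 6, 10, 4, 8, 2, 15, 6], []⟩],
  .tm 1 [8, 12, 7, 10, 4, 8, 2, 10, 4, 6] [] [⟨1961, [], []⟩],
  .tm 27 [2, 8, 6, 10] [] [⟨336, [8, 12, 10, 8, 7, 10, 8, 6, 10, 4, 8, 15, 4, 6], [169, 217, 167, 169]⟩, ⟨139, [12, 10, 8, 4, 8, 12, 10, 4], [266, 268, 266]⟩, ⟨1441, [8, 12, 8, 4, 8, 10, 8, 6, 10, 4, 8, 2, 15, 4], []⟩],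
  .tm 1 [8, 12, 8, 7, 10, 4, 8, 0, 6, 10, 4, 6] [] [⟨1963, [], []⟩],
  .tm 27 [12, 6, 10, 8, 7, 10, 4, 2, 8, 4, 7] [] [⟨905, [12, 10, 8, 4, 8, 10, 8, 6, 10, 8, 0, 6, 10, 6], [167, 169, 167, 216]⟩, ⟨139, [10, 8, 6, 10, 4, 8, 6, 10], [266, 268, 266]⟩, ⟨801, [12, 10, 8, 4, 8, 7, 10, 8, 2, 15, 4, 7], []⟩],
  .tm 1 [12, 4, 8, 7, 10, 4, 8, 6, 10, 8, 6, 10] [] [⟨1965, [], []⟩],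
  .tm 27 [8, 12, 4, 8, 6, 10, 8, 7, 10, 4, 8, 2, 6, 10, 4, 6] [] [⟨1119, [12, 10, 8, 4, 8, 6, 10], [167, 169, 216, 167, 217]⟩, ⟨139, [8, 12, 8, 4, 8, 10, 8, 10], [266, 268]⟩, ⟨1882, [8, 4, 8, 10, 8, 6, 10, 8, 2, 6, 10, 7], []⟩],
  .tm 1 [2, 6, 10, 4, 7] [] [⟨1967, [], []⟩],
  .tm 27 [8, 12, 8, 6, 10, 8, 4, 8, 0, 4, 7] [] [⟨1467, [12, 7, 10, 8, 4, 8, 0, 10], [167, 217]⟩, ⟨139, [10, 8, 6, 10, 8, 12, 8, 10, 4], [268, 266]⟩, ⟨735, [10, 8, 6, 10, 8, 7, 10, 4, 8, 2, 6, 10, 7], []⟩],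
  .tm 1 [12, 7, 10, 4, 8, 10] [] [⟨1969, [], []⟩],
  .tm 37 [4, 8, 7, 10, 4, 8, 10, 6] [] [⟨441, [10, 8, 7, 10, 8, 4, 8, 15, 4, 6], []⟩, ⟨140, [12, 10, 4, 8, 7, 10, 4], [216, 166, 217, 168, 166]⟩, ⟨1960, [12, 8, 6, 10, 8, 10, 4, 8, 2, 4, 6], []⟩],
  .tm 1 [8, 12, 10, 8, 4, 8, 6, 10, 8, 0, 6, 10, 4] [] [⟨1971, [], []⟩],
  .tm 37 [8, 12, 8, 4, 8, 7, 10, 8, 2, 6, 10, 4, 7] [] [⟨1754, [4, 8, 6, 10, 2, 8, 10, 4], []⟩, ⟨140, [7, 10, 8, 12, 8, 6, 10], [166, 168]⟩, ⟨796, [10, 8, 4, 8, 10, 4], []⟩],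
  .tm 1 [12, 4, 8, 7, 10, 2, 8, 10, 4] [] [⟨1973, [], []⟩],
  .tm 37 [12, 8, 7, 10, 8, 6, 10, 4, 8, 7, 10, 8, 2, 6, 10, 6] [] [⟨1152, [2], [267, 269, 267]⟩, ⟨140, [12, 2], [217, 166, 216, 166]⟩, ⟨267, [10, 8, 7, 10, 8, 10, 4, 8, 10, 4, 7], []⟩],
  .tm 1 [7, 10, 8, 4, 8, 10, 8, 2, 6] [] [⟨1975, [], []⟩],
  .tm 37 [10, 8, 7, 10, 8, 10, 4, 8, 2, 10, 6] [] [⟨703, [10, 8, 7, 10, 8, 6, 10, 8, 15, 6], [269]⟩, ⟨140, [8, 10, 4, 2], [166, 168]⟩, ⟨887, [12, 8, 6, 10, 8, 4, 8, 6, 10, 8, 2, 6, 10, 4, 6], []⟩],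
  .tm 1 [8, 10, 8, 7, 10, 4, 8, 6, 10, 8] [] [⟨1977, [], []⟩],
  .tm 37 [7, 10, 8, 4, 8, 7, 10, 8, 2, 10, 7] [] [⟨1533, [12, 8, 6, 10, 8, 7, 10, 8, 6, 10, 4, 8, 15, 4, 6], [267]⟩, ⟨140, [8, 4, 8, 10], [217, 166, 216, 168]⟩, ⟨826, [8, 12, 10, 4, 8, 6, 10, 4, 8, 2, 4, 7], []⟩],
  .tm 1 [8, 10, 8, 4, 8, 6, 10, 2, 8, 6, 10] [] [⟨1979, [], []⟩],
  .tm 6 [6, 10, 8, 7, 10, 8, 4, 2, 8, 15, 4, 6] [] [⟨151, [4, 8, 4, 8, 10, 8, 7, 10, 8, 4, 7], [267]⟩, ⟨140, [4, 8, 12, 10, 4], []⟩, ⟨887, [12, 8, 10, 8, 7, 10, 8, 10, 4, 8, 6, 10, 4, 6], []⟩],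
  .tm 1 [8, 6, 10, 4, 8, 0, 15, 7] [] [⟨1981, [], []⟩],
  .tm 6 [12, 4, 8, 10, 8, 4, 8, 6, 10, 8, 0, 6, 10, 6] [] [⟨178, [8, 12, 8, 10, 8, 4, 8, 7, 10, 8, 4], [269, 267]⟩, ⟨140, [12, 10, 8, 6, 10], [216, 166, 168]⟩, ⟨727, [8, 4, 8, 10, 8, 6, 10, 8, 0, 10, 4], []⟩],
  .tm 1 [12, 4, 8, 10, 8, 7] [] [⟨1983, [], []⟩],
  .tm 6 [12, 4, 8, 10, 4, 8, 7, 10, 8, 2, 15, 6] [] [⟨161, [8, 12, 8, 7, 10, 8, 4, 8, 7, 10, 8, 2, 10, 7], []⟩, ⟨140, [4, 8, 12, 8, 10], [166, 168]⟩, ⟨583, [12, 10, 4, 8, 6, 10, 8, 7, 10, 8, 6, 10, 4, 7], []⟩],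
  .tm 1 [8, 7, 10, 8, 4, 8, 7, 10, 8, 2, 10, 4] [] [⟨1985, [], []⟩],
  .tm 6 [12, 8, 10, 8, 6, 10, 8, 4, 2, 8, 6, 10, 4] [] [⟨168, [8, 12, 7, 10, 8, 6, 10, 4, 2, 8, 15, 6], []⟩, ⟨140, [6, 10, 8, 7, 10, 2], [168]⟩, ⟨824, [8, 12, 10, 8, 10, 4, 8, 6, 10, 8, 2, 10, 4], []⟩],
  .tm 1 [7, 10, 8, 4, 8, 6, 10, 2, 8, 6, 10, 7] [] [⟨1987, [], []⟩],
  .tm 15 [7, 10, 8, 0, 10, 6] [] [⟨161, [8, 10, 8, 6, 10, 8, 4, 8, 0, 15], [269]⟩, ⟨140, [4, 8, 10, 4, 8], [166, 216, 166, 168]⟩, ⟨1379, [12, 10, 8, 10, 4, 8, 7, 10, 8, 6, 10, 8, 15, 4, 6], []⟩],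
  .tm 1 [4, 8, 10, 8, 7, 10, 2, 8, 15] [] [⟨1989, [], []⟩]]

theorem fc1913 : checkL (nat_lit 12) (nat_lit 4095) tH tK tK' BB FF TM XW d1913 (nat_lit 1913) = true := by decide +kernel

def d1991 : List Der := [.tm 15 [12, 10, 8, 7, 10, 8, 0, 15] [] [⟨168, [4, 8, 10, 8, 2, 10, 4, 6], [269]⟩, ⟨140, [10, 8, 12, 7, 10], [168, 166, 216, 166, 168, 166]⟩, ⟨1905, [12, 4, 8, 10, 8, 7, 10, 8, 0, 10, 4], []⟩],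
  .tm 1 [12, 4, 8, 6, 10, 8, 7, 10, 8, 2, 15, 4, 6] [] [⟨1991, [], []⟩],
  .tm 21 [8, 12, 8, 10, 4, 8, 7, 10, 4, 8, 4, 6] [] [⟨1702, [12, 8, 10, 8, 6, 10, 8, 4, 8, 0, 10, 4], [267, 269]⟩, ⟨140, [8, 12, 8, 6, 10, 2], [168, 166, 217, 166, 168]⟩, ⟨613, [12, 8, 10, 8, 7, 10, 8, 6, 10, 8, 10, 4, 7], []⟩],
  .tm 1 [8, 12, 8, 10, 8, 10, 4, 8, 6, 10, 4, 7] [] [⟨1993, [], []⟩],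
  .tm 21 [8, 12, 8, 10, 4, 8, 6, 10, 8, 4, 8, 2, 6, 10, 4, 7] [] [⟨1694, [4, 8, 6, 10, 8, 7, 10, 4, 8, 15, 7], [269, 267]⟩, ⟨140, [10, 8, 12, 7, 10, 2], [216, 166, 217, 166, 168]⟩, ⟨977, [8, 12, 10, 8, 10, 8, 4, 8, 6, 10, 8, 2, 10, 7], []⟩],
  .tm 1 [12, 8, 10, 8, 10, 4, 8, 6, 10, 8, 2, 7] [] [⟨1995, [], []⟩],
  .tm 21 [12, 4, 8, 7, 10, 4, 8, 6, 10, 8, 2, 6, 10, 7] [] [⟨877, [4, 8, 6, 10, 8, 2, 10, 4, 6], [267, 269, 267]⟩, ⟨140, [6, 10, 8, 12, 8, 4], [166]⟩, ⟨1552, [10, 8, 6, 10, 8, 4, 8, 2, 6, 10, 7], []⟩],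
  .tm 1 [12, 8, 10, 8, 4, 2, 8, 15, 7] [] [⟨1997, [], []⟩],
  .tm 21 [12, 4, 8, 6, 10, 4, 8, 6, 10, 4, 7] [] [⟨1474, [12, 8, 10, 4, 8, 6, 10, 8, 7, 10, 8, 6, 10, 4, 7], [269]⟩, ⟨140, [4, 8, 12, 8, 10, 4], [216, 166, 217, 166, 168]⟩, ⟨321, [12, 10, 4, 8, 6, 10, 8], []⟩],
  .tm 1 [12, 10, 8, 6, 10, 8, 10, 4, 8, 10, 4, 6] [] [⟨1999, [], []⟩],
  .tm 21 [8, 10, 8, 10, 4, 8, 6, 10, 8, 2, 15] [] [⟨1489, [6, 10, 8, 7, 10, 8, 6, 10, 4, 8, 15, 4, 7], [267]⟩, ⟨140, [4, 8, 10, 8, 12, 4], [168, 166, 217, 168, 166]⟩, ⟨309, [8, 4, 8, 10, 8, 6, 10, 4, 8, 2, 10, 6], []⟩],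
  .tm 1 [12, 4, 8, 6, 10, 4, 8, 2, 10, 4, 6] [] [⟨2001, [], []⟩],
  .tm 31 [6, 10, 8, 7, 10, 8, 4, 2, 8, 6, 10, 6] [] [⟨1652, [7, 10, 4, 8, 6, 10, 8, 6, 10, 4, 7], []⟩, ⟨140, [10, 8, 12, 8, 4], [216, 166]⟩, ⟨635, [8, 12, 4, 8, 10, 8, 4, 8, 7, 10, 8, 0, 6, 10], []⟩],
  .tm 1 [8, 12, 8, 10, 8, 6, 10, 4, 2, 8, 6, 10] [] [⟨2003, [], []⟩],
  .tm 31 [8, 12, 6, 10, 8, 4, 8, 2, 6, 10, 7] [] [⟨1489, [7, 10, 8, 10, 8, 4, 8, 7, 10, 8, 2, 10, 7], []⟩, ⟨140, [8, 12, 7, 10, 4], [216, 166, 217, 168]⟩, ⟨430, [4, 8, 4, 8, 7, 10, 8, 6, 10, 8, 15, 4], []⟩],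
  .tm 1 [12, 8, 7, 10, 8, 6, 10, 4, 8, 7, 10, 8, 2, 15, 4, 6] [] [⟨2005, [], []⟩],
  .tm 31 [8, 12, 6, 10, 8, 7, 10, 4, 8, 6, 10, 8, 2, 6, 10, 6] [] [⟨1533, [12, 7, 10, 4, 2, 8, 10, 7], [269]⟩, ⟨140, [8, 12, 8, 10, 4], [217, 166, 216, 166]⟩, ⟨1960, [12, 4, 8, 7, 10, 8, 0, 10, 4, 6], []⟩],
  .tm 1 [6, 10, 8, 6, 10, 4, 8, 10, 4] [] [⟨2007, [], []⟩],
  .tm 31 [12, 8, 4, 8, 10, 8, 6, 10, 8, 0, 15, 4, 6] [] [⟨703, [8, 10, 8, 4, 8, 6, 10, 8, 2, 6, 10, 6], []⟩, ⟨140, [10, 8, 12, 10, 4], [217, 166, 168, 166]⟩, ⟨1592, [8, 12, 4, 8, 6, 10, 8, 7, 10, 8, 2, 6, 10, 4, 6], []⟩],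
  .tm 1 [8, 6, 10, 8, 4, 2, 8, 15, 4] [] [⟨2009, [], []⟩],
  .tm 31 [8, 12, 8, 7, 10, 8, 4, 8, 7, 10, 8, 15] [] [⟨1694, [10, 8, 10, 4, 8, 7, 10, 8, 6, 10, 8, 6, 10, 6], [267, 269, 267]⟩, ⟨140, [8, 10, 8, 6, 10], [166]⟩, ⟨757, [12, 10, 4, 8, 7, 10, 4, 8, 2, 15, 6], []⟩],
  .tm 1 [10, 8, 6, 10, 4, 7] [] [⟨2011, [], []⟩],
  .tm 31 [8, 12, 8, 4, 8, 10, 8, 7, 10, 8, 15, 7] [] [⟨1919, [12, 6, 10, 8, 4, 8, 6, 10, 8, 2, 15], [269]⟩, ⟨140, [8, 12, 10, 8, 4, 2], [216, 166, 168, 166]⟩, ⟨1379, [12, 4, 8, 10, 8, 7, 10, 4, 8, 0, 10, 6], []⟩],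
  .tm 1 [12, 8, 10, 8, 4, 8, 10, 8, 4, 6] [] [⟨2013, [], []⟩],
  .tm 22 [12, 4, 8, 6, 10, 8, 4, 8, 2, 15, 4, 7] [] [⟨1310, [8, 4, 8, 6, 10, 8, 0, 10, 4, 6], [267, 269]⟩, ⟨140, [10, 8, 7, 10, 2, 8, 6, 10], [217, 166]⟩, ⟨118, [7, 10, 2, 8, 6, 10, 4, 7], []⟩],
  .tm 1 [8, 12, 4, 8, 7, 10, 8, 6, 10, 8, 6, 10] [] [⟨2015, [], []⟩],
  .tm 22 [10, 8, 6, 10, 8, 7, 10, 4, 8, 4, 6] [] [⟨1288, [6, 10, 8, 4, 8, 10, 4, 7], [267, 269]⟩, ⟨140, [7, 10, 4, 8, 4, 8, 6, 10], [216, 166]⟩, ⟨818, [6, 10, 8, 4, 8, 2, 15, 7], []⟩],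
  .tm 1 [8, 12, 8, 10, 8, 6, 10, 8, 4, 2, 8, 10, 6] [] [⟨2017, [], []⟩],
  .tm 22 [12, 8, 4, 8, 7, 10, 8, 6, 10, 4, 8, 2, 15] [] [⟨1377, [8, 12, 10, 8, 6, 10, 8, 4, 8, 6, 10, 4], [267]⟩, ⟨140, [4, 8, 12, 8, 4, 8, 6, 10], [217, 166, 168]⟩, ⟨1415, [12, 4, 8, 10, 8, 6, 10, 4, 8, 0, 6, 10, 4], []⟩],
  .tm 1 [12, 8, 10, 4, 8, 7, 10, 8, 4, 8, 6, 10] [] [⟨2019, [], []⟩],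
  .tm 22 [12, 8, 10, 8, 4, 8, 7, 10, 8, 0, 15, 6] [] [⟨1718, [7, 10, 8, 2, 10, 7], [269]⟩, ⟨140, [8, 4, 8, 12, 4, 8, 6, 10], [217, 166, 216, 168]⟩, ⟨854, [12, 6, 10, 8, 4, 2, 8, 10, 4, 6], []⟩],
  .tm 1 [8, 12, 4, 8, 7, 10, 8, 6] [] [⟨2021, [], []⟩],
  .tm 22 [12, 6, 10, 8, 7, 10, 4, 8, 10, 4, 7] [] [⟨1919, [12, 8, 10, 8, 10, 4, 8, 7, 10, 8, 4, 7], [267, 269]⟩, ⟨140, [7, 10, 8, 12, 4, 8, 6, 10], [166, 217]⟩, ⟨1699, [8, 7, 10, 8, 2, 10, 4], []⟩],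
  .tm 1 [12, 10, 8, 6, 10, 4, 8, 2, 10, 6] [] [⟨2023, [], []⟩],
  .tm 22 [8, 12, 6, 10, 4, 2, 8, 15, 4, 6] [] [⟨1652, [8, 10, 4, 8, 10, 7], [267]⟩, ⟨140, [10, 8, 4, 8, 12, 8, 6, 10], [168, 166, 216, 166, 168]⟩, ⟨891, [4, 8, 6, 10, 8, 7, 10, 4, 2, 8, 7], []⟩],
  .tm 1 [8, 12, 8, 10, 4, 8, 6, 10, 8, 7, 10, 8, 4, 6] [] [⟨2025, [], []⟩],
  .tm 22 [12, 7, 10, 8, 2, 10, 4] [] [⟨1224, [8, 10, 8, 4, 8, 7, 10, 2, 8, 15, 4, 6], [269]⟩, ⟨140, [12, 8, 10, 2, 8, 12, 6, 10], [168, 166, 216, 166]⟩, ⟨1467, [8, 12, 7, 10, 8, 4, 8, 10, 8, 2, 7], []⟩],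
  .tm 1 [8, 12, 8, 10, 8, 4, 8, 7, 10, 8, 10, 4] [] [⟨2027, [], []⟩],
  .tm 22 [8, 10, 8, 6, 10, 8, 2, 15, 4, 6] [] [⟨1908, [7, 10, 8, 6, 10, 4, 8, 7, 10, 8, 2, 6, 10, 4, 6], [267]⟩, ⟨140, [8, 12, 4, 8, 4, 8, 7, 10], [217, 166, 216, 166, 168]⟩, ⟨160, [12, 8, 10, 8, 4, 8, 6, 10, 7], []⟩],
  .tm 1 [8, 12, 8, 10, 8, 7, 10, 8, 6, 10, 8, 4, 6] [] [⟨2029, [], []⟩],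
  .tm 22 [12, 8, 4, 8, 10, 8, 7, 10, 4, 8, 0, 10, 4] [] [⟨760, [8, 7, 10, 8, 4, 8, 0, 10, 4], [269, 267]⟩, ⟨140, [8, 12, 6, 10, 4, 8, 7, 10], [168, 166]⟩, ⟨1467, [12, 10, 8, 6, 10, 8, 4, 8, 0, 6, 10, 4, 7], []⟩],
  .tm 1 [8, 12, 10, 8, 10, 4, 8, 7, 10, 8, 6, 10, 8, 6, 10, 4, 6] [] [⟨2031, [], []⟩],
  .tm 22 [7, 10, 8, 4, 8, 2, 10, 6] [] [⟨323, [12, 4, 8, 7, 10, 4, 8, 15], [269, 267]⟩, ⟨140, [12, 10, 8, 10, 4, 8, 7, 10], [217, 166, 216, 168, 166]⟩, ⟨1351, [8, 12, 8, 4, 8, 6, 10, 8, 2, 10, 6], []⟩],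
  .tm 1 [12, 10, 8, 10, 4, 8, 2, 4, 7] [] [⟨2033, [], []⟩],
  .tm 22 [12, 8, 6, 10, 8, 7, 10, 8, 4, 8, 15, 4] [] [⟨1830, [8, 12, 10, 8, 10, 8, 4, 8, 6, 10, 8, 10, 4, 7], [267, 269, 267]⟩, ⟨140, [8, 4, 8, 7, 10, 8, 7, 10], [166, 217, 168]⟩, ⟨486, [8, 12, 6, 10, 4, 8, 2, 10, 7], []⟩],
  .tm 1 [8, 12, 4, 8, 4, 8, 10, 8, 7, 10, 8, 6, 10] [] [⟨2035, [], []⟩],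
  .tm 22 [8, 12, 8, 7, 10, 8, 6, 10, 8, 4, 8, 0, 10, 6] [] [⟨634, [12, 4, 8, 10, 8, 6, 10, 4, 8, 2, 6, 10, 7], [267, 269]⟩, ⟨140, [12, 4, 8, 7, 10, 8, 7, 10], [168, 166, 217, 166, 168, 166]⟩, ⟨1693, [12, 8, 4, 8, 10, 8, 7, 10, 8, 2, 10, 6], []⟩],
  .tm 1 [12, 4, 8, 10, 8, 7, 10, 8, 0, 6, 10, 4, 7] [] [⟨2037, [], []⟩],
  .tm 22 [4, 8, 10, 4, 8, 6, 10, 8, 6, 10] [] [⟨194, [12, 10, 8, 10, 4, 8, 7, 10, 8, 2, 10, 4, 7], [269, 267]⟩, ⟨140, [4, 8, 10, 8, 12, 8, 7, 10], [217, 166, 216, 168, 166]⟩, ⟨1915, [8, 12, 10, 8, 7, 10, 8, 6, 10, 4, 8, 6, 10, 7], []⟩],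
  .tm 1 [12, 8, 4, 8, 10, 8, 6, 10, 4, 8, 10, 4, 6] [] [⟨2039, [], []⟩],
  .tm 22 [12, 4, 8, 6, 10, 4, 8, 6, 10] [] [⟨703, [6, 10, 8, 7, 10, 4, 8, 0, 15, 4, 7], [267, 269]⟩, ⟨140, [10, 8, 10, 8, 12, 8, 7, 10], [168, 166]⟩, ⟨1903, [8, 0, 10], []⟩],
  .tm 1 [12, 6, 10, 8, 4, 8, 7, 10, 8, 10, 6] [] [⟨2041, [], []⟩],
  .tm 22 [12, 8, 4, 8, 7, 10, 8, 4, 8, 2, 15, 4] [] [⟨1587, [12, 8, 4, 8, 10, 8, 6, 10, 4, 8, 2, 6, 10, 6], [267, 269]⟩, ⟨140, [12, 7, 10, 8, 4, 2, 8, 10], [216, 166, 217, 166, 168]⟩, ⟨1119, [12, 10, 8, 4, 8, 0, 6, 10, 7], []⟩],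
  .tm 1 [4, 8, 6, 10, 8, 7, 10, 8, 2, 6, 10, 4, 7] [] [⟨2043, [], []⟩],
  .tm 22 [8, 12, 10, 4, 8, 10, 6] [] [⟨1377, [8, 12, 7, 10, 8, 6, 10, 8, 4, 8, 6, 10, 4, 7], [269]⟩, ⟨140, [8, 10, 4, 8, 12, 2, 8, 10], [168, 166, 217, 166, 168]⟩, ⟨683, [12, 8, 7, 10, 8, 6, 10, 4, 8, 0, 7], []⟩],
  .tm 1 [8, 12, 8, 10, 8, 4, 8, 7, 10, 2, 8] [] [⟨2045, [], []⟩],
  .tm 22 [8, 12, 8, 10, 8, 6, 10, 8, 2, 15] [] [⟨1224, [8, 10, 8, 6, 10, 4, 8, 0, 6, 10, 4, 6], [267, 269]⟩, ⟨140, [8, 10, 8, 12, 8, 4, 8, 10], [216, 166, 217, 166]⟩, ⟨1552, [7, 10, 8, 6, 10, 8, 4, 8, 2, 15, 6], []⟩],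
  .tm 1 [8, 12, 8, 10, 8, 10, 4, 8, 2, 6, 10, 4] [] [⟨2047, [], []⟩],
  .tm 22 [8, 12, 8, 7, 10, 8, 6, 10, 7] [] [⟨1319, [12, 8, 4, 8, 10, 8, 6, 10, 4, 8, 2, 6, 10, 6], [267, 269]⟩, ⟨140, [12, 4, 8, 7, 10, 4, 8, 10], [166, 216, 168, 166]⟩, ⟨1139, [4, 8, 6, 10, 8, 7, 10, 4, 2, 8, 15, 6], []⟩],
  .tm 1 [4, 8, 10, 8, 6, 10, 4, 8, 2, 10, 4, 6] [] [⟨2049, [], []⟩],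
  .tm 22 [10, 4, 8, 6, 10, 4, 8, 2, 15, 6] [] [⟨1587, [12, 4, 8, 10, 8, 6, 10, 4, 2, 8, 6, 10], [267, 269]⟩, ⟨140, [4, 8, 10, 8, 12, 10, 8, 10], [166, 217, 168]⟩, ⟨788, [12, 6, 10, 8, 4, 8, 10, 8, 6, 10, 7], []⟩],
  .tm 1 [10, 8, 7, 10, 8, 10] [] [⟨2051, [], []⟩],
  .tm 22 [8, 12, 10, 8, 6, 10, 8, 10, 4, 7] [] [⟨1288, [8, 7, 10, 2, 8, 10, 6], []⟩, ⟨140, [4, 8, 10, 4, 8, 12, 8, 10], [216, 168, 166]⟩, ⟨627, [8, 12, 4, 8, 10, 8, 6, 10, 4, 8, 6, 10, 6], []⟩],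
  .tm 1 [12, 4, 8, 10, 8, 7, 10, 4, 2, 8, 4, 6] [] [⟨2053, [], []⟩],
  .tm 22 [8, 10, 4, 8, 7, 10, 8, 6, 10, 4] [] [⟨1310, [4, 8, 6, 10, 4, 8, 7, 10, 8, 2, 15], []⟩, ⟨140, [10, 4, 8, 10, 8, 12, 8, 10], [166, 216, 166, 168, 166]⟩, ⟨518, [8, 12, 8, 7, 10, 8, 6, 10, 4, 8, 7, 10, 8, 2, 15, 4, 7], []⟩],
  .tm 1 [8, 10, 4, 8, 6, 10, 8, 4, 8, 2, 10] [] [⟨2055, [], []⟩],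
  .tm 22 [10, 8, 7, 10, 8, 10, 4, 8, 4] [] [⟨1319, [12, 8, 4, 8, 7, 10, 8, 6, 10, 4, 8, 2, 6, 10], [267, 269]⟩, ⟨140, [6, 10, 8, 4, 2, 8, 12, 10], [168, 166, 217, 168]⟩, ⟨265, [6, 10, 4, 8, 0, 10, 7], []⟩],
  .tm 1 [12, 10, 4, 8, 6, 10, 8, 2, 15, 6] [] [⟨2057, [], []⟩],
  .tm 22 [8, 12, 10, 8, 10, 8, 4, 8, 7, 10, 8, 15, 4, 7] [] [⟨1319, [12, 8, 6, 10, 8, 6, 10, 8, 4, 8, 2, 6, 10, 4], [267]⟩, ⟨140, [7, 10, 8, 10, 4, 8, 12, 10], [216, 168, 166]⟩, ⟨1139, [8, 12, 4, 8, 10, 2, 8, 4], []⟩],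
  .tm 1 [8, 12, 4, 8, 10, 4, 8, 7, 10, 8, 0, 7] [] [⟨2059, [], []⟩],
  .tm 22 [8, 12, 10, 8, 2, 10] [] [⟨1152, [8, 0, 6], [269]⟩, ⟨140, [8, 4, 8, 7, 10, 8, 12, 10], [168, 166, 216, 166]⟩, ⟨1620, [8, 12, 8, 7, 10, 8, 6, 10, 8, 4, 8, 0, 10, 4, 6], []⟩],
  .tm 1 [12, 8, 10, 8, 6, 10, 4, 7] [] [⟨2061, [], []⟩],
  .tm 22 [12, 8, 4, 8, 7, 10, 8, 6, 10, 8, 4] [] [⟨1830, [8, 12, 8, 7, 10, 8, 6, 10, 8, 4, 8, 0, 6, 10, 4, 7], []⟩, ⟨140, [6, 10, 8, 10, 4, 2, 8, 12], [217, 166, 216]⟩, ⟨315, [12, 7, 10, 8, 4, 8, 6, 10, 8, 10, 7], []⟩],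
  .tm 1 [12, 8, 6, 10, 4, 8, 7, 10, 8, 6, 10, 4] [] [⟨2063, [], []⟩],
  .tm 22 [8, 4, 8, 10, 8, 6, 10, 8, 0, 6, 10, 4] [] [⟨567, [10, 4, 8, 6, 10, 8, 7, 10, 8, 2, 6, 10, 7], []⟩, ⟨140, [4, 8, 12, 4, 8, 4, 8, 12], [166, 216, 168]⟩, ⟨1498, [12, 10, 8, 7, 10, 4, 8, 6, 10, 8, 6, 10, 4, 6], []⟩],
  .tm 1 [8, 7, 10, 8, 4, 8, 6, 10, 8, 0, 6, 10, 4, 7] [] [⟨2065, [], []⟩]]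

theorem fc1991 : checkL (nat_lit 12) (nat_lit 4095) tH tK tK' BB FF TM XW d1991 (nat_lit 1991) = true := by decide +kernel

def d2067 : List Der := [.tm 22 [12, 8, 10, 4, 8, 6, 10, 2, 8, 15, 6] [] [⟨1830, [8, 12, 8, 10, 8, 10, 4, 8, 6, 10, 8, 10, 4], [267, 269]⟩, ⟨140, [10, 8, 12, 4, 8, 4, 8, 12], [168, 166, 216, 168, 166]⟩, ⟨1419, [12, 8, 4, 8, 6, 10, 8, 7, 10, 8, 10, 7], []⟩],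
  .tm 1 [12, 6, 10, 4, 8, 7, 10, 8, 10, 4] [] [⟨2067, [], []⟩],
  .tm 22 [12, 7, 10, 8, 10, 4, 8, 2, 10, 7] [] [⟨1908, [8, 4, 8, 6, 10, 8, 0, 10, 4, 7], [267, 269]⟩, ⟨140, [12, 7, 10, 8, 6, 10, 8, 12], [217, 166, 216, 166]⟩, ⟨518, [8, 12, 7, 10, 8, 4, 8, 10, 8, 2, 15], []⟩],
  .tm 1 [8, 12, 8, 4, 8, 10, 8, 6, 10, 4, 8, 2, 7] [] [⟨2069, [], []⟩],
  .tm 22 [4, 8, 10, 8, 7, 10, 4, 2, 8, 6, 10, 4, 6] [] [⟨1718, [4, 8, 4, 8, 10, 8, 7, 10, 8, 2, 15, 7], [267, 269]⟩, ⟨140, [8, 12, 10, 8, 7, 10, 8, 12], [166, 217]⟩, ⟨862, [12, 4, 8, 6, 10, 4, 8, 7, 10, 8, 15, 4, 7], []⟩],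
  .tm 1 [4, 8, 7, 10, 8, 6, 10, 4, 8, 2, 10, 4] [] [⟨2071, [], []⟩],
  .tm 22 [12, 8, 4, 8, 10, 8, 7, 10, 4, 8, 2, 6, 10, 4] [] [⟨1652, [8, 4, 8, 10, 8, 10, 7], [267]⟩, ⟨140, [12, 10, 4, 8, 6, 10, 8, 4, 0], [216]⟩, ⟨828, [8, 10, 4, 8, 6, 10, 4, 8, 2, 10, 4, 7], []⟩],
  .tm 1 [8, 12, 7, 10, 8, 10, 7] [] [⟨2073, [], []⟩],
  .tm 22 [12, 10, 4, 8, 6, 10, 8, 0, 15, 4, 6] [] [⟨1545, [10, 8, 6, 10, 8, 10, 4, 8, 2, 15, 4, 6], []⟩, ⟨140, [4, 8, 12, 8, 6, 10, 8, 4, 0], [217, 166, 216, 166, 168]⟩, ⟨757, [8, 10, 8, 7, 10, 8, 4, 2, 8, 6, 10, 7], []⟩],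
  .tm 1 [7, 10, 8, 10, 8, 4, 8, 6, 10, 7] [] [⟨2075, [], []⟩],
  .tm 22 [8, 10, 8, 7, 10, 8, 6, 10, 4, 2, 8, 6, 10, 4, 7] [] [⟨1533, [12, 8, 10, 8, 7, 10, 8, 4, 8, 2, 15, 4], [269]⟩, ⟨140, [6, 10, 8, 12, 7, 10, 8, 4, 0], [217, 166, 216, 168, 166]⟩, ⟨987, [8, 12, 10, 8, 10, 4, 8, 4, 6], []⟩],
  .tm 1 [8, 12, 8, 7, 10, 8, 10, 4, 8, 2, 10, 7] [] [⟨2077, [], []⟩],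
  .tm 22 [8, 12, 10, 8, 2] [] [⟨1224, [8, 4, 8, 6, 10, 8, 7, 10, 8, 2, 15, 4, 6], [267]⟩, ⟨140, [8, 4, 8, 12, 8, 10, 8, 4, 0], [217, 166, 168]⟩, ⟨1473, [6, 10, 8, 7, 10, 4, 8, 2, 15, 4, 7], []⟩],
  .tm 1 [8, 12, 4, 8, 7, 10, 4, 8, 4] [] [⟨2079, [], []⟩],
  .tm 22 [10, 8, 7, 10, 8, 4, 8, 0, 15, 4] [] [⟨560, [12, 4, 8, 6, 10, 8, 10, 4, 7], []⟩, ⟨140, [12, 4, 8, 10, 8, 12, 8, 4, 0], []⟩, ⟨1419, [7, 10, 8, 4, 8, 2, 10, 4, 6], []⟩],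
  .tm 1 [8, 12, 10, 8, 7, 10, 8, 10, 4, 8, 15] [] [⟨2081, [], []⟩],
  .tm 22 [12, 10, 8, 6, 10, 8, 7, 10, 4, 2, 8, 7] [] [⟨1652, [8, 7, 10, 8, 6, 10, 8, 4, 8, 6, 10], [267, 269, 267]⟩, ⟨140, [7, 10, 8, 12, 10, 8, 10, 4, 0], [168, 166, 217, 168]⟩, ⟨788, [8, 12, 8, 10, 8, 6, 10, 8, 10, 4, 8, 2, 10, 7], []⟩],
  .tm 1 [8, 12, 7, 10, 8, 10, 8, 4, 8, 2, 15] [] [⟨2083, [], []⟩],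
  .tm 22 [8, 12, 7, 10, 8, 7, 10, 8, 4, 8, 15, 4, 7] [] [⟨1830, [8, 12, 8, 10, 8, 6, 10, 8, 4, 8, 0, 6, 10, 4, 7], [267, 269, 267]⟩, ⟨140, [12, 8, 10, 4, 8, 12, 10, 4, 0], [216, 166, 217, 168, 166]⟩, ⟨89, [8, 12, 10, 8, 10, 8, 4, 8, 2, 10], []⟩],
  .tm 1 [8, 12, 8, 7, 10, 8, 4, 8, 10, 8, 15, 6] [] [⟨2085, [], []⟩],
  .tm 22 [8, 12, 8, 10, 8, 7, 10, 8, 10, 4, 8, 2, 10, 4, 7] [] [⟨1377, [8, 12, 8, 10, 4, 8, 6, 10, 8, 7, 10, 8, 6, 10, 4, 6], [267, 269, 267]⟩, ⟨140, [12, 6, 10, 8, 4, 8, 12, 4, 0], [168, 166, 217]⟩, ⟨486, [8, 7, 10, 8, 6, 10, 8, 7, 10, 4, 8, 10, 6], []⟩],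
  .tm 1 [6, 10, 4, 8, 7, 10, 8, 10, 7] [] [⟨2087, [], []⟩],
  .tm 22 [10, 8, 6, 10, 8, 7, 10, 4, 8, 2, 10, 7] [] [⟨877, [6, 10, 8, 4, 8, 7, 10, 2, 8, 15, 4, 7], [269]⟩, ⟨140, [10, 8, 6, 10, 4, 8, 6, 10, 0], [168, 166, 217, 166, 168]⟩, ⟨1433, [12, 8, 10, 8, 4, 2, 8, 6], []⟩],
  .tm 1 [8, 10, 4, 8, 6, 10, 8, 7, 10, 8, 6, 10] [] [⟨2089, [], []⟩],
  .tm 22 [4, 8, 10, 8, 7, 10, 4, 8, 4, 7] [] [⟨1702, [12, 4, 8, 6, 10, 4, 8, 7, 10, 8, 2, 6, 10, 7], [269, 267]⟩, ⟨140, [12, 4, 8, 6, 10, 8, 6, 10, 0], [168]⟩, ⟨493, [12, 8, 10, 8, 7, 10, 4, 8, 0, 6], []⟩],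
  .tm 1 [12, 8, 10, 8] [] [⟨2091, [], []⟩],
  .tm 22 [10, 4, 8, 7, 10, 8, 2, 6, 10, 4, 7] [] [⟨1908, [8, 10, 4, 8, 7, 10, 8, 6, 10, 4, 8, 2, 15], [269, 267]⟩, ⟨140, [8, 10, 8, 4, 8, 12, 6, 10, 0], [216]⟩, ⟨901, [8, 6, 10, 8, 7, 10, 8, 2, 4, 6], []⟩],
  .tm 1 [4, 8, 6, 10] [] [⟨2093, [], []⟩],
  .tm 22 [8, 12, 8, 6, 10, 4, 8, 10, 4, 7] [] [⟨1830, [8, 12, 8, 4, 8, 10, 8, 6, 10, 4, 8, 6, 10, 6], [267, 269]⟩, ⟨140, [8, 7, 10, 8, 4, 8, 7, 10, 0], [166, 217, 166]⟩, ⟨782, [12, 8, 10, 8, 6, 10, 8, 4, 8, 0, 15, 4, 6], []⟩],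
  .tm 1 [8, 7, 10, 8, 6, 10, 4, 8, 0, 15, 4, 6] [] [⟨2095, [], []⟩],
  .tm 22 [10, 8, 0, 10] [] [⟨560, [12, 10, 2, 8, 10, 6], [269, 267]⟩, ⟨140, [8, 4, 8, 12, 4, 8, 7, 10, 0], [168, 166, 217, 168]⟩, ⟨1508, [12, 8, 7, 10, 4, 8, 2, 7], []⟩],
  .tm 1 [4, 8, 6, 10, 8, 15, 4, 6] [] [⟨2097, [], []⟩],
  .tm 22 [12, 10, 8, 7, 10, 4, 8, 6, 10, 8, 2, 6, 10, 6] [] [⟨187, [10, 8, 6, 10, 8, 4, 8, 2, 10, 4], [267, 269]⟩, ⟨140, [12, 8, 4, 8, 10, 8, 7, 10, 0], [168, 166, 217, 166]⟩, ⟨1473, [7, 10, 4, 8, 6], []⟩],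
  .tm 1 [8, 12, 8, 4, 8, 10, 8, 6, 10, 8, 2, 15, 4, 6] [] [⟨2099, [], []⟩],
  .tm 22 [8, 12, 10, 8, 4, 8, 2, 6, 10, 6] [] [⟨1919, [12, 10, 8, 10, 8, 4, 8, 7, 10, 8, 4, 6], [267]⟩, ⟨140, [8, 10, 8, 6, 10, 4, 8, 10, 0], [166, 216, 166, 168]⟩, ⟨685, [12, 10, 8, 4, 8, 10, 8, 6, 10, 8, 0, 10, 4], []⟩],
  .tm 1 [12, 8, 10, 4, 8, 7, 10, 8, 0, 6] [] [⟨2101, [], []⟩],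
  .tm 22 [8, 12, 8, 4, 8, 6, 10, 8, 7, 10, 4, 8, 2, 6, 10, 4, 6] [] [⟨1919, [12, 8, 7, 10, 8, 2, 6], [267, 269, 267]⟩, ⟨140, [8, 6, 10, 4, 8, 12, 8, 10, 0], [166, 217]⟩, ⟨518, [8, 12, 8, 7, 10, 4, 8, 6, 10, 8, 2, 15, 6], []⟩],
  .tm 1 [10, 8, 7, 10, 8, 4, 8, 2, 6, 10, 6] [] [⟨2103, [], []⟩],
  .tm 22 [8, 4, 8, 10, 8, 6, 10, 4, 8] [] [⟨1587, [12, 8, 6], []⟩, ⟨140, [8, 10, 8, 6, 10, 8, 12, 10, 0], [216, 168, 166]⟩, ⟨215, [10, 8, 7, 10, 8, 0, 7], []⟩],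
  .tm 1 [7, 10, 8, 6, 10, 4, 8, 15, 4, 6] [] [⟨2105, [], []⟩],
  .tm 22 [8, 12, 8, 4, 8, 10, 8, 2, 4, 7] [] [⟨1718, [8, 10, 8, 4, 8, 7, 10, 8, 2, 15, 4, 6], [267, 269]⟩, ⟨140, [8, 12, 10, 8, 10, 4, 8, 12, 0], [217, 166, 216, 168, 166]⟩, ⟨221, [6, 10, 8, 6, 10, 8, 4, 8, 10, 6], []⟩],
  .tm 1 [8, 12, 7, 10, 8, 10, 8, 4, 8, 7, 10, 8, 15, 7] [] [⟨2107, [], []⟩],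
  .tm 22 [8, 12, 8, 4, 8, 2, 4] [] [⟨559, [12, 4, 8, 10, 8, 6, 10, 4, 2, 8, 6, 10, 6], [269, 267]⟩, ⟨140, [7, 10, 4, 8, 6, 10, 8, 12, 0], [168, 166, 216, 166]⟩, ⟨1405, [10, 2, 8, 10, 7], []⟩],
  .tm 1 [8, 12, 8, 6, 10, 8, 6, 10, 8, 4, 8, 2, 15, 7] [] [⟨2109, [], []⟩],
  .tm 22 [8, 12, 8, 4, 8, 7, 10, 8, 6, 10, 8, 15, 4] [] [⟨1919, [12, 8, 4, 8, 10, 8, 7, 10, 8, 0, 6, 10, 4, 6], []⟩, ⟨140, [4, 8, 12, 10, 8, 10, 8, 12, 0], [217, 166, 216]⟩, ⟨1552, [8, 12, 8, 7, 10, 4, 2, 8, 6, 10, 4], []⟩],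
  .tm 1 [12, 8, 0, 6, 10, 4] [] [⟨2111, [], []⟩],
  .tm 22 [12, 8, 10, 8, 4, 8, 10, 8, 15, 7] [] [⟨1319, [12, 8, 10, 8, 6, 10, 8, 4, 2, 8, 6, 10, 4, 6], [269, 267]⟩, ⟨140, [8, 4, 8, 7, 10, 4, 8, 4, 2], [168, 166, 217, 166]⟩, ⟨568, [8, 12, 4, 8, 4, 8, 10, 8, 6, 10, 8, 4, 6], []⟩],
  .tm 1 [8, 12, 10, 4, 8, 6, 10, 8, 7, 10, 8, 2, 6, 10, 4, 7] [] [⟨2113, [], []⟩],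
  .tm 22 [4, 8, 10, 8, 7, 10, 8, 2, 15] [] [⟨1319, [12, 10, 8, 6, 10, 8, 4, 2, 8, 6, 10, 4, 6], [269, 267]⟩, ⟨140, [4, 8, 4, 8, 7, 10, 8, 4, 2], [217, 166, 216, 168]⟩, ⟨198, [8, 12, 7, 10, 8, 4, 2, 8, 6], []⟩],
  .tm 1 [12, 8, 10, 4, 8, 7, 10, 8, 0, 6, 10, 6] [] [⟨2115, [], []⟩],
  .tm 22 [8, 7, 10, 8, 7, 10, 8, 4, 8, 2, 15] [] [⟨194, [12, 6, 10, 4, 8, 7, 10, 8, 15, 4], []⟩, ⟨140, [12, 6, 10, 8, 4, 8, 12, 10, 2], [217, 166]⟩, ⟨1708, [8, 12, 10, 4, 8, 6, 10, 8, 4], []⟩],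
  .tm 1 [7, 10, 4, 2, 8, 6, 10, 4, 7] [] [⟨2117, [], []⟩],
  .tm 22 [12, 8, 10, 2, 8, 15, 4, 6] [] [⟨445, [8, 12, 8, 10, 4, 8, 6, 10, 8, 7, 10, 8, 2, 6, 10, 4], [269, 267]⟩, ⟨140, [8, 12, 7, 10, 8, 4, 8, 12, 2], [217, 166, 216, 166]⟩, ⟨1351, [12, 10, 8, 10, 4, 8, 6, 10, 2, 8, 6, 10, 4], []⟩],
  .tm 1 [8, 12, 10, 8, 10, 8, 4, 8, 7, 10, 8, 2, 15, 6] [] [⟨2119, [], []⟩],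
  .tm 22 [8, 12, 8, 7, 10, 4, 8, 6, 10, 8, 6, 10, 4, 7] [] [⟨1718, [4, 8, 10, 8, 10, 4, 6], [267]⟩, ⟨140, [4, 8, 10, 8, 6, 10, 8, 12, 2], [216, 166, 217, 166, 168]⟩, ⟨156, [8, 12, 6, 10, 8, 4, 8, 6, 10, 8, 4], []⟩],
  .tm 1 [8, 10, 8, 10, 4, 8, 7] [] [⟨2121, [], []⟩],
  .tm 22 [8, 12, 8, 10, 8, 2, 6, 10, 4, 7] [] [⟨703, [8, 10, 4, 8, 6, 10, 4, 8, 6, 10, 6], [267]⟩, ⟨140, [12, 7, 10, 4, 8, 6, 10, 8, 4], [217]⟩, ⟨1335, [4, 8, 10, 8, 6, 10, 4, 8, 0, 10, 4, 6], []⟩],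
  .tm 1 [8, 6, 10, 8, 6, 10, 4, 8, 6] [] [⟨2123, [], []⟩],
  .tm 22 [4, 8, 10, 8, 6, 10, 4, 8, 10, 7] [] [⟨1702, [12, 10, 8, 10, 4, 8, 7, 10, 8, 0, 15, 4, 7], [267, 269]⟩, ⟨140, [8, 12, 10, 4, 8, 7, 10, 8, 4], [168, 166, 217, 166, 168, 166]⟩, ⟨497, [8, 12, 10, 8, 7, 10, 4, 8, 0, 15, 4, 6], []⟩],
  .tm 1 [8, 12, 8, 4, 8, 10, 4, 8, 6, 10, 8, 10, 6] [] [⟨2125, [], []⟩],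
  .tm 22 [8, 10, 8, 2] [] [⟨938, [8, 6, 10, 8, 10, 4, 8, 4, 7], [267, 269]⟩, ⟨140, [8, 7, 10, 8, 4, 8, 6, 10, 4], [217, 166, 216, 166, 168]⟩, ⟨2075, [8, 6, 10, 8, 6, 10, 8, 4, 8, 2, 15, 7], []⟩],
  .tm 1 [12, 8, 4, 8, 10, 2, 8, 10, 6] [] [⟨2127, [], []⟩],
  .tm 22 [8, 6, 10, 8, 7, 10, 8, 2, 6, 10, 4, 6] [] [⟨1754, [8, 4, 8, 10, 8, 6, 10, 8, 2, 6, 10, 4, 6], [267, 269]⟩, ⟨140, [8, 7, 10, 4, 8, 12, 7, 10, 4], [217, 166, 216]⟩, ⟨1117, [10, 8, 6, 10, 4, 8, 7, 10, 8, 10, 4, 6], []⟩],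
  .tm 1 [8, 12, 10, 8, 4, 8, 10, 8, 7, 10, 8, 6, 10, 7] [] [⟨2129, [], []⟩],
  .tm 22 [8, 10, 8, 4, 8, 6, 10, 2, 8, 6, 10, 4] [] [⟨1702, [12, 4, 8, 7, 10, 8, 15, 4, 6], [267, 269, 267]⟩, ⟨140, [8, 10, 4, 8, 12, 2, 8, 10, 4], [168, 166, 217, 168]⟩, ⟨430, [8, 12, 8, 4, 8, 7, 10, 8, 2, 6, 10, 4, 6], []⟩],
  .tm 1 [8, 12, 4, 8, 4, 8, 7, 10, 8, 6, 10, 8, 6, 10, 4] [] [⟨2131, [], []⟩],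
  .tm 22 [10, 8, 7, 10, 8, 6, 10, 4, 8, 15, 4] [] [⟨560, [12, 8, 7, 10, 8, 4, 8, 0, 10, 4, 6], [269, 267]⟩, ⟨140, [12, 6, 10, 8, 4, 2, 8, 7, 10], [217, 166, 216, 166, 168, 166]⟩, ⟨1795, [8, 12, 7, 10, 8, 10, 4, 8, 2, 4, 7], []⟩],
  .tm 1 [8, 10, 4, 8, 2, 6, 10, 4, 7] [] [⟨2133, [], []⟩],
  .tm 22 [8, 10, 8, 7, 10, 8, 4, 8, 6, 10] [] [⟨441, [10, 8, 6, 10, 8, 0, 6, 10], [269]⟩, ⟨140, [10, 8, 4, 8, 12, 2, 8, 7, 10], [168, 166, 216]⟩, ⟨1875, [7, 10, 8, 4, 8, 6, 10, 8, 6], []⟩],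
  .tm 1 [8, 12, 8, 6, 10, 8, 7, 10, 4, 2, 8, 10] [] [⟨2135, [], []⟩],
  .tm 22 [12, 4, 8, 7, 10, 8, 6, 10, 4, 2, 8, 15, 4, 6] [] [⟨1652, [8, 7, 10, 8, 4, 2, 8, 10], []⟩, ⟨140, [4, 8, 12, 6, 10, 4, 2, 8, 10], [216, 166, 217, 168]⟩, ⟨221, [12, 6, 10, 8, 6, 10, 8, 4, 8, 2, 10, 7], []⟩],
  .tm 1 [8, 12, 10, 8, 6, 10, 8, 7, 10, 4, 8, 10, 4, 7] [] [⟨2137, [], []⟩],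
  .tm 11 [8, 12, 8, 7, 10, 8, 7, 10, 4, 8, 6, 10, 7] [] [⟨1086, [12, 8, 10, 8, 4, 8, 7, 10, 2, 8, 15, 7], [269, 267]⟩, ⟨140, [8, 6, 10, 4, 8, 12, 8, 10, 0], [168, 166, 217, 166]⟩, ⟨1433, [8, 12, 8, 4, 8, 6, 10, 8, 7, 10, 4, 8, 2, 15, 4, 6], []⟩],
  .tm 1 [10, 8, 10, 8, 4, 8, 7, 10, 8, 15, 7] [] [⟨2139, [], []⟩],
  .tm 11 [10, 8, 6, 10, 8, 2, 4, 6] [] [⟨1083, [8, 12, 0, 15, 4, 7], [269]⟩, ⟨140, [8, 7, 10, 4, 8, 12, 8, 10, 0], [216, 166, 217, 166, 168]⟩, ⟨1903, [12, 8, 10, 8, 7, 10, 8, 6, 10, 4, 8, 2, 10], []⟩]]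

theorem fc2067 : checkL (nat_lit 12) (nat_lit 4095) tH tK tK' BB FF TM XW d2067 (nat_lit 2067) = true := by decide +kernel

def d2142 : List Der := [.tm 1 [12, 8, 10, 8, 6, 10, 4, 8, 2, 6, 10, 4, 7] [] [⟨2141, [], []⟩],
  .tm 11 [12, 8, 6, 10, 8, 10, 4, 8, 15, 7] [] [⟨2133, [12, 7, 10, 8, 6, 10, 8, 7, 10, 4, 8, 2, 10, 7], [267]⟩, ⟨140, [10, 8, 10, 4, 8, 12, 8, 10, 0], [216, 168, 166]⟩, ⟨1691, [12, 8, 10, 8, 7, 10, 8, 6, 10, 8, 15, 7], []⟩],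
  .tm 1 [8, 7, 10, 8, 10, 4, 8, 4] [] [⟨2143, [], []⟩],
  .tm 11 [8, 12, 6, 10, 8, 6, 10, 4, 8, 15, 4, 7] [] [⟨1882, [8, 10, 4, 8, 6, 10, 8, 2, 6, 10, 4], [267, 269]⟩, ⟨140, [8, 7, 10, 8, 4, 8, 12, 10, 0], [166, 217]⟩, ⟨136, [12, 8, 6, 10, 8, 4, 2, 8], []⟩],
  .tm 1 [12, 8, 10, 8, 10, 4, 8, 2, 6, 10, 7] [] [⟨2145, [], []⟩],
  .tm 11 [12, 8, 7, 10, 8, 6, 10, 4, 8, 2, 4, 7] [] [⟨2140, [8, 12, 4, 8, 6, 10, 2, 8, 6], [267]⟩, ⟨140, [4, 8, 4, 8, 7, 10, 8, 12, 0], [166, 216, 166, 168, 166]⟩, ⟨727, [10, 8, 7, 10, 8, 10, 4, 8, 4], []⟩],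
  .tm 1 [8, 12, 7, 10, 8, 7, 10, 4, 8, 2, 15, 7] [] [⟨2147, [], []⟩],
  .tm 11 [12, 8, 10, 4, 8, 7, 10, 8, 4, 8, 15, 4, 6] [] [⟨2140, [12, 4, 2, 8, 6, 10, 7], [267, 269, 267]⟩, ⟨140, [6, 10, 8, 4, 8, 10, 8, 12, 0], [168, 166, 216, 168, 166]⟩, ⟨635, [8, 12, 4, 8, 10, 8, 7, 10, 8, 2, 6, 10, 4, 6], []⟩],
  .tm 1 [8, 12, 8, 10, 8, 6, 10, 8, 4, 8, 2, 6] [] [⟨2149, [], []⟩],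
  .tm 11 [12, 4, 8, 7, 10, 8, 6, 10, 8, 10, 4] [] [⟨1821, [12, 8, 4, 8, 4], [267, 269]⟩, ⟨140, [8, 12, 7, 10, 8, 4, 8, 4, 2], [216, 166, 217, 166, 168]⟩, ⟨977, [8, 12, 6, 10, 8, 7, 10, 4, 2, 8, 15, 4, 6], []⟩],
  .tm 1 [12, 4, 8, 10, 4, 8, 7, 10, 8, 15, 4, 6] [] [⟨2151, [], []⟩],
  .tm 11 [4, 8, 7, 10, 4, 8, 6, 10, 8, 10, 6] [] [⟨1526, [8, 12, 10, 8, 6, 10, 8, 7, 10, 8, 2, 6, 10], [269, 267]⟩, ⟨140, [12, 10, 8, 7, 10, 4, 8, 4, 2], [168, 166, 217, 166, 168, 166]⟩, ⟨1592, [8, 12, 8, 7, 10, 8, 10, 4, 8, 2, 6, 10, 4, 6], []⟩],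
  .tm 1 [12, 8, 4, 8, 10, 8, 6, 10, 4, 8, 15, 4, 6] [] [⟨2153, [], []⟩],
  .tm 11 [12, 6, 10, 8, 0, 15, 4, 6] [] [⟨1239, [8, 6, 10, 8, 6, 10, 8, 4, 8, 6, 10, 4], [269]⟩, ⟨140, [8, 12, 10, 8, 10, 4, 8, 4, 2], [166, 217]⟩, ⟨136, [12, 6, 10, 4, 8, 7, 10, 8, 10, 7], []⟩],
  .tm 1 [12, 2, 10] [] [⟨2155, [], []⟩],
  .tm 11 [8, 12, 10, 8, 7, 10, 4, 8, 6, 10, 8, 10, 4] [] [⟨1523, [12, 10, 8, 4, 8, 2, 4, 6], []⟩, ⟨140, [8, 12, 10, 8, 6, 10, 8, 4, 2], [166, 216, 168, 166]⟩, ⟨1691, [12, 8, 7, 10, 8, 4, 8, 6, 10, 8, 0, 6, 10, 4, 6], []⟩],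
  .tm 1 [8, 12, 8, 7, 10, 8, 4, 8, 6, 10, 8, 0, 15, 7] [] [⟨2157, [], []⟩],
  .tm 11 [8, 12, 7, 10, 8, 4, 8, 6, 10, 2, 8, 15, 6] [] [⟨1701, [8, 12, 8, 10, 8, 6, 10, 4, 8, 0, 10], []⟩, ⟨140, [8, 12, 6, 10, 8, 10, 8, 4, 2], [166, 216, 166, 168]⟩, ⟨727, [10, 8, 6, 10, 4, 8, 7, 10, 8, 15, 4, 7], []⟩],
  .tm 1 [8, 12, 8, 4, 8, 10, 8, 0, 10, 7] [] [⟨2159, [], []⟩],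
  .tm 11 [8, 12, 4, 8, 6, 10, 4, 8, 7, 10, 8, 15, 7] [] [⟨1352, [8, 12, 7, 10, 8, 6, 10, 8, 7, 10, 4, 8, 2, 10], [269]⟩, ⟨140, [12, 8, 7, 10, 4, 8, 10, 4, 2], [168, 166, 217, 168, 166]⟩, ⟨309, [10, 8, 7, 10, 4, 2, 8, 10, 7], []⟩],
  .tm 1 [4, 8, 0, 6, 10, 6] [] [⟨2161, [], []⟩],
  .tm 11 [8, 10, 8, 7, 10, 4, 8, 6, 10, 8, 2, 15] [] [⟨1392, [10, 8, 4, 6], [269, 267]⟩, ⟨140, [4, 8, 12, 10, 4, 8, 10, 4, 2], [166, 216]⟩, ⟨88, [12, 8, 6, 10, 8, 7, 10, 8, 2, 4], []⟩],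
  .tm 1 [12, 8, 4, 8, 10, 8, 7, 10, 8, 0, 15] [] [⟨2163, [], []⟩],
  .tm 11 [8, 12, 8, 4, 8, 7, 10, 8, 6, 10, 4, 8, 2, 6] [] [⟨2150, [8, 12, 7, 10, 8, 6, 10, 4, 8, 7, 10, 8, 2, 15, 4], [269, 267]⟩, ⟨140, [10, 4, 8, 6, 10, 8, 10, 4, 2], [166, 168, 166]⟩, ⟨784, [6, 10, 8, 4, 8, 7, 10, 8, 15, 4, 7], []⟩],
  .tm 1 [8, 10, 4, 2, 8, 4] [] [⟨2165, [], []⟩],
  .tm 11 [4, 8, 10, 8, 6, 10, 4, 8, 0, 6, 10, 4, 6] [] [⟨1434, [8, 12, 8, 10, 4, 8, 7, 10, 8, 6, 10, 8, 15, 4, 7], [269]⟩, ⟨140, [8, 4, 8, 7, 10, 8, 10, 4, 2], [168, 166, 217, 166]⟩, ⟨99, [7, 10, 8, 6, 10, 8, 2, 6, 10, 6], []⟩],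
  .tm 1 [8, 12, 7, 10, 8, 4, 8, 7, 10, 8, 2, 15, 7] [] [⟨2167, [], []⟩],
  .tm 11 [8, 10, 8, 10, 4, 8, 6, 10, 8, 6, 10, 4, 7] [] [⟨1248, [12, 10, 4, 8, 6, 10, 8, 7, 10, 8, 2, 4, 7], [269]⟩, ⟨140, [10, 4, 8, 7, 10, 8, 10, 4, 2], [168, 166]⟩, ⟨784, [8, 7, 10, 8, 4, 8, 2, 10, 4], []⟩],
  .tm 1 [8, 12, 8, 10, 8, 6, 10, 8, 0] [] [⟨2169, [], []⟩],
  .tm 11 [12, 7, 10, 8, 6, 10, 8, 7, 10, 4, 8, 4, 6] [] [⟨1712, [8, 12, 10, 8, 7, 10, 8, 6, 10, 4, 8, 0, 15, 4, 7], [267, 269, 267]⟩, ⟨140, [8, 4, 8, 6, 10, 8, 12, 4, 2], [166, 217, 166]⟩, ⟨166, [6, 10, 8, 4, 8, 2, 10, 4, 6], []⟩],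
  .tm 1 [8, 12, 8, 4, 8, 10, 4, 8, 6, 10, 8] [] [⟨2171, [], []⟩],
  .tm 11 [8, 12, 10, 4, 8, 6, 10, 8, 2, 10, 4, 7] [] [⟨1042, [8, 10, 8, 6, 10, 4, 8, 0, 10, 4], [267, 269, 267]⟩, ⟨140, [12, 4, 8, 6, 10, 8, 4, 8, 2], [168, 166, 217, 166]⟩, ⟨1433, [8, 12, 10, 8, 7, 10, 8, 6, 10, 8, 2, 15, 4, 6], []⟩],
  .tm 1 [8, 12, 6, 10, 8, 4, 8, 6] [] [⟨2173, [], []⟩],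
  .tm 11 [8, 12, 10, 8, 6, 10, 2, 8, 7] [] [⟨1648, [8, 12, 10, 4, 2, 8, 4, 6], [269]⟩, ⟨140, [6, 10, 8, 6, 10, 8, 4, 8, 2], [217, 166, 216, 168]⟩, ⟨1960, [12, 8, 6, 10, 8, 2, 10, 6], []⟩],
  .tm 1 [8, 12, 8, 6, 10, 4, 8, 2, 6, 10, 4, 6] [] [⟨2175, [], []⟩],
  .tm 11 [8, 12, 8, 7, 10, 4, 8, 2, 15, 6] [] [⟨1417, [12, 8, 4, 8, 2, 4, 7], [269, 267]⟩, ⟨140, [6, 10, 8, 12, 10, 8, 4, 8, 2], [216, 168, 166]⟩, ⟨911, [12, 8, 10, 8, 4, 8, 6, 10, 2, 8, 10, 4, 6], []⟩],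
  .tm 1 [8, 12, 2, 8, 4] [] [⟨2177, [], []⟩],
  .tm 11 [10, 8, 4, 2, 8, 15, 4] [] [⟨1590, [12, 7, 10, 8, 6, 10, 8, 4, 8, 2, 6], [267, 269, 267]⟩, ⟨140, [12, 8, 4, 8, 7, 10, 4, 8, 2], [166, 216, 166]⟩, ⟨635, [8, 12, 8, 10, 8, 7, 10, 8, 6, 10, 4, 8, 4, 7], []⟩],
  .tm 1 [8, 4, 8, 7, 10, 8, 0, 10] [] [⟨2179, [], []⟩],
  .tm 11 [8, 12, 8, 4, 8, 10, 8, 7, 10, 4, 8, 0, 15, 4, 7] [] [⟨1503, [10, 8, 4, 8, 4], []⟩, ⟨140, [6, 10, 8, 12, 7, 10, 4, 8, 2], [217, 166, 216, 166]⟩, ⟨826, [8, 12, 8, 4, 8, 10, 8, 7, 10, 8, 6, 10], []⟩],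
  .tm 1 [12, 7, 10, 8, 10, 4, 8, 2, 4, 7] [] [⟨2181, [], []⟩],
  .tm 11 [12, 8, 10, 4, 8, 7, 10, 8, 10, 6] [] [⟨1196, [6, 10, 8, 7, 10, 8, 2, 15], [267]⟩, ⟨140, [10, 8, 6, 10, 8, 10, 4, 8, 2], [217, 168, 166]⟩, ⟨1433, [8, 12, 8, 10, 4, 8, 6, 10, 8, 7, 10, 8, 6, 10, 7], []⟩],
  .tm 1 [8, 12, 7, 10, 8, 4, 8, 6, 10, 8, 2, 10, 4] [] [⟨2183, [], []⟩],
  .tm 11 [8, 4, 8, 6, 10, 8, 7, 10, 8, 15, 4, 7] [] [⟨2139, [10, 4, 8, 4, 6], [269]⟩, ⟨140, [10, 8, 7, 10, 8, 10, 4, 8, 2], [217, 166, 216, 168]⟩, ⟨1960, [12, 6, 10, 2, 8, 10, 6], []⟩],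
  .tm 1 [4, 8, 6, 10, 8, 7, 10, 4, 2, 8, 15, 7] [] [⟨2185, [], []⟩],
  .tm 11 [12, 8, 7, 10, 8, 6, 10, 4, 2, 8, 10, 7] [] [⟨1268, [8, 10, 4, 2, 8, 4], [269]⟩, ⟨140, [8, 12, 8, 10, 8, 6, 10, 8, 2], [168, 166, 216]⟩, ⟨2075, [8, 12, 8, 10, 4, 8, 7, 10, 8, 4, 8, 6, 10], []⟩],
  .tm 1 [8, 12, 8, 10, 4, 8, 7, 10, 4, 8, 2, 15] [] [⟨2187, [], []⟩],
  .tm 11 [12, 8, 6, 10, 8, 4, 8, 6, 10, 8, 2, 4, 6] [] [⟨2111, [12, 10, 8, 4, 8, 6, 10, 8, 0, 4], [269, 267]⟩, ⟨140, [8, 10, 8, 12, 8, 7, 10, 8, 2], [217, 166, 216, 168]⟩, ⟨1903, [12, 10, 4, 8, 6, 10, 8, 7, 10, 8, 2], []⟩],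
  .tm 1 [10, 4, 8, 7, 10, 2, 8, 6, 10] [] [⟨2189, [], []⟩],
  .tm 11 [12, 7, 10, 8, 7, 10, 4, 8, 2, 4, 7] [] [⟨1608, [8, 10, 4, 2, 8, 4, 7], []⟩, ⟨140, [8, 12, 10, 8, 4, 8, 6, 10, 2], [166, 216, 166]⟩, ⟨1691, [12, 8, 6, 10, 8, 7, 10, 4, 2, 8, 15, 4], []⟩],
  .tm 1 [12, 8, 10, 8, 7, 10, 8, 6, 10, 4, 8, 0, 6, 10, 4, 7] [] [⟨2191, [], []⟩],
  .tm 11 [12, 10, 8, 4, 8, 10, 8, 6, 10, 4] [] [⟨1414, [8, 12, 10, 8, 7, 10, 4, 2, 8, 15, 4, 6], [267]⟩, ⟨140, [8, 12, 8, 10, 4, 8, 6, 10, 2], [217, 166, 216, 168]⟩, ⟨267, [8, 4, 8, 10, 8, 7, 10, 8, 2, 4], []⟩],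
  .tm 1 [8, 12, 8, 6, 10, 8, 4, 8, 0, 6, 10, 4] [] [⟨2193, [], []⟩],
  .tm 11 [6, 10, 8, 6, 10, 8, 4, 8, 4, 7] [] [⟨1649, [12, 7, 10, 8, 6, 10, 8, 7, 10, 4, 8, 15, 4, 7], []⟩, ⟨140, [7, 10, 8, 4, 8, 12, 6, 10, 2], [216, 166, 217, 168, 166]⟩, ⟨826, [8, 12, 8, 10, 8, 7, 10, 8, 10, 4, 8, 15, 7], []⟩],
  .tm 1 [12, 8, 7, 10, 8, 4, 8, 10, 8, 2, 15, 6] [] [⟨2195, [], []⟩],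
  .tm 11 [7, 10, 8, 7, 10, 8, 4, 8, 6, 10] [] [⟨1829, [8, 12, 8, 7, 10, 8, 4, 8, 6, 10], [267]⟩, ⟨140, [8, 7, 10, 4, 8, 12, 6, 10, 2], [168]⟩, ⟨753, [8, 10, 8, 4, 8, 10, 8, 4, 6], []⟩],
  .tm 1 [8, 12, 6, 10, 8, 10, 8, 4, 8, 6, 10, 8, 10, 4, 6] [] [⟨2197, [], []⟩],
  .tm 11 [4, 8, 10, 8, 10, 4, 7] [] [⟨2110, [8, 4, 8, 10, 4, 8, 7, 10, 8, 10, 4, 7], [269]⟩, ⟨140, [4, 8, 10, 8, 4, 8, 7, 10, 2], [217, 166, 216, 166, 168, 166]⟩, ⟨1405, [10, 8, 4, 8, 10, 8, 6, 10, 8, 10, 4, 6], []⟩],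
  .tm 1 [12, 4, 8, 7, 10, 8, 4, 8, 2, 6, 10, 4] [] [⟨2199, [], []⟩],
  .tm 11 [8, 12, 6, 10, 8, 7, 10, 8, 6, 10, 4, 8, 2, 6, 10] [] [⟨1235, [12, 10, 8, 6, 10, 8, 2, 4, 6], [267, 269, 267]⟩, ⟨140, [12, 8, 7, 10, 4, 8, 7, 10, 2], [217, 166, 216, 166]⟩, ⟨1405, [6, 10, 8, 7, 10, 8, 4, 2, 8, 15, 4, 7], []⟩],
  .tm 1 [12, 7, 10, 8, 6, 10, 8, 10] [] [⟨2201, [], []⟩],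
  .tm 11 [12, 7, 10, 8, 7, 10, 4, 8, 2, 15, 4, 7] [] [⟨771, [4, 2, 8, 4, 7], [267, 269, 267]⟩, ⟨140, [8, 12, 7, 10, 4, 8, 7, 10, 2], [168, 166, 217, 166, 168]⟩, ⟨1592, [8, 12, 8, 4, 8, 10, 8, 7, 10, 8, 0, 10, 4, 6], []⟩],
  .tm 1 [8, 12, 8, 7, 10, 8, 6, 10, 4, 8, 7, 10, 8, 10, 7] [] [⟨2203, [], []⟩],
  .tm 11 [7, 10, 8, 4, 8, 2] [] [⟨822, [12, 10, 8, 4, 8, 2, 4, 7], [269]⟩, ⟨140, [12, 4, 8, 10, 4, 8, 7, 10, 2], [216, 166, 217, 168, 166]⟩, ⟨1960, [12, 8, 10, 8, 4, 8, 0, 10, 4, 7], []⟩],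
  .tm 1 [12, 4, 8, 7, 10, 8, 4, 8, 2, 10] [] [⟨2205, [], []⟩],
  .tm 11 [4, 8, 10, 8, 6, 10, 8, 2, 10, 4] [] [⟨1949, [8, 12, 8, 7, 10, 8, 4, 8, 6, 10, 8, 0, 6, 10, 4], [269, 267]⟩, ⟨140, [4, 8, 10, 8, 12, 8, 7, 10, 2], [217]⟩, ⟨136, [12, 7, 10, 4, 8, 6, 10, 8, 6], []⟩],
  .tm 1 [8, 4, 8, 2, 4, 6] [] [⟨2207, [], []⟩],
  .tm 11 [8, 10, 8, 6, 10, 8, 7, 10, 4, 2, 8, 10, 4, 6] [] [⟨1460, [8, 4, 8, 10, 8, 4, 8, 10], [267, 269]⟩, ⟨140, [8, 12, 4, 8, 10, 4, 8, 10, 2], [166, 217]⟩, ⟨136, [12, 7, 10, 4, 8, 6, 10, 7], []⟩],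
  .tm 1 [7, 10, 8, 10, 8, 4, 8, 7, 10, 8, 4, 7] [] [⟨2209, [], []⟩],
  .tm 11 [8, 12, 6, 10, 8, 10, 8, 4, 8, 6, 10, 8, 4] [] [⟨1779, [8, 12, 4, 8, 4, 8, 10, 8, 6, 10, 8, 15, 7], [267]⟩, ⟨140, [10, 4, 8, 12, 10, 8, 4, 8, 4], [166]⟩, ⟨796, [7, 10, 8, 10, 8, 4, 8, 7, 10, 8, 10, 4, 7], []⟩],
  .tm 1 [12, 7, 10, 8, 4, 8, 15, 7] [] [⟨2211, [], []⟩],
  .tm 11 [8, 4, 8, 7, 10, 8, 6, 10, 8, 2, 10] [] [⟨1685, [8, 10, 4, 8, 6, 10, 8, 2, 6, 10, 4, 7], [267, 269]⟩, ⟨140, [10, 8, 12, 10, 8, 10, 4, 8, 4], [166, 216, 166, 168]⟩, ⟨102, [6, 10, 4, 8, 7, 10, 8, 2], []⟩],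
  .tm 1 [12, 8, 10, 4, 8, 7, 10, 8, 4, 8, 6, 10, 4, 7] [] [⟨2213, [], []⟩],
  .tm 11 [12, 4, 8, 4, 8, 10, 8, 7, 10, 8, 15, 7] [] [⟨1425, [12, 8, 4, 8, 10, 4, 8, 6, 10, 8, 7], [267, 269, 267]⟩, ⟨140, [12, 8, 7, 10, 4, 8, 6, 10, 4], [168, 166, 216, 166, 168, 166]⟩, ⟨1379, [12, 10, 8, 10, 4, 8, 7, 10, 8, 6, 10, 8, 15, 4, 6], []⟩],
  .tm 1 [8, 6, 10, 8, 10, 4, 8, 2, 6, 10, 4, 6] [] [⟨2215, [], []⟩],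
  .tm 11 [6, 10, 8, 4, 8, 6, 10, 8, 2, 10, 4, 6] [] [⟨1662, [6, 10, 8, 7, 10, 8, 2, 15, 6], [267, 269, 267]⟩, ⟨140, [8, 4, 8, 12, 10, 8, 6, 10, 4], [217, 166, 168]⟩, ⟨400, [8, 10, 8, 6, 10, 8, 4, 8, 7], []⟩],
  .tm 1 [4, 8, 10, 8, 6, 10, 4, 2, 8, 6, 10, 4, 6] [] [⟨2217, [], []⟩]]

theorem fc2142 : checkL (nat_lit 12) (nat_lit 4095) tH tK tK' BB FF TM XW d2142 (nat_lit 2142) = true := by decide +kernel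

def d2219 : List Der := [.tm 11 [8, 12, 8, 7, 10, 8, 10, 4, 6] [] [⟨1766, [2, 0, 4], [269]⟩, ⟨140, [6, 10, 8, 12, 10, 8, 7, 10, 4], [216, 166, 168]⟩, ⟨1905, [12, 8, 10, 4, 8, 7, 10, 8, 6, 10, 4, 8, 2, 6, 10, 7], []⟩],
  .tm 1 [8, 12, 10, 8, 4, 8, 6, 10, 8, 7, 10, 8, 6, 10, 4, 7] [] [⟨2219, [], []⟩],
  .tm 11 [10, 8, 7, 10, 8, 6, 10, 4, 8] [] [⟨1459, [12, 10, 8, 7, 10, 8, 6, 10, 4, 8, 15, 7], [267, 269]⟩, ⟨140, [12, 8, 7, 10, 4, 8, 12, 10, 4], [217, 166, 216, 166, 168]⟩, ⟨430, [4, 8, 4, 8, 7, 10, 8, 6, 10, 8, 15, 4], []⟩],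
  .tm 1 [8, 12, 7, 10, 2, 8, 6] [] [⟨2221, [], []⟩],
  .tm 11 [10, 8, 6, 10, 8, 4, 2, 8, 15, 7] [] [⟨1542, [12, 6, 10, 4, 2, 8, 4, 6], [269]⟩, ⟨140, [4, 8, 10, 8, 7, 10, 8, 12, 4], [217, 166, 216, 166]⟩, ⟨1960, [12, 7, 10, 8, 4, 8, 7, 10, 8, 2, 15, 4, 7], []⟩],
  .tm 1 [4, 8, 7, 10, 4, 8, 6, 10, 7] [] [⟨2223, [], []⟩],
  .tm 11 [8, 12, 4, 8, 7, 10, 8, 6, 10, 4, 8, 2, 10, 4, 6] [] [⟨2215, [8, 12, 7, 10, 8, 6, 10, 4, 2, 8, 15, 4, 6], [267]⟩, ⟨140, [10, 8, 12, 6, 10, 8, 4, 2, 8], [166, 168]⟩, ⟨753, [4, 8, 6, 10, 4, 8, 2, 10, 6], []⟩],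
  .tm 1 [8, 10, 4, 8, 6, 10, 8, 7, 10, 8, 2, 6, 10, 7] [] [⟨2225, [], []⟩],
  .tm 11 [12, 10, 4, 8, 6, 10, 8, 4, 8, 10, 7] [] [⟨1549, [12, 8, 7, 10, 8, 6, 10, 4, 8, 15], [269]⟩, ⟨140, [12, 7, 10, 4, 8, 6, 10, 4, 8], [168, 166, 217, 166, 168, 166]⟩, ⟨1592, [8, 12, 8, 4, 8, 10, 8, 7, 10, 8, 10, 4], []⟩],
  .tm 11 [8, 6, 10, 4, 8, 7, 10, 8, 2, 4, 7] [] [⟨2196, [12, 7, 10, 2, 8, 4], [269]⟩, ⟨140, [6, 10, 8, 4, 8, 12, 10, 4, 8], [166]⟩, ⟨824, [8, 12, 6, 10, 8, 10, 8, 4, 8, 6, 10, 8, 2, 10, 4], []⟩],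
  .tm 1 [12, 8, 10, 8, 7, 10, 8, 6, 10, 4, 8, 0, 15, 4, 7] [] [⟨2228, [], []⟩],
  .tm 11 [8, 10, 8, 6, 10, 4, 2, 8, 10] [] [⟨1880, [12, 10, 8, 6, 10, 8, 7, 10, 4, 8, 2, 10, 7], [267, 269, 267]⟩, ⟨140, [8, 10, 8, 6, 10, 8, 12, 4, 8], [217, 166, 216, 166]⟩, ⟨1960, [12, 10, 8, 4, 8, 0, 10, 4, 6], []⟩],
  .tm 1 [12, 8, 7, 10, 4, 8, 6, 10, 8, 6, 10, 4, 7] [] [⟨2230, [], []⟩],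
  .tm 11 [12, 4, 8, 10, 8, 6, 10, 2, 8] [] [⟨801, [12, 8, 10, 8, 4, 8, 7, 10, 2, 8, 15, 6], [269, 267]⟩, ⟨140, [12, 10, 4, 8, 4, 8, 7, 10, 8], [168, 166, 216, 166, 168, 166]⟩, ⟨1379, [12, 8, 4, 8, 10, 8, 7, 10, 2, 8, 10, 4], []⟩],
  .tm 1 [8, 4, 8, 6, 10, 2, 8, 10, 6] [] [⟨2232, [], []⟩],
  .tm 11 [8, 12, 10, 8, 6, 10, 8, 7, 10, 4, 8, 10, 4] [] [⟨1771, [10, 8, 4, 8, 7, 10, 8, 2, 6, 10, 4, 6], []⟩, ⟨140, [6, 10, 8, 4, 8, 12, 7, 10, 8], [166, 216, 168, 166]⟩, ⟨625, [8, 4, 8, 7, 10, 8, 2, 15, 6], []⟩],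
  .tm 1 [12, 4, 8, 10, 8, 4, 8, 7, 10, 8, 15, 4, 7] [] [⟨2234, [], []⟩],
  .tm 11 [4, 8, 10, 8, 4, 8, 7, 10, 8, 6, 10, 4] [] [⟨1527, [8, 4, 8, 10, 8, 7, 10, 8, 0, 15, 4, 7], [267, 269]⟩, ⟨140, [8, 12, 4, 8, 10, 2, 8, 6, 10], [217, 166, 216, 166]⟩, ⟨164, [8, 12, 10, 4, 8, 7, 10, 8, 10, 4], []⟩],
  .tm 1 [12, 6, 10, 8, 6, 10, 8, 4, 8, 15, 4, 7] [] [⟨2236, [], []⟩],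
  .tm 11 [6, 10, 8, 0, 6, 10, 4] [] [⟨2121, [8, 7, 10, 8, 6, 10, 8, 4, 8, 6, 10, 4, 7], [269]⟩, ⟨140, [12, 10, 8, 7, 10, 8, 12, 6, 10], [168, 166, 216, 166, 168]⟩, ⟨175, [6, 10, 8, 4, 8, 7, 10, 8, 2, 15, 4, 6], []⟩],
  .tm 1 [8, 12, 7, 10, 8, 6, 10, 8, 7, 10, 4, 8, 2, 7] [] [⟨2238, [], []⟩],
  .tm 11 [8, 12, 10, 8, 6, 10, 8, 0, 10, 4] [] [⟨1732, [12, 10, 4, 8, 7, 10, 8, 6, 10, 8, 2, 6, 10], [267, 269, 267]⟩, ⟨140, [8, 7, 10, 4, 8, 12, 2, 8, 10], [216, 166, 168]⟩, ⟨727, [8, 4, 8, 6, 10, 8, 4, 8, 6, 10], []⟩],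
  .tm 1 [10, 8, 6, 10, 8, 7, 10, 4, 8, 6, 10] [] [⟨2240, [], []⟩],
  .tm 11 [8, 12, 4, 8, 10, 8, 6, 10, 8, 2] [] [⟨2121, [8, 12, 8, 4, 8, 10, 8, 7, 10, 8, 0, 6, 10, 4], []⟩, ⟨140, [7, 10, 8, 6, 10, 8, 4, 8, 10], [216, 166, 217, 166, 168, 166]⟩, ⟨430, [10, 8, 6, 10, 8, 10, 4, 8, 7], []⟩],
  .tm 1 [12, 8, 4, 8, 7, 10, 8, 0, 10, 7] [] [⟨2242, [], []⟩],
  .tm 11 [10, 8, 7, 10, 4, 8, 2, 6, 10, 4, 7] [] [⟨771, [12, 8, 4, 8, 2, 4, 7], [269, 267]⟩, ⟨140, [4, 8, 7, 10, 8, 7, 10, 8, 12], [168, 166, 216]⟩, ⟨2075, [8, 12, 8, 10, 8, 6, 10, 8, 10, 4, 8, 2, 10, 4, 7], []⟩],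
  .tm 1 [12, 6, 10, 8, 10, 8, 4, 8, 6, 10, 8, 2, 15, 6] [] [⟨2244, [], []⟩],
  .tm 11 [12, 8, 6, 10, 8, 7, 10, 4, 8, 6, 10, 8, 2, 10, 6] [] [⟨1649, [8, 7, 10, 8, 10, 4, 8, 2, 4], [269]⟩, ⟨140, [12, 8, 6, 10, 8, 12, 4, 8, 4, 0], [168, 166, 217, 166]⟩, ⟨95, [8, 10, 4, 2, 8, 4, 7], []⟩],
  .tm 1 [8, 12, 8, 10, 4, 8, 7, 10, 8, 0, 10, 4, 7] [] [⟨2246, [], []⟩],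
  .tm 11 [8, 12, 4, 8, 4, 8, 10, 8, 7, 10, 8, 10, 7] [] [⟨1926, [8, 12, 4, 8, 10, 4, 8, 7, 10, 2, 8, 6], [269]⟩, ⟨140, [12, 10, 8, 10, 8, 12, 4, 8, 4, 0], [168, 166, 216, 168, 166]⟩, ⟨306, [8, 10, 8, 10, 4, 8, 6, 10, 8, 10, 4, 6], []⟩],
  .tm 1 [12, 4, 8, 7, 10, 8, 6, 10, 8, 15, 7] [] [⟨2248, [], []⟩],
  .tm 11 [8, 12, 7, 10, 8, 10, 8, 4, 8, 7, 10, 8, 6] [] [⟨508, [8, 12, 10, 8, 4, 2, 8, 6], [267]⟩, ⟨140, [8, 10, 8, 6, 10, 8, 12, 4, 8, 0], [217, 166, 216, 166]⟩, ⟨1960, [12, 8, 10, 8, 4, 8, 10, 4, 6], []⟩],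
  .tm 1 [7, 10, 8, 6, 10, 8, 4, 8, 2, 6, 10, 4, 7] [] [⟨2250, [], []⟩],
  .tm 11 [8, 12, 10, 4, 8, 6, 10, 8, 0, 6, 10, 4] [] [⟨1648, [12, 6, 10, 8, 7, 10, 4, 2, 8, 15, 4], [269]⟩, ⟨140, [8, 10, 8, 6, 10, 8, 12, 10, 8, 0], []⟩, ⟨824, [8, 12, 10, 8, 10, 8, 4, 8, 6, 10, 8, 2, 10, 4, 6], []⟩],
  .tm 1 [7, 10, 8, 6, 10, 4, 8, 0, 15, 6] [] [⟨2252, [], []⟩],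
  .tm 11 [4, 8, 7, 10, 4, 8, 10, 4] [] [⟨967, [8, 4, 8, 2, 4, 7], [267, 269]⟩, ⟨140, [8, 4, 8, 10, 8, 4, 8, 6, 10, 0], [216]⟩, ⟨2075, [8, 12, 8, 10, 8, 7, 10, 8, 6, 10, 4, 8, 4], []⟩],
  .tm 1 [12, 8, 7, 10, 8, 10, 4, 8, 2, 6] [] [⟨2254, [], []⟩],
  .tm 11 [4, 8, 10, 2, 8, 15, 6] [] [⟨2215, [10, 8, 10, 8, 4, 8, 2, 4], [267, 269]⟩, ⟨140, [8, 10, 8, 10, 4, 8, 12, 6, 10, 0], [217, 166, 168]⟩, ⟨818, [8, 12, 10, 4, 8, 6, 10, 8, 7, 10, 4, 8, 2, 10, 7], []⟩],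
  .tm 1 [12, 8, 10, 4, 8, 7, 10, 8, 4, 8, 2, 15, 7] [] [⟨2256, [], []⟩],
  .tm 11 [12, 10, 2, 8, 15, 4] [] [⟨1639, [4, 8, 6, 10, 8, 7, 10, 4, 8, 0, 15, 6], [269, 267]⟩, ⟨140, [7, 10, 8, 12, 10, 4, 8, 4, 8, 2], [168, 166]⟩, ⟨757, [12, 8, 10, 8, 0, 10], []⟩],
  .tm 1 [8, 12, 8, 4, 8, 10, 8, 6, 10, 2, 8] [] [⟨2258, [], []⟩],
  .tm 11 [8, 12, 8, 6, 10, 8, 4, 8, 6, 10, 8, 4, 7] [] [⟨2202, [12, 10, 8, 7, 10, 2, 8, 6, 10, 4, 6], [267]⟩, ⟨140, [4, 8, 10, 8, 7, 10, 8, 12, 8, 2], [166, 168]⟩, ⟨784, [6, 10, 8, 6, 10, 4, 8, 2, 6, 10, 4, 7], []⟩],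
  .tm 1 [12, 8, 6, 10, 8, 7, 10, 8, 4, 8, 6, 10, 7] [] [⟨2260, [], []⟩],
  .tm 11 [8, 12, 8, 10, 8, 4, 2, 8, 4, 7] [] [⟨1434, [12, 10, 4, 8, 7, 10, 8, 6, 10, 8, 15, 4, 6], [267, 269, 267]⟩, ⟨140, [8, 2], [168, 166, 217, 166, 168]⟩, ⟨400, [8, 4, 8, 10, 8, 6, 10, 4, 8, 2, 4, 6], []⟩],
  .tm 1 [8, 4, 8, 6, 10, 8, 4, 8, 2, 7] [] [⟨2262, [], []⟩],
  .tm 11 [12, 10, 8, 10, 8, 4, 8, 2, 15, 4, 6] [] [⟨2174, [12, 8, 7, 10, 8, 6, 10, 4, 8, 0, 6, 10, 7], []⟩, ⟨140, [6, 10, 8, 4], [216, 166]⟩, ⟨911, [12, 8, 4, 8, 10, 8, 7, 10, 8, 0, 10, 4], []⟩],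
  .tm 1 [8, 7, 10, 8, 6, 10, 8, 4, 8, 0, 15, 6] [] [⟨2264, [], []⟩],
  .tm 11 [10, 8, 7, 10, 8, 4, 8, 2, 15] [] [⟨2144, [8, 12, 8, 10, 8, 4, 8, 6, 10, 8, 0, 10], [269]⟩, ⟨140, [12, 10, 8, 10], [216, 166]⟩, ⟨1691, [12, 8, 7, 10, 8, 7, 10, 4, 8, 2, 15, 4, 6], []⟩],
  .tm 1 [8, 12, 10, 8, 4, 8, 7, 10, 8, 6] [] [⟨2266, [], []⟩],
  .tm 11 [7, 10, 8, 10, 8, 4, 8, 2, 6, 10, 7] [] [⟨1839, [12, 4, 2, 8, 10], [269]⟩, ⟨140, [10, 8, 10, 4, 8], [216, 166, 217, 168, 166]⟩, ⟨1903, [12, 10, 8, 15, 4, 7], []⟩],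
  .tm 1 [8, 12, 4, 8, 6, 10, 8, 7, 10, 8, 2, 6, 10, 4, 6] [] [⟨2268, [], []⟩],
  .tm 11 [7, 10, 8, 6, 10, 4, 8] [] [⟨740, [12, 7, 10, 4, 8, 0, 10, 6], [267, 269]⟩, ⟨140, [10, 8, 12, 4, 8], [166, 216, 166, 168, 166]⟩, ⟨2033, [4, 8, 7, 10, 8, 4, 8, 2, 10, 4, 7], []⟩],
  .tm 1 [8, 12, 8, 7, 10, 2, 8, 10, 4] [] [⟨2270, [], []⟩],
  .tm 11 [8, 10, 8, 6, 10, 4, 8, 15, 7] [] [⟨590, [12, 4, 8, 4, 8, 7, 10, 8, 6, 10, 8, 15, 4, 7], [269, 267]⟩, ⟨140, [6, 10, 8, 10, 8, 4], [168, 166, 216, 166, 168]⟩, ⟨1218, [4, 8, 7, 10, 8, 4, 8, 2, 10, 4], []⟩],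
  .tm 1 [8, 12, 8, 7, 10, 8, 6, 10, 8, 2, 10, 4, 6] [] [⟨2272, [], []⟩],
  .tm 11 [4, 8, 10, 8, 7, 10, 8, 6, 10, 4, 7] [] [⟨1685, [8, 12, 8, 10, 8, 10, 4, 8, 7, 10, 8, 6, 10, 7], []⟩, ⟨140, [8, 7, 10, 8, 12, 10], [168, 166, 216, 166]⟩, ⟨635, [8, 12, 7, 10, 8, 0], []⟩],
  .tm 1 [8, 12, 8, 4, 8, 10, 2, 8, 15] [] [⟨2274, [], []⟩],
  .tm 11 [4, 8, 7, 10, 2, 8, 10, 4] [] [⟨2252, [12, 4, 8, 10, 4, 8, 2, 6], [269, 267]⟩, ⟨140, [8, 10, 4, 8, 7, 10, 4], [217, 166, 216, 166, 168, 166]⟩, ⟨1405, [7, 10, 4, 8, 6, 10, 8, 6, 10, 4, 6], []⟩],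
  .tm 1 [12, 8, 7, 10, 8, 6, 10, 4, 2, 8] [] [⟨2276, [], []⟩],
  .tm 12 [12, 10, 8, 4, 8, 6, 10, 8, 15, 4, 7] [] [⟨2198, [4, 8, 10, 4, 8, 6, 10, 2, 8, 6, 10], [267]⟩, ⟨140, [12, 8, 4, 8, 10, 8, 12, 2], [216, 166, 217, 166]⟩, ⟨319, [12, 10, 8, 10, 4, 8, 6, 10, 2, 8, 4], []⟩],
  .tm 1 [4, 8, 10, 4, 8, 7] [] [⟨2278, [], []⟩],
  .tm 12 [4, 8, 10, 4, 8, 7, 10, 8, 6] [] [⟨2257, [8, 4, 8, 10, 8, 7, 10, 4, 8, 2, 15], [267]⟩, ⟨140, [8, 12, 8, 6, 10, 2, 8, 4], [166, 216, 168, 166]⟩, ⟨1405, [12, 7, 10, 8, 6, 10, 4, 2, 8, 15, 4, 6], []⟩],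
  .tm 1 [8, 12, 4, 8, 10, 8, 4, 8, 2, 15] [] [⟨2280, [], []⟩],
  .tm 12 [8, 4, 8, 10, 8, 7, 10, 8, 0] [] [⟨2257, [8, 10, 8, 7, 10, 8, 6, 10, 4, 8, 2, 15, 4], [267, 269, 267]⟩, ⟨140, [10, 8, 6, 10, 8, 7, 10, 4], [217, 166, 168]⟩, ⟨1415, [10, 8, 6, 10, 8, 7, 10, 8, 2, 6], []⟩],
  .tm 1 [12, 8, 10, 8, 0, 10, 6] [] [⟨2282, [], []⟩],
  .tm 12 [8, 12, 8, 10, 8, 6, 10, 4, 8, 7, 10, 8] [] [⟨2237, [8, 7, 10, 8, 6, 10, 4, 2, 8, 6, 10, 6], [267]⟩, ⟨140, [8, 10, 8, 4, 8, 12, 6, 10], [166, 216, 168]⟩, ⟨901, [8, 12, 8, 10, 4, 8, 15, 7], []⟩],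
  .tm 1 [8, 10, 4, 8, 7, 10, 8, 6, 10, 4, 8, 2, 10, 6] [] [⟨2284, [], []⟩],
  .tm 12 [12, 8, 4, 8, 7, 10, 8, 4, 8, 2, 4] [] [⟨2257, [8, 10, 8, 7, 10, 8, 6, 10, 4, 2, 8, 15, 4], [269]⟩, ⟨140, [8, 7, 10, 4, 8, 12, 6, 10], [168, 166, 217, 166, 168, 166]⟩, ⟨840, [6, 10, 4, 8, 2, 4], []⟩],
  .tm 1 [8, 12, 4, 8, 10, 8, 4, 8, 6, 10, 8, 6, 10] [] [⟨2286, [], []⟩],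
  .tm 12 [12, 8, 4, 8, 10, 8, 2, 6, 10] [] [⟨2198, [10, 8, 6, 10, 4, 8, 7, 10, 8, 2, 6, 10, 4, 6], [269]⟩, ⟨140, [6, 10, 8, 4, 8, 12, 7, 10, 0], [166]⟩, ⟨1121, [8, 10, 4, 8, 6, 10, 8, 7, 10, 8, 2, 6, 10, 7], []⟩],
  .tm 1 [8, 12, 10, 8, 10, 8, 4, 8, 6, 10, 8, 15, 4, 6] [] [⟨2288, [], []⟩],
  .tm 12 [8, 12, 4, 8, 10, 8, 4, 8, 6, 10, 8, 0] [] [⟨930, [4, 8, 4, 8, 10, 8, 6, 10, 8, 2, 6, 10, 4, 6], [269]⟩, ⟨140, [12, 10, 8, 7, 10, 8, 6, 10, 2], [217, 166]⟩, ⟨2193, [4, 8, 7, 10, 8, 6, 10, 8, 2, 6, 10, 4, 6], []⟩],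
  .tm 1 [12, 8, 7, 10, 8, 6, 10, 4, 8, 15] [] [⟨2290, [], []⟩],
  .tm 13 [12, 6, 10, 8, 7, 10, 4, 8, 6, 10, 4, 6] [] [⟨2285, [8, 2, 10, 7], [267]⟩, ⟨140, [8, 2], [168, 166, 217, 166]⟩, ⟨95, [4, 8, 10, 8, 7, 10, 8, 10, 4, 7], []⟩],
  .tm 1 [8, 12, 7, 10, 8, 4, 8, 6, 10, 8, 10, 4] [] [⟨2292, [], []⟩]]

theorem fc2219 : checkL (nat_lit 12) (nat_lit 4095) tH tK tK' BB FF TM XW d2219 (nat_lit 2219) = true := by decide +kernel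

def d2294 : List Der := [.tm 38 [12, 10, 8, 4, 8, 6, 10, 8, 0, 6, 10, 4, 6] [] [⟨877, [6, 10, 4, 2, 8, 10, 4, 6], [267, 269, 267]⟩, ⟨140, [6, 10, 8, 12, 4], [166, 216, 166, 168]⟩, ⟨2033, [7, 10, 8, 4, 8, 2, 10], []⟩],
  .tm 1 [12, 6, 10, 8, 7, 10, 4, 8, 0, 15, 4] [] [⟨2294, [], []⟩],
  .tm 23 [4, 8, 6, 10, 4, 8, 2, 15, 4, 6] [] [⟨1831, [8, 4, 8, 6, 10, 8, 7, 10, 4, 8, 2, 15], [269, 267]⟩, ⟨140, [4, 8, 12, 10, 4], [168, 166, 217, 168]⟩, ⟨1699, [8, 12, 10, 8, 10, 8, 4, 8, 6, 10, 8, 2, 15, 4, 7], []⟩],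
  .tm 1 [12, 4, 8, 10, 4, 8, 7, 10, 2, 8, 10, 6] [] [⟨2296, [], []⟩],
  .tm 23 [8, 12, 8, 10, 8, 6, 10, 8, 7, 10, 8, 2, 6] [] [⟨859, [4, 8, 6, 10, 4, 8, 7, 10, 8, 2, 15, 6], [269]⟩, ⟨140, [8, 4, 8, 12, 4], [166, 216, 166, 168, 166]⟩, ⟨1983, [8, 10, 8, 4, 8, 2, 15, 4], []⟩],
  .tm 1 [8, 12, 2, 6, 10, 7] [] [⟨2298, [], []⟩],
  .tm 23 [8, 10, 8, 6, 10, 4, 8, 7, 10, 8, 2, 4] [] [⟨1831, [8, 10, 8, 7, 10, 8, 4, 2, 8, 15, 4, 7], [269]⟩, ⟨140, [12, 10, 8, 7, 10], [168, 166, 216, 166]⟩, ⟨850, [12, 8, 4, 8, 10, 4, 8, 6, 10, 8, 2, 4, 6], []⟩],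
  .tm 1 [8, 6, 10, 8, 7, 10, 8, 4, 6] [] [⟨2300, [], []⟩],
  .tm 23 [12, 7, 10, 8, 4, 8, 2, 6, 10] [] [⟨703, [8, 10, 8, 4, 8, 6, 10, 8, 2, 6, 10, 4, 6], []⟩, ⟨140, [10, 8, 12, 10, 4, 0], [166, 168, 166]⟩, ⟨1903, [7, 10, 8, 6, 10, 8, 7, 10, 4, 8, 4, 7], []⟩],
  .tm 1 [10, 8, 7, 10, 8, 15, 6] [] [⟨2302, [], []⟩],
  .tm 23 [8, 12, 4, 8, 10, 4, 8, 6, 10, 8, 0, 10, 7] [] [⟨359, [6, 10, 8, 6, 10, 7], [269]⟩, ⟨140, [6, 10, 8, 6, 10, 0], [166, 216, 166]⟩, ⟨1981, [10, 8, 7, 10, 8, 6, 10, 8, 6], []⟩],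
  .tm 1 [8, 4, 8, 2, 15] [] [⟨2304, [], []⟩],
  .tm 23 [8, 12, 8, 4, 8, 10, 8, 4, 8, 6, 10] [] [⟨1908, [4, 8, 6, 10, 4, 8, 7, 10, 8, 2, 15, 6], [269]⟩, ⟨140, [4, 8, 4, 8, 12, 0], [217, 166, 216, 168, 166]⟩, ⟨1624, [8, 6, 10, 8, 7, 10, 4, 8, 0, 6, 10], []⟩],
  .tm 1 [8, 12, 10, 8, 6, 10, 8, 7, 10, 8, 6, 10, 4, 7] [] [⟨2306, [], []⟩],
  .tm 23 [12, 6, 10, 8, 10, 4, 8, 2, 6, 10, 4, 7] [] [⟨2257, [8, 7, 10, 8, 6, 10, 4, 8, 7, 10, 8, 2, 6, 10, 4, 6], [267, 269, 267]⟩, ⟨140, [8, 6, 10, 8, 4, 2], [216, 166, 217, 166]⟩, ⟨497, [8, 12, 7, 10, 8, 10, 4, 8, 2, 15, 7], []⟩],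
  .tm 1 [8, 12, 8, 10, 8, 7, 10, 8, 10, 4, 8, 10, 6] [] [⟨2308, [], []⟩],
  .tm 23 [8, 12, 8, 10, 8, 7, 10, 8, 6, 10, 4, 2, 8, 7] [] [⟨1474, [12, 10, 8, 6, 10, 8, 4, 8, 2, 6, 10, 4], [269, 267]⟩, ⟨140, [8, 10, 8, 12, 6, 10, 0], [216]⟩, ⟨1875, [8, 12, 6, 10, 8, 0, 10, 4, 7], []⟩],
  .tm 1 [8, 6, 10, 8, 10, 4, 8, 2, 6, 10, 4, 7] [] [⟨2310, [], []⟩],
  .tm 23 [8, 12, 4, 8, 7, 10, 4, 8, 6, 10, 8, 2, 15, 4, 6] [] [⟨2198, [7, 10, 8, 10, 8, 4, 8, 7, 10, 8, 2, 10, 4, 6], [269, 267]⟩, ⟨140, [8, 12, 10, 4, 8, 10, 0], [168, 166, 217, 166, 168]⟩, ⟨497, [7, 10, 8, 4, 6], []⟩],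
  .tm 1 [12, 10, 8, 10, 4, 8, 2, 7] [] [⟨2312, [], []⟩],
  .tm 23 [12, 4, 8, 6, 10, 4, 8, 10, 4, 7] [] [⟨1908, [8, 10, 4, 8, 7, 10, 8, 6, 10, 4, 8, 2, 15, 7], [269]⟩, ⟨140, [4, 8, 7, 10, 8, 12, 0], [168, 166, 217, 168]⟩, ⟨685, [8, 12, 7, 10, 4, 8, 0, 15, 4], []⟩],
  .tm 1 [8, 12, 10, 8, 10, 4, 8, 7, 10, 8, 7] [] [⟨2314, [], []⟩],
  .tm 23 [12, 8, 6, 10, 8, 4, 2, 8, 6] [] [⟨2237, [7, 10, 8, 7, 10, 8, 4, 8, 2, 15], [269]⟩, ⟨140, [8, 10, 4, 8, 12, 4, 2], [217, 166]⟩, ⟨862, [4, 8, 10, 8, 4, 8, 6, 10, 8, 0, 6, 10, 4], []⟩],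
  .tm 1 [12, 8, 10, 8, 6, 10, 4, 8, 7, 10, 8, 6, 10, 4, 6] [] [⟨2316, [], []⟩],
  .tm 23 [12, 8, 10, 8, 4, 2, 8, 10, 4, 6] [] [⟨2237, [10, 4, 8, 6, 10, 8, 7, 10, 8, 2, 6, 10, 7], []⟩, ⟨140, [8, 4, 8, 12, 2, 8, 4], [166, 168, 166]⟩, ⟨1121, [12, 8, 4, 8, 0], []⟩],
  .tm 1 [8, 12, 4, 8, 7, 10, 4, 8, 2, 6, 10, 4, 6] [] [⟨2318, [], []⟩],
  .tm 23 [6, 10, 8, 7, 10, 8, 6, 10, 4, 8, 10] [] [⟨1919, [12, 8, 6, 10, 8, 7, 10, 4, 8, 6, 10, 8, 10, 4], [267, 269]⟩, ⟨140, [10, 4, 2, 8, 12, 10, 4], [168, 166, 217, 168]⟩, ⟨518, [8, 12, 8, 10, 8, 4, 8, 10, 8, 2, 10, 7], []⟩],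
  .tm 1 [12, 8, 4, 8, 10, 8, 15, 7] [] [⟨2320, [], []⟩],
  .tm 23 [6, 10, 8, 7, 10, 8, 4, 8, 2, 15] [] [⟨441, [8, 4, 8, 6, 10, 8, 7, 10, 4, 8, 2, 15, 6], []⟩, ⟨140, [8, 10, 8, 12, 8, 6, 10], [168, 166, 216]⟩, ⟨1875, [8, 10, 8, 7, 10, 4, 8, 6, 10, 8, 2, 10], []⟩],
  .tm 1 [8, 12, 8, 6, 10, 8, 7, 10, 4, 8, 6] [] [⟨2322, [], []⟩],
  .tm 23 [12, 10, 8, 7, 10, 8, 0, 15, 4, 6] [] [⟨2198, [10, 4, 8, 7, 10, 8, 0, 15, 4, 7], [269]⟩, ⟨140, [8, 4, 8, 12, 8, 7, 10, 0], [168, 166, 217, 168]⟩, ⟨291, [8, 12, 8, 10, 4, 8, 6, 10, 8, 2], []⟩],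
  .tm 1 [12, 4, 8, 10, 8, 4, 8, 15, 4, 7] [] [⟨2324, [], []⟩],
  .tm 23 [8, 12, 8, 4, 8, 10, 8, 7, 10, 4, 8, 2, 10, 7] [] [⟨1919, [12, 10, 4, 8, 7, 10, 8, 4, 8, 2, 6, 10, 6], [269]⟩, ⟨140, [4, 8, 12, 8, 4, 8, 10, 0], [166, 217, 168, 166]⟩, ⟨350, [8, 12, 10, 4, 8, 6, 10, 8, 4, 8, 2, 15, 4, 6], []⟩],
  .tm 1 [12, 8, 6, 10, 8, 4, 8, 7, 10, 8, 0] [] [⟨2326, [], []⟩],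
  .tm 23 [12, 10, 4, 8, 2, 4, 6] [] [⟨1831, [6, 10, 8, 10, 8, 4, 8, 4], [269]⟩, ⟨140, [12, 4, 8, 4, 8, 6, 10, 2], [216, 166, 217, 166, 168, 166]⟩, ⟨923, [12, 7, 10, 8, 4, 8, 6, 10, 8, 0, 10], []⟩],
  .tm 1 [10, 8, 7, 10, 8, 10, 4, 8, 10, 6] [] [⟨2328, [], []⟩],
  .tm 23 [12, 8, 10, 4, 8, 6, 10, 8, 4, 8, 2, 6, 10, 7] [] [⟨1830, [8, 12, 8, 10, 4, 8, 7, 10, 8, 6, 10, 8, 15, 4, 7], [269, 267]⟩, ⟨140, [8, 12, 10, 8, 10, 4, 8, 10], [217]⟩, ⟨486, [8, 12, 8, 10, 4, 8, 6, 10, 8, 2, 6, 10], []⟩],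
  .tm 1 [8, 6, 10, 8, 2, 10, 4, 6] [] [⟨2330, [], []⟩],
  .tm 23 [12, 6, 10, 8, 10, 8, 4, 8, 6, 10, 8, 10, 6] [] [⟨1831, [10, 8, 7, 10, 8, 4, 8, 2, 15, 4, 6], [269, 267]⟩, ⟨140, [10, 8, 4, 8, 10, 8, 12, 10], [217, 166, 216, 166]⟩, ⟨269, [8, 12, 4, 8, 10, 8, 6, 10, 8, 2, 6, 10], []⟩],
  .tm 16 [12, 8, 10, 8, 4, 8, 6, 10, 8, 2, 6, 10] [] [⟨1516, [12, 6, 10, 4, 2, 8, 6, 10], [267, 269]⟩, ⟨140, [6, 10, 4, 8, 10], [217, 166, 216, 166]⟩, ⟨1903, [12, 8, 7, 10, 8, 2, 6, 10, 4, 7], []⟩],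
  .tm 1 [8, 6, 10, 8, 10, 4, 8, 6, 10, 4, 6] [] [⟨2333, [], []⟩],
  .tm 16 [12, 6, 10, 4, 8, 2, 4, 7] [] [⟨2155, [10, 8, 10, 8, 4, 8, 4], [267, 269, 267]⟩, ⟨140, [8, 10, 2, 8, 12], [216, 166, 217, 166]⟩, ⟨430, [6, 10, 8, 7, 10, 8, 4, 2, 8, 6, 10, 7], []⟩],
  .tm 1 [4, 8, 6, 10, 4, 8, 15] [] [⟨2335, [], []⟩],
  .tm 16 [12, 8, 6, 10, 8, 2, 4, 6] [] [⟨2310, [12, 8, 6, 10, 8, 6, 10, 8, 4, 8, 2, 10, 4], [267]⟩, ⟨140, [12, 8, 6, 10, 8, 0], [216, 166, 217, 168, 166]⟩, ⟨1960, [12, 4, 8, 7, 10, 8, 0, 10, 4, 7], []⟩],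
  .tm 1 [8, 4, 8, 10, 8, 6, 10, 8, 2, 7] [] [⟨2337, [], []⟩],
  .tm 16 [8, 12, 7, 10, 8, 6, 10, 4, 8, 0, 4, 7] [] [⟨1994, [8, 12, 8, 10, 8, 4, 8, 6, 10, 8, 6, 10, 4], [267, 269]⟩, ⟨140, [10, 8, 12, 2, 8, 4], [216, 166]⟩, ⟨635, [8, 12, 8, 7, 10, 4, 8, 6, 10, 8, 2, 10, 4], []⟩],
  .tm 1 [8, 12, 4, 8, 7, 10, 8, 0, 10, 7] [] [⟨2339, [], []⟩],
  .tm 16 [8, 12, 8, 10, 4, 8, 7, 10, 8, 6, 10, 4, 8, 2, 6, 10, 4, 6] [] [⟨2084, [7, 10, 8, 6, 10, 8, 4, 8, 2, 6, 10, 4], []⟩, ⟨140, [4, 8, 7, 10, 8, 4], [166]⟩, ⟨1075, [8, 10, 8, 7, 10, 4, 8, 15, 4, 6], []⟩],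
  .tm 1 [4, 8, 10, 8, 7, 10, 8, 0, 10, 7] [] [⟨2341, [], []⟩],
  .tm 16 [10, 8, 6, 10, 4, 2, 8, 10, 4, 7] [] [⟨1880, [8, 12, 8, 4, 8, 10, 8, 7, 10, 4, 8, 2, 6, 10, 4, 7], [267, 269, 267]⟩, ⟨140, [8, 10, 8, 12, 6, 10], [217, 166, 216, 166, 168, 166]⟩, ⟨321, [12, 8, 6, 10, 8, 4, 8, 15, 4, 7], []⟩],
  .tm 1 [12, 6, 10, 8, 7, 10, 8, 10, 4] [] [⟨2343, [], []⟩],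
  .tm 16 [8, 12, 8, 7, 10, 8, 2, 15, 7] [] [⟨2155, [12, 10, 8, 6, 10, 8, 7, 10, 4, 8, 0, 15, 4, 6], [267, 269, 267]⟩, ⟨140, [8, 12, 10, 8, 4, 8, 0], [216, 166, 168, 166]⟩, ⟨1379, [12, 4, 8, 10, 8, 4, 8, 7, 10, 8, 0, 10, 6], []⟩],
  .tm 1 [6, 10, 8, 10, 8, 4, 8, 2, 4] [] [⟨2345, [], []⟩],
  .tm 16 [8, 4, 8, 10, 4, 7] [] [⟨2111, [8, 12, 7, 10, 8, 0, 10, 4], [267]⟩, ⟨140, [12, 8, 6, 10, 8, 4, 2], []⟩, ⟨784, [8, 6, 10, 8, 4, 8, 7, 10, 8, 15, 4, 7], []⟩],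
  .tm 1 [8, 10, 8, 4, 8, 0, 6, 10, 6] [] [⟨2347, [], []⟩],
  .tm 16 [8, 12, 8, 10, 4, 8, 7, 10, 8, 6, 10, 4, 8, 15, 4] [] [⟨970, [8, 12, 8, 7, 10, 4, 8, 0, 4], [267]⟩, ⟨140, [8, 7, 10, 8, 10, 4, 2], [217, 166, 216, 166]⟩, ⟨1903, [12, 8, 10, 4, 8, 7, 10, 4, 8, 4, 6], []⟩],
  .tm 1 [8, 12, 8, 15] [] [⟨2349, [], []⟩],
  .tm 16 [8, 12, 4, 8, 6, 10, 8, 4, 8, 2, 10, 4, 7] [] [⟨1882, [8, 12, 7, 10, 8, 6, 10, 8, 7, 10, 4, 8, 10], [269]⟩, ⟨140, [8, 4, 8, 12, 7, 10, 2], [168]⟩, ⟨1552, [10, 8, 4, 8, 6, 10, 8, 0, 6, 10, 4], []⟩],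
  .tm 1 [8, 12, 7, 10, 8, 4, 8, 7, 10, 8, 2, 6, 10, 4, 6] [] [⟨2351, [], []⟩],
  .tm 16 [8, 10, 8, 6, 10, 8, 0, 10, 7] [] [⟨2187, [8, 12, 4, 8, 10, 4, 8], [267]⟩, ⟨140, [12, 8, 10, 4, 2, 8, 4], []⟩, ⟨753, [4, 8, 6, 10, 8, 7, 10, 4, 8, 0, 15, 7], []⟩],
  .tm 1 [6, 10, 8, 10, 8, 4, 8, 2, 6, 10] [] [⟨2353, [], []⟩],
  .tm 16 [8, 12, 4, 8, 4, 8, 10, 8, 7, 10, 8, 10, 6] [] [⟨2084, [12, 8, 4, 8, 10, 8, 7, 10, 2, 8, 6, 10, 4, 6], []⟩, ⟨140, [4, 2, 8, 12, 7, 10, 4], [217, 166, 216, 166]⟩, ⟨164, [8, 12, 10, 8, 7, 10, 8, 6, 10, 4, 8, 0, 6, 10, 4, 7], []⟩],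
  .tm 1 [4, 8, 7, 10, 8, 0, 15, 7] [] [⟨2355, [], []⟩],
  .tm 16 [10, 8, 6, 10, 4, 8, 2, 10, 4, 6] [] [⟨1745, [12, 10, 8, 6, 10, 8, 7, 10, 4, 8, 0, 4], [269]⟩, ⟨140, [10, 8, 12, 4, 8, 10, 8], [216, 166, 217, 166, 168]⟩, ⟨1960, [12, 8, 10, 8, 4, 8, 10, 4], []⟩],
  .tm 16 [8, 12, 8, 4, 8, 6, 10, 8, 7, 10, 4, 8, 15, 4, 7] [] [⟨2121, [10, 8, 4, 8, 10, 8, 7, 10, 8, 10, 4, 7], [269]⟩, ⟨140, [12, 8, 7, 10, 2, 8, 12], [168, 166, 217, 166, 168]⟩, ⟨400, [8, 10, 4, 8, 6, 10, 8, 7, 10, 4, 8, 10, 4, 6], []⟩],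
  .tm 1 [8, 6, 10, 8, 10, 4, 8, 10] [] [⟨2358, [], []⟩],
  .tm 16 [8, 4, 8, 6, 10, 8, 2, 15, 4, 7] [] [⟨2290, [8, 12, 4, 8, 6, 10, 2, 8, 10], [269, 267]⟩, ⟨140, [10, 4, 8, 12, 6, 10, 4, 0], [217, 166, 168, 166]⟩, ⟨639, [12, 4, 8, 7, 10, 8, 6, 10, 4, 8, 10, 4], []⟩],
  .tm 1 [12, 4, 8, 0, 15, 4, 7] [] [⟨2360, [], []⟩],
  .tm 16 [12, 6, 10, 4, 2, 8, 10, 4, 7] [] [⟨2187, [7, 10, 8, 6, 10, 4, 8, 0, 6, 10, 4, 6], []⟩, ⟨140, [12, 8, 6, 10, 8, 12, 4, 0], [168, 166, 216, 166, 168]⟩, ⟨727, [4, 8, 2, 10, 4, 6], []⟩],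
  .tm 1 [8, 12, 8, 4, 8, 7, 10, 8, 6, 10, 8, 2, 6, 10, 4, 6] [] [⟨2362, [], []⟩],
  .tm 16 [12, 6, 10, 8, 4, 8, 2, 6, 10, 4, 6] [] [⟨2358, [12, 8, 10, 8, 4, 2, 8, 6, 10, 4], [269, 267]⟩, ⟨140, [4, 8, 4, 8, 12, 7, 10, 0], [217, 166]⟩, ⟨166, [10, 8, 6, 10, 4, 2, 8, 6, 10, 4, 6], []⟩],
  .tm 1 [12, 7, 10, 8, 4, 8, 7, 10, 8, 2, 15, 6] [] [⟨2364, [], []⟩],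
  .tm 16 [8, 12, 8, 4, 8, 10, 8, 6, 10, 8, 2, 10, 4, 6] [] [⟨2139, [10, 8, 4, 8, 2, 4, 6], [269]⟩, ⟨140, [6, 10, 8, 6, 10, 4, 8, 2], [217, 166, 216, 168]⟩, ⟨826, [8, 12, 10, 8, 10, 4, 8, 7, 10, 8, 0], []⟩],
  .tm 1 [8, 12, 8, 10, 8, 6, 10, 2, 8, 6, 10, 4, 6] [] [⟨2366, [], []⟩]]

theorem fc2294 : checkL (nat_lit 12) (nat_lit 4095) tH tK tK' BB FF TM XW d2294 (nat_lit 2294) = true := by decide +kernel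

def d2368 : List Der := [.tm 16 [8, 12, 10, 8, 4, 8, 10, 8, 2, 10, 4, 6] [] [⟨1949, [12, 6, 10, 8, 4, 8, 0], [269, 267]⟩, ⟨140, [8, 6, 10, 8, 6, 10, 8, 2], [216, 166]⟩, ⟨621, [8, 12, 10, 8, 6, 10, 8, 2, 6, 10, 4, 7], []⟩],
  .tm 1 [12, 4, 8, 10, 8, 6, 10, 4, 8, 6, 10, 6] [] [⟨2368, [], []⟩],
  .tm 16 [8, 12, 10, 8, 4, 8, 6, 10, 8, 7, 10, 8, 15, 6] [] [⟨2277, [7, 10, 8, 4, 8, 6, 10, 8, 0, 15, 7], []⟩, ⟨140, [12, 6, 10, 4, 8, 7, 10, 2], [216, 166]⟩, ⟨336, [8, 6, 10, 8, 4, 8, 10, 4, 7], []⟩],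
  .tm 1 [12, 6, 10, 4, 8, 15, 7] [] [⟨2370, [], []⟩],
  .tm 16 [4, 8, 7, 10, 4, 8, 6, 10, 8, 2, 15] [] [⟨2115, [12, 8, 10, 8, 6, 10, 8, 7, 10, 4, 2, 8, 15, 4, 7], [267]⟩, ⟨140, [8, 10, 8, 7, 10, 8, 10, 2], [216, 166]⟩, ⟨621, [8, 12, 4, 8, 10, 4, 8, 6, 10, 8, 2, 6, 10, 4, 7], []⟩],
  .tm 1 [8, 12, 7, 10, 8, 4, 8, 6, 10, 8, 0, 10, 6] [] [⟨2372, [], []⟩],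
  .tm 16 [8, 12, 8, 4, 8, 10, 8, 7, 10, 8, 2, 15, 7] [] [⟨2357, [12, 10, 4, 8, 6, 10, 4, 8, 4, 7], []⟩, ⟨140, [10, 8, 6, 10, 8, 12, 10, 4], [217]⟩, ⟨136, [12, 6, 10, 4, 8, 7, 10, 8, 10], []⟩],
  .tm 1 [12, 8, 7, 10, 8, 6, 10, 8, 7, 10, 4, 8, 6, 10, 4] [] [⟨2374, [], []⟩],
  .tm 32 [12, 8, 7, 10, 8, 7, 10, 8, 4, 8, 2, 15, 4] [] [⟨2352, [10, 8, 7, 10, 8, 4, 8, 15], [267]⟩, ⟨140, [12, 8, 7, 10, 8, 10, 4, 8, 12], [216, 166, 217]⟩, ⟨160, [12, 4, 8, 6, 10, 4, 8, 4, 7], []⟩],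
  .tm 24 [12, 8, 10, 8, 6, 10, 8, 7, 10, 4, 8, 2, 7] [] [⟨1310, [4, 8, 10, 8, 4, 8, 6, 10, 8, 6, 10], [269]⟩, ⟨140, [12, 10, 8, 10, 4], [166, 168, 166]⟩, ⟨757, [12, 8, 10, 4, 8, 7, 10, 4, 8, 15], []⟩],
  .tm 1 [12, 10, 8, 10, 4, 8, 6, 10, 8, 10, 6] [] [⟨2377, [], []⟩],
  .tm 24 [12, 8, 10, 8, 7, 10, 8, 6, 10, 8, 6, 10] [] [⟨1533, [12, 8, 7, 10, 4, 2, 8, 10, 4, 7], [269]⟩, ⟨140, [8, 12, 8, 10, 4], [216, 166, 217, 166, 168]⟩, ⟨1960, [12, 10, 4, 8, 6, 10, 8, 4, 8, 6, 10, 6], []⟩],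
  .tm 1 [8, 4, 8, 7, 10, 8, 6, 10, 8, 2, 6, 10, 7] [] [⟨2379, [], []⟩],
  .tm 24 [8, 12, 8, 10, 4, 8, 15, 4, 7] [] [⟨1831, [8, 4, 8, 6, 10, 8, 7, 10, 4, 8, 2, 15], [269, 267]⟩, ⟨140, [4, 8, 12, 10, 4], [166, 168, 166]⟩, ⟨887, [12, 10, 8, 6, 10, 8, 4, 8, 2, 6, 10, 4, 7], []⟩],
  .tm 1 [12, 4, 8, 10, 8, 6, 10, 4, 7] [] [⟨2381, [], []⟩],
  .tm 24 [10, 4, 8, 7, 10, 8, 6, 10, 4, 8, 10, 7] [] [⟨1919, [12, 10, 8, 10, 8, 4, 8, 7, 10, 8, 4, 7], [269]⟩, ⟨140, [8, 12, 10, 8, 4, 2], [168, 166, 216, 166, 168]⟩, ⟨1379, [12, 10, 8], []⟩],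
  .tm 1 [12, 8, 6, 10, 8, 4, 8, 10, 7] [] [⟨2383, [], []⟩],
  .tm 25 [12, 8, 4, 8, 7, 10, 8, 2, 10] [] [⟨2294, [8, 12, 10, 8, 6, 10, 4, 8, 7, 10, 8, 6], [267, 269, 267]⟩, ⟨140, [4, 8, 7, 10, 8, 12, 10, 4, 8], [168, 166, 217, 166]⟩, ⟨99, [8, 12, 7, 10, 8, 4, 8, 10, 8, 2, 6, 10, 4, 7], []⟩],
  .tm 1 [8, 12, 7, 10, 8, 10, 8, 4, 8, 2, 15, 4] [] [⟨2385, [], []⟩],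
  .tm 25 [12, 4, 8, 10, 4, 8, 7, 10, 8, 15, 4, 6] [] [⟨2358, [10, 8, 7, 10, 8, 2, 15], []⟩, ⟨140, [8, 12, 7, 10, 8, 10, 4, 8, 10], [217]⟩, ⟨136, [8, 7, 10, 8, 7, 10, 4, 8, 15, 4, 6], []⟩],
  .tm 1 [6, 10, 4, 8, 7, 10, 8, 4, 7] [] [⟨2387, [], []⟩],
  .tm 26 [8, 12, 10, 8, 10, 4, 8, 7, 10, 2, 8, 6] [] [⟨2352, [12, 4, 2, 8, 15, 4], [267, 269]⟩, ⟨140, [8, 10, 4, 8, 6, 10, 2, 8, 4], [168, 166, 216, 166]⟩, ⟨544, [2, 0, 6, 10], []⟩],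
  .tm 1 [12, 8, 4, 8, 10, 8, 0] [] [⟨2389, [], []⟩],
  .tm 26 [8, 12, 10, 8, 6, 10, 4, 8, 15] [] [⟨2352, [8, 12, 10, 4, 8, 7, 10, 8, 6, 10, 8, 2], []⟩, ⟨140, [8, 12, 8, 4, 8, 10, 4, 8, 12], [168, 166, 217, 168, 166]⟩, ⟨350, [8, 12, 4, 8, 7, 10, 4, 8, 6, 10, 8, 2, 6], []⟩],
  .tm 1 [12, 8, 10, 4, 8, 2, 10, 7] [] [⟨2391, [], []⟩],
  .tm 27 [8, 10, 8, 6, 10, 4, 8, 7, 10, 8, 2, 15, 7] [] [⟨2277, [8, 12, 10, 8, 4, 8, 10, 8, 6, 10, 8, 15, 4, 6], [267, 269, 267]⟩, ⟨140, [10, 8, 10, 8, 12], [166, 216, 168]⟩, ⟨977, [10, 4, 8, 6, 10, 8, 7, 10, 8, 2, 10, 4], []⟩],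
  .tm 1 [8, 12, 7, 10, 8, 10, 8, 4, 8, 7, 10, 8, 10, 7] [] [⟨2393, [], []⟩],
  .tm 27 [12, 4, 8, 10, 8, 6, 10, 4, 8, 0, 10, 7] [] [⟨2228, [8, 12, 8, 4, 8, 10, 8, 7, 10, 4, 2, 8, 10], [269, 267]⟩, ⟨140, [10, 8, 12, 10, 4, 0], [166, 168, 166]⟩, ⟨1903, [8, 12, 10, 8, 2, 4, 6], []⟩],
  .tm 1 [8, 7, 10, 8, 7, 10, 8, 4, 8, 2, 6, 10, 4, 7] [] [⟨2395, [], []⟩],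
  .tm 27 [8, 12, 7, 10, 8, 6, 10, 8, 4, 8, 0, 6, 10, 6] [] [⟨1082, [6, 10, 8, 7, 10, 8, 4, 8, 0, 15, 4, 7], [267]⟩, ⟨140, [7, 10, 8, 12, 2, 8], [166, 168, 166]⟩, ⟨2214, [10, 8, 6, 10, 8, 7, 10, 8, 2, 6, 10, 4, 6], []⟩],
  .tm 1 [8, 12, 8, 7, 10, 8, 4, 8, 10, 8, 2, 15, 6] [] [⟨2397, [], []⟩],
  .tm 27 [12, 10, 8, 7, 10, 8, 15, 7] [] [⟨1988, [12, 10, 4, 7], []⟩, ⟨140, [6, 10, 8, 6, 10, 8], [216, 166, 168]⟩, ⟨820, [6, 10, 8, 4, 8, 0, 10, 6], []⟩],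
  .tm 27 [6, 10, 8, 4, 8, 6, 10, 8, 15, 4] [] [⟨2084, [12, 10, 8, 7, 10, 8, 0, 6, 10, 6], [269, 267]⟩, ⟨140, [4, 8, 12, 7, 10, 8], [217, 166, 168, 166]⟩, ⟨828, [12, 4, 8, 10, 8, 4, 8, 7, 10, 8, 0, 10, 4, 6], []⟩],
  .tm 1 [8, 12, 8, 10, 4, 8, 6, 10, 8, 0, 10, 7] [] [⟨2400, [], []⟩],
  .tm 27 [10, 8, 7, 10, 8, 10, 4, 8, 2] [] [⟨2187, [8, 12, 4, 8, 10, 8, 4, 8], [267]⟩, ⟨140, [12, 8, 10, 8, 12, 8], [217, 166, 216, 168, 166]⟩, ⟨1415, [12, 7, 10, 8, 10, 8, 4, 8, 2, 6], []⟩],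
  .tm 1 [4, 8, 10, 4, 8, 2, 10, 4, 6] [] [⟨2402, [], []⟩],
  .tm 27 [7, 10, 8, 4, 8, 6, 10, 8, 2, 10, 4, 7] [] [⟨2115, [12, 4, 8, 7, 10, 8, 6, 10, 4, 8, 15, 6], [269]⟩, ⟨140, [10, 4, 8, 10, 8, 12, 4], [216, 166, 168, 166]⟩, ⟨1423, [8, 12, 10, 8, 6, 10, 8, 4, 2, 8, 7], []⟩],
  .tm 1 [8, 4, 8, 7, 10, 8] [] [⟨2404, [], []⟩],
  .tm 27 [8, 12, 8, 6, 10, 4, 8, 10, 4, 6] [] [⟨2196, [12, 15, 4, 7], [269, 267]⟩, ⟨140, [7, 10, 8, 10, 8, 12, 4, 0], [216, 166]⟩, ⟨269, [12, 4, 8, 7, 10, 8, 4, 8, 15, 4, 7], []⟩],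
  .tm 1 [8, 10, 8, 4, 8, 6, 10, 8, 2, 10, 4] [] [⟨2406, [], []⟩],
  .tm 27 [6, 10, 8, 4, 8, 7, 10, 8, 4, 6] [] [⟨2406, [12, 10, 8, 4, 8, 6, 10, 2, 8, 10, 4, 6], [269]⟩, ⟨140, [10, 8, 4, 8, 12, 7, 10, 0], [168, 166, 217, 166]⟩, ⟨796, [8, 12, 8, 7, 10, 8, 7, 10, 4, 8, 10, 4, 7], []⟩],
  .tm 1 [7, 10, 8, 6, 10, 4, 8, 10] [] [⟨2408, [], []⟩],
  .tm 27 [12, 7, 10, 8, 4, 8, 7, 10, 8, 6, 10, 4, 6] [] [⟨2277, [12, 4, 8, 7, 10, 8, 2, 6, 10], [267, 269]⟩, ⟨140, [4, 8, 6, 10, 8, 12, 10, 4, 0], [216, 168]⟩, ⟨241, [6, 10, 8, 10, 8, 4, 8, 2, 10, 4], []⟩],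
  .tm 1 [8, 12, 8, 4, 8, 10, 2, 8, 15, 4, 6] [] [⟨2410, [], []⟩],
  .tm 17 [12, 8, 7, 10, 8, 4, 8, 10, 8, 6, 10, 6] [] [⟨125, [8, 12, 8, 6, 10, 8, 10, 4, 8, 2, 6, 10, 4], [169, 167, 216, 167, 169]⟩, ⟨141, [12, 10, 4, 8, 4], [266, 268]⟩, ⟨299, [10, 8, 7, 10, 4, 8, 6, 10, 8, 2, 15, 4, 6], []⟩],
  .tm 1 [12, 8, 6, 10, 8, 4, 8, 7, 10, 8, 0, 10, 6] [] [⟨2412, [], []⟩],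
  .tm 17 [8, 10, 8, 7, 10, 8, 10, 4, 8, 2, 6, 10, 6] [] [⟨1508, [7, 10, 2, 8, 10, 7], [167]⟩, ⟨141, [8, 12, 7, 10, 4], [268]⟩, ⟨299, [8, 4, 8, 6, 10, 8, 2, 10, 4, 6], []⟩],
  .tm 1 [7, 10, 8, 6, 10, 8, 6, 10, 4, 6] [] [⟨2414, [], []⟩],
  .tm 17 [8, 10, 8, 6, 10, 8, 7, 10, 4, 8, 2] [] [⟨1121, [8, 12, 10, 8, 7, 10, 8, 4, 8, 15, 4, 7], [169, 216, 167]⟩, ⟨141, [8, 12, 8, 10, 4], [266]⟩, ⟨287, [4, 8, 6, 10, 4, 8, 10, 4, 7], []⟩],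
  .tm 1 [2, 0, 10, 6] [] [⟨2416, [], []⟩],
  .tm 17 [8, 12, 10, 4, 8, 7, 10, 4, 8, 6, 10, 4, 7] [] [⟨118, [8, 12, 8, 10, 4, 8, 6, 10, 8, 7, 10, 4, 8, 2, 6, 10, 6], [167, 217, 167, 216]⟩, ⟨141, [10, 4, 8, 6, 10], []⟩, ⟨299, [10, 4, 8, 10, 4, 6], []⟩],
  .tm 1 [12, 10, 4, 8, 2, 15, 4, 6] [] [⟨2418, [], []⟩],
  .tm 17 [8, 12, 8, 10, 4, 8, 7, 10, 8, 0, 10] [] [⟨1415, [8, 6, 10, 8, 7, 10, 4, 8, 6, 10, 8, 10, 7], [169, 216]⟩, ⟨141, [8, 12, 4, 8, 10], [266]⟩, ⟨287, [8, 10, 8, 4, 8, 6, 10, 2, 8, 6, 10, 6], []⟩],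
  .tm 1 [12, 8, 10, 8, 7, 10, 4, 8, 6, 10, 4] [] [⟨2420, [], []⟩],
  .tm 37 [8, 10, 8, 4, 8, 7, 10, 8, 0, 10, 6] [] [⟨118, [8, 12, 4, 8, 7, 10, 4, 8, 2, 10, 7], [167, 217, 167, 216]⟩, ⟨141, [8, 7, 10, 4], [266, 268, 266]⟩, ⟨2289, [10, 8, 7, 10, 8, 4, 2, 8, 15, 4, 6], []⟩],
  .tm 1 [8, 6, 10, 8, 4, 8, 7, 10, 8, 4] [] [⟨2422, [], []⟩],
  .tm 6 [12, 8, 10, 8, 6, 10, 8, 7, 10, 4, 8, 2, 6, 10, 4] [] [⟨160, [8, 12, 8, 10, 8, 6, 10, 8, 4, 2, 8, 10, 6], []⟩, ⟨141, [8, 6, 10, 8, 4], []⟩, ⟨579, [6, 10, 8, 4, 8, 7, 10, 8, 0, 15, 4, 7], []⟩],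
  .tm 6 [4, 8, 7, 10, 8, 6, 10, 4, 8, 2, 6, 10] [] [⟨94, [12, 8, 7, 10, 8, 4, 6], [169]⟩, ⟨141, [10, 8, 10, 8, 4], []⟩, ⟨1296, [6, 10, 8, 4, 8, 7, 10, 8, 0, 15, 4, 7], []⟩],
  .tm 1 [12, 10, 8, 7, 10, 4, 8, 0, 15, 4, 6] [] [⟨2425, [], []⟩],
  .tm 6 [10, 8, 10, 4, 8, 6, 10, 8, 2, 10, 4, 7] [] [⟨94, [8, 12, 8, 4, 8, 6, 10, 8, 7, 10, 8, 6, 10, 4], []⟩, ⟨141, [7, 10, 8, 12, 4], [266]⟩, ⟨1606, [8, 10, 8, 4, 8, 10, 8, 4, 6], []⟩],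
  .tm 1 [12, 10, 8, 7, 10, 8, 6, 10, 4, 2, 8, 6, 10, 7] [] [⟨2427, [], []⟩],
  .tm 6 [10, 8, 7, 10, 8, 10, 4, 8, 2, 6, 10, 7] [] [⟨94, [12, 8, 10, 8, 6, 10, 8, 4, 8, 2, 10, 4], [167]⟩, ⟨141, [12, 10, 8, 7, 10], [266, 268, 266]⟩, ⟨1751, [12, 8, 10, 4, 8, 7, 10, 8, 6, 10, 4, 8, 15, 6], []⟩],
  .tm 1 [8, 4, 8, 10, 8, 7, 10, 4, 2, 8, 10] [] [⟨2429, [], []⟩],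
  .tm 6 [8, 10, 8, 4, 8, 6, 10, 2, 8, 6, 10, 4, 6] [] [⟨97, [8, 12, 8, 10, 8, 7, 10, 8, 10, 4, 8, 2, 4, 7], []⟩, ⟨141, [10, 8, 12, 7, 10], [266, 268]⟩, ⟨994, [8, 10, 8, 7, 10, 8, 4, 8, 0, 15, 4, 6], []⟩],
  .tm 1 [8, 12, 4, 8, 10, 8, 4, 8, 6, 10, 8, 10, 7] [] [⟨2431, [], []⟩],
  .tm 6 [4, 8, 10, 8, 7, 10, 4, 8, 2, 15, 7] [] [⟨94, [12, 10, 4, 8, 6, 10, 8, 0, 15], [169]⟩, ⟨141, [10, 8, 4, 8, 10], [268]⟩, ⟨1321, [12, 10, 8, 4, 8, 7, 10, 8, 0, 15, 7], []⟩],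
  .tm 1 [8, 12, 4, 8, 6, 10, 8, 4, 7] [] [⟨2433, [], []⟩],
  .tm 15 [12, 4, 8, 7, 10, 8, 6, 10, 8, 2, 6, 10, 4] [] [⟨175, [4, 8, 10, 8, 4, 8, 6, 10, 8, 0, 10, 7], [169]⟩, ⟨141, [8, 12, 10, 4, 2], [266, 268, 266]⟩, ⟨1507, [10, 4, 8, 6, 10, 8, 7, 10, 4, 8, 6, 10, 6], []⟩],
  .tm 1 [8, 12, 8, 4, 8, 7, 10, 8, 6, 10, 8, 15, 7] [] [⟨2435, [], []⟩],
  .tm 15 [4, 8, 10, 8, 4, 8, 2, 10] [] [⟨97, [6, 10, 4, 8, 7, 10, 8, 2, 6], []⟩, ⟨141, [10, 8, 12, 7, 10], []⟩, ⟨1719, [8, 12, 7, 10, 8, 6, 10, 8, 4, 8, 0, 6, 10, 4, 6], []⟩],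
  .tm 1 [8, 12, 8, 4, 8, 7, 10, 2, 8] [] [⟨2437, [], []⟩],
  .tm 15 [12, 4, 8, 10, 8, 6, 10, 8, 2, 6, 10, 4, 7] [] [⟨95, [8, 10, 4, 8, 6, 10, 8, 6, 10, 4], [167]⟩, ⟨141, [8, 10, 8, 12, 10], []⟩, ⟨994, [4, 8, 6, 10, 4, 8, 2, 10, 7], []⟩],
  .tm 1 [8, 12, 10, 8, 7, 10, 4, 8, 2, 10] [] [⟨2439, [], []⟩],
  .tm 20 [12, 6, 10, 8, 7, 10, 8, 6, 10, 4, 8, 2, 10, 4] [] [⟨685, [12, 8, 10, 4, 8, 7, 10, 8, 6, 10, 8, 2, 10, 7], [167, 169, 167, 216, 167]⟩, ⟨141, [10, 8, 7, 10, 8], [268, 266]⟩, ⟨381, [4, 8, 10, 8, 10, 7], []⟩],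
  .tm 1 [8, 12, 8, 10, 8, 6, 10, 4, 8, 7, 10, 8, 10, 7] [] [⟨2441, [], []⟩],
  .tm 20 [8, 10, 8, 4, 8, 6, 10, 8, 2, 4, 6] [] [⟨943, [4, 8, 10, 8, 6, 10, 4, 8, 2, 6, 10, 6], [167, 169, 167, 216, 167]⟩, ⟨141, [8, 12, 8, 6, 10, 2], [266]⟩, ⟨381, [8, 0, 4, 6], []⟩],
  .tm 1 [8, 7, 10, 8, 6, 10, 4, 8, 2, 4, 6] [] [⟨2443, [], []⟩],
  .tm 21 [8, 12, 4, 8, 10, 8, 0, 10, 6] [] [⟨125, [8, 12, 8, 10, 8, 4, 8, 6, 10, 2, 8, 4, 6], [169, 167, 216, 167]⟩, ⟨141, [12, 10, 4, 8, 4], [266, 268]⟩, ⟨1391, [7, 10, 8, 6, 10, 4, 2, 8, 6, 10, 7], []⟩],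
  .tm 1 [12, 10, 8, 10, 4, 8, 10, 6] [] [⟨2445, [], []⟩],
  .tm 21 [8, 6, 10, 8, 6, 10, 8, 4, 8, 6, 10, 4, 6] [] [⟨2425, [8, 12, 8, 10, 8, 7, 10, 4, 8, 6, 10, 8, 4], [167, 169, 167, 217, 167]⟩, ⟨141, [10, 8, 6, 10, 4], [266, 268]⟩, ⟨1719, [8, 12, 8, 10, 4, 8, 6, 10, 4, 8, 6, 10, 4, 7], []⟩]]

theorem fc2368 : checkL (nat_lit 12) (nat_lit 4095) tH tK tK' BB FF TM XW d2368 (nat_lit 2368) = true := by decide +kernel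

def d2448 : List Der := [.tm 1 [8, 12, 8, 6, 10, 4, 2, 8, 15, 4, 6] [] [⟨2447, [], []⟩],
  .tm 21 [8, 10, 8, 10, 4, 8, 2, 10, 4, 6] [] [⟨627, [8, 4, 8, 10, 8, 4, 8, 4, 6], [216, 167, 217]⟩, ⟨141, [7, 10, 8, 10, 4], [268, 266]⟩, ⟨2243, [10, 8, 6, 10, 8, 7, 10, 4, 2, 8, 6, 10], []⟩],
  .tm 1 [12, 10, 8, 4, 8, 6, 10, 8, 7, 10, 8, 10, 7] [] [⟨2449, [], []⟩],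
  .tm 21 [8, 12, 6, 10, 8, 7, 10, 8, 6, 10, 4, 8, 2, 6, 10] [] [⟨118, [8, 12, 7, 10, 8, 10, 4, 8, 2, 4], [167, 169, 216, 167, 217]⟩, ⟨141, [10, 4, 8, 6, 10], [266, 268, 266]⟩, ⟨2289, [4, 8, 10, 8, 4, 8, 2, 10, 4, 6], []⟩],
  .tm 1 [7, 10, 8, 6, 10, 4, 2, 8, 6, 10, 4, 7] [] [⟨2451, [], []⟩],
  .tm 21 [12, 10, 8, 6, 10, 8, 2, 6, 10, 4, 6] [] [⟨657, [12, 6, 10, 8, 4, 8, 2], [169, 167, 216, 167]⟩, ⟨141, [8, 10, 8, 6, 10], [266]⟩, ⟨1946, [4, 8, 10, 8, 10, 6], []⟩],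
  .tm 1 [8, 12, 7, 10, 8, 4, 8, 7, 10, 8, 6, 10] [] [⟨2453, [], []⟩],
  .tm 21 [12, 8, 4, 8, 0, 4, 6] [] [⟨1415, [8, 10, 8, 6, 10, 4, 8, 0, 7], [216, 167, 169]⟩, ⟨141, [8, 12, 8, 10, 8, 4], [268, 266]⟩, ⟨739, [12, 8, 10, 8, 4, 8, 7, 10, 8, 2, 15, 7], []⟩],
  .tm 1 [8, 12, 10, 4, 8, 7, 10, 2, 8, 6, 10] [] [⟨2455, [], []⟩],
  .tm 31 [12, 8, 7, 10, 8, 6, 10, 4, 8, 0, 10, 4, 7] [] [⟨889, [8, 12, 10, 8, 6, 10, 8, 4, 8, 0, 15, 4], [167, 169, 216]⟩, ⟨141, [7, 10, 8, 12, 4, 2], [266]⟩, ⟨2192, [8, 10, 8, 4, 8, 10, 8, 4, 6], []⟩],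
  .tm 1 [10, 4, 8, 7, 10, 8, 6, 10, 4, 8, 2, 6, 10] [] [⟨2457, [], []⟩],
  .tm 31 [8, 6, 10, 4, 8, 7, 10, 8, 2, 10] [] [⟨657, [12, 8, 4, 8, 10, 8, 7, 10, 4, 2, 8, 6], [169, 167, 216]⟩, ⟨141, [8, 7, 10, 4, 8, 4], [266, 268, 266]⟩, ⟨1568, [8, 4, 8, 6, 10, 8, 7, 10, 4, 8, 15, 7], []⟩],
  .tm 1 [10, 8, 7, 10, 8, 10, 4, 8, 2, 15] [] [⟨2459, [], []⟩],
  .tm 31 [6, 10, 8, 4, 8, 7, 10, 8, 0, 4] [] [⟨2075, [4, 8, 4, 8, 7, 10, 8, 6, 10, 8, 15, 4, 7], [169, 167, 217, 167, 169]⟩, ⟨141, [7, 10, 8, 6, 10, 4], [266]⟩, ⟨743, [10, 8, 6, 10, 8, 2, 6, 10, 6], []⟩],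
  .tm 1 [12, 4, 8, 7, 10, 8, 6, 10, 4, 8, 2, 15, 7] [] [⟨2461, [], []⟩],
  .tm 31 [8, 12, 4, 8, 6, 10, 8, 4, 8, 2, 6, 10] [] [⟨546, [8, 10, 4, 8, 7, 10, 8, 6, 10, 4, 7], [169]⟩, ⟨141, [8, 12, 8, 6, 10, 4], [268]⟩, ⟨581, [8, 6, 10, 4, 8, 0, 10, 4], []⟩],
  .tm 1 [8, 10, 4, 2, 8, 10] [] [⟨2463, [], []⟩],
  .tm 31 [12, 8, 4, 8, 10, 8, 7, 10, 4, 8, 0, 6, 10, 7] [] [⟨125, [8, 12, 10, 4, 8, 7, 10, 4, 8, 6, 10, 4], [167, 169, 167, 216, 167, 169]⟩, ⟨141, [8, 12, 4, 8, 7, 10, 2], [268]⟩, ⟨2078, [12, 8, 10, 8, 7, 10, 8, 6, 10, 8, 15], []⟩],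
  .tm 1 [8, 12, 8, 10, 8, 4, 8, 0, 4, 7] [] [⟨2465, [], []⟩],
  .tm 22 [4, 8, 10, 8, 6, 10, 4, 7] [] [⟨1305, [8, 12, 2, 15, 7], [167, 169, 217]⟩, ⟨141, [8, 6, 10, 8, 6, 10, 2], [268]⟩, ⟨2242, [12, 4, 8, 10, 8, 4, 8, 7, 10, 8, 7], []⟩],
  .tm 1 [8, 6, 10, 8, 7, 10, 8, 4, 8, 10, 7] [] [⟨2467, [], []⟩],
  .tm 22 [8, 12, 8, 10, 8, 6, 10, 2, 8, 10, 7] [] [⟨1845, [8, 12, 4, 8, 4, 8, 10, 8, 7, 10, 8, 2, 10, 4, 6], [169, 167, 217, 167, 169]⟩, ⟨141, [12, 8, 4, 8, 7, 10, 2], [266, 268]⟩, ⟨1393, [8, 12, 10, 4, 8, 6, 10, 8, 7, 10, 8, 6, 10, 4, 6], []⟩],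
  .tm 1 [12, 10, 8, 7, 10, 8, 6, 10, 4, 8, 0, 10, 4, 6] [] [⟨2469, [], []⟩],
  .tm 22 [8, 12, 8, 10, 4, 8, 6, 10, 4, 8, 2, 10, 4] [] [⟨657, [12, 10, 8, 10, 4, 8, 6, 10, 8, 2, 7], [167, 169, 167, 216]⟩, ⟨141, [10, 4, 8, 12, 7, 10, 2], [268]⟩, ⟨1765, [8, 12, 8, 6, 10, 8, 4, 2, 8, 15, 6], []⟩],
  .tm 1 [7, 10, 8, 7, 10, 4, 8, 15, 6] [] [⟨2471, [], []⟩],
  .tm 22 [12, 8, 4, 8, 7, 10, 8, 6, 10, 4, 8, 2, 6, 10, 4, 6] [] [⟨1508, [8, 7, 10, 4, 8, 6, 10, 8, 6, 10, 4, 7], [169]⟩, ⟨141, [8, 4, 8, 12, 8, 10, 2], [268]⟩, ⟨1883, [8, 12, 8, 10, 8, 4, 8, 7, 10, 8, 2, 6, 10, 4], []⟩],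
  .tm 1 [12, 8, 4, 8, 6, 10, 8, 7, 10, 8, 4] [] [⟨2473, [], []⟩],
  .tm 22 [8, 12, 4, 8, 6, 10, 4] [] [⟨1618, [8, 10, 8, 4, 8, 7, 10, 8, 10], [169, 167, 216, 167, 169]⟩, ⟨141, [7, 10, 8, 4, 8, 12, 2], [266]⟩, ⟨2414, [12, 10, 4, 8, 7, 10, 8, 6, 10, 4, 8, 6, 10], []⟩],
  .tm 1 [12, 4, 8, 7, 10, 4, 8, 15, 4, 6] [] [⟨2475, [], []⟩],
  .tm 22 [12, 10, 8, 10, 8, 4, 8, 15, 7] [] [⟨806, [8, 4, 8, 7, 10, 8, 4, 8, 2, 10, 7], [167, 216, 167, 169]⟩, ⟨141, [12, 10, 8, 4, 8, 12, 2], [268, 266]⟩, ⟨1487, [12, 6, 10, 8, 7, 10, 4, 8, 15, 6], []⟩],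
  .tm 1 [12, 6, 10, 8, 7, 10, 8, 4, 8, 2, 6, 10, 4, 7] [] [⟨2477, [], []⟩],
  .tm 22 [10, 4, 8, 7, 10, 8, 6, 10, 8, 6, 10, 6] [] [⟨1691, [12, 6, 10, 4, 8, 10], [169, 167, 217, 167, 169]⟩, ⟨141, [4, 8, 7, 10, 8, 12, 2], []⟩, ⟨1964, [12, 6, 10, 4, 6], []⟩],
  .tm 1 [8, 12, 10, 8, 10, 8, 4, 8, 7, 10, 8, 2, 10, 4] [] [⟨2479, [], []⟩],
  .tm 22 [12, 8, 10, 4, 8, 7, 10, 8, 6, 10, 8, 2, 15] [] [⟨1121, [8, 12, 7, 10, 8, 6, 10, 4, 2, 8, 6, 10, 4], [169, 216]⟩, ⟨141, [12, 8, 7, 10, 4, 8, 4], [266, 268, 266]⟩, ⟨1271, [12, 8, 10, 4, 8, 6, 10, 8, 7, 10, 8, 6, 10, 4], []⟩],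
  .tm 1 [12, 4, 8, 7, 10, 8, 0, 6, 10, 4] [] [⟨2481, [], []⟩],
  .tm 22 [4, 8, 7, 10, 8, 4, 8, 15, 6] [] [⟨657, [12, 4, 8, 10, 8, 6, 10, 8, 15, 7], [167, 169, 167, 216, 167]⟩, ⟨141, [12, 4, 8, 10, 4, 8, 4], [266, 268]⟩, ⟨1797, [12, 8, 10, 4, 8, 7, 10, 8, 6, 10, 4, 8, 2, 6, 10, 6], []⟩],
  .tm 1 [4, 8, 6, 10, 2, 8, 4, 6] [] [⟨2483, [], []⟩],
  .tm 22 [8, 12, 8, 7, 10, 8, 10, 4, 8, 6, 10, 7] [] [⟨1508, [10, 8, 4, 8, 10, 8, 6, 10, 8, 0, 10, 4, 6], [167, 169, 167]⟩, ⟨141, [8, 10, 2, 8, 6, 10, 4], [266, 268]⟩, ⟨370, [12, 10, 4, 8, 7, 10, 8, 6, 10, 4, 8, 10, 4], []⟩],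
  .tm 1 [12, 8, 4, 8, 10, 8, 7, 10, 8, 4] [] [⟨2485, [], []⟩],
  .tm 22 [6, 10, 8, 4, 8, 10, 8, 2, 7] [] [⟨1305, [8, 12, 8, 10, 8, 10, 4, 8, 6, 10, 8, 2, 15, 4, 6], [167, 169, 217]⟩, ⟨141, [6, 10, 4, 8, 6, 10, 4], [266]⟩, ⟨2083, [12, 8, 4, 8, 10, 8, 7, 10, 4, 2, 8, 6, 10], []⟩],
  .tm 1 [8, 7, 10, 8, 4, 8, 6, 10, 8, 0, 6] [] [⟨2487, [], []⟩],
  .tm 22 [4, 8, 7, 10, 8, 6, 10, 4, 8, 2, 6, 10, 4] [] [⟨1415, [6, 10, 8, 7, 10, 4, 8, 6], [169, 216, 167]⟩, ⟨141, [12, 8, 4, 8, 7, 10, 4], [266, 268, 266]⟩, ⟨2370, [12, 2, 0, 7], []⟩],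
  .tm 1 [12, 7, 10, 8, 4, 8, 2, 15, 4, 7] [] [⟨2489, [], []⟩],
  .tm 22 [8, 12, 4, 8, 10, 8, 6, 10, 4, 8, 2, 4, 6] [] [⟨1795, [8, 7, 10, 8, 4, 8, 10, 8, 2, 4, 6], [167, 169, 217, 167]⟩, ⟨141, [4, 2, 8, 12, 7, 10, 4], [266]⟩, ⟨1731, [8, 12, 6, 10, 8, 7, 10, 8, 4, 8, 0, 15, 7], []⟩],
  .tm 1 [8, 12, 8, 4, 8, 10, 8, 6, 10, 4, 8, 6, 10, 6] [] [⟨2491, [], []⟩],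
  .tm 22 [8, 12, 10, 8, 7, 10, 8, 6, 10, 8, 2, 7] [] [⟨1415, [10, 8, 6, 10, 8, 10, 4, 8, 10, 7], [216, 167, 169]⟩, ⟨141, [6, 10, 8, 12, 7, 10, 4], [266, 268]⟩, ⟨2162, [8, 10, 8, 7, 10, 8, 4, 8, 2, 10, 4, 7], []⟩],
  .tm 1 [8, 12, 8, 4, 8, 6, 10, 8, 2, 15, 4, 7] [] [⟨2493, [], []⟩],
  .tm 22 [12, 4, 8, 6, 10, 8, 0, 6, 10, 4, 6] [] [⟨118, [8, 12, 6, 10, 8, 7, 10, 8, 4, 8, 2, 15, 4, 7], [216, 167, 217]⟩, ⟨141, [7, 10, 2, 8, 12, 10, 4], [266, 268]⟩, ⟨619, [8, 12, 7, 10, 4, 8], []⟩],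
  .tm 1 [8, 10, 8, 7, 10, 4, 8, 6, 10, 8, 10, 4] [] [⟨2495, [], []⟩],
  .tm 22 [8, 12, 8, 10, 4, 8, 6, 10, 8, 0, 6, 10, 6] [] [⟨657, [12, 10, 8, 10, 4, 8, 2, 6, 10], [167, 169, 167, 216, 167, 169]⟩, ⟨141, [10, 8, 6, 10, 8, 12, 4], [266, 268]⟩, ⟨1870, [12, 8, 7, 10, 8, 4, 8, 0, 4, 7], []⟩],
  .tm 1 [12, 7, 10, 8, 7, 10, 4, 8, 6, 10, 7] [] [⟨2497, [], []⟩],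
  .tm 22 [8, 12, 7, 10, 8, 10, 8, 4, 8, 4, 6] [] [⟨2427, [8, 12, 4, 8, 7, 10, 8, 2, 4], [169, 167, 217]⟩, ⟨141, [6, 10, 4, 2, 8, 6, 10], []⟩, ⟨1005, [8, 12, 8, 4, 8, 10, 8, 6, 10, 4, 8, 6, 10], []⟩],
  .tm 1 [8, 12, 8, 6, 10, 8, 6, 10, 8, 4, 8, 2, 4, 6] [] [⟨2499, [], []⟩],
  .tm 22 [12, 8, 7, 10, 8, 6, 10, 4, 8, 7, 10, 8, 2, 15, 4, 7] [] [⟨1359, [4, 8, 7, 10, 8, 6, 10, 4, 8, 2, 10, 4, 7], [169, 216, 167, 169]⟩, ⟨141, [12, 4, 8, 4, 8, 6, 10], [266]⟩, ⟨1343, [8, 12, 10, 8, 4, 8, 10, 8, 6, 10, 8, 0, 6, 10, 7], []⟩],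
  .tm 1 [10, 8, 4, 8, 10, 8, 2, 15, 7] [] [⟨2501, [], []⟩],
  .tm 22 [12, 6, 10, 8, 4, 8, 6, 10, 8, 15, 4] [] [⟨2425, [8, 12, 4, 8, 10, 8, 7, 10, 4, 8, 6, 10], [167, 169, 167, 217]⟩, ⟨141, [8, 10, 8, 4, 8, 6, 10], [266]⟩, ⟨774, [8, 12, 8, 4, 8, 10, 8, 6, 10, 4, 8, 6, 10, 7], []⟩],
  .tm 1 [8, 12, 7, 10, 8, 10, 8, 4, 8, 2, 10, 4] [] [⟨2503, [], []⟩],
  .tm 22 [8, 12, 8, 4, 8, 2, 15, 6] [] [⟨806, [8, 4, 8, 10, 8, 7, 10, 4, 8, 2, 15], [167, 216, 167]⟩, ⟨141, [7, 10, 2, 8, 12, 6, 10], []⟩, ⟨1047, [2, 0, 6, 10, 4, 6], []⟩],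
  .tm 1 [10, 4, 8, 6, 10, 8, 7, 10, 4, 8, 2, 15, 4, 6] [] [⟨2505, [], []⟩],
  .tm 22 [8, 4, 8, 10, 8, 7, 10, 8, 0, 15] [] [⟨1305, [8, 12, 7, 10, 8, 2, 6], [167, 217]⟩, ⟨141, [7, 10, 4, 8, 12, 6, 10], []⟩, ⟨2054, [2, 0, 15, 4, 6], []⟩],
  .tm 1 [4, 8, 10, 8, 7, 10, 8, 4, 7] [] [⟨2507, [], []⟩],
  .tm 22 [8, 12, 4, 8, 7, 10, 4, 8, 6, 10, 8, 2, 6, 10, 6] [] [⟨2427, [8, 12, 8, 4, 8, 6, 10, 8, 0, 15, 4], [169, 167, 217]⟩, ⟨141, [7, 10, 8, 4, 8, 7, 10], []⟩, ⟨1440, [6, 10, 8, 10, 8, 4, 8, 2, 6, 10, 4, 6], []⟩],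
  .tm 1 [8, 10, 8, 6, 10, 8, 7, 10, 4, 2, 8] [] [⟨2509, [], []⟩],
  .tm 22 [8, 12, 7, 10, 4, 8, 2, 4] [] [⟨1795, [7, 10, 8, 7, 10, 8, 4, 8, 2, 15, 4], [167, 217, 167, 169]⟩, ⟨141, [10, 8, 10, 4, 8, 7, 10], []⟩, ⟨1940, [8, 7, 10, 8, 4, 8, 2, 10, 4], []⟩],
  .tm 1 [12, 8, 10, 4, 8, 6, 10, 8, 4, 8, 6, 10, 7] [] [⟨2511, [], []⟩],
  .tm 22 [8, 4, 8, 10, 8, 7, 10, 4, 8, 15, 6] [] [⟨568, [10, 8, 7, 10, 8, 4, 8, 15, 4, 7], [216]⟩, ⟨141, [12, 4, 8, 10, 8, 7, 10], [266, 268, 266]⟩, ⟨2018, [4, 8, 6, 10, 2, 8, 10, 4, 6], []⟩],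
  .tm 1 [8, 12, 8, 10, 4, 8, 6, 10, 8, 0, 4, 7] [] [⟨2513, [], []⟩],
  .tm 22 [8, 12, 8, 10, 8, 7, 10, 4, 8, 6, 10, 4, 6] [] [⟨1875, [12, 8, 10, 8, 6, 10, 8, 7, 10, 4, 8, 2, 4, 6], [169, 167, 217, 167]⟩, ⟨141, [12, 10, 8, 4, 2, 8, 10], [266, 268]⟩, ⟨1113, [12, 4, 8, 10, 8, 4, 8, 2, 6, 10, 4, 6], []⟩],
  .tm 1 [7, 10, 8, 4, 8, 10, 8, 2, 4, 6] [] [⟨2515, [], []⟩],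
  .tm 22 [8, 7, 10, 8, 4, 8, 6, 10, 8, 0, 4] [] [⟨2431, [8, 12, 8, 4, 8, 2, 10, 7], [169, 167, 216]⟩, ⟨141, [8, 7, 10, 4, 2, 8, 10], [266, 268, 266]⟩, ⟨2003, [8, 12, 10, 8, 7, 10, 8, 6, 10, 4, 7], []⟩],
  .tm 1 [8, 12, 8, 10, 8, 6, 10, 4, 8, 15, 7] [] [⟨2517, [], []⟩],
  .tm 22 [8, 12, 8, 10, 8, 7, 10, 4, 8, 10, 4, 6] [] [⟨1875, [12, 8, 6, 10, 8, 7, 10, 8, 4, 8, 0, 10, 4, 7], [169, 167, 217, 167, 169]⟩, ⟨141, [12, 8, 7, 10, 4, 8, 10], [268, 266]⟩, ⟨1998, [12, 7, 10, 8], []⟩],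
  .tm 1 [8, 12, 8, 4, 8, 10, 8, 6, 10, 2, 8, 4, 6] [] [⟨2519, [], []⟩],
  .tm 22 [8, 12, 4, 8, 10, 8, 2, 15, 4, 6] [] [⟨854, [10, 8, 10, 8, 4, 8, 7, 10, 8, 10], [167, 169, 216, 167, 169]⟩, ⟨141, [7, 10, 8, 10, 4, 8, 12], [266, 268]⟩, ⟨2179, [12, 7, 10, 8, 6, 10, 8, 4, 8, 0, 6, 10, 4, 6], []⟩],
  .tm 1 [6, 10, 8, 4, 8, 2, 10, 7] [] [⟨2521, [], []⟩],
  .tm 22 [12, 6, 10, 8, 10, 4, 8, 2, 4, 7] [] [⟨854, [6, 10, 8, 4, 8, 7, 10, 8, 15, 6], [167, 169, 216, 167, 169]⟩, ⟨141, [7, 10, 8, 7, 10, 8, 12], []⟩, ⟨799, [8, 0, 10, 4, 6], []⟩],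
  .tm 1 [12, 6, 10, 8, 4, 8, 7, 10, 8, 10, 4] [] [⟨2523, [], []⟩]]

theorem fc2448 : checkL (nat_lit 12) (nat_lit 4095) tH tK tK' BB FF TM XW d2448 (nat_lit 2448) = true := by decide +kernel

def d2525 : List Der := [.tm 22 [8, 12, 10, 8, 6, 10, 4, 8, 7, 10, 8, 2, 15] [] [⟨2193, [8, 10, 4, 8, 6, 10, 4, 8, 10, 4], [216, 167, 169]⟩, ⟨141, [6, 10, 8, 7, 10, 8, 4, 0], [268]⟩, ⟨2522, [8, 7, 10, 8, 6, 10, 4, 8, 7, 10, 8, 4, 6], []⟩],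
  .tm 1 [12, 8, 10, 8, 4, 8, 4, 7] [] [⟨2525, [], []⟩],
  .tm 22 [8, 10, 4, 8, 6, 10, 8, 4, 8, 6, 10, 4] [] [⟨1795, [8, 6, 10, 4, 2, 8, 10, 4, 7], [167, 217, 167]⟩, ⟨141, [4, 8, 12, 7, 10, 8, 4, 0], []⟩, ⟨2503, [12, 10, 8, 6, 10, 8, 0, 15, 7], []⟩],
  .tm 1 [12, 8, 4, 8, 10, 8, 6, 10, 4, 8, 2, 6, 10] [] [⟨2527, [], []⟩],
  .tm 22 [12, 6, 10, 8, 7, 10, 4, 8, 6, 10, 8, 2, 10, 7] [] [⟨330, [10, 4, 8, 6, 10, 8, 4, 8, 2, 10, 4, 6], [217]⟩, ⟨141, [10, 4, 8, 12, 6, 10, 4, 0], [268, 266]⟩, ⟨1468, [4, 8, 4, 8, 7, 10, 8, 6, 10, 8, 6, 10], []⟩],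
  .tm 1 [8, 12, 8, 6, 10, 8, 4, 8, 10] [] [⟨2529, [], []⟩],
  .tm 22 [12, 4, 8, 4, 8, 10, 8, 6, 10, 8, 2, 6, 10, 6] [] [⟨943, [8, 6], [169, 167, 216, 167, 169]⟩, ⟨141, [8, 7, 10, 4, 8, 6, 10, 0], []⟩, ⟨2307, [8, 12, 8, 7, 10, 8, 6, 10, 8, 4, 8, 0, 6, 10, 4, 7], []⟩],
  .tm 1 [10, 4, 8, 7, 10, 8, 2, 10, 4, 7] [] [⟨2531, [], []⟩],
  .tm 22 [7, 10, 8, 10, 8, 4, 8, 6, 10, 7] [] [⟨1845, [8, 12, 8, 10, 8, 6, 10, 8, 4, 2, 8, 10, 6], [169, 167, 217, 167, 169]⟩, ⟨141, [12, 6, 10, 4, 8, 7, 10, 0], [266, 268, 266]⟩, ⟨1536, [12, 10, 8, 4, 8, 10, 8, 6, 10, 8, 10, 6], []⟩],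
  .tm 1 [8, 12, 8, 10, 8, 7, 10, 8, 4, 8, 0, 4] [] [⟨2533, [], []⟩],
  .tm 22 [6, 10, 8, 7, 10, 4, 8, 15, 4, 6] [] [⟨2037, [8, 7, 10, 8, 4, 8, 10, 8, 15, 7], [169, 167, 216]⟩, ⟨141, [4, 8, 12, 4, 8, 7, 10, 0], [266, 268]⟩, ⟨1336, [10, 8, 7, 10, 8, 10, 4, 8, 10, 7], []⟩],
  .tm 1 [8, 4, 8, 10, 8, 7, 10, 4, 8, 10] [] [⟨2535, [], []⟩],
  .tm 22 [2, 8, 10, 4] [] [⟨2193, [4, 8, 7, 10, 8, 4, 8, 2, 15, 4, 7], [216]⟩, ⟨141, [12, 8, 7, 10, 8, 7, 10, 0], [266, 268, 266]⟩, ⟨1308, [8, 4, 8, 10, 2, 8, 10, 4, 6], []⟩],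
  .tm 1 [12, 6, 10, 8, 10, 4, 8, 4, 6] [] [⟨2537, [], []⟩],
  .tm 22 [8, 10, 4, 8, 7, 10, 2, 8, 4, 7] [] [⟨2425, [8, 12, 4, 8, 10, 8, 7, 10, 4, 8, 0, 6, 10, 7], [169, 167, 217]⟩, ⟨141, [7, 10, 8, 12, 4, 8, 10, 0], [266, 268, 266]⟩, ⟨2306, [12, 10, 4, 8, 7, 10, 8, 6, 10, 4, 8, 10, 4, 6], []⟩],
  .tm 22 [8, 12, 10, 8, 4, 8, 10, 8, 2, 10, 4, 7] [] [⟨1250, [12, 8, 10, 8, 6, 10, 4, 8, 7, 10, 8, 2, 6, 10, 7], [167, 169, 167, 217, 167, 216]⟩, ⟨141, [10, 8, 4, 8, 12, 8, 10, 0], [266]⟩, ⟨1544, [12, 8, 10, 4, 8, 7, 10, 4, 8, 6, 10, 4], []⟩],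
  .tm 22 [8, 12, 4, 8, 10, 8, 4, 8, 10, 7] [] [⟨854, [4, 2, 8, 6], [167, 216]⟩, ⟨141, [12, 10, 4, 8, 4, 8, 12, 0], [266, 268, 266]⟩, ⟨1284, [0, 4], []⟩],
  .tm 1 [8, 12, 10, 8, 4, 8, 15] [] [⟨2541, [], []⟩],
  .tm 22 [10, 8, 6, 10, 4, 8, 0, 15, 4, 7] [] [⟨1498, [12, 8, 10, 8, 4, 8, 6, 10, 8, 10, 4], [167, 216, 167, 169]⟩, ⟨141, [10, 8, 7, 10, 4, 8, 12, 0], [268]⟩, ⟨1679, [8, 6, 10, 8, 7, 10, 4, 8, 6, 10, 8, 2, 10], []⟩],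
  .tm 1 [12, 4, 8, 10, 8, 7, 10, 2, 8, 10, 4] [] [⟨2543, [], []⟩],
  .tm 22 [12, 8, 10, 4, 8, 6, 10, 8, 2, 10] [] [⟨152, [12, 8, 6, 10, 4, 8, 7, 10, 8, 6, 10, 6], [217, 167, 169]⟩, ⟨141, [12, 8, 7, 10, 4, 8, 12, 0], []⟩, ⟨2404, [10, 8, 0, 10, 7], []⟩],
  .tm 1 [8, 10, 4, 8, 7, 10, 4, 8, 2, 7] [] [⟨2545, [], []⟩],
  .tm 22 [12, 4, 8, 10, 8, 2, 4, 6] [] [⟨854, [8, 10, 8, 6, 10, 4, 8, 6, 10], [167, 169, 216, 167, 169]⟩, ⟨141, [7, 10, 8, 10, 4, 8, 12, 0], [268, 266]⟩, ⟨1940, [8, 12, 8, 10, 8, 7, 10, 8, 6, 10, 4, 8, 2, 15], []⟩],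
  .tm 1 [4, 8, 6, 10, 8, 2, 10, 4, 6] [] [⟨2547, [], []⟩],
  .tm 22 [4, 8, 10, 8, 6, 10, 8, 0, 6, 10, 6] [] [⟨854, [8, 10, 8, 6, 10, 8, 10, 4, 8, 2, 15], [167, 169, 216, 167, 169]⟩, ⟨141, [7, 10, 8, 7, 10, 8, 12, 0], [268]⟩, ⟨1080, [8, 12, 7, 10, 8, 6], []⟩],
  .tm 1 [8, 12, 4, 8, 10, 8, 6, 10, 4, 8, 0, 6, 10, 4] [] [⟨2549, [], []⟩],
  .tm 22 [8, 12, 8, 10, 8, 7, 10, 8, 6, 10, 4, 2, 8, 7] [] [⟨1875, [12, 4, 8, 4, 8, 10, 8, 7, 10, 8, 6], [169, 167, 217]⟩, ⟨141, [8, 12, 6, 10, 4, 8, 4, 2], [266]⟩, ⟨1706, [8, 12, 8, 4, 8, 7, 10, 8, 6, 10, 4, 8, 2, 15, 4, 7], []⟩],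
  .tm 1 [8, 12, 7, 10, 4, 8, 6, 10, 8, 2, 10, 7] [] [⟨2551, [], []⟩],
  .tm 22 [7, 10, 4, 8, 0, 15, 4, 6] [] [⟨2037, [10, 8, 7, 10, 8, 10, 4, 8, 2, 10, 6], [169, 167, 216]⟩, ⟨141, [8, 12, 8, 7, 10, 8, 4, 2], [266]⟩, ⟨2508, [8, 12, 10, 8, 4, 8, 6, 10, 8, 7, 10, 8, 15, 4, 7], []⟩],
  .tm 1 [12, 8, 10, 4, 8, 7, 10, 4, 8, 2, 10, 7] [] [⟨2553, [], []⟩],
  .tm 22 [8, 10, 8, 7, 10, 8, 2, 10] [] [⟨733, [10, 8, 10, 4, 8, 6, 10, 8, 7, 10, 8, 15, 4, 7], [169, 167, 217, 167]⟩, ⟨141, [8, 12, 4, 8, 7, 10, 4, 2], [266, 268]⟩, ⟨982, [10, 4, 8, 7, 10, 8, 6, 10, 8, 2, 6, 10, 4, 6], []⟩],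
  .tm 1 [12, 4, 8, 6, 10, 8, 6, 10, 6] [] [⟨2555, [], []⟩],
  .tm 22 [12, 8, 10, 8, 4, 2, 8, 6, 10, 6] [] [⟨1139, [12, 8, 10, 8, 7, 10, 4, 8, 10, 4, 7], [217, 167, 169]⟩, ⟨141, [8, 7, 10, 4, 8, 12, 4, 2], [266, 268, 266]⟩, ⟨763, [8, 12, 10, 4, 8, 7], []⟩],
  .tm 1 [12, 4, 2, 8, 10, 7] [] [⟨2557, [], []⟩],
  .tm 22 [12, 6, 10, 8, 10, 4, 8, 2, 6, 10, 4] [] [⟨1875, [12, 4, 8, 10, 8, 6, 10, 8, 0, 15, 4], [167, 169, 167, 217]⟩, ⟨141, [12, 8, 4, 8, 12, 6, 10, 2], [266, 268, 266]⟩, ⟨208, [12, 10, 4, 8, 7, 10, 8, 6, 10, 4, 8, 4, 6], []⟩],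
  .tm 1 [12, 8, 10, 8, 6, 10, 8, 10, 4, 8, 10] [] [⟨2559, [], []⟩],
  .tm 22 [12, 8, 10, 8, 7, 10, 4, 8] [] [⟨119, [12, 6, 10, 8, 4, 8, 2, 15], [217]⟩, ⟨141, [12, 7, 10, 4, 8, 7, 10, 2], [268]⟩, ⟨1038, [4, 8, 7, 10, 8, 6, 10, 4, 2, 8, 10, 4], []⟩],
  .tm 1 [8, 10, 8, 6, 10, 4, 8, 7, 10, 8, 6, 10, 4, 7] [] [⟨2561, [], []⟩],
  .tm 22 [8, 6, 10, 8, 2, 10, 4] [] [⟨2193, [8, 7, 10, 8, 7, 10, 4, 8, 7], [216, 167, 169]⟩, ⟨141, [8, 10, 8, 6, 10, 2, 8, 4], [268]⟩, ⟨2003, [10, 8, 4, 8, 6, 10, 8, 0, 6, 10, 7], []⟩],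
  .tm 1 [12, 8, 7, 10, 8, 4, 8, 6, 10, 8, 0, 10, 4, 6] [] [⟨2563, [], []⟩],
  .tm 22 [12, 8, 4, 8, 10, 8, 4, 8, 15] [] [⟨2214, [10, 4, 8, 6, 10, 8, 4, 8, 2, 6, 10, 6], [167, 169, 167, 216, 167]⟩, ⟨141, [4, 8, 12, 8, 10, 2, 8, 4], [266, 268, 266]⟩, ⟨405, [12, 10, 8, 7, 10, 8, 6, 10], []⟩],
  .tm 1 [8, 12, 7, 10, 4, 8, 4] [] [⟨2565, [], []⟩],
  .tm 22 [7, 10, 8, 4, 8, 6, 10, 8, 0, 4, 6] [] [⟨1305, [8, 12, 8, 7, 10, 8, 4, 8, 6, 10, 8, 10, 4], [167, 217]⟩, ⟨141, [10, 4, 8, 12, 10, 4, 8, 4], [268, 266]⟩, ⟨1014, [12, 8, 4, 8, 10, 8, 6, 10, 4, 8, 6, 10, 6], []⟩],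
  .tm 1 [12, 10, 8, 7, 10, 4, 8, 0, 10] [] [⟨2567, [], []⟩],
  .tm 22 [12, 8, 10, 8, 0, 6, 10, 7] [] [⟨1121, [8, 12, 4, 8, 10, 8, 7, 10, 8, 15, 4], [169, 216, 167, 169]⟩, ⟨141, [8, 6, 10, 8, 6, 10, 8, 4], [266]⟩, ⟨2031, [8, 12, 6, 10, 8, 10, 8, 4, 8, 6, 10, 8, 2, 10, 4, 7], []⟩],
  .tm 1 [8, 12, 8, 10, 4, 8, 7, 10, 4, 8, 10, 4, 6] [] [⟨2569, [], []⟩],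
  .tm 22 [8, 12, 10, 8, 4, 8, 6, 10, 8, 2, 6, 10, 4, 7] [] [⟨365, [10, 8, 4, 8, 2, 4, 6], [216, 167]⟩, ⟨141, [8, 12, 10, 4, 8, 10, 8, 4], [268, 266]⟩, ⟨2446, [8, 4, 8, 10, 8, 6, 10, 8, 6, 10, 4], []⟩],
  .tm 1 [8, 12, 8, 10, 8, 7, 10, 8, 10, 4, 8, 6, 10, 6] [] [⟨2571, [], []⟩],
  .tm 22 [8, 12, 10, 8, 4, 8, 10, 8, 6, 10, 8, 15, 6] [] [⟨1498, [12, 8, 10, 8, 7, 10, 8, 4, 8, 0, 10, 4, 6], [167, 216, 167]⟩, ⟨141, [10, 4, 8, 4, 8, 12, 8, 4], []⟩, ⟨1778, [8, 12, 8, 10, 8, 6, 10, 8, 7, 10, 8, 6, 10, 7], []⟩],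
  .tm 1 [8, 2, 4] [] [⟨2573, [], []⟩],
  .tm 22 [8, 10, 4, 8, 6, 10, 8, 7, 10, 4, 8, 2, 7] [] [⟨1845, [8, 12, 10, 4, 8, 2], [169, 167, 217, 167, 169]⟩, ⟨141, [7, 10, 8, 10, 8, 12, 8, 4], []⟩, ⟨892, [8, 12, 10, 8, 7, 10, 8, 6, 10], []⟩],
  .tm 1 [6, 10, 8, 4, 8, 7, 10, 8, 6, 10, 4, 6] [] [⟨2575, [], []⟩],
  .tm 22 [8, 12, 4, 8, 10, 8, 4, 8, 6, 10, 8, 10, 4, 7] [] [⟨1139, [12, 8, 6, 10, 4, 8, 0, 6, 10, 4, 7], [217, 167, 169]⟩, ⟨141, [8, 7, 10, 4, 2, 8, 12, 4], [268]⟩, ⟨1308, [12, 7, 10, 8, 10, 8, 4, 8, 7, 10, 8, 2, 6, 10, 4], []⟩],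
  .tm 1 [6, 10, 8, 4, 8, 6, 10, 8, 2, 10] [] [⟨2577, [], []⟩],
  .tm 22 [12, 10, 8, 10, 4, 8, 6, 10, 8, 2, 10, 6] [] [⟨1795, [10, 8, 7, 10, 8, 6, 10, 4, 2, 8, 15, 4], [167, 217, 167]⟩, ⟨141, [8, 12, 6, 10, 4, 8, 7, 10], [266]⟩, ⟨2112, [12, 8, 4, 8, 7, 10, 8, 6, 10, 4, 8, 2, 15, 6], []⟩],
  .tm 1 [8, 12, 10, 8, 2, 15, 4] [] [⟨2579, [], []⟩],
  .tm 22 [12, 6, 10, 8, 4, 8, 7, 10, 2, 8] [] [⟨1875, [12, 8, 6, 10, 8, 7, 10, 8, 4, 8, 10, 4], [167, 169, 167, 217, 167, 169]⟩, ⟨141, [7, 10, 4, 8, 12, 8, 7, 10], [266, 268, 266]⟩, ⟨2315, [2, 0, 6, 10, 4, 6], []⟩],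
  .tm 1 [8, 10, 8, 6, 10, 8, 7, 10, 4, 8, 15, 4, 7] [] [⟨2581, [], []⟩],
  .tm 22 [8, 10, 8, 4, 8, 6, 10, 8, 4] [] [⟨198, [12, 8, 7, 10, 8, 6, 10, 4, 8, 0], []⟩, ⟨141, [10, 4, 8, 12, 10, 2, 8, 10], []⟩, ⟨1574, [12, 8, 10, 8, 4, 8, 10, 8, 4], []⟩],
  .tm 1 [8, 12, 4, 8, 10, 8, 6, 10, 8, 0, 10, 4, 6] [] [⟨2583, [], []⟩],
  .tm 22 [8, 12, 4, 8, 4, 8, 10, 8, 6, 10, 8, 2, 4] [] [⟨2561, [10, 4, 8, 7, 10, 8, 6, 10, 4, 8, 2, 6, 10, 6], [167, 217, 167, 169]⟩, ⟨141, [8, 7, 10, 8, 12, 10, 8, 10], [268]⟩, ⟨324, [12, 7, 10, 8, 4, 8, 10, 8, 4, 6], []⟩],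
  .tm 1 [8, 10, 4, 8, 7, 10, 8, 6, 10, 8, 2, 10, 4, 7] [] [⟨2585, [], []⟩],
  .tm 22 [12, 7, 10, 8, 6, 10, 4, 8, 7, 10, 8, 4, 7] [] [⟨627, [4, 8, 6, 10, 8, 6, 10, 7], [169, 167, 216, 167, 217]⟩, ⟨141, [8, 4, 8, 7, 10, 4, 8, 12], [268]⟩, ⟨2398, [12, 4, 8, 10, 8, 0, 7], []⟩],
  .tm 1 [10, 8, 10, 4, 8, 7, 10, 8, 2, 10, 4, 7] [] [⟨2587, [], []⟩],
  .tm 22 [12, 7, 10, 8, 4, 2, 8, 15] [] [⟨2586, [12, 8, 4, 8, 7, 10, 8, 6, 10, 8, 2, 15], [169, 217, 167, 216]⟩, ⟨141, [10, 8, 4, 8, 7, 10, 8, 12], [266, 268]⟩, ⟨1711, [8, 6, 10, 4, 8, 6], []⟩],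
  .tm 1 [8, 6, 10, 8, 7, 10, 4, 8, 4, 7] [] [⟨2589, [], []⟩],
  .tm 22 [8, 12, 4, 8, 10, 8, 6, 10, 4, 7] [] [⟨1121, [8, 12, 7, 10, 8, 4, 8, 7, 10, 8, 15, 4], [169, 216, 167, 169]⟩, ⟨141, [4, 8, 12, 10, 8, 10, 8, 12], []⟩, ⟨2548, [8, 12, 10, 8, 6, 10, 8, 7, 10, 8, 7], []⟩],
  .tm 1 [8, 10, 8, 6, 10, 4, 8, 6, 10] [] [⟨2591, [], []⟩],
  .tm 22 [12, 8, 6, 10, 8, 4, 8, 10, 8, 6, 10, 4, 6] [] [⟨627, [8, 7, 10, 8, 15, 4, 7], [167, 169, 167, 217, 167, 216]⟩, ⟨141, [12, 10, 8, 6, 10, 8, 7, 10, 2], []⟩, ⟨2540, [8, 12, 10, 4, 8, 7, 10, 8, 6, 10, 4, 8, 6, 10, 4], []⟩],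
  .tm 1 [8, 12, 8, 7, 10, 8, 4, 2, 8, 6, 10] [] [⟨2593, [], []⟩],
  .tm 11 [12, 8, 10, 6] [] [⟨387, [4, 8, 10, 8, 6, 10, 4, 8, 0, 15, 4, 6], [169, 216, 167, 217]⟩, ⟨141, [10, 8, 4, 8, 10, 8, 12], [268]⟩, ⟨1296, [4, 8, 4, 8, 7, 10, 8, 6, 10, 8, 6, 10], []⟩],
  .tm 1 [8, 12, 7, 10, 8, 7, 10, 4, 8, 2, 10, 7] [] [⟨2595, [], []⟩],
  .tm 11 [8, 10, 4, 2, 8, 15, 6] [] [⟨1546, [10, 8, 6, 10, 8, 7, 10, 4, 8, 15, 4, 7], [167, 216, 167]⟩, ⟨141, [8, 10, 4, 8, 10, 8, 12], [266]⟩, ⟨449, [10, 8, 4, 8, 6, 10, 8, 6, 10, 4, 6], []⟩],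
  .tm 11 [8, 10, 8, 15] [] [⟨727, [12, 6, 10, 8, 7, 10, 8, 4, 8, 0, 10], [216, 167]⟩, ⟨141, [8, 10, 8, 12, 6, 10, 4, 0], []⟩, ⟨399, [8, 10, 8, 4, 8, 6, 10, 8, 2, 10, 4, 7], []⟩],
  .tm 1 [8, 10, 8, 7, 10, 8, 4, 2, 8, 6, 10, 6] [] [⟨2598, [], []⟩]]

theorem fc2525 : checkL (nat_lit 12) (nat_lit 4095) tH tK tK' BB FF TM XW d2525 (nat_lit 2525) = true := by decide +kernel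

def d2600 : List Der := [.tm 11 [12, 8, 10, 4, 8, 7, 10, 4, 8, 2, 6, 10, 4, 7] [] [⟨289, [6, 10, 8, 10, 8, 4, 8, 15, 4], [169, 167, 217, 167, 169]⟩, ⟨141, [12, 10, 4, 8, 7, 10, 4, 0], [268]⟩, ⟨2243, [6, 10, 8, 4, 2, 8, 10, 4], []⟩],
  .tm 1 [8, 12, 8, 4, 8, 6, 10, 8, 10, 4, 7] [] [⟨2600, [], []⟩],
  .tm 11 [4, 8, 10, 8, 7, 10, 4, 8, 0, 6, 10, 4] [] [⟨1467, [10, 8, 7, 10, 8, 4, 8, 6, 10], [169, 217, 167]⟩, ⟨141, [12, 8, 10, 8, 7, 10, 4, 0], [266, 268]⟩, ⟨556, [12, 4, 8, 10, 8, 7, 10, 4, 8, 0, 15, 7], []⟩],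
  .tm 1 [10, 8, 6, 10, 8, 10, 4, 8, 2, 7] [] [⟨2602, [], []⟩],
  .tm 11 [8, 12, 10, 8, 6, 10, 2, 8, 6, 10, 6] [] [⟨1019, [8, 6, 10, 8, 6, 10, 4, 8, 2, 6, 10], [167, 169, 217, 167, 216]⟩, ⟨141, [10, 8, 6, 10, 8, 12, 4, 0], [266, 268, 266]⟩, ⟨1946, [7, 10, 8, 10, 4, 8, 2, 4, 7], []⟩],
  .tm 1 [8, 12, 8, 7, 10, 8, 4, 8, 10, 8, 15, 4] [] [⟨2604, [], []⟩],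
  .tm 11 [8, 12, 7, 10, 8, 4, 8, 2, 4, 7] [] [⟨309, [8, 12, 10, 8, 10, 7], [167, 169, 167, 216, 167, 169]⟩, ⟨141, [4, 8, 7, 10, 8, 4, 8, 0], [266]⟩, ⟨1995, [12, 8, 7, 10, 8, 4, 8, 6, 10, 8, 0, 6, 10, 4, 6], []⟩],
  .tm 1 [6, 10, 8, 4, 8, 2, 4, 6] [] [⟨2606, [], []⟩],
  .tm 11 [12, 6, 10, 8, 7, 10, 4, 8, 2, 10, 4, 7] [] [⟨179, [12, 4, 8, 6, 10, 8, 7, 10, 8, 2, 4, 6], [216]⟩, ⟨141, [8, 10, 4, 8, 6, 10, 8, 0], []⟩, ⟨2078, [12, 6, 10, 8, 4, 8, 6, 10, 8, 6, 10, 4, 6], []⟩],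
  .tm 1 [10, 8, 7, 10, 8, 6, 10, 8, 6, 10, 7] [] [⟨2608, [], []⟩],
  .tm 11 [8, 10, 8, 6, 10, 8, 4, 8, 6, 10] [] [⟨213, [8, 12, 8, 6, 10, 4, 8, 7, 10, 8, 6, 10], [217]⟩, ⟨141, [12, 10, 4, 8, 6, 10, 8, 0], [266, 268]⟩, ⟨939, [12, 8, 7, 10, 8, 4, 2, 8, 10, 4, 7], []⟩],
  .tm 11 [4, 8, 10, 8, 4, 8, 6, 10, 8, 10, 7] [] [⟨241, [8, 12, 4, 8, 6, 10, 8, 4, 8, 15, 6], [169, 167, 217]⟩, ⟨141, [8, 12, 10, 8, 6, 10, 8, 0], [268]⟩, ⟨1717, [12, 4, 8, 7, 10, 8, 6, 10, 4, 8, 0, 6, 10], []⟩],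
  .tm 1 [10, 8, 4, 8, 10, 8, 6, 10, 8, 0, 6, 10, 4] [] [⟨2611, [], []⟩],
  .tm 11 [7, 10, 8, 6, 10, 4, 8, 2, 6, 10, 4] [] [⟨124, [8, 12, 8, 4, 8, 7, 10, 8, 2, 6, 10, 6], [167, 169, 216, 167, 169]⟩, ⟨141, [8, 10, 8, 12, 8, 10, 8, 0], [268, 266]⟩, ⟨1867, [12, 8, 4, 8, 7, 10, 8, 6, 10, 4, 8, 6, 10, 7], []⟩],
  .tm 1 [12, 10, 8, 6, 10, 8, 0, 6, 10, 4, 7] [] [⟨2613, [], []⟩],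
  .tm 11 [12, 8, 6, 10, 8, 7, 10, 4, 8, 2, 6, 10, 4] [] [⟨1130, [8, 12, 4, 8, 10, 4, 8, 7, 10, 8, 0, 15], [167, 169, 167, 217, 167, 216]⟩, ⟨141, [8, 6, 10, 8, 12, 10, 8, 0], [266, 268]⟩, ⟨1296, [8, 10, 8, 10, 7], []⟩],
  .tm 1 [8, 12, 4, 8, 6, 10, 8, 4, 8, 10, 4, 7] [] [⟨2615, [], []⟩],
  .tm 11 [12, 4, 8, 7, 10, 8, 4, 8, 2, 10, 6] [] [⟨289, [8, 12, 10, 8, 7, 10, 4, 8, 6, 10, 8, 2, 10, 4], [216, 167]⟩, ⟨141, [12, 10, 8, 4, 8, 6, 10, 0], [268, 266]⟩, ⟨1507, [8, 4, 8, 10, 2, 8, 10, 4], []⟩],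
  .tm 1 [8, 12, 8, 10, 4, 8, 6, 10, 8, 7, 10, 8, 4] [] [⟨2617, [], []⟩],
  .tm 11 [12, 7, 10, 8, 6, 10, 8, 7, 10, 4, 8, 2, 10, 4, 7] [] [⟨786, [10, 8, 4, 2, 8, 15, 4, 6], [167, 169, 167, 217]⟩, ⟨141, [10, 8, 10, 4, 8, 6, 10, 0], [266]⟩, ⟨1991, [12, 8, 7, 10, 8, 4, 2, 8, 10, 4, 7], []⟩],
  .tm 1 [4, 8, 7, 10, 8, 6, 10, 8, 6, 10, 6] [] [⟨2619, [], []⟩],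
  .tm 11 [8, 12, 8, 10, 8, 10, 4, 8, 4, 7] [] [⟨200, [12, 10, 8, 4, 8, 10, 8, 15, 4, 6], [167, 216]⟩, ⟨141, [8, 12, 6, 10, 4, 8, 10, 0], [266, 268]⟩, ⟨1606, [10, 8, 6, 10, 2, 8, 6, 10, 6], []⟩],
  .tm 1 [12, 8, 4, 8, 10, 8, 7, 10, 8, 7] [] [⟨2621, [], []⟩],
  .tm 11 [8, 12, 8, 6, 10, 8, 15, 6] [] [⟨2437, [8, 10, 4, 8, 6, 10, 8, 7, 10, 8, 2, 10, 4, 7], [167, 169, 167, 216, 167]⟩, ⟨141, [10, 4, 8, 7, 10, 8, 12, 0], [266, 268, 266]⟩, ⟨1717, [12, 10, 8, 10, 4, 8, 6, 10, 8, 10, 4, 6], []⟩],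
  .tm 1 [8, 12, 8, 4, 8, 10, 8, 6, 10, 2, 8, 10, 6] [] [⟨2623, [], []⟩],
  .tm 11 [8, 10, 8, 7, 10, 8, 6, 10, 8, 2, 15, 7] [] [⟨354, [10, 8, 10, 8, 4, 8, 2, 10, 7], [217, 167, 169]⟩, ⟨141, [4, 8, 4, 8, 10, 8, 12, 0], [266, 268]⟩, ⟨2069, [8, 6, 10, 8, 7, 10, 4, 8, 6, 10, 8, 15, 4, 7], []⟩],
  .tm 1 [8, 12, 8, 10, 4, 8, 0, 4] [] [⟨2625, [], []⟩],
  .tm 11 [8, 10, 8, 10, 4, 8, 7, 10, 8, 2, 10, 4, 7] [] [⟨183, [12, 8, 10, 4, 8, 7, 10, 8, 4, 8, 2, 10, 4, 6], [169, 217, 167]⟩, ⟨141, [8, 12, 10, 8, 10, 8, 12, 0], [266]⟩, ⟨835, [8, 7, 10, 8, 6, 10, 4, 8, 2, 6, 10, 4, 7], []⟩],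
  .tm 1 [8, 6, 10, 8, 10, 4, 8, 2, 7] [] [⟨2627, [], []⟩],
  .tm 11 [12, 8, 10, 8, 6, 10, 8, 7, 10, 4, 8, 0, 6, 10, 7] [] [⟨1130, [8, 4, 8, 10, 8, 7, 10, 4, 8, 2, 15, 6], [169, 216, 167]⟩, ⟨141, [12, 6, 10, 8, 4, 8, 4, 2], [268]⟩, ⟨1606, [8, 10, 8, 6, 10, 8, 2, 6, 10, 6], []⟩],
  .tm 1 [12, 8, 10, 8, 6, 10, 2, 8, 15, 4, 6] [] [⟨2629, [], []⟩],
  .tm 11 [12, 6, 10, 4, 2, 8, 10, 4, 7] [] [⟨629, [8, 12, 4, 8, 10, 4, 8, 7], [167, 217, 167, 216]⟩, ⟨141, [10, 8, 6, 10, 4, 8, 4, 2], [266, 268, 266]⟩, ⟨994, [7, 10, 8, 10, 8, 4, 8, 7, 10, 8, 10, 4], []⟩],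
  .tm 1 [8, 7, 10, 8, 7, 10, 4, 8, 15, 4, 6] [] [⟨2631, [], []⟩],
  .tm 11 [12, 8, 7, 10, 8, 6, 10, 4, 8, 0, 15, 7] [] [⟨2599, [8, 12, 6, 10, 2, 8, 15, 7], [167, 217, 167, 216]⟩, ⟨141, [8, 12, 10, 8, 6, 10, 4, 2], [266]⟩, ⟨2289, [8, 6, 10, 8, 0, 10], []⟩],
  .tm 1 [10, 8, 4, 8, 10, 8, 2, 4] [] [⟨2633, [], []⟩],
  .tm 11 [12, 4, 8, 10, 8, 7, 10, 4, 8, 6, 10, 7] [] [⟨311, [10, 8, 7, 10, 8, 6, 10, 4, 8, 2, 4, 7], [169, 167, 216]⟩, ⟨141, [10, 4, 8, 12, 7, 10, 4, 2], [268]⟩, ⟨2078, [12, 8, 10, 4, 8, 6, 10, 4, 8, 2, 6, 10], []⟩],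
  .tm 1 [8, 7, 10, 8, 7, 10, 8, 4, 8, 4, 6] [] [⟨2635, [], []⟩],
  .tm 11 [8, 12, 10, 8, 4, 8, 2, 15] [] [⟨1548, [8, 12, 6, 10, 8, 7, 10, 4, 8, 15, 4], [169]⟩, ⟨141, [7, 10, 8, 12, 7, 10, 4, 2], [268]⟩, ⟨579, [7, 10, 8, 4, 8, 2, 10, 4, 7], []⟩],
  .tm 11 [8, 12, 8, 6, 10, 8, 7, 10, 4, 8, 6, 10, 8, 10] [] [⟨1903, [6, 10, 8, 4, 2, 8, 15], [167, 169, 167, 217]⟩, ⟨141, [12, 8, 7, 10, 8, 10, 4, 2], [266, 268, 266]⟩, ⟨1358, [12, 8, 10, 4, 8, 6, 10, 8, 4, 8, 6, 10], []⟩],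
  .tm 1 [12, 8, 10, 8, 6, 10, 8, 4, 2, 8, 10, 4, 7] [] [⟨2638, [], []⟩],
  .tm 11 [12, 8, 10, 8, 10, 4, 8, 7, 10, 8, 10, 7] [] [⟨571, [12, 4, 2, 8, 10, 6], [169, 167, 217, 167, 169]⟩, ⟨141, [12, 8, 6, 10, 8, 12, 4, 2], [266, 268, 266]⟩, ⟨2192, [6, 10, 8, 10, 4, 8, 2, 4, 7], []⟩],
  .tm 1 [12, 8, 7, 10, 8, 7, 10, 4, 8, 2, 6, 10, 4, 6] [] [⟨2640, [], []⟩],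
  .tm 11 [12, 8, 10, 8, 6, 10, 8, 4, 8, 0, 10, 4, 6] [] [⟨1117, [8, 10, 4, 8, 6, 10, 8, 7, 10, 4, 8, 6], [217, 167, 169]⟩, ⟨141, [8, 12, 10, 4, 8, 4, 8, 2], [266, 268, 266]⟩, ⟨770, [8, 4, 8, 10, 8, 6, 10, 8, 6, 10, 4, 6], []⟩],
  .tm 1 [8, 12, 10, 8, 10, 4, 8, 6, 10, 8, 2, 10, 4, 6] [] [⟨2642, [], []⟩],
  .tm 11 [8, 7, 10, 8, 7, 10, 8, 4, 8, 4] [] [⟨311, [12, 8, 7, 10, 8, 4, 8, 15, 7], [216, 167, 169]⟩, ⟨141, [6, 10, 8, 12, 10, 4, 8, 2], [268, 266]⟩, ⟨743, [10, 4, 8, 7, 10, 8, 2, 15, 4], []⟩],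
  .tm 1 [8, 12, 6, 10, 8, 7, 10, 8, 6, 10, 4, 8, 2, 10] [] [⟨2644, [], []⟩],
  .tm 11 [7, 10, 8, 6, 10, 4, 8, 2, 15, 7] [] [⟨2628, [8, 12, 8, 6, 10, 2, 8, 10, 4, 6], [167, 217, 167]⟩, ⟨141, [10, 8, 7, 10, 8, 12, 8, 2], [266, 268, 266]⟩, ⟨1391, [8, 10, 4, 8, 7, 10, 8, 15, 4, 6], []⟩],
  .tm 1 [12, 6, 10, 8, 4, 2, 8, 15, 4, 6] [] [⟨2646, [], []⟩],
  .tm 11 [12, 8, 4, 8, 6, 10, 8, 7, 10, 4, 8, 10, 4] [] [⟨629, [7, 10, 8, 6, 10, 4, 8, 2, 6, 10, 4, 6], [169, 217, 167, 216]⟩, ⟨141, [8, 12, 8, 10, 8, 6, 10, 2], [268, 266]⟩, ⟨2512, [12, 4, 8, 10, 8, 6, 10, 8, 6, 10, 4, 7], []⟩],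
  .tm 1 [6, 10, 8, 7, 10, 8, 15, 4] [] [⟨2648, [], []⟩],
  .tm 11 [12, 8, 6, 10, 8, 4, 8, 7, 10, 8, 0, 4, 7] [] [⟨1905, [8, 12, 8, 6, 10, 4, 8, 10, 4], [169, 167, 216, 167, 169]⟩, ⟨141, [8, 6, 10, 4, 8, 7, 10, 2], [266, 268]⟩, ⟨1627, [12, 8, 2], []⟩],
  .tm 1 [12, 8, 6, 10, 8, 7, 10, 4, 8, 2, 6, 10] [] [⟨2650, [], []⟩],
  .tm 11 [12, 8, 10, 4, 8, 6, 10, 8, 7, 10, 8, 2, 15, 4, 6] [] [⟨955, [12, 8, 7, 10, 4, 8, 6, 10, 8, 2, 15, 4], [169, 167, 216, 167]⟩, ⟨141, [12, 7, 10, 4, 8, 7, 10, 2], [266, 268]⟩, ⟨1995, [12, 8, 10, 8, 4, 8, 6, 10, 8, 0, 6, 10, 4, 7], []⟩],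
  .tm 1 [8, 12, 8, 10, 8, 7, 10, 8, 4, 2, 8] [] [⟨2652, [], []⟩],
  .tm 11 [12, 8, 7, 10, 8, 6, 10, 4, 8, 6, 10, 7] [] [⟨953, [8, 12, 7, 10, 4, 2, 8, 4, 6], [167, 169, 167]⟩, ⟨141, [10, 8, 10, 4, 8, 7, 10, 2], [266, 268, 266]⟩, ⟨2289, [4, 8, 10, 8, 7, 10, 8, 15, 4, 6], []⟩],
  .tm 1 [12, 8, 10, 8, 7, 10, 8, 4, 8, 2] [] [⟨2654, [], []⟩],
  .tm 11 [7, 10, 8, 10, 8, 4, 8, 2, 15, 4] [] [⟨1981, [8, 12, 10, 8, 7, 10, 4, 8, 6, 10, 4, 7], [169, 217, 167]⟩, ⟨141, [8, 7, 10, 8, 4, 8, 10, 2], [266, 268, 266]⟩, ⟨1413, [10, 4, 8, 0, 10, 4, 6], []⟩],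
  .tm 1 [10, 8, 4, 8, 6, 10, 8, 2, 7] [] [⟨2656, [], []⟩],
  .tm 11 [7, 10, 8, 4, 8, 6, 10, 8, 0, 7] [] [⟨1546, [8, 12, 8, 10, 8, 6, 10, 8, 7, 10, 4, 8, 15, 4], [167, 169, 216]⟩, ⟨141, [8, 12, 7, 10, 4, 8, 10, 2], [266]⟩, ⟨2243, [8, 6, 10, 8, 4, 8, 2, 10, 4], []⟩],
  .tm 1 [8, 12, 8, 10, 4, 8, 6, 10, 8, 7, 10, 8, 4, 7] [] [⟨2658, [], []⟩],
  .tm 11 [10, 8, 6, 10, 8, 4, 2, 8, 10, 7] [] [⟨687, [8, 12, 10, 8, 7, 10, 8, 6, 10, 8, 15, 4], [167, 169, 167, 217, 167, 169]⟩, ⟨141, [12, 4, 8, 10, 8, 4, 8, 4], [266, 268]⟩, ⟨1946, [8, 10, 4, 8, 10, 4], []⟩],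
  .tm 1 [12, 10, 4, 8, 7, 10, 8, 0, 4, 7] [] [⟨2660, [], []⟩],
  .tm 11 [4, 8, 10, 4, 8, 7, 10, 8, 0, 6, 10] [] [⟨645, [10, 4, 8, 7, 10, 8, 4, 8, 4, 7], [169, 217]⟩, ⟨141, [12, 6, 10, 8, 6, 10, 8, 4], [266, 268]⟩, ⟨1995, [12, 7, 10, 8, 4, 8, 6, 10, 8, 6, 10, 4, 6], []⟩],
  .tm 1 [12, 7, 10, 8, 6, 10, 8, 2, 15, 7] [] [⟨2662, [], []⟩],
  .tm 11 [12, 8, 6, 10, 8, 4, 8, 6, 10, 8, 2, 15, 4, 6] [] [⟨645, [8, 12, 8, 10, 8, 6, 10, 8, 0], [217, 167, 169]⟩, ⟨141, [4, 8, 7, 10, 8, 12, 8, 4], [266, 268, 266]⟩, ⟨579, [8, 4, 8, 10, 8, 6, 10, 8, 6, 10, 4], []⟩],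
  .tm 1 [12, 10, 8, 6, 10, 8, 4, 2, 8, 10, 6] [] [⟨2664, [], []⟩],
  .tm 11 [8, 4, 8, 2, 7] [] [⟨1185, [12, 6, 10, 8, 4, 8, 2, 15, 6], [169, 216, 167, 217]⟩, ⟨141, [12, 10, 4, 2, 8, 7, 10, 4], [268]⟩, ⟨2069, [6, 10, 8, 4, 2, 8, 10, 4], []⟩],
  .tm 1 [8, 10, 8, 7, 10, 8, 6, 10, 8, 2, 6, 10] [] [⟨2666, [], []⟩],
  .tm 11 [12, 8, 7, 10, 8, 4, 8, 6, 10, 8, 15, 4, 6] [] [⟨1359, [12, 8, 10, 8, 6, 10, 8, 10, 4, 8, 2, 6], [167, 217]⟩, ⟨141, [8, 12, 8, 10, 8, 7, 10, 4], [268, 266]⟩, ⟨743, [8, 4, 8, 10, 8, 4, 8, 10, 7], []⟩],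
  .tm 1 [12, 4, 8, 10, 8, 6, 10, 4, 2, 8, 10, 6] [] [⟨2668, [], []⟩],
  .tm 11 [8, 7, 10, 8, 4, 8, 10, 8, 2, 10, 4, 7] [] [⟨663, [12, 10, 8, 4, 8, 10, 8, 15, 4], [167, 216, 167, 169]⟩, ⟨141, [8, 12, 4, 8, 7, 10, 2, 8], [268, 266]⟩, ⟨1391, [10, 8, 7, 10, 8, 4, 2, 8, 15, 4, 6], []⟩],
  .tm 1 [8, 12, 8, 10, 8, 7, 10, 8, 6, 10, 4, 2, 8, 10, 4, 7] [] [⟨2670, [], []⟩]]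

theorem fc2600 : checkL (nat_lit 12) (nat_lit 4095) tH tK tK' BB FF TM XW d2600 (nat_lit 2600) = true := by decide +kernel

def d2672 : List Der := [.tm 11 [8, 10, 8, 6, 10, 8, 10, 4, 6] [] [⟨901, [10, 8, 10, 4, 8, 6, 10, 2, 8, 6, 10, 7], [169, 216, 167]⟩, ⟨141, [8, 10, 8, 4, 8, 10, 2, 8], [268, 266]⟩, ⟨2069, [10, 8, 4, 8, 7, 10, 8, 0, 15, 4, 6], []⟩],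
  .tm 1 [8, 12, 8, 10, 8, 7, 10, 8, 10, 4, 8, 6, 10, 6] [] [⟨2672, [], []⟩],
  .tm 11 [10, 8, 4, 8, 15, 4] [] [⟨585, [12, 4, 8, 10, 4, 8, 7, 10, 8, 2, 6, 10, 6], [169, 216]⟩, ⟨141, [6, 10, 4, 8, 6, 10, 4, 8], [268]⟩, ⟨1255, [8, 12, 4, 8, 7, 10, 8, 6, 10, 4, 8, 6, 10, 6], []⟩],
  .tm 1 [8, 12, 8, 7, 10, 8, 6, 10, 8, 7, 10, 4, 8, 10] [] [⟨2674, [], []⟩],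
  .tm 11 [8, 12, 4, 8, 6, 10, 8, 7, 10, 8, 6, 10] [] [⟨1498, [10, 4, 8, 6, 10, 2, 8, 6, 10, 7], [169, 167, 216]⟩, ⟨141, [10, 8, 7, 10, 8, 10, 4, 8], [268, 266]⟩, ⟨499, [8, 12, 8, 7], []⟩],
  .tm 1 [8, 10, 4, 7] [] [⟨2676, [], []⟩],
  .tm 11 [8, 12, 8, 10, 8, 6, 10, 4, 8, 7, 10, 8, 2, 6, 10, 7] [] [⟨687, [10, 4, 8, 7, 10, 8, 6, 10, 8, 2, 15, 6], [169, 167, 217, 167]⟩, ⟨141, [8, 12, 7, 10, 8, 10, 4, 8], [268]⟩, ⟨1751, [12, 8, 7, 10, 8, 6, 10, 4, 8, 7, 10, 8, 6, 10, 4], []⟩],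
  .tm 1 [8, 10, 4, 8, 6, 10, 8, 4, 8, 2, 6, 10, 6] [] [⟨2678, [], []⟩],
  .tm 11 [8, 10, 8, 4, 8, 6, 10, 8, 15, 6] [] [⟨895, [12, 8, 6, 10, 8, 6, 10, 4, 8, 10, 6], [169, 167, 216, 167, 217]⟩, ⟨141, [10, 4, 8, 4, 8, 6, 10, 8], [266]⟩, ⟨2512, [12, 10, 4, 8, 7, 10, 8, 6, 10, 4, 8, 15, 7], []⟩],
  .tm 1 [4, 8, 7, 10, 4, 8, 2, 10, 4, 7] [] [⟨2680, [], []⟩],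
  .tm 11 [12, 8, 7, 10, 8, 6, 10, 4, 8, 2, 15] [] [⟨1795, [4, 8, 7, 10, 8, 6, 10, 8, 2, 15], [169, 167, 216, 167]⟩, ⟨141, [8, 4, 8, 7, 10, 8, 12, 8], [266, 268]⟩, ⟨2243, [8, 4, 8, 6, 10, 8, 7, 10, 8, 15, 4, 7], []⟩],
  .tm 1 [8, 12, 10, 8, 10, 4, 8, 7, 10, 2, 8, 15, 7] [] [⟨2682, [], []⟩],
  .tm 11 [8, 12, 8, 10, 4, 8, 7, 10, 8, 6, 10, 8, 4, 7] [] [⟨166, [8, 12, 10, 4, 8, 7, 10, 8, 4, 8], [169, 216, 167, 169]⟩, ⟨141, [6, 10, 4, 8, 10, 8, 12, 8], [266]⟩, ⟨204, [12, 6, 10, 8, 7, 10, 8, 2, 6, 10, 4, 7], []⟩],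
  .tm 1 [6, 10, 8, 4, 8, 7, 10, 8, 2, 10, 7] [] [⟨2684, [], []⟩],
  .tm 11 [8, 12, 8, 4, 8, 6, 10, 8, 7, 10, 4, 8, 2, 10, 4, 7] [] [⟨977, [12, 10, 8, 4, 8, 7, 10, 2, 8, 7], [167, 169, 167, 217, 167]⟩, ⟨141, [4, 8, 7, 10, 4, 8, 7, 10], []⟩, ⟨939, [12, 4, 8, 10, 8, 6, 10, 8, 6, 10, 4, 7], []⟩],
  .tm 1 [12, 7, 10, 8, 7, 10, 8, 4, 8, 7] [] [⟨2686, [], []⟩],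
  .tm 11 [12, 8, 4, 8, 10, 4, 8, 6, 10, 8, 6, 10] [] [⟨2639, [12, 8, 10, 8, 6, 10, 8, 10, 4, 8, 6, 10, 6], [167, 217, 167]⟩, ⟨141, [7, 10, 4, 8, 6, 10, 8, 4, 0], []⟩, ⟨485, [12, 8, 4, 8, 10, 8, 7, 10, 4, 2, 8, 10, 7], []⟩],
  .tm 1 [12, 8, 10, 4, 8, 7, 10, 8, 6, 10, 8, 6, 10] [] [⟨2688, [], []⟩],
  .tm 11 [8, 12, 7, 10, 4, 8, 2, 6, 10, 4, 7] [] [⟨639, [8, 4, 8, 10, 2, 8, 6, 10, 4], [167, 169, 167, 217, 167, 216]⟩, ⟨141, [10, 4, 8, 12, 8, 7, 10, 4, 0], [268]⟩, ⟨2673, [8, 4, 8, 10, 8, 7, 10, 8, 15, 4, 6], []⟩],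
  .tm 1 [7, 10, 8, 6, 10, 4, 8, 15, 6] [] [⟨2690, [], []⟩],
  .tm 11 [8, 12, 8, 4, 8, 6, 10, 8, 4, 8, 15, 4, 6] [] [⟨458, [12, 10, 8, 7, 10, 4, 8, 6, 10, 8, 15, 6], [167, 169, 217, 167, 216]⟩, ⟨141, [4, 8, 6, 10, 8, 12, 7, 10, 0], [266, 268]⟩, ⟨1858, [12, 10, 4, 8, 7, 10, 8, 2, 15, 4], []⟩],
  .tm 1 [10, 8, 7, 10, 4, 8, 0, 6, 10, 7] [] [⟨2692, [], []⟩],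
  .tm 11 [12, 10, 8, 6, 10, 4, 8, 2, 4, 6] [] [⟨330, [8, 4, 8, 10, 8, 10, 4], [167, 217, 167, 169]⟩, ⟨141, [7, 10, 4, 8, 12, 8, 6, 10, 2], [268]⟩, ⟨1703, [12, 8, 6, 10, 8, 4, 8, 2, 10, 4, 7], []⟩],
  .tm 1 [12, 4, 8, 10, 8, 15, 6] [] [⟨2694, [], []⟩],
  .tm 11 [12, 7, 10, 8, 10, 8, 4, 8, 7, 10, 8, 4, 7] [] [⟨458, [8, 12, 10, 8, 4, 8, 10, 8, 2, 4, 6], [167, 169, 167, 216, 167, 217]⟩, ⟨141, [6, 10, 8, 12, 2, 8, 6, 10, 4], [268]⟩, ⟨2673, [8, 10, 8, 6, 10, 4, 8, 7, 10, 8, 6, 10, 4, 6], []⟩],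
  .tm 1 [8, 12, 8, 6, 10, 4, 8, 7, 10, 8, 6, 10, 4] [] [⟨2696, [], []⟩],
  .tm 11 [8, 12, 10, 8, 6] [] [⟨1164, [12, 0, 10], [169, 216]⟩, ⟨141, [7, 10, 4, 8, 12, 2, 8, 6, 10], [268]⟩, ⟨1703, [12, 6, 10, 8, 4, 8, 2, 10, 4, 7], []⟩],
  .tm 1 [8, 7, 10, 8, 6, 10, 8, 2, 6, 10, 7] [] [⟨2698, [], []⟩],
  .tm 12 [8, 12, 10, 8, 7, 10, 4, 8, 10] [] [⟨1508, [8, 10, 8, 4, 8, 7, 10, 2, 8, 15, 4, 7], []⟩, ⟨141, [12, 4, 8, 10, 8, 4], [268, 266]⟩, ⟨2664, [8, 10, 8, 4, 8], []⟩],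
  .tm 12 [8, 12, 8, 6, 10, 8, 7, 10, 4, 8, 6, 10, 8, 2, 6, 10, 7] [] [⟨2427, [8, 12, 8, 6, 10, 8, 2, 15, 6], [169, 167, 217, 167, 169]⟩, ⟨141, [10, 8, 12, 4, 8, 10], [266]⟩, ⟨2670, [6, 10, 8, 7, 10, 4, 8, 6, 10, 8, 10, 6], []⟩],
  .tm 1 [12, 8, 4, 8, 6, 10, 8, 4, 8, 6, 10, 4] [] [⟨2701, [], []⟩],
  .tm 12 [8, 12, 6, 10, 8, 4, 8, 10, 8, 2, 15] [] [⟨330, [10, 8, 7, 10, 4, 2, 8, 10], [217, 167]⟩, ⟨141, [8, 6, 10, 4, 8, 12], [266]⟩, ⟨2629, [8, 12, 8, 10, 4, 2, 8, 15, 7], []⟩],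
  .tm 38 [12, 8, 10, 8, 2, 15, 6] [] [⟨458, [8, 12, 8, 7, 10, 8, 6, 10, 8, 4, 8, 6], [167, 217, 167, 216]⟩, ⟨141, [10, 4, 8, 12, 7, 10, 2], [268, 266]⟩, ⟨2512, [12, 8, 4, 8, 6, 10, 8, 2, 10, 4, 6], []⟩],
  .tm 1 [8, 12, 10, 8, 4, 8, 10, 8, 6, 10, 8, 15, 4, 6] [] [⟨2704, [], []⟩],
  .tm 23 [4, 8, 6, 10, 8, 0, 4] [] [⟨2193, [4, 8, 10, 8, 7, 10, 8, 10], [216]⟩, ⟨141, [8, 6, 10, 8, 12, 10, 8, 6, 10], [268]⟩, ⟨1440, [12, 8, 10, 2, 8, 15, 4, 7], []⟩],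
  .tm 1 [12, 4, 8, 10, 8, 0, 15, 4, 7] [] [⟨2706, [], []⟩],
  .tm 23 [10, 8, 7, 10, 8, 6, 10, 4, 8, 2, 15, 6] [] [⟨1498, [12, 10, 8, 10, 4, 8, 7, 10, 8, 6, 10, 8, 15, 4, 6], [167, 169, 216, 167]⟩, ⟨141, [8, 6, 10, 8, 4, 2, 8, 7, 10], [268, 266]⟩, ⟨2455, [8, 4, 8, 6, 10, 8, 4, 8, 2, 6, 10], []⟩],
  .tm 1 [12, 8, 6, 10, 4, 8, 0, 6, 10, 7] [] [⟨2708, [], []⟩],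
  .tm 23 [8, 12, 4, 8, 7, 10, 8, 6, 10, 8, 2, 6, 10, 4, 6] [] [⟨160, [6, 10, 4, 8, 15, 4, 6], [169, 167, 217, 167]⟩, ⟨141, [8, 12, 10, 8, 7, 10, 8, 7, 10], [268]⟩, ⟨594, [4, 8, 6, 10, 2, 8, 10, 4, 7], []⟩],
  .tm 1 [12, 4, 8, 7, 10, 8, 6, 10, 4, 8, 2, 4, 6] [] [⟨2710, [], []⟩],
  .tm 23 [8, 12, 4, 8, 4, 8, 7, 10, 8, 6, 10, 8, 4] [] [⟨2193, [8, 4, 8, 10, 8, 4, 8, 2, 4, 7], [169, 216, 167, 169]⟩, ⟨141, [12, 4, 8, 10, 8, 12, 8, 7, 10], [268]⟩, ⟨2112, [8, 12, 8, 10, 8, 7, 10, 8, 4, 8, 10, 4], []⟩],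
  .tm 1 [12, 8, 10, 8, 7, 10, 8, 10, 4, 8, 2, 6, 10, 7] [] [⟨2712, [], []⟩],
  .tm 23 [8, 12, 4, 8, 10, 8, 6, 10, 4, 8, 0, 10, 4, 7] [] [⟨1875, [12, 8, 4, 8, 10, 4, 8, 7, 10, 8], [167, 169, 167, 217]⟩, ⟨141, [12, 10, 8, 10, 8, 12, 8, 7, 10], []⟩, ⟨2629, [10, 8, 6, 10, 8, 4, 8, 2, 6], []⟩],
  .tm 1 [12, 6, 10, 8, 7, 10, 8, 4, 8, 2, 6, 10, 4, 7] [] [⟨2714, [], []⟩],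
  .tm 23 [8, 12, 8, 7, 10, 8, 7, 10, 8, 4, 8, 15, 7] [] [⟨2586, [12, 8, 10, 4, 8, 6, 10, 8, 7, 10, 4, 8, 15, 4, 6], [167, 217, 167, 216]⟩, ⟨141, [8, 7, 10, 4, 2, 8, 12, 7, 10], [266]⟩, ⟨2180, [8, 12, 10, 8, 10, 4, 8, 6, 10, 8, 6, 10, 7], []⟩],
  .tm 1 [12, 8, 7, 10, 8, 6, 10, 8, 2, 6, 10, 7] [] [⟨2716, [], []⟩],
  .tm 23 [8, 12, 2, 15] [] [⟨116, [4, 8, 7, 10, 8, 6, 10, 4, 2, 8, 6, 10], [167, 169, 167, 217]⟩, ⟨141, [7, 10, 4, 8, 4, 8, 12, 7, 10], [266, 268]⟩, ⟨417, [8, 12, 10, 8, 10, 4, 8, 6, 10, 8, 7, 10, 8, 6, 10, 7], []⟩],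
  .tm 1 [12, 10, 8, 4, 2, 8, 10, 4] [] [⟨2718, [], []⟩],
  .tm 23 [12, 8, 4, 8, 10, 8, 6, 10, 4, 2, 8, 10, 4, 6] [] [⟨2431, [8, 12, 8, 4, 8, 2, 10, 6], [169, 167, 216, 167, 169]⟩, ⟨141, [4, 8, 12, 8, 10, 4, 2, 8, 10], [268, 266]⟩, ⟨1879, [8, 12, 8, 10, 8, 10, 4, 8, 6, 10, 8, 10, 4], []⟩],
  .tm 23 [8, 6, 10, 8, 6, 10, 4, 8, 6, 10, 4, 6] [] [⟨365, [6, 10, 8, 10, 4, 8, 15, 4, 7], [216, 167]⟩, ⟨141, [10, 4, 8, 12, 7, 10, 2, 8, 10], [266, 268]⟩, ⟨2178, [8, 12, 8, 10, 4, 8, 7, 10, 8, 4, 8, 2, 10, 4, 6], []⟩],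
  .tm 1 [10, 8, 4, 8, 7, 10, 8, 2, 4, 7] [] [⟨2721, [], []⟩],
  .tm 23 [8, 12, 8, 10, 4, 8, 6, 10, 8, 7, 10, 8, 10, 4, 6] [] [⟨116, [10, 8, 10, 4, 8, 6, 10, 2, 8, 10, 4, 7], [169, 167, 217]⟩, ⟨141, [12, 10, 8, 7, 10, 8, 4, 8, 10], [268]⟩, ⟨1331, [12, 10, 8, 7, 10, 8, 6, 10, 4, 8, 2, 7], []⟩],
  .tm 1 [12, 7, 10, 8, 6, 10, 8, 2, 4, 6] [] [⟨2723, [], []⟩],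
  .tm 23 [8, 12, 7, 10, 8, 10, 4, 8] [] [⟨1795, [8, 10, 4, 8, 6, 10, 8, 6, 10, 4, 7], [167, 217]⟩, ⟨141, [12, 10, 4, 8, 6, 10, 4, 8, 10], []⟩, ⟨1731, [8, 12, 10, 8, 6, 10, 4, 8, 2, 6, 10, 6], []⟩],
  .tm 23 [12, 7, 10, 4, 8, 6, 10, 8, 10, 6] [] [⟨2214, [8, 10, 8, 4, 8, 10, 4, 6], [169, 167, 216]⟩, ⟨141, [8, 12, 8, 7, 10, 8, 4, 8, 12], [268]⟩, ⟨2498, [10, 8, 10, 4, 8, 6, 10, 8, 7, 10, 8, 10, 6], []⟩],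
  .tm 1 [8, 12, 8, 7, 10, 8, 0, 6, 10, 6] [] [⟨2726, [], []⟩],
  .tm 23 [12, 4, 8, 10, 8, 6, 10, 4, 8, 6, 10, 7] [] [⟨1624, [8, 12, 7, 10, 8, 6, 10, 8, 2, 10, 6], [167, 217]⟩, ⟨141, [8, 10, 4, 8, 6, 10, 4, 8, 12], []⟩, ⟨2475, [8, 12, 7, 10, 8, 6, 10, 8, 4, 8, 2, 4], []⟩],
  .tm 1 [8, 12, 10, 4, 8, 7, 10, 2, 8, 15] [] [⟨2728, [], []⟩],
  .tm 23 [8, 4, 8, 7, 10, 8, 4, 8] [] [⟨2561, [8, 10, 8, 7, 10, 8, 4, 2, 8, 10, 4, 6], [167, 169, 217, 167]⟩, ⟨141, [4, 8, 12, 6, 10, 8, 10, 8, 12], [266, 268, 266]⟩, ⟨2275, [8, 10, 8, 10, 4, 8, 6, 10, 8, 10], []⟩],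
  .tm 1 [12, 7, 10, 8, 6, 10, 8, 4, 8, 2, 15, 4, 6] [] [⟨2730, [], []⟩],
  .tm 23 [12, 8, 10, 4, 8, 7, 10, 8, 6, 10, 8, 15, 6] [] [⟨1415, [7, 10, 8, 7, 10, 8, 4, 8, 10, 6], [169, 216, 167, 169]⟩, ⟨141, [12, 10, 8, 4, 8, 6, 10, 8, 4, 0], [266, 268]⟩, ⟨2003, [12, 10, 8, 6, 10, 8, 7, 10, 8, 10, 6], []⟩],
  .tm 1 [12, 6, 10, 8, 10, 8, 4, 8, 6, 10, 8, 2, 6, 10, 4] [] [⟨2732, [], []⟩],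
  .tm 23 [8, 12, 8, 10, 8, 4, 2, 8, 15, 4, 6] [] [⟨1119, [8, 12, 7, 10, 8, 10, 8, 4, 8, 7, 10, 8, 2, 15, 4, 6], [169, 217]⟩, ⟨141, [10, 8, 10, 4, 8, 6, 10, 8, 4, 0], [266, 268]⟩, ⟨799, [8, 12, 10, 8, 10, 4, 8, 6, 10, 8, 7, 10, 8, 6, 10], []⟩],
  .tm 1 [8, 12, 8, 10, 4, 8, 6, 10, 8, 0, 15, 4, 6] [] [⟨2734, [], []⟩],
  .tm 23 [8, 12, 8, 4, 8, 10, 8, 7, 10, 4, 8, 6, 10, 7] [] [⟨1119, [8, 12, 8, 6, 10, 8, 7, 10, 4, 2, 8, 4], [169, 217, 167]⟩, ⟨141, [8, 10, 8, 4, 8, 7, 10, 8, 4, 0], []⟩, ⟨2070, [8, 12, 8, 10, 8, 7, 10, 8, 7], []⟩],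
  .tm 1 [12, 8, 10, 4, 8, 7, 10, 8, 2, 6, 10, 6] [] [⟨2736, [], []⟩],
  .tm 23 [12, 8, 6, 10, 8, 4, 8, 6, 10, 8, 2, 10, 4] [] [⟨1795, [8, 10, 8, 6, 10, 8, 10, 4, 8, 2, 15, 4, 7], [167, 169, 217]⟩, ⟨141, [10, 4, 8, 10, 4, 8, 12, 8, 4, 0], [266, 268, 266]⟩, ⟨2565, [8, 10, 8, 6, 10, 8, 4, 8, 0, 10, 7], []⟩],
  .tm 1 [8, 12, 8, 10, 8, 4, 8, 10, 8, 6] [] [⟨2738, [], []⟩],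
  .tm 23 [8, 12, 8, 6, 10, 8, 10, 4, 8, 10, 7] [] [⟨1250, [12, 4, 8, 4, 8, 10, 8, 7, 10, 8, 15, 4], [167, 217, 167, 216]⟩, ⟨141, [10, 4, 8, 12, 10, 8, 7, 10, 4, 0], [268]⟩, ⟨2594, [7, 10, 8, 4, 8, 2, 10, 4, 7], []⟩],
  .tm 23 [8, 12, 7, 10, 8, 7, 10, 4, 8, 6, 10, 4] [] [⟨806, [4, 8, 10, 4, 8, 10], [167, 169, 216, 167, 169]⟩, ⟨141, [12, 10, 4, 8, 6, 10, 8, 12, 4, 0], [268]⟩, ⟨1090, [12, 10, 8, 6, 10, 8, 7, 10, 4, 8, 0, 10, 6], []⟩],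
  .tm 1 [12, 8, 7, 10, 8, 7, 10, 8, 4, 8, 10, 4, 6] [] [⟨2741, [], []⟩]]

theorem fc2672 : checkL (nat_lit 12) (nat_lit 4095) tH tK tK' BB FF TM XW d2672 (nat_lit 2672) = true := by decide +kernel

def d2743 : List Der := [.tm 23 [10, 8] [] [⟨283, [10, 8, 4, 8, 6, 10, 8, 7, 10, 8, 6, 10, 4], [167, 216, 167, 169]⟩, ⟨141, [8, 12, 10, 4, 8, 10, 8, 12, 4, 0], [268, 266]⟩, ⟨1879, [8, 10, 8, 7, 10, 2, 8, 6, 10, 4, 6], []⟩],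
  .tm 1 [8, 10, 4, 8, 7, 10, 8, 6, 10, 4, 8, 10, 7] [] [⟨2743, [], []⟩],
  .tm 23 [10, 8, 10, 7] [] [⟨1508, [8, 10, 8, 6, 10, 8, 7, 10, 4, 8, 2, 6, 10, 4, 7], []⟩, ⟨141, [8, 6, 10, 4, 8, 12, 8, 7, 10, 0], []⟩, ⟨475, [4, 8, 10, 8, 6, 10, 4, 2, 8, 6, 10, 6], []⟩],
  .tm 1 [8, 12, 4, 8, 4, 8, 7, 10, 8, 6, 10, 8, 15, 6] [] [⟨2745, [], []⟩],
  .tm 23 [12, 10, 8, 4, 8, 7, 10, 8, 2, 10] [] [⟨116, [10, 8, 10, 8, 4, 8, 6, 10, 8, 2, 10, 4, 7], [169, 167, 217]⟩, ⟨141, [12, 10, 8, 7, 10, 8, 4, 8, 10, 0], [268, 266]⟩, ⟨2398, [8, 12, 10, 8, 4, 8, 10, 8, 2, 10, 4, 7], []⟩],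
  .tm 1 [12, 10, 8, 10, 8, 4, 8, 2, 10, 7] [] [⟨2747, [], []⟩],
  .tm 23 [8, 6, 10, 4, 8, 2, 4, 6] [] [⟨2193, [8, 10, 4, 8, 6, 10, 4, 8, 10, 4, 7], [169, 216, 167, 169]⟩, ⟨141, [10, 8, 4, 8, 6, 10, 4, 8, 4, 2], [268]⟩, ⟨2162, [8, 12, 10, 8, 7, 10, 8, 4, 8, 10], []⟩],
  .tm 1 [8, 12, 4, 8, 4, 8, 10, 8, 7, 10, 8, 2, 6, 10, 4] [] [⟨2749, [], []⟩],
  .tm 23 [12, 7, 10, 4, 8, 6, 10, 8, 4, 6] [] [⟨2193, [10, 8, 6, 10, 8, 7, 10, 4, 2, 8, 15], [216, 167, 169]⟩, ⟨141, [12, 8, 6, 10, 8, 12, 6, 10, 4, 2], [266, 268, 266]⟩, ⟨2679, [12, 8, 10, 8, 6, 10, 8, 4, 8, 2, 15, 7], []⟩],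
  .tm 1 [8, 12, 8, 10, 8, 4, 8, 7, 10, 8, 0, 15, 7] [] [⟨2751, [], []⟩],
  .tm 23 [12, 8, 7, 10, 8, 6, 10, 4, 8, 10] [] [⟨118, [8, 12, 8, 10, 4, 2, 8, 10, 4, 7], [167, 169, 167, 217, 167, 216]⟩, ⟨141, [8, 12, 8, 10, 8, 4, 8, 6, 10, 2], []⟩, ⟨1050, [10, 8, 10, 4, 8, 6, 10, 8, 7, 10, 8, 6, 10, 7], []⟩],
  .tm 1 [8, 12, 8, 4, 8, 2, 4, 7] [] [⟨2753, [], []⟩],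
  .tm 23 [8, 12, 10, 8, 7, 10, 8, 6, 10, 4, 8, 6, 10, 4] [] [⟨889, [8, 12, 4, 8, 10, 4, 8, 2, 15, 4, 7], [167, 216]⟩, ⟨141, [8, 12, 4, 8, 6, 10, 4, 8, 12, 2], [268]⟩, ⟨1343, [8, 12, 7, 10, 4, 8, 15], []⟩],
  .tm 1 [12, 8, 10, 4, 8, 6, 10, 8, 7, 10, 8, 15, 7] [] [⟨2755, [], []⟩],
  .tm 23 [12, 2, 8, 15, 7] [] [⟨1795, [6, 10, 4, 8, 2, 10, 4], [167, 169, 217, 167]⟩, ⟨141, [12, 8, 7, 10, 8, 7, 10, 8, 12, 4], [266]⟩, ⟨2112, [12, 8, 6, 10, 8, 4, 8, 0, 6, 10, 4, 7], []⟩],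
  .tm 1 [8, 12, 8, 4, 8, 7, 10, 8, 6, 10, 7] [] [⟨2757, [], []⟩],
  .tm 23 [12, 10, 8, 6, 10, 8, 10, 4, 8, 2, 4, 7] [] [⟨1415, [7, 10, 8, 10, 4, 8, 2, 10, 6], [216]⟩, ⟨141, [8, 10, 4], [266, 268, 266]⟩, ⟨1376, [8, 12, 4, 8, 2, 6, 10, 4, 7], []⟩],
  .tm 23 [8, 12, 4, 8, 10, 8, 7, 10, 4, 8, 2, 4] [] [⟨1415, [8, 4, 8, 10, 8, 0, 6, 10, 7], [216, 167]⟩, ⟨141, [4, 8, 10, 2], [268]⟩, ⟨1203, [8, 12, 7, 10, 8, 6, 10, 8, 7, 10, 4, 8, 2, 4], []⟩],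
  .tm 1 [8, 12, 6, 10, 8, 4] [] [⟨2760, [], []⟩],
  .tm 23 [4, 8, 4, 8, 7, 10, 8, 6, 10, 8, 4, 7] [] [⟨943, [8, 10, 8, 7, 10, 8, 10, 4, 8, 2, 6, 10, 4, 6], [167, 169, 167, 216]⟩, ⟨141, [12, 4, 2, 8, 4], [266]⟩, ⟨725, [12, 8, 10, 8, 4, 8, 0, 6, 10, 4, 7], []⟩],
  .tm 1 [8, 12, 7, 10, 8, 6, 10, 8, 10, 4, 6] [] [⟨2762, [], []⟩],
  .tm 23 [12, 8, 10, 4, 8, 6, 10, 8, 0, 15, 6] [] [⟨854, [8, 10, 4, 8, 7, 10, 4, 8, 15, 4], [167, 216, 167, 169]⟩, ⟨141, [8, 12, 10, 8, 4], [268, 266]⟩, ⟨1770, [12, 8, 10, 8, 7, 10, 8, 10, 4, 8, 6, 10, 4], []⟩],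
  .tm 1 [8, 7, 10, 8, 6, 10, 8, 7, 10, 4, 8, 7] [] [⟨2764, [], []⟩],
  .tm 23 [8, 12, 10, 4, 8, 6, 10, 8, 7, 10, 4, 8, 6, 10, 4, 7] [] [⟨1845, [8, 12, 8, 7, 10, 8, 6, 10, 8, 15, 4], [167, 169, 167, 217, 167]⟩, ⟨141, [8, 4, 8, 10, 4], [268, 266]⟩, ⟨1050, [12, 10, 8, 10, 4, 8, 6, 10, 8, 7, 10, 8, 6, 10, 6], []⟩],
  .tm 1 [8, 12, 4, 8, 7, 10, 8, 6, 10, 4, 8, 2, 6, 10, 4] [] [⟨2766, [], []⟩],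
  .tm 23 [8, 12, 10, 8, 6, 10, 8, 7, 10, 4, 8, 6, 10, 4, 6] [] [⟨1618, [8, 4, 8, 6, 10, 8, 7, 10, 4, 8, 2, 6, 10, 4], [167, 169, 167, 216, 167, 169]⟩, ⟨141, [8, 12, 10, 8, 4, 2], [266, 268]⟩, ⟨2450, [12, 8, 10, 8, 6, 10, 8, 10, 4, 8, 4, 7], []⟩],
  .tm 1 [8, 12, 8, 6, 10, 8, 7, 10, 4, 8, 6, 10, 7] [] [⟨2768, [], []⟩],
  .tm 23 [7, 10, 8, 4, 8, 6, 10, 8, 0, 6, 10, 4, 7] [] [⟨1618, [7, 10, 8, 4, 8, 6, 10, 8, 15, 6], [169, 167, 216, 167]⟩, ⟨141, [12, 10, 8, 6, 10, 2], [266, 268, 266]⟩, ⟨1544, [8, 12, 7, 10, 2, 8, 10, 7], []⟩],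
  .tm 1 [12, 8, 7, 10, 8, 4, 8, 0, 6, 10, 4, 7] [] [⟨2770, [], []⟩],
  .tm 23 [12, 6, 10, 8, 0] [] [⟨1875, [12, 8, 6, 10, 8, 4, 8, 6, 10, 8, 10, 4, 7], [169, 167, 217, 167]⟩, ⟨141, [8, 10, 8, 12, 8, 4], [266, 268, 266]⟩, ⟨1376, [10, 8, 6, 10, 4, 2, 8, 6, 10, 4, 6], []⟩],
  .tm 1 [6, 10, 8, 4, 8, 7, 10, 2, 8, 10, 7] [] [⟨2772, [], []⟩],
  .tm 23 [8, 12, 7, 10, 8, 4, 8, 2, 4, 6] [] [⟨1359, [4, 8, 7, 10, 8, 6, 10, 4, 8, 2, 10, 4, 7], [216]⟩, ⟨141, [6, 10, 8, 4, 8, 10], [268, 266]⟩, ⟨2312, [12, 8, 10, 8, 4, 8, 0, 15, 4, 6], []⟩],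
  .tm 1 [8, 12, 7, 10, 8, 4, 8, 7, 10, 8, 2, 6, 10, 4] [] [⟨2774, [], []⟩],
  .tm 23 [8, 12, 8, 7, 10, 8, 4, 8, 7, 10, 8, 4, 7] [] [⟨2214, [8, 4, 8, 7, 10, 8, 0, 10, 4], [167, 169, 167, 216]⟩, ⟨141, [12, 8, 10, 8, 6, 10, 0], [268]⟩, ⟨1544, [10, 8, 4, 8, 0, 6, 10], []⟩],
  .tm 1 [8, 12, 8, 4, 8, 10, 4, 8, 6, 10, 8, 2, 4] [] [⟨2776, [], []⟩],
  .tm 23 [8, 10, 8, 7, 10, 8, 10, 7] [] [⟨1604, [8, 12, 8, 10, 8, 10, 4, 8, 7, 10, 8, 10], [169, 167, 216, 167]⟩, ⟨141, [7, 10, 8, 10, 8, 4, 2], [268, 266]⟩, ⟨1940, [12, 8, 7, 10, 8, 4, 8, 10], []⟩],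
  .tm 1 [6, 10, 8, 10, 4, 8, 2, 15] [] [⟨2778, [], []⟩],
  .tm 23 [10, 8, 4, 8, 10, 8, 7, 10, 8, 0, 10, 4, 6] [] [⟨365, [8, 10, 8, 10, 4, 8, 6, 10, 8, 2, 6, 10, 4], [216, 167]⟩, ⟨141, [8, 12, 7, 10, 8, 10, 2], [266, 268]⟩, ⟨2522, [8, 12, 4, 8, 7, 10, 4, 8, 6, 10, 8, 2, 6, 10, 6], []⟩],
  .tm 1 [8, 4, 8, 10, 8, 7, 10, 4, 2, 8, 6, 10, 7] [] [⟨2780, [], []⟩],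
  .tm 23 [8, 12, 8, 10, 8, 6, 10, 7] [] [⟨125, [8, 12, 8, 6, 10, 4, 8, 15, 4], [169, 167, 216, 167, 169]⟩, ⟨141, [10, 8, 7, 10, 8, 12, 2], []⟩, ⟨2306, [8, 12, 8, 10, 8, 4, 8, 7, 10, 2, 8, 7], []⟩],
  .tm 1 [8, 10, 4, 8, 6, 10, 8, 6] [] [⟨2782, [], []⟩],
  .tm 23 [12, 4, 8, 10, 8, 7, 10, 4, 8, 0, 10] [] [⟨1875, [12, 8, 7, 10, 8, 4, 8, 0, 6, 10, 4, 7], [167, 169, 167, 217]⟩, ⟨141, [10, 8, 7, 10, 4, 8, 4], []⟩, ⟨1567, [8, 12, 8, 10, 8, 10, 4, 8, 6, 10, 8, 10, 4, 7], []⟩],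
  .tm 1 [8, 12, 6, 10, 8, 7, 10, 8, 6, 10, 4, 8, 2, 15, 4, 6] [] [⟨2784, [], []⟩],
  .tm 16 [12, 7, 10, 8, 10, 8, 4, 8, 7, 10, 8, 2, 4, 6] [] [⟨289, [12, 4, 8, 6, 10, 8, 7, 10, 8, 10, 4, 6], [169, 167, 217, 167, 169]⟩, ⟨141, [4, 8, 7, 10, 4, 8, 7, 10, 8], []⟩, ⟨939, [12, 4, 8, 10, 8, 6, 10, 8, 0, 6, 10, 4, 7], []⟩],
  .tm 1 [10, 8, 7, 10, 8, 6, 10, 4, 8, 0, 10, 4] [] [⟨2786, [], []⟩],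
  .tm 16 [12, 8, 10, 8, 10, 4, 8, 6, 10, 8, 15, 4, 7] [] [⟨826, [8, 10, 8, 4, 8, 7, 10, 8, 0, 6, 10], [169, 167, 216, 167, 169]⟩, ⟨141, [6, 10, 8, 4, 8, 12, 7, 10, 8], [266, 268, 266]⟩, ⟨480, [12, 10, 4, 8, 7, 10, 2, 8, 15, 4, 7], []⟩],
  .tm 1 [8, 10, 8, 7, 10, 8, 10, 4, 8] [] [⟨2788, [], []⟩],
  .tm 16 [8, 6, 10, 8, 7, 10, 4, 8, 6, 10, 8, 10, 4, 6] [] [⟨1546, [7, 10, 8, 6, 10, 4, 2, 8, 15, 4], [167, 169, 216, 167, 169]⟩, ⟨141, [12, 10, 4, 8, 7, 10, 8, 12, 8], [266, 268]⟩, ⟨2770, [8, 10, 8, 4, 8, 6, 10, 8, 0, 6, 10, 4, 7], []⟩],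
  .tm 1 [8, 12, 8, 10, 8, 7, 10, 4, 2, 8, 10, 7] [] [⟨2790, [], []⟩],
  .tm 16 [8, 10, 8, 7, 10, 8, 10, 4, 8, 4, 7] [] [⟨1423, [8, 12, 10, 8, 7, 10, 8, 4, 8, 10, 4, 7], [167, 169, 167, 217, 167, 216]⟩, ⟨141, [12, 6, 10, 8, 10, 4, 8, 6, 10], [266, 268]⟩, ⟨1703, [12, 10, 8, 4, 8, 7, 10, 8, 15, 4, 6], []⟩],
  .tm 1 [10, 4, 8, 6, 10, 8, 7, 10, 4, 8, 2, 10, 6] [] [⟨2792, [], []⟩],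
  .tm 16 [10, 8, 10, 4, 8, 7, 10, 2, 8, 15] [] [⟨1845, [8, 12, 4, 8, 10, 8, 0, 10, 4], [167, 169, 167, 216, 167]⟩, ⟨141, [8, 10, 8, 6, 10, 4, 2, 8, 10], [266, 268]⟩, ⟨2768, [8, 12, 8, 4, 8, 10, 8, 6, 10, 4, 8, 6, 10, 6], []⟩],
  .tm 1 [12, 10, 2, 8, 15, 6] [] [⟨2794, [], []⟩],
  .tm 16 [8, 10, 8, 7, 10, 4, 8, 6, 10, 8, 2, 4] [] [⟨1130, [10, 8, 4, 8, 6, 10, 4], [167, 169, 216, 167, 217]⟩, ⟨141, [6, 10, 8, 12, 10, 8, 4, 8, 10], [266, 268, 266]⟩, ⟨1321, [12, 8, 10, 8, 10, 4, 8, 7, 10, 8, 10, 7], []⟩],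
  .tm 1 [8, 12, 8, 10, 8, 6, 10, 4, 8, 2, 10, 6] [] [⟨2796, [], []⟩],
  .tm 16 [8, 12, 6, 10, 8, 7, 10, 4, 8, 0, 6, 10, 4, 7] [] [⟨1699, [7, 10, 4, 8, 2, 15, 7], [167, 217]⟩, ⟨141, [4, 8, 12, 10, 8, 7, 10, 8, 10], [266, 268, 266]⟩, ⟨1255, [8, 12, 8, 7, 10, 8, 6, 10, 8, 4, 8, 0, 6, 10, 4, 6], []⟩],
  .tm 1 [12, 8, 6, 10, 8, 4, 8, 7, 10, 8, 0, 6, 10, 4, 7] [] [⟨2798, [], []⟩],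
  .tm 16 [12, 8, 4, 8, 10, 8, 6, 10, 8, 0, 10, 4, 6] [] [⟨534, [8, 12, 7, 10, 8, 6, 10, 4, 8, 7, 10, 8], [167, 169, 167, 217]⟩, ⟨141, [8, 10, 4, 8, 6, 10, 8, 4, 8, 0], [266, 268, 266]⟩, ⟨994, [6, 10, 8, 10, 4, 8, 2, 4], []⟩],
  .tm 1 [7, 10, 8, 10, 8, 4, 8, 6] [] [⟨2800, [], []⟩],
  .tm 16 [10, 8, 4, 8, 10, 8, 6, 10, 8, 10, 6] [] [⟨1075, [12, 10, 8, 7, 10, 8, 2, 6, 10, 6], [167, 169, 216, 167, 217]⟩, ⟨141, [6, 10, 8, 12, 8, 10, 8, 4, 8, 0], [268]⟩, ⟨589, [12, 10, 8, 4, 2, 8, 6, 10, 4, 6], []⟩],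
  .tm 1 [12, 8, 7, 10, 8, 6, 10, 4, 8, 7, 10, 8, 15] [] [⟨2802, [], []⟩],
  .tm 16 [6, 10, 8, 4, 8, 7, 10, 8, 2, 6, 10, 6] [] [⟨215, [8, 12, 8, 4, 8, 10, 8, 6, 10, 4, 8, 2, 10], [167, 216, 167]⟩, ⟨141, [7, 10, 4, 8, 12, 8, 6, 10, 8, 0], []⟩, ⟨1507, [8, 7, 10, 8, 10], []⟩],
  .tm 1 [12, 7, 10, 8, 6, 10, 4, 2, 8, 6, 10, 7] [] [⟨2804, [], []⟩],
  .tm 16 [8, 12, 8, 0] [] [⟨350, [12, 8, 10, 8, 4, 8, 0, 6, 10, 6], [217, 167, 169]⟩, ⟨141, [6, 10, 8, 12, 8, 4, 8, 6, 10, 0], [266, 268, 266]⟩, ⟨1867, [12, 8, 4, 8, 7, 10, 8, 6, 10, 4, 8, 6, 10, 6], []⟩],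
  .tm 1 [12, 8, 4, 8, 10, 8, 7, 10, 2, 8, 10, 6] [] [⟨2806, [], []⟩],
  .tm 16 [4, 8, 7, 10, 8, 4, 8, 15] [] [⟨657, [12, 8, 10, 8, 6, 10, 8, 10, 4, 8, 2, 6, 10, 7], [167, 169, 217]⟩, ⟨141, [8, 12, 8, 7, 10, 4, 8, 10, 4, 2], [268]⟩, ⟨556, [12, 8, 4, 8, 10, 8, 7, 10, 4, 8, 0, 15, 7], []⟩],
  .tm 1 [12, 10, 8, 10, 4, 8, 7, 10, 8, 0, 4, 6] [] [⟨2808, [], []⟩],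
  .tm 16 [8, 12, 10, 8, 6, 10, 8, 7, 10, 4, 2, 8, 4, 6] [] [⟨796, [12, 10, 8, 6, 10, 8, 7, 10, 4, 8, 2, 6, 10, 4, 7], [216]⟩, ⟨141, [8, 12, 4, 8, 6, 10, 8, 7, 10, 2], [266, 268, 266]⟩, ⟨1867, [12, 10, 8, 6, 10, 8, 4, 8, 0, 6, 10, 4, 6], []⟩],
  .tm 1 [10, 8, 10, 8, 4, 8, 6, 10, 8, 15] [] [⟨2810, [], []⟩],
  .tm 16 [8, 12, 4, 8, 10, 8, 6, 10, 4, 8, 0, 10, 6] [] [⟨1903, [8, 12, 8, 4, 8, 7, 10, 8, 0, 10, 4, 7], [169, 167, 217, 167]⟩, ⟨141, [8, 4, 8, 10, 4, 8, 6, 10, 8, 4], [266]⟩, ⟨2078, [12, 8, 10, 8, 4, 8, 6, 10, 8, 6, 10, 4, 7], []⟩],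
  .tm 1 [7, 10, 8, 4, 8, 6, 10, 2, 8, 4] [] [⟨2812, [], []⟩]]

theorem fc2743 : checkL (nat_lit 12) (nat_lit 4095) tH tK tK' BB FF TM XW d2743 (nat_lit 2743) = true := by decide +kernel

def d2814 : List Der := [.tm 16 [12, 8, 4, 8, 6, 10, 8, 7, 10, 8, 7] [] [⟨2639, [7, 10, 8, 4, 8, 6, 10, 8, 15, 6], [167, 217]⟩, ⟨141, [6, 10, 4, 8, 12, 2, 8, 7, 10, 4], [268, 266]⟩, ⟨480, [12, 10, 8, 6, 10, 2, 8, 6, 10, 6], []⟩],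
  .tm 1 [4, 8, 10, 8, 6, 10, 8, 2, 15, 7] [] [⟨2814, [], []⟩],
  .tm 16 [8, 12, 10, 4, 8, 0, 6, 10, 7] [] [⟨2561, [12, 4, 8, 10, 4, 8, 7, 10, 8, 2, 4], [167, 169, 167, 216, 167, 217]⟩, ⟨141, [8, 10, 8], [266]⟩, ⟨835, [10, 8, 4, 8, 2, 10, 4], []⟩],
  .tm 1 [12, 8, 4, 8, 10, 8, 6, 10, 4, 8, 0, 10, 7] [] [⟨2816, [], []⟩],
  .tm 16 [10, 4, 8, 0, 6, 10, 4, 6] [] [⟨2747, [12, 10, 8, 7, 10, 8, 4, 8, 15, 4, 7], [169, 217, 167, 169]⟩, ⟨141, [10, 4, 8, 10], [266, 268, 266]⟩, ⟨2243, [8, 6, 10, 8, 7, 10, 4, 8, 6, 10, 8, 15, 4, 7], []⟩],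
  .tm 1 [12, 7, 10, 8, 4, 8, 10, 8, 6, 10, 7] [] [⟨2818, [], []⟩],
  .tm 16 [8, 12, 10, 8, 7, 10, 4, 2, 8, 4] [] [⟨854, [12, 4, 8, 10, 8, 7, 10, 8, 10, 4, 7], [167, 169, 167]⟩, ⟨141, [12, 8, 7, 10, 0], [268, 266]⟩, ⟨2768, [8, 12, 8, 2, 6], []⟩],
  .tm 1 [12, 8, 6, 10, 8, 4, 8, 7, 10, 8, 0, 10, 4] [] [⟨2820, [], []⟩],
  .tm 16 [6, 10, 4, 8] [] [⟨1405, [6, 10, 2, 8, 6, 10, 4, 6], [169, 167]⟩, ⟨141, [10, 8, 12, 7, 10], [268, 266]⟩, ⟨1717, [12, 7, 10, 8, 6, 10, 8, 4, 8, 0, 6, 10, 4, 6], []⟩],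
  .tm 1 [12, 8, 10, 4, 8, 6, 10, 8, 6, 10] [] [⟨2822, [], []⟩],
  .tm 16 [8, 12, 6, 10, 8, 10, 4, 8, 15, 7] [] [⟨2561, [8, 12, 8, 7, 10, 8, 6, 10, 4, 8, 6, 10, 7], [169, 216, 167]⟩, ⟨141, [8, 12, 4, 8, 10, 0], []⟩, ⟨2768, [8, 12, 10, 8, 7, 10, 8, 10, 4, 8, 6, 10, 4, 7], []⟩],
  .tm 1 [12, 2, 6, 10, 6] [] [⟨2824, [], []⟩],
  .tm 16 [8, 10, 8, 6, 10, 4, 8, 7, 10, 8, 2, 15] [] [⟨2193, [4, 8, 6, 10, 8, 7, 10, 4, 8, 2, 4, 7], [169, 167, 217, 167, 169]⟩, ⟨141, [4, 8, 10, 8, 4, 2], []⟩, ⟨1703, [12, 10, 8, 4, 8, 7, 10, 8, 0, 15, 4, 7], []⟩],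
  .tm 1 [8, 12, 10, 8, 4, 8, 10, 8, 6, 10, 8, 0, 6, 10, 4, 6] [] [⟨2826, [], []⟩],
  .tm 16 [8, 12, 10, 4, 8, 7, 10, 8, 6, 10, 8, 2, 6, 10, 4, 6] [] [⟨383, [12, 8, 6, 10, 8, 4, 8, 7], [169]⟩, ⟨141, [4, 8, 12, 10, 4, 2], [266, 268]⟩, ⟨499, [8, 12, 6, 10, 8, 10, 8, 4, 8, 6, 10, 8, 2, 10, 4, 6], []⟩],
  .tm 1 [8, 4, 8, 7, 10, 8, 6, 10] [] [⟨2828, [], []⟩],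
  .tm 16 [10, 8, 7, 10, 8, 4, 8, 0] [] [⟨241, [12, 10, 4, 8, 6, 10, 8, 7, 10, 4, 8, 10, 4, 7], [169, 167, 217, 167]⟩, ⟨141, [4, 8, 4, 8, 10, 2], [266]⟩, ⟨939, [12, 8, 4, 8, 6, 10, 8, 2, 10, 4, 7], []⟩],
  .tm 1 [8, 4, 8, 10, 8, 6, 10, 8, 2, 15, 4, 7] [] [⟨2830, [], []⟩],
  .tm 16 [8, 6, 10, 8, 4, 8, 7, 10, 8, 0] [] [⟨955, [8, 12, 8, 4, 8, 10, 8, 7, 10, 8, 2, 10, 4], [169, 167, 216, 167, 217]⟩, ⟨141, [4, 8, 12, 10, 8, 4], [266, 268]⟩, ⟨449, [8, 6, 10, 8, 4, 8, 6, 10, 8, 6, 10, 4], []⟩],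
  .tm 1 [12, 8, 4, 8, 6, 10, 8, 4, 7] [] [⟨2832, [], []⟩],
  .tm 16 [4, 8, 10, 8, 6, 10, 8, 2, 4, 7] [] [⟨891, [12, 6, 10, 8, 4, 8, 2, 4, 6], [167, 216, 167, 169]⟩, ⟨141, [8, 10, 8, 12, 8, 4], [266, 268, 266]⟩, ⟨1358, [12, 8, 4, 8, 10, 8, 7, 10, 8, 15, 4, 7], []⟩],
  .tm 1 [12, 10, 8, 4, 8, 6, 10, 8, 6, 10, 6] [] [⟨2834, [], []⟩],
  .tm 16 [8, 12, 7, 10, 8, 0, 10, 4] [] [⟨1250, [8, 6, 10, 8, 7, 10, 8, 4, 7], [169, 167, 216, 167, 169]⟩, ⟨141, [12, 8, 7, 10, 8, 10], [266, 268]⟩, ⟨589, [12, 10, 4, 8, 7, 10, 8, 4, 8, 6, 10], []⟩],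
  .tm 1 [10, 8, 7, 10, 4, 8, 0, 6, 10, 4, 7] [] [⟨2836, [], []⟩],
  .tm 16 [7, 10, 8, 4, 8, 7, 10, 8, 6, 10, 4, 6] [] [⟨733, [10, 4, 8, 7, 10, 4, 8, 2, 4], [169, 216, 167]⟩, ⟨141, [8, 12, 4, 8, 10, 8, 2], [268, 266]⟩, ⟨2520, [12, 8, 7, 10, 8, 6, 10, 8, 2, 6, 10, 7], []⟩],
  .tm 16 [8, 12, 8, 10, 8, 7, 10, 4, 8, 6, 10, 8, 2, 4, 7] [] [⟨895, [8, 10, 8, 6, 10, 8], [216, 167, 217]⟩, ⟨141, [8, 12, 4, 8, 10, 2, 8], [268, 266]⟩, ⟨2520, [12, 7, 10, 8, 6, 10, 8, 2, 6, 10, 7], []⟩],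
  .tm 16 [12, 8, 4, 8, 10, 4, 8, 7, 10, 8, 2, 15, 6] [] [⟨585, [12, 8, 10, 4, 8, 7, 10, 8, 6, 10, 8, 2, 4, 6], [216, 167, 169]⟩, ⟨141, [12, 8, 7, 10, 8, 4, 8], [266, 268, 266]⟩, ⟨835, [8, 10, 4, 8, 6, 10, 8, 4, 8, 6, 10], []⟩],
  .tm 1 [12, 10, 8, 7, 10, 8, 4, 2, 8, 15, 7] [] [⟨2840, [], []⟩],
  .tm 34 [12, 8, 7, 10, 8, 7, 10, 4, 8, 2, 15, 4] [] [⟨1250, [12, 8, 10, 8, 7, 10, 8, 4, 8, 2, 4, 6], [167, 217, 167]⟩, ⟨141, [10, 4, 8, 12, 7, 10, 8, 0], [268]⟩, ⟨1946, [10, 8, 7, 10, 2, 8, 15, 6], []⟩],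
  .tm 1 [8, 12, 10, 4, 8, 6, 10, 8, 7, 10, 8, 10, 7] [] [⟨2842, [], []⟩],
  .tm 25 [12, 10, 4, 8, 7, 10, 8, 4, 8, 2, 10, 4] [] [⟨2747, [12, 7, 10, 8, 4, 8, 7, 10, 8, 2, 15, 4], [217, 167, 169]⟩, ⟨141, [6, 10, 4, 8, 12, 10, 8, 7, 10], [268, 266]⟩, ⟨1413, [8, 12, 6, 10, 8, 4, 8, 10, 8, 2, 10, 6], []⟩],
  .tm 1 [8, 12, 10, 4, 8, 7, 10, 8, 6, 10, 8, 2, 6, 10, 4] [] [⟨2844, [], []⟩],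
  .tm 25 [8, 12, 10, 8, 6, 10, 4, 8, 0, 10, 4, 7] [] [⟨1905, [8, 4, 8, 10, 8], [169, 217, 167]⟩, ⟨141, [7, 10, 8, 10, 4, 8, 12, 10, 8, 0], [266, 268]⟩, ⟨2785, [8, 12, 10, 8, 6, 10, 8, 7, 10, 8, 2, 15, 4], []⟩],
  .tm 1 [4, 8, 6, 10, 8, 7, 10, 4, 2, 8, 4, 6] [] [⟨2846, [], []⟩],
  .tm 25 [12, 10, 8, 10, 8, 4, 8, 6, 10] [] [⟨115, [8, 12, 8, 10, 8, 4, 8, 10, 4, 6], [216, 167]⟩, ⟨141, [10, 4, 8, 6, 10, 8, 4, 8, 12, 0], [266]⟩, ⟨2785, [12, 10, 8, 7, 10, 8, 6, 10, 8, 15, 7], []⟩],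
  .tm 1 [8, 6, 10, 8, 7, 10, 8, 6, 10, 4, 8, 15, 4, 7] [] [⟨2848, [], []⟩],
  .tm 25 [12, 8, 10, 8, 4, 8, 7, 10, 2, 8, 15, 4, 7] [] [⟨1467, [12, 7, 10, 8, 7, 10, 4, 8, 2, 4, 7], [217]⟩, ⟨141, [7, 10, 8, 12, 10, 0], [266]⟩, ⟨2770, [12, 10, 8, 7, 10, 8, 6, 10, 8, 6], []⟩],
  .tm 1 [8, 10, 8, 10, 4, 6] [] [⟨2850, [], []⟩],
  .tm 41 [10, 4, 8, 7, 10, 2, 8, 15] [] [⟨277, [12, 8, 4, 8, 10, 8, 2, 6, 10, 7], [169, 167, 217, 167]⟩, ⟨141, [8, 6, 10, 8, 12, 8, 10, 8, 4], [266, 268]⟩, ⟨2774, [8, 12, 8, 10, 8, 4, 8, 6, 10, 8, 0, 6, 10, 7], []⟩],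
  .tm 1 [12, 10, 4, 8, 6, 10, 8, 7, 10, 8, 4, 7] [] [⟨2852, [], []⟩],
  .tm 27 [8, 7, 10, 8, 6, 10, 4, 8, 10, 6] [] [⟨89, [10, 8, 4, 8, 10, 8, 7, 10, 8, 0, 10, 4], [167, 169, 217]⟩, ⟨141, [6, 10, 4, 8, 6, 10], [266, 268, 266]⟩, ⟨2107, [12, 4, 8, 6, 10, 8, 7, 10, 4, 8, 0, 15], []⟩],
  .tm 1 [12, 4, 8, 10, 8, 4, 8, 6, 10, 8, 6, 10, 4, 7] [] [⟨2854, [], []⟩],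
  .tm 27 [4, 8, 10, 4, 8, 7, 10, 2, 8, 15, 4, 7] [] [⟨645, [8, 6, 10, 8, 10, 4, 8, 7], [167, 169, 167, 216, 167]⟩, ⟨141, [12, 10, 4, 8, 7, 10], [268, 266]⟩, ⟨999, [8, 12, 2, 8, 10, 4, 7], []⟩],
  .tm 1 [12, 4, 8, 10, 8, 7, 10, 2, 8, 6, 10, 6] [] [⟨2856, [], []⟩],
  .tm 27 [8, 12, 4, 8, 10, 8, 7, 10, 4, 2, 8, 6, 10, 4, 7] [] [⟨733, [12, 8, 6, 10, 8, 4, 8, 7, 10, 8, 0, 6, 10, 6], [169, 216, 167]⟩, ⟨141, [8, 4, 8, 12, 8, 10], [266, 268, 266]⟩, ⟨413, [12, 2, 6, 10, 4, 6], []⟩],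
  .tm 1 [10, 8, 7, 10, 4, 8, 6, 10, 8, 2, 15, 7] [] [⟨2858, [], []⟩],
  .tm 27 [12, 4, 8, 4, 8, 10, 8, 6, 10, 8, 6, 10, 4] [] [⟨977, [6, 10, 8, 6, 10, 8, 4, 8, 10, 6], [169, 167, 217, 167]⟩, ⟨141, [7, 10, 8, 10, 8, 12], [266, 268, 266]⟩, ⟨773, [8, 4, 8, 10, 8, 7, 10, 2, 8, 10, 7], []⟩],
  .tm 27 [8, 6, 10, 8, 7, 10, 4, 8, 0, 15, 7] [] [⟨387, [8, 10, 8, 6, 10, 4, 8, 0, 15, 6], [169, 216, 167, 217]⟩, ⟨141, [10, 8, 4, 8, 12, 10, 0], []⟩, ⟨324, [7, 10, 8, 4, 8, 10, 8, 2, 7], []⟩],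
  .tm 1 [12, 10, 8, 4, 8, 6, 10, 8, 10, 4, 7] [] [⟨2861, [], []⟩],
  .tm 27 [8, 10, 4, 8, 7, 10, 8, 6, 10, 4, 8, 2, 6] [] [⟨265, [10, 8, 6, 10, 8, 4, 8, 6, 10, 4, 6], [169, 167, 216]⟩, ⟨141, [6, 10, 4, 8, 12, 10, 0], [266]⟩, ⟨1216, [8, 10, 8, 7, 10, 8, 10, 4, 8, 6, 10, 4, 6], []⟩],
  .tm 1 [8, 10, 4, 8, 7, 10, 8, 4, 8, 2, 10] [] [⟨2863, [], []⟩],
  .tm 27 [10, 8, 4, 8, 7, 10, 2, 8, 15] [] [⟨1077, [8, 12, 10, 4, 8, 7, 10, 8, 7], [167, 217]⟩, ⟨141, [10, 8, 7, 10, 4, 8, 2], [266, 268, 266]⟩, ⟨1178, [8, 12, 8, 4, 8, 10, 8, 4, 8, 15, 4], []⟩],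
  .tm 1 [8, 12, 4, 8, 6, 10, 2, 8, 15, 4] [] [⟨2865, [], []⟩],
  .tm 27 [8, 6, 10, 4, 8, 2, 10, 4, 7] [] [⟨309, [8, 10, 8, 7, 10, 4, 2, 8, 10, 7], [169, 216, 167, 169]⟩, ⟨141, [12, 6, 10, 8, 7, 10, 2], [268, 266]⟩, ⟨1203, [12, 8, 10, 2, 8, 4, 7], []⟩],
  .tm 1 [8, 12, 2, 0, 6, 10, 4, 7] [] [⟨2867, [], []⟩],
  .tm 27 [8, 12, 8, 6, 10, 8, 7, 10, 4, 8, 6, 10, 8, 6, 10, 4, 6] [] [⟨1019, [4, 8, 10, 8, 7, 10, 4, 8, 0, 15, 4, 6], [169, 167, 217, 167, 216]⟩, ⟨141, [10, 4, 8, 7, 10, 8, 4], [268, 266]⟩, ⟨1519, [12, 8, 10, 8, 7, 10, 8, 10, 4, 8, 10, 4], []⟩],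
  .tm 1 [12, 10, 8, 6, 10, 4, 2, 8, 15, 4] [] [⟨2869, [], []⟩],
  .tm 27 [12, 8, 4, 8, 10, 8, 7, 10, 4, 8, 2, 4] [] [⟨102, [4, 8, 10, 8, 6, 10, 4, 8, 6, 10, 7], [217, 167, 169]⟩, ⟨141, [8, 12, 2, 8, 6, 10, 4], [266]⟩, ⟨2652, [8, 12, 8, 0, 6], []⟩],
  .tm 1 [10, 8, 7, 10, 8, 6, 10, 8, 2, 6, 10, 6] [] [⟨2871, [], []⟩],
  .tm 27 [12, 8, 4, 8, 6, 10, 8, 7, 10, 4, 8, 2, 15, 4, 7] [] [⟨2561, [12, 8, 4, 8, 10, 8, 0, 6], [169, 216]⟩, ⟨141, [8, 7, 10, 4, 2, 8, 10], []⟩, ⟨1879, [2, 0, 15, 6], []⟩],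
  .tm 1 [4, 8, 6, 10, 8, 2, 4, 7] [] [⟨2873, [], []⟩],
  .tm 17 [7, 10, 8, 6, 10, 4, 8, 7, 10, 8, 2, 4, 7] [] [⟨2768, [8, 12, 8, 10, 8, 7, 10, 8, 6, 10, 8, 2, 15, 6], [267, 269, 267]⟩, ⟨142, [8, 12, 8, 6, 10, 4, 2], [168]⟩, ⟨175, [8, 6, 10, 8, 4, 8, 2, 6, 10, 4], []⟩],
  .tm 1 [8, 10, 4, 8, 6, 10, 8, 2, 10, 4] [] [⟨2875, [], []⟩],
  .tm 31 [8, 10, 8, 7, 10, 8, 6, 10, 8, 2, 15] [] [⟨480, [12, 8, 10, 8, 6, 10, 8, 6, 10, 4, 7], [269]⟩, ⟨142, [4, 8, 12, 6, 10, 8, 4], [216, 168, 166]⟩, ⟨2871, [8, 12, 10, 8, 7, 10, 8, 6, 10, 4, 8, 0, 15, 7], []⟩],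
  .tm 1 [12, 7, 10, 8, 10, 8, 4, 8, 7, 10, 8, 15, 7] [] [⟨2877, [], []⟩],
  .tm 6 [10, 8, 6, 10, 8, 7, 10, 4, 8, 0, 6, 10, 4, 6] [] [⟨79, [8, 12, 8, 6, 10, 8, 6], [150, 155, 153]⟩, ⟨143, [12, 8, 10, 4, 2], [266]⟩, ⟨1166, [10, 4, 8, 6, 10, 8, 7, 10, 4, 8, 6, 10], []⟩],
  .tm 1 [7, 10, 8, 6, 10, 8, 4, 8, 0, 4, 6] [] [⟨2879, [], []⟩],
  .tm 6 [12, 8, 6, 10, 8, 7, 10, 8, 15, 6] [] [⟨107, [12, 10, 4, 8, 7, 10, 4, 8, 6, 10, 4, 7], [151]⟩, ⟨143, [10, 4, 8, 6, 10], [266, 268, 266]⟩, ⟨2369, [8, 10, 4, 8, 6, 10, 8, 7, 10, 4, 8, 6, 10, 6], []⟩],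
  .tm 1 [8, 6, 10, 8, 4, 2, 8, 4, 6] [] [⟨2881, [], []⟩],
  .tm 15 [12, 8, 10, 8, 7, 10, 8, 4, 8, 2, 15, 4] [] [⟨173, [6, 10, 8, 7, 10, 4, 8, 0, 15, 4, 7], [151]⟩, ⟨143, [8, 4, 8, 10, 4], []⟩, ⟨1513, [12, 8, 4, 8, 7, 10, 4, 8, 6, 10, 8, 6, 10, 6], []⟩],
  .tm 22 [12, 4, 8, 10, 4, 8, 10] [] [⟨1202, [8, 12, 8, 6, 10, 8, 4, 8, 10, 8, 2, 6, 10, 4], [226, 155, 226, 229]⟩, ⟨143, [8, 10, 8, 6, 10, 8, 4, 2], [266, 268]⟩, ⟨2601, [8, 12, 2, 8, 6, 10, 6], []⟩],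
  .tm 1 [12, 10, 8, 10, 4, 8, 6, 10, 8, 7, 10, 8] [] [⟨2884, [], []⟩],
  .tm 22 [8, 7, 10, 8, 4, 8, 0, 6, 10, 4, 6] [] [⟨609, [12, 10, 8, 6, 10, 8, 10, 4, 8, 2, 4, 7], [229, 150]⟩, ⟨143, [8, 10, 8, 12, 8, 10, 4, 2], [266, 268]⟩, ⟨1026, [0, 10, 4, 6], []⟩],
  .tm 1 [12, 6, 10, 8, 4, 8, 7, 10, 2, 8, 15] [] [⟨2886, [], []⟩]]

theorem fc2814 : checkL (nat_lit 12) (nat_lit 4095) tH tK tK' BB FF TM XW d2814 (nat_lit 2814) = true := by decide +kernel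

def d2888 : List Der := [.tm 22 [10, 8, 6, 10, 4, 8, 7, 10, 8, 2, 15, 4, 6] [] [⟨803, [12, 7, 10, 8, 6, 10, 4, 8, 0, 15, 4, 7], [151, 153, 229, 226]⟩, ⟨143, [7, 10, 4, 8, 12, 10, 4, 2], [266, 268]⟩, ⟨748, [12, 8, 7], []⟩],
  .tm 1 [12, 8, 10, 8, 4, 8, 7, 10, 2, 8, 6] [] [⟨2888, [], []⟩],
  .tm 22 [12, 10, 4, 8, 6, 10, 8, 2, 15] [] [⟨100, [8, 12, 7, 10, 8, 4, 8, 0, 15, 4], [151, 229, 153, 226]⟩, ⟨143, [4, 8, 12, 10, 8, 6, 10, 2], [266, 268, 266]⟩, ⟨2322, [8, 6, 10, 8, 4, 8, 2, 10, 6], []⟩],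
  .tm 1 [12, 4, 8, 4, 7] [] [⟨2890, [], []⟩],
  .tm 22 [8, 12, 8, 6, 10, 8, 4, 8, 7, 10, 8, 0, 10, 4, 6] [] [⟨456, [6, 10, 8, 0, 6, 10, 4, 6], [150, 229, 151]⟩, ⟨143, [8, 6, 10, 8, 7, 10, 8, 4], [266, 268, 266]⟩, ⟨2389, [4, 8, 10, 8, 6, 10, 8, 6, 10, 4, 6], []⟩],
  .tm 22 [12, 10, 8, 7, 10, 8, 6, 10, 8, 10, 6] [] [⟨1202, [8, 12, 4, 8, 7, 10, 8, 6, 10, 4, 8, 10, 7], [151, 228, 153, 155]⟩, ⟨143, [8, 10, 8, 4, 2, 8, 6, 10], [268, 266]⟩, ⟨1482, [12, 10, 8, 7, 10, 8, 10, 4, 8, 6, 10, 4, 6], []⟩],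
  .tm 1 [8, 12, 10, 8, 2, 10, 4] [] [⟨2893, [], []⟩],
  .tm 22 [12, 8, 6, 10, 8, 7, 10, 8, 2, 6, 10, 4, 6] [] [⟨410, [8, 10, 8, 6, 10, 8, 7, 10, 4, 8, 15, 4, 7], [150, 153, 228]⟩, ⟨143, [10, 8, 10, 4, 2, 8, 7, 10], [266, 268]⟩, ⟨1384, [12, 6, 10, 8, 7, 10, 4, 8, 6, 10, 8, 4, 7], []⟩],
  .tm 1 [8, 12, 4, 8, 10, 8] [] [⟨2895, [], []⟩],
  .tm 22 [12, 4, 8, 6, 10, 4, 8, 10] [] [⟨456, [4, 8, 7, 10, 8, 4, 8, 15, 4, 7], [151, 153, 226, 228]⟩, ⟨143, [8, 10, 4, 8, 12, 10, 8, 10], [268]⟩, ⟨1492, [8, 7, 10, 8, 6, 10, 4, 2, 8, 6, 10, 4], []⟩],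
  .tm 1 [8, 12, 10, 4, 8, 6, 10, 8, 4, 8, 10, 7] [] [⟨2897, [], []⟩],
  .tm 22 [10, 4, 8, 6, 10, 8, 2, 15, 4, 7] [] [⟨456, [12, 8, 7, 10, 8, 6, 10, 8, 4, 8, 10, 4], [228, 150]⟩, ⟨143, [8, 4, 8, 6, 10, 2, 8, 12], [268]⟩, ⟨1759, [12, 8, 10, 8, 6, 10, 8, 7, 10, 4, 2, 8, 6, 10, 6], []⟩],
  .tm 1 [12, 6, 10, 8, 4, 8, 7, 10, 8, 0, 6, 10, 4] [] [⟨2899, [], []⟩],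
  .tm 22 [12, 8, 4, 8, 10, 4, 8, 7, 10, 8, 2, 15] [] [⟨803, [12, 8, 10, 8, 6, 10, 8, 7, 10, 8, 2, 15, 7], [229, 150, 227, 229]⟩, ⟨143, [12, 7, 10, 4, 8, 10, 8, 12], [266, 268, 266]⟩, ⟨2773, [8, 0, 15, 4, 6], []⟩],
  .tm 1 [8, 12, 7, 10, 2, 8, 6, 10, 6] [] [⟨2901, [], []⟩],
  .tm 11 [12, 8, 10, 4, 8, 6, 10, 4, 8, 6, 10, 4, 6] [] [⟨1202, [6, 10, 8, 7, 10, 8, 4, 8, 2, 6, 10, 6], [151, 155, 226, 155]⟩, ⟨143, [8, 7, 10, 8, 12, 4, 2], [266, 268]⟩, ⟨1287, [12, 8, 7, 10, 8, 4, 2, 8, 10, 4, 6], []⟩],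
  .tm 1 [10, 8, 10, 8, 4, 8] [] [⟨2903, [], []⟩],
  .tm 11 [8, 12, 10, 8, 7, 10, 8, 4, 8, 0, 6, 10, 4, 6] [] [⟨778, [7, 10, 8, 6, 10, 4, 2, 8, 6], [150, 153, 228]⟩, ⟨143, [4, 8, 10, 8, 12, 4, 2], [268]⟩, ⟨1155, [12, 8, 4, 8, 7, 10, 8, 6, 10, 4, 8, 6, 10, 7], []⟩],
  .tm 1 [8, 6, 10, 8, 4, 8, 0, 10, 6] [] [⟨2905, [], []⟩],
  .tm 11 [4, 8, 10, 8, 6, 10, 4, 8, 0, 15] [] [⟨1615, [8, 12, 8, 4, 8, 7, 10, 2, 8, 15, 4, 7], [153, 228, 150]⟩, ⟨143, [6, 10, 8, 6, 10, 8, 2], [268]⟩, ⟨2787, [12, 10, 8, 10, 4, 8, 6, 10, 8, 10, 4, 6], []⟩],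
  .tm 1 [4, 8, 10, 8, 6, 10, 4, 2, 8, 10, 4] [] [⟨2907, [], []⟩],
  .tm 11 [8, 12, 8, 10, 8, 10, 4, 8, 7, 10, 8, 2, 4, 7] [] [⟨173, [12, 8, 4, 8, 4, 6], [227, 155]⟩, ⟨143, [8, 4, 8, 10, 2, 8, 4], [266, 268]⟩, ⟨2125, [12, 8, 4, 8, 7, 10, 8, 6, 10, 4, 8, 6, 10, 7], []⟩],
  .tm 1 [12, 8, 10, 8, 6, 10, 4, 8, 7, 10, 8, 6, 10] [] [⟨2909, [], []⟩],
  .tm 11 [12, 8, 4, 8, 10, 4, 8, 6, 10, 8, 15, 4, 6] [] [⟨1812, [8, 12, 7, 10, 8, 7, 10, 8, 4, 8, 2, 10, 4], [153, 229, 153, 228]⟩, ⟨143, [10, 8, 10, 8, 12, 8, 4], [266]⟩, ⟨379, [6, 10, 8, 7, 10, 4, 8, 2, 10, 6], []⟩],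
  .tm 1 [8, 12, 8, 7, 10, 8, 10, 4, 8, 7] [] [⟨2911, [], []⟩],
  .tm 11 [12, 8, 2, 4] [] [⟨803, [12, 7, 10, 8, 6, 10, 8, 4, 8, 15, 4], [226, 228, 150, 155]⟩, ⟨143, [12, 6, 10, 8, 7, 10, 4], [266, 268]⟩, ⟨274, [12, 6, 10, 8, 7, 10, 4, 2, 8, 10, 6], []⟩],
  .tm 1 [12, 4, 8, 6, 10, 8, 4] [] [⟨2913, [], []⟩],
  .tm 13 [8, 12, 2, 10] [] [⟨410, [8, 10, 8, 7, 10, 8, 6, 10, 8, 2, 15, 4], [227, 228, 227]⟩, ⟨143, [10, 4, 8, 12, 6, 10, 2, 8], []⟩, ⟨379, [10, 8, 4, 8, 7, 10, 8, 2], []⟩],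
  .tm 1 [8, 12, 8, 10, 4, 2, 8, 7] [] [⟨2915, [], []⟩],
  .tm 13 [8, 12, 8, 6, 10, 8, 7, 10, 4, 8, 10, 7] [] [⟨1554, [12, 8, 6, 10, 4, 8, 7, 10, 8, 2, 10], [151, 155, 227, 228]⟩, ⟨143, [10, 8, 6, 10, 8, 12, 10, 8], [268, 266]⟩, ⟨1045, [8, 12, 8, 10, 8, 4, 8, 6, 10, 8, 0, 6, 10, 4, 7], []⟩],
  .tm 1 [8, 6, 10, 4, 8, 7, 10, 8, 7] [] [⟨2917, [], []⟩],
  .tm 13 [8, 12, 10, 8, 7, 10, 4, 8, 10, 4, 7] [] [⟨2293, [8, 6, 10, 8, 10, 4, 8, 2, 10, 4, 6], [151, 153, 229, 226, 228]⟩, ⟨143, [12, 4, 8, 10, 2, 8, 7, 10], [266, 268, 266]⟩, ⟨1505, [8, 10, 8, 7, 10, 8, 6, 10, 4, 8, 0, 15, 4], []⟩],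
  .tm 1 [10, 2, 8, 10, 4] [] [⟨2919, [], []⟩],
  .tm 42 [12, 10, 8, 0, 6, 10, 4, 7] [] [⟨1554, [6, 10, 8, 4, 8, 0, 10, 4, 6], [150, 153, 226]⟩, ⟨143, [8, 12, 10, 4, 2], [266, 268]⟩, ⟨2888, [10, 8, 10, 4, 8, 7, 10, 8, 10, 4], []⟩],
  .tm 1 [10, 8, 6, 10, 8, 2, 6, 10, 4] [] [⟨2921, [], []⟩],
  .tm 23 [12, 8, 4, 8, 6, 10, 8, 7, 10, 8, 10, 6] [] [⟨456, [12, 8, 4, 8, 10, 8, 7, 10, 4, 2, 8, 6, 10], [150, 153, 155, 228]⟩, ⟨143, [12, 10, 8, 6, 10, 2], [268]⟩, ⟨2892, [8, 10, 4, 8, 6, 10, 2, 8, 10, 4, 6], []⟩],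
  .tm 1 [12, 7, 10, 8, 6, 10, 8, 2, 6, 10] [] [⟨2923, [], []⟩],
  .tm 23 [12, 8, 6, 10, 8, 7, 10, 8, 6, 10, 4, 8, 4, 7] [] [⟨410, [8, 12, 8, 6, 10, 8, 10, 4, 8, 2, 10, 4, 7], [229, 155, 153, 229]⟩, ⟨143, [7, 10, 8, 12, 10, 4], [266]⟩, ⟨236, [12, 8, 7, 10, 8, 6, 10, 8, 7, 10, 4, 8, 6, 10, 4], []⟩],
  .tm 1 [4, 8, 10, 8, 4, 8, 6, 10, 8, 0, 4, 7] [] [⟨2925, [], []⟩],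
  .tm 23 [8, 12, 8, 4, 8, 10, 8, 7, 10, 4, 8, 0, 15, 7] [] [⟨609, [8, 12, 8, 4, 8, 7, 10, 2, 8, 15, 6], [151, 229, 227]⟩, ⟨143, [4, 8, 4, 8, 6, 10], []⟩, ⟨1822, [6, 10, 8, 4, 8, 2, 6, 10, 4, 6], []⟩],
  .tm 1 [8, 12, 7, 10, 4, 2, 8, 10, 6] [] [⟨2927, [], []⟩],
  .tm 23 [12, 8, 10, 8, 6, 10, 8, 10, 4, 8, 10, 7] [] [⟨2168, [8, 12, 10, 8, 4, 8, 7, 10, 8, 2, 15, 4], [153, 226, 153]⟩, ⟨143, [4, 8, 6, 10, 8, 12, 0], []⟩, ⟨2731, [0, 6, 10, 6], []⟩],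
  .tm 1 [8, 12, 10, 8, 10, 4, 8, 6, 10, 8, 2, 10, 4] [] [⟨2929, [], []⟩],
  .tm 23 [8, 6, 10, 8, 7, 10, 8, 4, 8, 6] [] [⟨261, [8, 12, 8, 10, 4, 8, 7, 10, 8, 0, 6, 10], [150, 228, 150]⟩, ⟨143, [7, 10, 8, 10, 8, 12, 0], [268, 266]⟩, ⟨2579, [8, 12, 4, 8, 15], []⟩],
  .tm 1 [8, 7, 10, 8, 4, 8, 7, 10, 8, 2, 6] [] [⟨2931, [], []⟩],
  .tm 23 [8, 12, 8, 10, 8, 6, 10, 8, 4, 8, 2, 10, 6] [] [⟨2386, [8, 12, 8, 10, 8, 6, 10, 4, 8, 6, 10, 4], [226, 153]⟩, ⟨143, [8, 10, 4, 2, 8, 12, 4], [266, 268]⟩, ⟨750, [7, 10, 8, 6, 10, 8, 7, 10, 4, 8, 4], []⟩],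
  .tm 1 [8, 12, 8, 6, 10, 2, 8, 15, 4] [] [⟨2933, [], []⟩],
  .tm 23 [4, 8, 10, 8, 7, 10, 4, 8, 10, 6] [] [⟨1202, [8, 12, 6, 10, 4, 8, 15, 4], [226, 155, 226, 229]⟩, ⟨143, [8, 6, 10, 4, 8, 7, 10], [268, 266]⟩, ⟨1761, [12, 8, 10, 8, 4, 8, 6, 10, 8, 6, 10, 4, 6], []⟩],
  .tm 23 [10, 4, 8, 7, 10, 8, 2, 4, 6] [] [⟨426, [12, 10, 4, 8, 7, 10, 8, 4, 8, 10, 6], [153, 155, 229, 153]⟩, ⟨143, [8, 10, 4, 8, 7, 10, 4, 0], []⟩, ⟨1026, [8, 7, 10, 8, 6, 10, 8, 2, 15, 4, 6], []⟩],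
  .tm 1 [8, 12, 8, 10, 4, 8, 0, 10, 6] [] [⟨2936, [], []⟩],
  .tm 23 [8, 12, 10, 8, 6, 10, 8, 7, 10, 8, 6, 10] [] [⟨410, [8, 12, 8, 7, 10, 8, 6, 10, 8, 4, 8, 0, 4], [153, 155, 228]⟩, ⟨143, [4, 8, 7, 10, 4, 8, 4, 2], [268, 266]⟩, ⟨1540, [10, 4, 8, 6, 10, 8, 4, 8, 15, 4], []⟩],
  .tm 1 [4, 8, 10, 8, 7, 10, 8, 2, 15, 6] [] [⟨2938, [], []⟩],
  .tm 16 [12, 8, 10, 4, 8, 7, 10, 8, 6, 10, 8, 15, 6] [] [⟨778, [10, 8, 6, 10, 8, 7, 10, 8, 2, 6, 10, 4, 7], [151, 228, 155]⟩, ⟨143, [10, 8, 7, 10, 8, 12, 10], [268]⟩, ⟨2158, [12, 8, 10, 8, 6, 10, 8, 7, 10, 4, 8, 6, 10, 4, 7], []⟩],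
  .tm 1 [8, 4, 8, 10, 8, 6, 10, 8, 6, 10] [] [⟨2940, [], []⟩],
  .tm 16 [8, 12, 8, 7, 10, 8, 7, 10, 8, 4, 8, 2, 15, 7] [] [⟨834, [12, 7, 10, 8, 6, 10, 4, 8, 0, 15, 6], [151, 227, 229, 226]⟩, ⟨143, [10, 4, 8, 7, 10, 8, 12], [266]⟩, ⟨501, [4, 8, 10, 4, 8, 7, 10, 8, 0, 15], []⟩],
  .tm 1 [12, 8, 10, 8, 10, 4, 8, 6, 10, 8, 6, 10, 6] [] [⟨2942, [], []⟩],
  .tm 16 [12, 10, 8, 6, 10, 8, 7, 10, 8, 10, 4, 6] [] [⟨217, [8, 12, 8, 6, 10, 4, 2, 8, 6, 10, 6], [155, 227, 228]⟩, ⟨143, [8, 4, 8, 12, 6, 10, 8, 0], [266]⟩, ⟨2804, [6, 10, 8, 4, 8, 7, 10, 8, 0, 15, 4, 6], []⟩],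
  .tm 1 [8, 12, 6, 10, 8, 4, 8, 2, 10, 7] [] [⟨2944, [], []⟩],
  .tm 16 [12, 8, 4, 8, 6, 10, 8, 7, 10, 4, 8, 2, 15, 7] [] [⟨834, [8, 12, 8, 6, 10, 8, 4, 8, 6, 10, 8, 2, 4, 7], [151, 153, 155, 229, 153]⟩, ⟨143, [8, 4, 8, 10, 8, 6, 10, 0], [268]⟩, ⟨2225, [6, 10, 8, 7, 10, 8, 4, 8, 0, 10, 7], []⟩],
  .tm 1 [12, 10, 8, 10, 8, 4, 8, 7, 10, 8, 2, 4, 7] [] [⟨2946, [], []⟩],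
  .tm 16 [8, 12, 8, 4, 8, 7, 10, 8, 6, 10, 8, 10, 6] [] [⟨2439, [12, 4, 8, 6, 10, 8, 4, 8, 2, 15, 4], [151, 153, 155, 228]⟩, ⟨143, [8, 12, 6, 10, 4, 8, 10, 0], []⟩, ⟨2065, [8, 10, 4, 8, 7, 10, 8, 6, 10, 4, 8, 15, 6], []⟩],
  .tm 1 [8, 12, 4, 8, 6, 10, 2, 8, 10, 4, 6] [] [⟨2948, [], []⟩],
  .tm 27 [12, 4, 8, 7, 10, 8, 4, 8, 6, 10] [] [⟨144, [12, 8, 4, 8, 10, 8, 10, 4], [227, 155, 228]⟩, ⟨143, [12, 7, 10, 8, 10, 0], [266]⟩, ⟨1721, [8, 12, 8, 7, 10, 8, 6, 10, 8, 10], []⟩],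
  .tm 1 [8, 12, 8, 10, 8, 10, 4, 8, 6, 10, 8, 4, 6] [] [⟨2950, [], []⟩],
  .tm 27 [8, 10, 8, 7, 10, 8, 4, 2, 8, 10, 4] [] [⟨144, [6, 10, 8, 7, 10, 8, 6, 10, 6], [226, 155, 229]⟩, ⟨143, [8, 7, 10, 2, 8, 4], []⟩, ⟨2944, [2, 8, 4, 7], []⟩],
  .tm 1 [12, 8, 10, 8, 7, 10, 8, 6, 10, 4, 2, 8, 15, 6] [] [⟨2952, [], []⟩],
  .tm 27 [8, 12, 4, 8, 6, 10, 4, 8, 2, 6, 10, 6] [] [⟨555, [7, 10, 8, 6, 10, 8, 2, 15, 4], [150, 155, 229, 227]⟩, ⟨143, [8, 12, 2, 8, 10, 4], [266, 268, 266]⟩, ⟨2254, [12, 10, 8, 2, 15, 4, 7], []⟩],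
  .tm 27 [8, 12, 4, 8, 6, 10, 8, 7, 10, 4, 8, 0, 6, 10, 6] [] [⟨158, [8, 12], [227, 155]⟩, ⟨143, [8, 4, 8, 10, 8, 4, 2], [268]⟩, ⟨1031, [12, 4, 8, 7, 10, 2, 8, 4, 7], []⟩],
  .tm 1 [8, 12, 10, 8, 10, 8, 4, 8, 10, 4, 7] [] [⟨2955, [], []⟩],
  .tm 28 [12, 8, 4, 8, 6, 10, 8, 4, 8, 15] [] [⟨257, [8, 12, 4, 8, 10, 8, 4, 8, 6, 10, 8, 6, 10, 4, 7], [85, 141, 91]⟩, ⟨145, [7, 10, 4], [266, 268, 266]⟩, ⟨2327, [12, 2, 7], []⟩],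
  .tm 1 [12, 10, 8, 10, 4, 8, 7, 10, 8, 15, 4, 7] [] [⟨2957, [], []⟩],
  .tm 17 [7, 10, 8, 7, 10, 4, 8, 2, 15, 4, 7] [] [⟨146, [4, 8, 10, 4, 8, 2, 10, 7], [89]⟩, ⟨145, [12, 7, 10, 8, 4, 2], [266, 268]⟩, ⟨398, [8, 10, 8, 7, 10, 8, 6, 10, 4, 8, 0, 4, 7], []⟩],
  .tm 1 [12, 4, 8, 10, 8, 6, 10, 8, 2, 6, 10, 4] [] [⟨2959, [], []⟩],
  .tm 17 [4, 8, 10, 8, 6, 10, 8, 6, 10, 4] [] [⟨146, [8, 4, 8, 10, 8, 4, 8, 10, 7], [83]⟩, ⟨145, [12, 8, 4, 8, 7, 10], [266, 268]⟩, ⟨398, [8, 7, 10, 8, 7, 10, 8, 4, 8, 10, 4, 6], []⟩],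
  .tm 17 [8, 6, 10, 8, 4, 8, 0] [] [⟨150, [8, 12, 8, 10, 4, 8, 6, 10, 8, 7, 10, 4, 8, 2, 15, 4], [117, 117, 141]⟩, ⟨145, [8, 12, 6, 10, 8, 4, 2], [266, 268]⟩, ⟨2815, [12, 8, 6, 10, 4, 8, 2, 10, 4], []⟩],
  .tm 1 [10, 8, 6, 10, 4, 8, 7, 10, 8, 10, 4, 6] [] [⟨2962, [], []⟩],
  .tm 22 [12, 8, 6, 10, 8, 10, 4, 8, 15, 6] [] [⟨1457, [8, 7, 10, 2, 8, 10, 4, 7], [83, 91, 117, 141]⟩, ⟨145, [10, 4, 8, 12, 10, 8, 6, 10, 0], [266, 268]⟩, ⟨1887, [12, 10, 8, 6, 10, 8, 7, 10, 8, 15, 4, 6], []⟩]]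

theorem fc2888 : checkL (nat_lit 12) (nat_lit 4095) tH tK tK' BB FF TM XW d2888 (nat_lit 2888) = true := by decide +kernel

def d2965 : List Der := [.tm 11 [4, 8, 10, 4, 8, 6, 10, 8, 10] [] [⟨675, [8, 12, 8, 10, 8, 4, 8, 0, 10, 4, 6], [116, 91, 140]⟩, ⟨145, [8, 10, 2, 8, 12, 6, 10], [268, 266]⟩, ⟨877, [4, 8, 6, 10, 4, 8, 2, 10], []⟩],
  .tm 1 [8, 7, 10, 2, 8, 6, 10, 4, 7] [] [⟨2965, [], []⟩],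
  .tm 11 [6, 10, 8, 7, 10, 4, 8, 6, 10, 8, 2, 4] [] [⟨1457, [12, 7, 10, 8, 6, 10, 4, 8, 15, 4, 6], [117, 89, 117]⟩, ⟨145, [8, 6, 10, 8, 12, 8, 10], []⟩, ⟨930, [6, 10, 4, 8, 0, 10], []⟩],
  .tm 12 [12, 10, 8, 6, 10, 8, 7, 10, 4, 8, 0, 6, 10, 4] [] [⟨146, [12, 8, 10, 8, 7, 10, 2, 8, 6, 10, 7], [116, 141]⟩, ⟨145, [8, 12, 10, 4, 8, 4, 2], [268, 266]⟩, ⟨808, [10, 8, 4, 8, 10], []⟩],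
  .tm 1 [6, 10, 8, 7, 10, 4, 8, 2, 6, 10, 4, 6] [] [⟨2968, [], []⟩],
  .tm 12 [8, 4, 8, 10, 2, 8, 10, 4] [] [⟨2422, [12, 8, 4, 8, 7, 10, 8, 15], [89, 91, 116]⟩, ⟨145, [4, 8, 6, 10, 8, 10, 4], [266, 268]⟩, ⟨1768, [6, 10, 2, 8, 4], []⟩],
  .tm 12 [8, 12, 6, 10, 8, 7, 10, 4, 8, 6, 10, 8, 6, 10, 4, 6] [] [⟨352, [12, 6, 10, 8, 6, 10, 4, 8, 7], [89, 91]⟩, ⟨145, [12, 8, 4, 8, 12, 6, 10], [266, 268, 266]⟩, ⟨666, [8, 10, 4, 8, 2, 15, 7], []⟩],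
  .tm 22 [6, 10, 8, 10, 4, 8] [] [⟨460, [8, 12, 0], [141, 117]⟩, ⟨149, [8, 10, 4, 8, 12, 8, 4, 2], [266, 268, 266]⟩, ⟨1558, [8, 12, 8, 10, 4, 8, 6, 10, 2, 8, 6, 10, 6], []⟩],
  .dfn,
  .tm 1 [] [] [⟨2973, [], []⟩],
  .tm 0 [] [] [⟨2973, [], [52]⟩, ⟨2973, [7], []⟩],
  .tm 0 [] [] [⟨2973, [], [61, 51, 52, 60, 52, 60]⟩, ⟨2973, [6, 13], []⟩],
  .tm 2 [7] [] [⟨2973, [6], [72, 52, 73, 50, 58]⟩, ⟨148, [8], []⟩],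
  .tm 1 [12, 8, 10, 8, 7, 10, 4, 8, 6] [] [⟨2977, [], []⟩],
  .tm 3 [12, 10, 4, 7] [] [⟨2973, [12, 10, 6, 4], [50, 58]⟩, ⟨148, [8, 12, 15, 4, 7], []⟩],
  .tm 1 [12, 8, 7, 10, 8, 4, 8, 10, 8, 15, 4, 7] [] [⟨2979, [], []⟩],
  .tm 3 [] [] [⟨2973, [6, 10, 7, 4], [54, 56, 72, 50]⟩, ⟨2973, [15, 4], []⟩],
  .tm 3 [6] [] [⟨2973, [12, 6, 10, 4], [60, 56, 52, 72, 53]⟩, ⟨148, [8, 12, 6, 10, 7], []⟩],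
  .tm 1 [10, 8, 10, 4, 8, 7, 10, 8, 6, 10, 8, 15] [] [⟨2982, [], []⟩],
  .tm 3 [12, 6, 10, 4] [] [⟨2973, [12, 6, 10, 6], [73, 52, 72, 50, 58]⟩, ⟨148, [8, 12, 6], []⟩],
  .tm 1 [12, 8, 10, 4, 8, 6, 10, 8, 7, 10, 8, 6, 10, 6] [] [⟨2984, [], []⟩],
  .tm 3 [6, 10, 4, 8, 6, 10, 4] [] [⟨2973, [8, 12, 10, 6], [73, 73, 73, 58]⟩, ⟨148, [12, 7, 10, 4, 2, 8, 7], []⟩],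
  .tm 1 [4, 8, 7, 10, 4, 8, 4, 6] [] [⟨2986, [], []⟩],
  .tm 3 [7, 10, 8, 15] [] [⟨2973, [8, 12, 10, 7], [73, 56, 53, 58, 72, 56, 50]⟩, ⟨148, [12, 8, 7, 10, 2, 8, 6], []⟩],
  .tm 1 [7, 10, 8, 6, 10, 8, 4] [] [⟨2988, [], []⟩],
  .tm 3 [10, 4, 8, 6, 10, 8, 0, 6, 10, 4] [] [⟨2973, [8, 12, 10, 6, 4], [73, 53, 72, 58]⟩, ⟨47, [8, 12, 8, 10, 8, 6, 10, 4, 8, 2, 15, 6], []⟩],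
  .tm 1 [12, 10, 8, 6, 10, 8, 2, 15, 4, 7] [] [⟨2990, [], []⟩],
  .tm 3 [10, 8, 6, 10, 8, 6, 10, 6] [] [⟨2973, [8, 12, 10, 7, 4], [60, 73, 50, 73, 73, 56]⟩, ⟨148, [12, 8, 10, 2, 8, 7], []⟩],
  .tm 1 [8, 4, 8, 6, 10, 8, 7, 10, 8, 10, 4] [] [⟨2992, [], []⟩],
  .tm 3 [] [] [⟨2973, [10], [60, 50, 73, 54, 52]⟩, ⟨148, [8, 10, 4], []⟩],
  .tm 1 [12, 4, 8, 10, 8, 4, 8, 6, 10, 8, 0, 15, 4, 7] [] [⟨2994, [], []⟩],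
  .tm 3 [12, 7, 10, 4, 2, 8, 10, 4, 6] [] [⟨2973, [8, 12], [58, 53, 58, 60, 50]⟩, ⟨2973, [8, 12, 8, 10, 4, 2, 8, 6], []⟩],
  .tm 9 [10, 8, 10, 8, 4, 8, 6, 10, 8, 10, 6] [] [⟨652, [8, 10, 8, 6, 10, 8, 4, 8, 6, 10, 4], []⟩, ⟨2977, [7, 10], []⟩],
  .tm 1 [10, 8, 10, 8, 4, 8, 7, 10, 8, 10, 7] [] [⟨2997, [], []⟩],
  .tm 9 [12, 8, 7, 10, 8, 4, 8, 2, 6, 10, 4, 6] [] [⟨1472, [8, 10, 8, 7, 10, 4, 2, 8, 15, 4], []⟩, ⟨2977, [10, 6, 4], []⟩],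
  .tm 1 [8, 12, 8, 7, 10, 8, 2, 10, 4, 7] [] [⟨2999, [], []⟩],
  .tm 43 [] [] [⟨2980, [8, 4, 8, 7, 10, 8, 4, 8, 6, 10, 4], [267]⟩, ⟨1223, [6, 10, 8, 7, 10, 8, 4, 8, 0, 15, 4, 7], [269]⟩, ⟨2977, [12, 6, 4], []⟩],
  .tm 9 [8, 12, 4, 8, 10, 8, 4, 8, 2, 6, 10] [] [⟨634, [12, 6, 10, 8, 4, 8, 7, 10, 8, 15, 4, 6], [267, 269]⟩, ⟨2977, [6, 10, 6], []⟩],
  .tm 1 [8, 12, 7, 10, 2, 8, 10] [] [⟨3002, [], []⟩],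
  .tm 9 [12, 10, 8, 6, 10, 8, 0, 15, 4, 7] [] [⟨301, [7, 10, 8, 6, 10, 4, 8, 7, 10, 8, 2, 15, 6], []⟩, ⟨2977, [8, 12, 6], []⟩],
  .tm 1 [8, 12, 7, 10, 8, 10, 8, 4, 8, 7, 10, 8, 2, 15, 7] [] [⟨3004, [], []⟩],
  .tm 9 [12, 8, 4, 8, 10, 8, 6, 10, 8, 0, 4] [] [⟨398, [10, 8, 6, 10, 4, 8, 7, 10, 8, 4, 6], [269, 267]⟩, ⟨2977, [8, 12, 7], []⟩],
  .tm 1 [8, 6, 10, 4, 8, 15, 4] [] [⟨3006, [], []⟩],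
  .tm 9 [10, 8, 10, 4, 8, 7, 10, 8, 0, 4, 7] [] [⟨182, [7, 10, 4, 8, 6, 10, 8, 2, 15], [269, 267]⟩, ⟨2977, [8, 12, 6, 4], []⟩],
  .tm 1 [10, 8, 6, 10, 8, 4, 8, 15, 4, 6] [] [⟨3008, [], []⟩],
  .tm 9 [8, 7, 10, 8, 6, 10, 4, 8, 2, 10, 4, 6] [] [⟨157, [8, 6, 10, 8, 4, 8, 0, 6, 10, 7], [267]⟩, ⟨2977, [8, 12, 10, 7], []⟩],
  .tm 1 [8, 7, 10, 8, 4, 8, 10, 8, 2, 15, 4, 6] [] [⟨3010, [], []⟩],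
  .tm 9 [12, 4, 8, 10, 8, 0, 10, 6] [] [⟨332, [10, 8, 10, 8, 4, 8, 2, 15, 4, 7], [267]⟩, ⟨2977, [8, 12, 6, 10], []⟩],
  .tm 1 [8, 12, 6, 10, 8, 10, 8, 4, 8, 6, 10, 8, 2, 15] [] [⟨3012, [], []⟩],
  .tm 9 [4, 8, 10, 4, 8, 7, 10, 8, 6, 10, 4, 7] [] [⟨143, [12, 8, 10, 4, 8, 6, 10, 8, 4, 8, 10], []⟩, ⟨2977, [8, 12, 10, 6, 4], []⟩],
  .tm 1 [8, 7, 10, 8, 4, 8, 2] [] [⟨3014, [], []⟩],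
  .tm 43 [] [] [⟨2999, [8, 10, 8, 6, 10, 8, 2, 6, 10, 4], [167, 169, 217, 167, 216]⟩, ⟨139, [12, 8, 10, 8, 4, 8, 6, 10, 8, 0, 4], []⟩, ⟨2977, [8, 12, 10, 7, 4], []⟩],
  .tm 9 [8, 10, 8, 6, 10, 4, 8, 2, 15, 7] [] [⟨543, [8, 10, 8, 7, 10, 8, 6, 10, 4, 8, 0, 15], [267]⟩, ⟨2977, [8, 12, 7, 10, 4], []⟩],
  .tm 1 [8, 10, 8, 4, 2, 8, 6, 10] [] [⟨3017, [], []⟩],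
  .tm 29 [6, 10, 8, 7, 10, 8, 4, 2, 8, 15, 4] [] [⟨165, [6, 10, 8, 7, 10, 8, 4, 8, 15], [267]⟩, ⟨2977, [8, 12], [5950]⟩, ⟨2996, [12, 6], []⟩],
  .tm 1 [8, 7, 10, 4, 2, 8, 15, 4] [] [⟨3019, [], []⟩],
  .tm 30 [8, 4, 8, 7, 10, 8, 6, 10, 8, 2, 6, 10] [] [⟨342, [7, 10, 8, 6, 10, 8, 4, 8, 0, 10, 4, 7], [267]⟩, ⟨2977, [7, 10, 8, 12, 7, 10, 4], [5952, 6003, 5952]⟩, ⟨2981, [8, 2, 15, 7], []⟩],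
  .tm 1 [10, 8, 4, 8, 7, 10, 2, 8, 10] [] [⟨3021, [], []⟩],
  .tm 30 [10, 8, 6, 10, 8, 7, 10, 4, 8, 0, 7] [] [⟨770, [6, 10, 8, 10, 8, 4, 8, 2, 4], [267, 269]⟩, ⟨2977, [10, 8, 7, 10, 8, 12, 4], [5950]⟩, ⟨2981, [4, 8, 6, 10, 4, 8, 2, 10, 7], []⟩],
  .tm 1 [8, 6, 10, 8, 4, 8, 10, 8, 6, 10, 4, 7] [] [⟨3023, [], []⟩],
  .tm 30 [12, 8, 10, 8, 6, 10, 8, 4, 2, 8, 6, 10, 4, 6] [] [⟨159, [10, 4, 8, 6, 10, 2, 8, 10, 6], [267]⟩, ⟨2977, [10, 4, 8, 12, 6, 10, 8], [5953]⟩, ⟨2981, [8, 4, 8, 7, 10, 8, 4, 8, 2, 10], []⟩],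
  .tm 1 [8, 12, 4, 8, 6, 10, 4, 8, 2, 7] [] [⟨3025, [], []⟩],
  .tm 30 [12, 10, 4, 8, 7, 10, 8, 15, 4, 6] [] [⟨178, [10, 8, 7, 10, 8, 6, 10, 8, 6], [269, 267]⟩, ⟨2977, [10, 4, 8, 12, 7, 10, 8], [5953]⟩, ⟨2981, [8, 4, 8, 10, 8, 4, 8, 2, 10], []⟩],
  .tm 1 [8, 4, 8, 6, 10, 8, 4, 8, 10, 4] [] [⟨3027, [], []⟩],
  .tm 30 [10, 8, 7, 10, 8, 15] [] [⟨178, [8, 4, 8, 7, 10, 2, 8, 4], [269, 267]⟩, ⟨2977, [4, 8, 12, 10, 8, 6, 10], [6002, 5952]⟩, ⟨2981, [8, 10, 8, 6, 10, 8], []⟩],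
  .tm 1 [8, 7, 10, 8, 6, 10, 8, 4, 8, 0, 6, 10, 4, 7] [] [⟨3029, [], []⟩],
  .tm 30 [12, 10, 8, 4, 8, 7, 10, 2, 8, 15, 4, 6] [] [⟨287, [6, 10, 8, 10, 8, 4, 8, 6, 10, 8, 2, 10, 4, 6], []⟩, ⟨2977, [7, 10, 4, 8, 12, 6, 10], [5950]⟩, ⟨2981, [10, 4, 2, 8, 10, 4, 6], []⟩],
  .tm 1 [12, 8, 10, 4, 8, 6, 10, 8, 7, 10, 4, 8, 2, 6, 10, 7] [] [⟨3031, [], []⟩],
  .tm 30 [12, 6, 10, 8, 2, 10, 7] [] [⟨159, [8, 6, 10, 8, 6, 10, 4, 8, 2], [267]⟩, ⟨2977, [7, 10, 4, 8, 12, 7, 10], [5952, 6003, 5952]⟩, ⟨2981, [6, 10, 4, 8, 2, 15, 4, 6], []⟩],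
  .tm 1 [7, 10, 8, 10, 4, 8, 15, 4] [] [⟨3033, [], []⟩],
  .tm 30 [12, 7, 10, 8, 6, 10, 8, 7, 10, 4, 8, 2, 6, 10, 4, 6] [] [⟨1703, [12, 8, 10, 8, 4, 8, 6, 10, 8, 6, 10, 4, 7], [267, 269, 267]⟩, ⟨2977, [10, 8, 7, 10, 4, 8, 12], [5950]⟩, ⟨2981, [6, 10, 8, 0, 10, 7], []⟩],
  .tm 1 [8, 10, 8, 7, 10, 8, 6, 10, 8, 2, 15, 4] [] [⟨3035, [], []⟩],
  .tm 30 [8, 7, 10, 8, 4, 8, 6, 10, 8, 6] [] [⟨1507, [10, 8, 4, 2, 8, 10, 4, 6], [267]⟩, ⟨2977, [12, 10, 8, 6, 10, 4, 8, 4], [5952, 6003, 5952]⟩, ⟨2981, [6, 10, 8, 4, 8, 6, 10, 8, 15, 4], []⟩],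
  .tm 1 [12, 10, 4, 8, 6, 10, 8, 2, 15] [] [⟨3037, [], []⟩],
  .tm 30 [8, 10, 8, 4, 8, 10, 4] [] [⟨141, [12, 4, 8, 10, 8, 6, 10, 4, 8, 4, 7], []⟩, ⟨2977, [6, 10, 8, 12, 7, 10, 8, 4], [6002, 5952]⟩, ⟨2981, [8, 7, 10, 8, 7, 10, 4, 8, 10, 4, 7], []⟩],
  .tm 1 [12, 10, 8, 4, 8, 7, 10, 2, 8, 15, 4, 6] [] [⟨3039, [], []⟩],
  .tm 30 [4, 8, 6, 10, 8, 7, 10, 4, 2, 8, 15] [] [⟨287, [10, 8, 10], []⟩, ⟨2977, [6, 10, 4, 8, 12, 7, 10, 8], [6002, 5952]⟩, ⟨2981, [8, 4, 8, 10, 8, 4, 8, 6, 10, 7], []⟩],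
  .tm 1 [12, 4, 8, 6, 10, 8, 7, 10, 4, 8, 15, 7] [] [⟨3041, [], []⟩],
  .tm 30 [8, 12, 10, 8, 6, 10, 8, 2, 10] [] [⟨1507, [10, 4, 8, 6, 10, 4, 8, 6, 10], [267, 269]⟩, ⟨2977, [8], [5950]⟩, ⟨2996, [12, 2, 0, 6], []⟩],
  .tm 1 [8, 12, 10, 8, 10, 4, 8, 6, 10, 8, 0, 15] [] [⟨3043, [], []⟩],
  .tm 30 [8, 12, 8, 10, 8, 4, 8, 7, 10, 8, 0, 4, 7] [] [⟨2163, [8, 10, 8, 6, 10, 4, 8, 2, 6, 10, 4, 6], [267, 269, 267]⟩, ⟨2977, [10, 4], [5953]⟩, ⟨2981, [2, 0, 6], []⟩],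
  .tm 1 [8, 12, 4, 8, 6, 10, 8, 7, 10, 4, 2, 8, 7] [] [⟨3045, [], []⟩],
  .tm 30 [12, 8, 10, 8, 6, 10, 8, 4, 8, 0, 10, 4, 6] [] [⟨570, [8, 12, 8, 10, 4, 2, 8, 10, 4, 7], [267]⟩, ⟨2977, [4, 8], [5950]⟩, ⟨2996, [12, 8, 10, 8, 7, 10, 8, 6, 10, 8, 15, 7], []⟩],
  .tm 1 [8, 12, 4, 8, 10, 8, 4, 8, 7, 10, 8, 6, 10, 4, 6] [] [⟨3047, [], []⟩],
  .tm 30 [8, 12, 10, 8, 4, 2, 8, 10] [] [⟨835, [8, 10, 4, 8, 6, 10, 8, 7, 10, 4, 8, 2, 6, 10, 7], [267, 269, 267]⟩, ⟨2977, [10, 8], [5950]⟩, ⟨2996, [12, 8, 4, 8, 6, 10, 8, 4, 8, 10], []⟩],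
  .tm 1 [12, 10, 4, 8, 7, 10, 8, 6, 10, 8, 2, 10] [] [⟨3049, [], []⟩],
  .tm 30 [8, 10, 4, 8, 7, 10, 2, 8, 6] [] [⟨939, [12, 8, 6, 10, 8, 7, 10, 4, 8, 15, 4, 6], [269, 267]⟩, ⟨2977, [12, 8], [5950]⟩, ⟨2996, [12, 0, 6], []⟩],
  .tm 1 [10, 4, 8, 7, 10, 2, 8, 6, 10, 6] [] [⟨3051, [], []⟩],
  .tm 30 [8, 10, 8, 7, 10, 8, 6, 10, 4, 8, 2] [] [⟨770, [7, 10, 8, 6, 10, 8, 4, 8, 6, 10, 4, 6], [267]⟩, ⟨2977, [6, 10, 4], [6002, 5952]⟩, ⟨2981, [2, 15, 7], []⟩],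
  .tm 1 [12, 8, 10, 8, 6, 10, 8, 4, 8, 15, 6] [] [⟨3053, [], []⟩],
  .tm 30 [8, 7, 10, 8, 6, 10, 4, 8, 15] [] [⟨1255, [8, 12, 6, 10, 4, 2, 8, 10, 4, 7], [267, 269]⟩, ⟨2977, [12, 4, 8], [5950]⟩, ⟨2996, [12, 8, 10, 8, 7, 10, 8, 6, 10, 8, 2, 15, 7], []⟩],
  .tm 1 [8, 12, 4, 8, 10, 8, 4, 8, 6, 10, 8, 10, 4] [] [⟨3055, [], []⟩],
  .tm 30 [12, 6, 10, 8, 7, 10, 8, 2, 10] [] [⟨1703, [12, 4, 8, 7, 10, 8, 10, 4], [269, 267]⟩, ⟨2977, [6, 10, 8], [5950]⟩, ⟨2996, [12, 8, 4, 8, 7, 10, 8, 4, 8, 10], []⟩],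
  .tm 1 [8, 4, 8, 7, 10, 8, 6, 10, 4, 8, 4, 6] [] [⟨3057, [], []⟩],
  .tm 30 [10, 8, 7, 10, 8, 6, 10, 4, 2, 8, 4, 6] [] [⟨770, [8, 10, 8, 7, 10, 4, 8, 0, 15, 4, 6], [267]⟩, ⟨2977, [6, 10, 4, 8], [5950]⟩, ⟨2996, [12, 8, 7, 10, 8, 6, 10, 4, 8, 7, 10, 8, 6, 10, 4, 7], []⟩],
  .tm 1 [8, 12, 10, 8, 4, 8, 6, 10, 8, 2, 4, 6] [] [⟨3059, [], []⟩],
  .tm 30 [12, 8, 4, 8, 10, 8, 6, 10, 8, 2, 6, 10, 7] [] [⟨835, [6, 10, 8, 4, 8, 2, 10, 4, 7], [267, 269, 267]⟩, ⟨2977, [10, 8, 4, 8, 4], [5953]⟩, ⟨2981, [10, 8, 7, 10, 8, 6, 10, 8, 15, 7], []⟩],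
  .tm 1 [7, 10, 8, 10, 4, 8, 10] [] [⟨3061, [], []⟩],
  .tm 30 [8, 10, 8, 6, 10, 8, 4, 8, 2, 6, 10, 4] [] [⟨165, [6, 10, 8, 4, 2, 8, 10, 6], [267]⟩, ⟨2977, [10, 8, 12, 8, 4], [5953]⟩, ⟨2981, [4, 2, 8, 4, 6], []⟩],
  .tm 1 [7, 10, 8, 6, 10, 4, 8, 2, 6, 10, 4, 6] [] [⟨3063, [], []⟩],
  .tm 30 [8, 12, 6, 10, 8, 4, 8, 7, 10, 8, 0, 6, 10, 4, 7] [] [⟨300, [10, 8, 7, 10, 8, 6, 10, 8, 7], [269, 267]⟩, ⟨2977, [10, 4, 8, 12, 8], [5953]⟩, ⟨2981, [0, 6], []⟩],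
  .tm 1 [8, 12, 8, 7, 10, 8, 0, 6] [] [⟨3065, [], []⟩],
  .tm 30 [8, 12, 8, 10, 8, 4, 8, 6, 10, 8, 2, 10, 4, 6] [] [⟨1703, [12, 10, 8, 7, 10, 4, 8, 6, 10, 8, 15, 4, 6], [267, 269, 267]⟩, ⟨2977, [8, 4, 8, 12, 10], [5952, 6003, 5952]⟩, ⟨2981, [10, 8, 10, 4, 8, 2, 15, 4, 6], []⟩]]

theorem fc2965 : checkL (nat_lit 12) (nat_lit 4095) tH tK tK' BB FF TM XW d2965 (nat_lit 2965) = true := by decide +kernel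

def d3068 : List Der := [.tm 1 [8, 12, 10, 8, 7, 10, 8, 4, 8, 2, 7] [] [⟨3067, [], []⟩],
  .tm 30 [4, 8, 6, 10, 7] [] [⟨939, [12, 4, 8, 6, 10, 4, 8, 7, 10, 8, 15, 6], [269, 267]⟩, ⟨2977, [8, 10, 4, 8, 12], [5952, 6003, 5952]⟩, ⟨2981, [10, 8, 6, 10, 7], []⟩],
  .tm 1 [12, 4, 8, 6, 10, 8, 4, 8, 6, 10, 4] [] [⟨3069, [], []⟩],
  .tm 30 [8, 12, 8, 4, 8, 10, 4, 8, 7, 10, 8, 2, 15, 4, 6] [] [⟨1255, [8, 12, 4, 8, 7, 10, 8, 2, 10, 4], [267]⟩, ⟨2977, [10, 8, 6, 10, 8, 4], [5953]⟩, ⟨2981, [8, 4, 8, 10, 8, 7, 10, 4, 8, 15, 6], []⟩],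
  .tm 1 [12, 4, 2, 8, 15, 4, 7] [] [⟨3071, [], []⟩],
  .tm 30 [8, 7, 10, 4, 8, 6, 10, 8, 15] [] [⟨390, [4, 8, 10, 8, 7, 10, 4, 8, 10, 4, 7], []⟩, ⟨2977, [10, 8, 12, 7, 10, 4], [5950]⟩, ⟨2981, [6, 10, 2, 8, 10, 7], []⟩],
  .tm 1 [4, 8, 7, 10, 8, 15] [] [⟨3073, [], []⟩],
  .tm 30 [10, 8, 4, 7] [] [⟨390, [8, 7, 10, 8, 6, 10, 4, 8, 0, 15], []⟩, ⟨2977, [8, 12, 10, 8, 6, 10, 4], [6002, 5952]⟩, ⟨2981, [8, 10, 8, 7, 10, 8, 10, 4, 8, 15, 4], []⟩],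
  .tm 1 [4, 8, 6, 10, 4, 8, 2, 6, 10, 4, 7] [] [⟨3075, [], []⟩],
  .tm 17 [12, 8, 10, 2, 8, 4, 7] [] [⟨741, [12, 8, 10, 8, 4, 8, 6, 10, 8, 2, 10, 4, 6], [267, 269]⟩, ⟨2977, [6, 10, 8, 4, 2], [5950]⟩, ⟨2981, [8, 4, 8, 0, 4, 7], []⟩],
  .tm 1 [10, 8, 7, 10, 4, 8, 2, 10] [] [⟨3077, [], []⟩],
  .tm 17 [12, 10, 4, 8, 7, 10, 8, 6, 10, 8, 2, 10, 4] [] [⟨1594, [10, 8, 4, 8, 7, 10, 8, 2, 15, 6], [267, 269]⟩, ⟨2977, [8, 10, 8, 4, 2], [5952, 6003, 5952]⟩, ⟨2981, [10, 8, 6, 10, 8, 4, 8, 4, 7], []⟩],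
  .tm 1 [10, 4, 8, 7, 10, 2, 8] [] [⟨3079, [], []⟩],
  .tm 17 [4, 8, 10, 8, 6, 10, 8, 0, 15, 4, 6] [] [⟨254, [6, 10, 2, 8, 4, 6], [267]⟩, ⟨2977, [12, 8, 10, 4, 2], [5953]⟩, ⟨2981, [8, 7, 10, 8, 0, 10, 7], []⟩],
  .tm 1 [12, 10, 8, 4, 8, 7, 10, 8, 6, 10, 8, 6, 10, 4, 6] [] [⟨3081, [], []⟩],
  .tm 17 [10, 8, 4, 8, 6, 10, 2, 8, 15, 4] [] [⟨1483, [12, 8, 4, 8, 10, 8, 7, 10, 4, 8], [267]⟩, ⟨2977, [4, 8, 6, 10, 2], [5950]⟩, ⟨2981, [8, 6, 10, 4, 8, 0, 10, 4, 6], []⟩],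
  .tm 1 [12, 8, 10, 8, 4, 8, 7, 10, 8, 2, 4, 6] [] [⟨3083, [], []⟩],
  .tm 17 [8, 12, 10, 8, 10, 4, 8, 2, 10, 4, 7] [] [⟨1744, [10, 8, 10, 4, 8, 6, 10, 8, 2], [269]⟩, ⟨2977, [12, 6, 10, 8, 4], [6002, 5952]⟩, ⟨2981, [7, 10, 4, 8, 0, 4, 7], []⟩],
  .tm 1 [6, 10, 8, 4, 8, 7, 10, 2, 8, 10, 4] [] [⟨3085, [], []⟩],
  .tm 17 [8, 12, 8, 4, 8, 7, 10, 8, 0, 10, 4, 6] [] [⟨1787, [12, 10, 8, 4, 8, 0, 15], [267, 269]⟩, ⟨2977, [12, 8, 6, 10, 4], [6002, 5952]⟩, ⟨2981, [8, 0, 15, 7], []⟩],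
  .tm 1 [8, 12, 8, 10, 4, 8, 6, 10, 8, 7, 10, 4, 8, 2, 6, 10] [] [⟨3087, [], []⟩],
  .tm 17 [12, 10, 8, 7, 10, 8, 0, 10, 6] [] [⟨1879, [10, 8, 7, 10, 4, 8, 6, 10, 8, 2, 7], []⟩, ⟨2977, [10, 8, 7, 10, 4], [5950]⟩, ⟨2981, [6, 10, 8, 10, 7], []⟩],
  .tm 1 [8, 12, 6, 10, 8, 10, 8, 4, 8, 4, 6] [] [⟨3089, [], []⟩],
  .tm 17 [8, 10, 4, 8, 7, 10, 8, 0, 15, 4, 6] [] [⟨2978, [8, 7, 10, 8, 6, 10, 4, 2, 8, 6, 10, 4, 7], [267]⟩, ⟨2977, [8, 12, 8, 10, 4], [5951]⟩, ⟨2988, [10, 7], []⟩],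
  .tm 1 [4, 8, 6, 10, 8, 4, 8, 10, 7] [] [⟨3091, [], []⟩],
  .tm 20 [8, 12, 8, 4, 8, 10, 8, 7, 10, 8, 0, 6, 10, 4, 7] [] [⟨2108, [6, 10, 8, 6, 10, 4, 8, 6, 10, 4], [267, 269, 267]⟩, ⟨2977, [8, 4, 8, 10, 8], [5952, 6003, 5952]⟩, ⟨2981, [4, 8, 10, 4, 8, 2, 6, 10, 7], []⟩],
  .tm 1 [10, 8, 10, 4, 8, 7, 10, 8, 6, 10, 6] [] [⟨3093, [], []⟩],
  .tm 20 [8, 10, 8, 4, 8, 0, 10, 6] [] [⟨2649, [10, 8, 4, 8, 10, 8, 6, 10, 8, 10, 4], [267]⟩, ⟨2977, [6, 10, 8, 12, 8], [5950]⟩, ⟨2996, [12, 8, 7, 10, 8, 4, 8, 10, 8, 4], []⟩],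
  .tm 1 [8, 12, 10, 8, 6, 10, 8, 7, 10, 8, 2, 6, 10, 4, 7] [] [⟨3095, [], []⟩],
  .tm 20 [12, 8, 10, 8, 4, 8, 6, 10, 2, 8, 15, 4] [] [⟨2396, [12, 8, 7, 10, 8, 6, 10, 4, 8, 6, 10, 4, 7], [267]⟩, ⟨2977, [7, 10, 8, 12, 8], [5950]⟩, ⟨2996, [12, 8, 10, 8, 4, 8, 10, 8, 4], []⟩],
  .tm 1 [8, 12, 10, 8, 6, 10, 8, 0, 6, 10, 4, 6] [] [⟨3097, [], []⟩],
  .tm 20 [12, 10, 8, 10, 4, 8, 6, 10, 8, 0, 4, 6] [] [⟨577, [10, 4, 8, 6, 10, 8, 7, 10, 4, 8, 2, 6, 10, 7], [267]⟩, ⟨2977, [6, 10, 8, 12, 8, 2], [5950]⟩, ⟨2996, [12, 4, 8, 7, 10, 8, 4, 8, 10], []⟩],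
  .tm 1 [12, 10, 8, 10, 4, 8, 2, 15, 4, 6] [] [⟨3099, [], []⟩],
  .tm 20 [12, 10, 8, 7, 10, 8, 6, 10, 4, 2, 8, 10, 6] [] [⟨2899, [4, 8, 10, 8, 7, 10, 8, 2, 15, 4, 6], [267, 269, 267]⟩, ⟨2977, [7, 10, 8, 12, 8, 2], [5950]⟩, ⟨2996, [12, 4, 8, 10, 8, 4, 8, 10], []⟩],
  .tm 1 [8, 12, 8, 4, 8, 10, 8, 4, 8, 7] [] [⟨3101, [], []⟩],
  .tm 20 [8, 4, 8, 6, 10, 2, 8, 6, 10, 4] [] [⟨2366, [10, 8, 6, 10, 8, 7, 10, 4, 8], [267, 269, 267]⟩, ⟨2977, [8, 4, 8, 12, 6, 10, 4], [6002, 5952]⟩, ⟨2981, [8, 4, 8, 10, 8, 6, 10, 4, 8, 2], []⟩],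
  .tm 1 [12, 8, 7, 10, 8, 6, 10, 8, 10] [] [⟨3103, [], []⟩],
  .tm 20 [8, 4, 8, 10, 8, 7, 10, 8, 0, 6, 10, 4, 6] [] [⟨948, [7, 10, 4, 2, 8, 15, 7], [267, 269]⟩, ⟨2977, [12, 10, 8, 7, 10, 4, 8], [6002, 5952]⟩, ⟨2981, [6, 10, 2, 8, 15, 7], []⟩],
  .tm 1 [12, 8, 10, 4, 8, 6, 10, 4, 8, 15, 6] [] [⟨3105, [], []⟩],
  .tm 20 [8, 12, 7, 10, 8, 4, 8, 7, 10, 8, 6, 10] [] [⟨2104, [4, 8, 10, 4, 8, 7, 10, 2, 8, 15], [269]⟩, ⟨2977, [8, 12, 8], [5950]⟩, ⟨2996, [12, 2, 6], []⟩],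
  .tm 1 [8, 12, 10, 8, 7, 10, 8, 4, 8, 2, 10] [] [⟨3107, [], []⟩],
  .tm 20 [8, 12, 10, 8, 7, 10, 8, 6, 10, 4, 7] [] [⟨1967, [6, 10, 8, 2, 10], [267]⟩, ⟨2977, [8, 12, 8, 2], [5950]⟩, ⟨2996, [12, 2, 8, 6], []⟩],
  .tm 1 [8, 12, 10, 8, 6, 10, 8, 10, 4, 8, 2, 6, 10, 4] [] [⟨3109, [], []⟩],
  .tm 20 [8, 10, 8, 4, 8, 7, 10, 8, 10, 7] [] [⟨2336, [7, 10, 2, 8, 10, 4], [267]⟩, ⟨2977, [10, 8, 12, 8], [5950]⟩, ⟨2996, [12, 8, 6, 10, 8, 4, 8, 10, 8, 4], []⟩],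
  .tm 1 [8, 12, 10, 4, 8, 7, 10, 4, 8, 10, 4, 7] [] [⟨3111, [], []⟩],
  .tm 20 [8, 12, 10, 8, 6, 10, 4, 8, 15, 4, 7] [] [⟨2042, [10, 4, 8, 6, 10, 4, 8, 2, 6, 10], [267]⟩, ⟨2977, [10, 8, 12, 8, 2], [5950]⟩, ⟨2996, [12, 4, 8, 6, 10, 8, 4, 8, 10], []⟩],
  .tm 1 [12, 10, 8, 4, 8, 6, 10, 8, 2, 6, 10, 4, 7] [] [⟨3113, [], []⟩],
  .tm 22 [8, 6, 10, 4, 8, 10, 4] [] [⟨3023, [8, 7, 10, 8, 4, 8, 10, 8, 15, 7], [267]⟩, ⟨2977, [7, 10, 8, 4, 8, 12, 8, 7, 10], [6032, 5953]⟩, ⟨3090, [12, 6, 10, 8, 4, 8, 0, 6, 10, 4, 7], []⟩],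
  .tm 1 [8, 12, 6, 10, 8, 4, 8, 10, 8, 2, 6, 10, 4] [] [⟨3115, [], []⟩],
  .tm 22 [8, 4, 8, 10, 8, 6, 10, 4, 8, 0, 6, 10, 6] [] [⟨3053, [8, 4, 8, 10, 4, 8, 6, 10, 8, 4], [267, 269]⟩, ⟨2977, [12, 10, 8, 4, 8, 12, 8, 7, 10], [6032, 6002, 5953]⟩, ⟨3060, [8, 12, 4, 8, 6, 10, 4, 8, 7, 10, 8, 2], []⟩],
  .tm 1 [8, 4, 8, 10, 8, 6, 10, 8, 2, 15, 6] [] [⟨3117, [], []⟩],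
  .tm 22 [12, 8, 7, 10, 8, 6, 10, 4, 2, 8, 4] [] [⟨2766, [8, 12, 8, 10, 8, 7, 10, 8, 0, 15, 4, 7], [269]⟩, ⟨2977, [12, 8, 10, 8, 12, 4, 2, 8, 10], [6003, 6033, 6003, 5952]⟩, ⟨2981, [8, 12, 8, 6], []⟩],
  .tm 1 [12, 8, 4, 8, 6, 10, 8, 7, 10, 8, 2, 10, 4, 6] [] [⟨3119, [], []⟩],
  .tm 22 [8, 4, 8, 6, 10, 8, 7, 10, 8, 15, 4, 6] [] [⟨566, [12, 10, 8, 7, 10, 4, 8, 15, 6], [267]⟩, ⟨2977, [8, 10, 8, 4, 8, 12, 2, 8, 10], [6033, 5952, 6032]⟩, ⟨2981, [8, 4, 8, 10, 8, 6, 10, 8, 10, 4, 6], []⟩],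
  .tm 1 [12, 10, 8, 10, 4, 8, 6, 10, 8, 10, 4, 7] [] [⟨3121, [], []⟩],
  .tm 22 [12, 8, 2, 10, 6] [] [⟨3083, [12, 10, 8, 4, 8, 10, 8, 7, 10, 8, 0, 10, 4], [267, 269, 267]⟩, ⟨2977, [6, 10, 4, 8, 12, 8, 4, 8, 10], [6033, 5952]⟩, ⟨3070, [8, 12, 7, 10, 8, 10, 8, 4, 8, 2, 6, 10, 6], []⟩],
  .tm 1 [7, 10, 8, 6, 10, 8, 7, 10, 4, 8, 2, 6, 10, 7] [] [⟨3123, [], []⟩],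
  .tm 22 [8, 12, 10, 4, 8, 6, 10, 4, 8, 15, 4] [] [⟨3095, [8, 12, 10, 4, 8, 7, 10, 8, 6, 10, 8, 2, 15, 4], [269]⟩, ⟨2977, [4, 8, 10, 8, 6, 10, 4, 8, 10], [6032, 5952]⟩, ⟨3032, [8, 12, 10, 8, 10, 8, 4, 8, 6, 10, 8, 2, 4, 6], []⟩],
  .tm 1 [8, 12, 7, 10, 8, 10, 8, 4, 8, 7, 10, 8, 2, 6, 10] [] [⟨3125, [], []⟩],
  .tm 22 [8, 12, 4, 8, 6, 10, 8, 4, 8, 10, 7] [] [⟨3083, [12, 8, 7], [269, 267]⟩, ⟨2977, [6, 10, 8, 10, 8, 4, 8, 12, 4, 0], [6033, 6033, 5950]⟩, ⟨3052, [8, 12, 8, 4, 8, 10, 8, 7, 10, 8, 2, 4, 6], []⟩],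
  .tm 1 [8, 12, 10, 8, 7, 10, 8, 6, 10, 4, 2, 8, 4, 6] [] [⟨3127, [], []⟩],
  .tm 22 [12, 10, 8, 10, 4, 8, 7, 10, 2, 8, 15] [] [⟨3083, [12, 7, 10, 8, 6, 10, 8, 4, 2, 8, 6, 10, 4, 6], [267, 269, 267]⟩, ⟨2977, [6, 10, 4, 8, 12, 8, 4, 8, 10, 0], [5953, 6033, 6002]⟩, ⟨3068, [4, 8, 0, 10, 4, 6], []⟩],
  .tm 1 [8, 10, 8, 7, 10, 8, 0, 6, 10, 4] [] [⟨3129, [], []⟩],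
  .tm 22 [12, 8, 6, 10, 8, 7, 10, 4, 8, 2, 15, 4, 6] [] [⟨3023, [4, 8, 10, 8, 7, 10, 8, 0, 7], [267]⟩, ⟨2977, [4, 8, 7, 10, 8, 12, 6, 10, 4, 2], [6033, 5952]⟩, ⟨3125, [8, 12, 8, 7, 10, 8, 6, 10, 8, 4, 8, 0, 10], []⟩],
  .tm 1 [8, 12, 10, 8, 7, 10, 8, 10, 4, 8, 7] [] [⟨3131, [], []⟩],
  .tm 22 [8, 12, 7, 10, 8, 4, 8, 10, 8, 2, 6] [] [⟨2987, [10, 4, 8, 7, 10, 2, 8, 15, 4, 6], [267, 269]⟩, ⟨2977, [8, 10, 8, 6, 10, 8, 12, 2, 8, 4], [6002, 5952, 6002, 5952]⟩, ⟨3098, [8, 6, 10, 4, 8, 7, 10, 8, 2, 4, 6], []⟩],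
  .tm 1 [12, 7, 10, 8, 6, 10, 8, 7, 10, 4, 8, 10] [] [⟨3133, [], []⟩],
  .tm 22 [12, 8, 10, 8, 7, 10, 8, 6, 10, 8, 15] [] [⟨3053, [8, 7, 10, 8, 4, 8, 7, 10, 8, 2, 10, 6], [267, 269]⟩, ⟨2977, [8, 6, 10, 2], [6002, 6032]⟩, ⟨3011, [8, 12, 2, 0, 6, 10, 4, 7], []⟩],
  .tm 1 [8, 12, 4, 8, 7, 10, 4, 8, 2, 7] [] [⟨3135, [], []⟩],
  .tm 22 [12, 8, 6, 10, 8, 7, 10, 4, 2, 8, 15] [] [⟨3053, [8, 7, 10, 8, 7, 10, 4, 8, 2, 10, 6], [267, 269]⟩, ⟨2977, [2, 8, 6, 10], [6032, 6003]⟩, ⟨3009, [8, 12, 6, 10, 8, 4, 2, 8, 6, 10, 4, 7], []⟩],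
  .tm 1 [6, 10, 8, 10, 8, 4, 8, 6, 10, 8, 15, 4, 7] [] [⟨3137, [], []⟩],
  .tm 22 [8, 12, 7, 10, 8, 6, 10, 8, 2, 6, 10, 4] [] [⟨1785, [12, 4, 8, 10, 8, 6, 10, 4, 8, 2, 6, 10, 7], []⟩, ⟨2977, [8, 7, 10, 8, 12], [6033]⟩, ⟨2996, [2], []⟩],
  .tm 1 [12, 8, 7, 10, 8, 6, 10, 8, 7, 10, 4, 8, 10, 4, 7] [] [⟨3139, [], []⟩],
  .tm 22 [12, 10, 8, 10, 8, 4, 8, 7, 10, 8, 2, 6, 10, 4, 6] [] [⟨3023, [8, 4, 8, 7, 10, 8, 4, 8, 6, 10, 4], [267, 269]⟩, ⟨2977, [4, 8, 6, 10, 8, 4], [6003, 5952]⟩, ⟨3102, [12, 10, 4, 8, 7, 10, 8, 6, 10, 4, 8, 6, 10, 4, 7], []⟩],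
  .tm 1 [8, 12, 8, 10, 4, 8, 7, 10, 8, 4, 8, 2, 10] [] [⟨3141, [], []⟩],
  .tm 22 [12, 4, 8, 10, 2, 8, 15, 4, 7] [] [⟨3053, [10, 8, 6, 10, 8, 7, 10, 4, 2, 8, 10], [267]⟩, ⟨2977, [12, 8, 4, 8, 10, 4], [6033, 6033]⟩, ⟨3108, [8, 10, 8, 4, 8, 2, 6, 10, 4, 7], []⟩],
  .tm 1 [8, 12, 7, 10, 8, 4, 8, 6, 10, 8, 2, 10, 7] [] [⟨3143, [], []⟩],
  .tm 22 [8, 12, 8, 10, 8, 7, 10, 2, 8, 6, 10] [] [⟨2987, [6, 10, 8, 7, 10, 8, 6, 10, 4, 8, 15, 4], [267]⟩, ⟨2977, [4, 8, 12, 8, 10, 4, 2], [6032, 6002, 5953]⟩, ⟨3141, [7, 10, 8, 10, 4, 8, 4, 7], []⟩],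
  .tm 1 [12, 10, 8, 10, 8, 4, 8, 7, 10, 8, 10, 4, 7] [] [⟨3145, [], []⟩],
  .tm 22 [8, 12, 8, 10, 4, 8, 7, 10, 8, 6, 10, 4, 8, 6, 10, 4, 7] [] [⟨2978, [6, 10, 8, 7, 10, 8, 6, 10, 4, 8, 15, 4], [267, 269]⟩, ⟨2977, [10, 8, 12, 8, 10, 4, 2], [6003, 6032, 6003]⟩, ⟨3022, [12, 4, 8, 10, 8, 4, 8, 7, 10, 8, 0, 10, 6], []⟩],
  .tm 1 [12, 10, 4, 8, 6, 10, 4, 8, 15, 4, 7] [] [⟨3147, [], []⟩],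
  .tm 22 [4, 8, 10, 8, 6, 10, 4, 8, 0, 6, 10, 6] [] [⟨3053, [4, 8, 4, 8, 10, 8, 6, 10, 8, 4], [267, 269]⟩, ⟨2977, [10, 4, 8, 7, 10, 8, 4], [6033]⟩, ⟨3072, [8, 12, 8, 7, 10, 8, 6, 10, 8, 4, 8, 0, 10, 7], []⟩],
  .tm 1 [10, 4, 8, 6, 10, 4, 8, 6, 10, 4] [] [⟨3149, [], []⟩],
  .tm 22 [8, 10, 8, 6, 10, 8, 10, 4, 8, 15, 4, 6] [] [⟨3023, [10, 4, 8, 6, 10, 8, 4, 8, 2, 15, 4, 7], [267, 269]⟩, ⟨2977, [10, 8, 4, 8, 7, 10, 4], [6003, 6032, 5950]⟩, ⟨3036, [8, 12, 8, 4, 8, 10, 8, 6, 10, 2, 8, 7], []⟩],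
  .tm 1 [8, 4, 8, 10, 4, 8, 6, 10, 8, 2, 6, 10, 4] [] [⟨3151, [], []⟩],
  .tm 22 [12, 6, 10, 8, 4, 8, 6, 10, 8, 6, 10, 4] [] [⟨3023, [6, 10, 8, 7, 10, 4, 8, 10, 6], [267, 269]⟩, ⟨2977, [8, 7, 10, 4, 8, 6, 10, 4], [6002]⟩, ⟨3140, [12, 10, 4, 8, 7, 10, 8, 6, 10, 8, 6], []⟩],
  .tm 1 [8, 12, 6, 10, 4, 8, 2, 6, 10, 7] [] [⟨3153, [], []⟩],
  .tm 22 [4, 8, 15, 7] [] [⟨2157, [8, 12, 4, 8, 0, 15, 4, 6], [269]⟩, ⟨2977, [10, 8, 4, 8, 12, 2, 8, 10], [6002, 6033]⟩, ⟨2981, [10, 8, 7], []⟩],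
  .tm 1 [12, 6, 10, 8, 7, 10, 8, 4, 8, 0, 10, 6] [] [⟨3155, [], []⟩],
  .tm 22 [8, 10, 8, 7, 10, 8, 6, 10] [] [⟨2987, [7, 10, 8, 6, 10, 8, 7, 10, 4, 8, 6, 10, 4], [267]⟩, ⟨2977, [8, 12, 10, 8, 10, 4, 8, 10], [5952, 6033, 6002, 5952]⟩, ⟨3056, [12, 4, 8, 10, 8, 4, 8, 15, 4, 6], []⟩]]

theorem fc3068 : checkL (nat_lit 12) (nat_lit 4095) tH tK tK' BB FF TM XW d3068 (nat_lit 3068) = true := by decide +kernel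

def d3158 : List Der := [.tm 1 [8, 4, 8, 7, 10, 8, 6, 10, 4, 8, 2, 6, 10, 4] [] [⟨3157, [], []⟩],
  .tm 22 [12, 6, 10, 8, 4, 8, 6, 10, 8, 6, 10, 4] [] [⟨3053, [8, 4, 8, 10, 8, 7, 10, 4, 8, 0, 6, 10, 4, 7], [267, 269]⟩, ⟨2977, [12, 8, 6, 10, 8, 12, 8, 10], [6003, 6033, 6002, 5952]⟩, ⟨3114, [8, 12, 4, 8, 10, 8, 4, 8, 2, 6, 10, 4], []⟩],
  .tm 1 [7, 10, 8, 10, 8, 4, 8, 7, 10, 8, 2, 15, 7] [] [⟨3159, [], []⟩],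
  .tm 22 [12, 8, 10, 8, 6, 10, 8, 7, 10, 4, 8, 6, 10] [] [⟨2987, [10, 8, 6, 10, 2, 8, 6, 10, 7], [267]⟩, ⟨2977, [8, 10, 8, 7, 10, 8, 12, 4, 0], [6003, 6032, 5950]⟩, ⟨3149, [8, 12, 8, 6, 10, 8, 6, 10, 4, 8, 2, 4, 7], []⟩],
  .tm 1 [12, 10, 2, 8, 10, 4] [] [⟨3161, [], []⟩],
  .tm 22 [6, 10, 8, 4, 8, 10, 8, 7] [] [⟨3077, [8, 2, 4, 7], [269]⟩, ⟨2977, [10, 8, 12, 8, 4, 8, 6, 10, 0], [5952, 6003, 5952, 6002, 5952]⟩, ⟨3156, [6, 10, 8, 4, 8, 10, 8, 4], []⟩],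
  .tm 1 [8, 12, 10, 8, 10, 4, 8, 6, 10, 8, 2, 15, 4] [] [⟨3163, [], []⟩],
  .tm 22 [8, 12, 8, 7, 10, 8, 4, 8, 6, 10, 8, 15] [] [⟨3077, [6, 10, 8, 6, 10, 4, 8, 6, 10], []⟩, ⟨2977, [8, 12, 7, 10, 4, 2, 8, 6, 10], [6002, 5952, 6002]⟩, ⟨3151, [12, 10, 8, 6, 10, 8, 7, 10, 4, 8, 0], []⟩],
  .tm 1 [8, 4, 2, 8, 15] [] [⟨3165, [], []⟩],
  .tm 11 [10, 8, 4, 2, 8, 6, 10, 4, 6] [] [⟨3101, [8, 10, 4, 8, 6, 10, 2, 8, 6, 10, 6], [267]⟩, ⟨2977, [8, 10, 4, 8, 6, 10, 4, 0], [5952, 6003, 5952, 6002, 5952]⟩, ⟨2998, [8, 7, 10, 8, 6, 10, 8, 4, 8, 0, 6], []⟩],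
  .tm 1 [8, 12, 7, 10, 8, 6, 10, 8, 7, 10, 4, 8] [] [⟨3167, [], []⟩],
  .tm 11 [12, 10, 8, 10, 8, 4, 8, 6, 10, 8, 2, 6, 10, 4] [] [⟨3134, [12, 10, 8, 10, 4, 8, 6, 10, 8, 7], [267, 269, 267]⟩, ⟨2977, [10, 8, 12, 8, 4, 8, 4, 2], [6002, 6033, 6002]⟩, ⟨3005, [7, 10, 8, 6, 10, 8, 4, 2, 8, 6, 10, 4, 6], []⟩],
  .tm 1 [8, 12, 8, 10, 4, 8, 2, 10, 4, 6] [] [⟨3169, [], []⟩],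
  .tm 12 [8, 12, 6, 10, 8, 4, 8, 6, 10, 8, 2, 6, 10] [] [⟨3077, [10, 8, 4, 8, 7, 10, 8, 2, 15, 6], []⟩, ⟨2977, [8, 12, 8, 6, 10, 4], [6003, 6033, 6002]⟩, ⟨3163, [8, 12, 4, 8, 4, 7], []⟩],
  .tm 1 [12, 8, 7, 10, 8, 7, 10, 4, 8, 6, 10, 7] [] [⟨3171, [], []⟩],
  .tm 13 [4, 8, 6, 10, 4, 8, 10, 7] [] [⟨3093, [8, 12, 6, 10, 8, 6, 10, 8, 4, 8, 2, 6, 10, 4, 7], [267, 269, 267]⟩, ⟨2977, [10, 8, 12, 6, 10, 4, 8, 2], [5953, 6002, 5952, 6002]⟩, ⟨3167, [12, 4, 8, 10, 4, 8, 6, 10, 8, 10], []⟩],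
  .tm 1 [8, 12, 8, 4, 8, 10, 8, 15, 6] [] [⟨3173, [], []⟩],
  .tm 13 [8, 10, 4, 8, 7, 10, 8, 2, 10, 6] [] [⟨3031, [4, 8, 10, 4, 8, 6, 10, 8, 10, 6], [269]⟩, ⟨2977, [8, 12, 4, 8, 7, 10, 2, 8], [6033, 5953, 6032, 5953]⟩, ⟨3171, [12, 4, 8, 4, 8, 10, 8, 7, 10, 8, 10, 4, 7], []⟩],
  .tm 1 [8, 10, 8, 7, 10, 4, 8, 6, 10, 7] [] [⟨3175, [], []⟩],
  .tm 13 [8, 6, 10, 2, 8, 10, 6] [] [⟨3021, [6, 10, 4, 8, 0, 15, 4], [267, 269]⟩, ⟨2977, [12, 7, 10, 4, 8, 10, 4, 8], [6002]⟩, ⟨3018, [6, 10, 8, 4, 8, 6, 10, 8, 2, 6, 10, 4], []⟩],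
  .tm 1 [8, 12, 8, 6, 10, 8, 4, 8, 10, 8, 2, 10, 4, 7] [] [⟨3177, [], []⟩],
  .tm 13 [8, 6, 10, 8, 2, 10, 6] [] [⟨3065, [8, 12, 10, 2, 8, 4, 7], [267]⟩, ⟨2977, [4, 8, 10, 4, 8, 7, 10, 8], [5952, 6003, 5952]⟩, ⟨3062, [12, 4, 8, 4, 8, 10, 8, 6, 10, 8, 6, 10], []⟩],
  .tm 1 [7, 10, 4, 2, 8, 15] [] [⟨3179, [], []⟩],
  .tm 13 [12, 8, 10, 8, 7, 10, 8, 6, 10, 4, 2, 8, 6, 10, 7] [] [⟨3132, [12, 8, 6, 10, 8, 7, 10, 4, 8, 6, 10], []⟩, ⟨2977, [12, 8, 10, 4, 8, 12, 8, 10], [5952, 6032, 6002]⟩, ⟨3151, [8, 10, 8, 7, 10, 8, 6, 10, 4, 8, 2, 10, 6], []⟩],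
  .tm 1 [12, 8, 4, 8, 10, 8, 6, 10, 8, 2, 15, 7] [] [⟨3181, [], []⟩],
  .tm 13 [8, 12, 10, 4, 8, 7, 10, 8, 0, 15, 4, 6] [] [⟨3021, [12, 4, 8, 4, 8, 7, 10, 8, 6, 10, 8, 4], [267]⟩, ⟨2977, [4, 8, 7, 10, 8, 12, 4, 8, 0], [6002, 5952, 6002]⟩, ⟨2979, [12, 7, 10, 4, 8, 0, 10, 4, 6], []⟩],
  .tm 1 [4, 8, 10, 4, 8, 6, 10, 2, 8, 6, 10, 7] [] [⟨3183, [], []⟩],
  .tm 13 [12, 8, 10, 8, 6, 10, 4, 8, 10, 7] [] [⟨3178, [8, 12, 4, 8, 7, 10, 8, 6, 10, 4, 2, 8, 15], []⟩, ⟨2977, [12, 6, 10, 8, 10, 8, 12, 8, 0], [5952, 6003, 5952]⟩, ⟨3032, [10, 8, 10, 8, 4, 8, 7, 10, 8, 10, 7], []⟩],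
  .tm 1 [7, 10, 8, 4, 8, 6, 10, 8, 0, 7] [] [⟨3185, [], []⟩],
  .tm 13 [12, 4, 8, 10, 4, 8, 7, 10, 8, 0, 6, 10] [] [⟨3111, [10, 8, 4, 2, 8, 6, 10, 4, 7], [267, 269]⟩, ⟨2977, [8, 6, 10, 8, 4, 8, 7, 10, 0], [6003, 6032, 5952]⟩, ⟨3169, [8, 12, 8, 6, 10, 8, 4, 8, 4, 6], []⟩],
  .tm 1 [8, 12, 8, 4, 8, 10, 4, 8, 6, 10, 8, 2, 15, 7] [] [⟨3187, [], []⟩],
  .tm 13 [12, 8, 10, 8, 2, 10, 4, 7] [] [⟨3121, [12, 8, 10, 8, 7, 10, 8, 6, 10, 4, 8, 2, 10], [267, 269]⟩, ⟨2977, [8, 12, 8, 4, 8, 7, 10, 4, 2], [5952, 6033]⟩, ⟨2994, [8, 10, 8, 6, 10, 8, 2, 15, 7], []⟩],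
  .tm 1 [8, 4, 8, 10, 8, 7, 10, 8, 2, 10, 4] [] [⟨3189, [], []⟩],
  .tm 13 [8, 12, 4, 8, 10, 8, 6, 10, 8, 0, 15, 4, 7] [] [⟨3073, [8, 12, 10, 8, 6, 10, 4, 8, 2, 4, 6], []⟩, ⟨2977, [8, 6, 10, 8, 12, 8, 10, 8, 4], [5952]⟩, ⟨3088, [12, 8, 10, 8, 6, 10, 4, 2, 8, 6, 10, 4, 6], []⟩],
  .tm 1 [8, 12, 7, 10, 8, 4, 8, 6, 10, 8, 2, 4, 7] [] [⟨3191, [], []⟩],
  .tm 23 [8, 12, 8, 7, 10, 8, 4, 8, 6, 10, 8, 6, 10] [] [⟨3083, [12, 4, 8, 7, 10, 8, 6, 10, 4, 2, 8, 6, 10, 6], [267, 269, 267]⟩, ⟨2977, [4, 8, 12, 6, 10, 8, 4], [6003, 5952, 6002]⟩, ⟨3156, [8, 12, 8, 10, 8, 4, 8, 10, 8, 2, 4], []⟩],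
  .tm 1 [8, 12, 8, 10, 8, 6, 10, 8, 10, 4, 8, 15, 4] [] [⟨3193, [], []⟩],
  .tm 23 [10, 8, 7, 10, 8, 6, 10, 4, 8, 2, 15, 4, 6] [] [⟨3023, [10, 4, 8, 6, 10, 8, 4, 8, 2, 15, 4, 7], [267, 269]⟩, ⟨2977, [10, 8, 4, 8, 7, 10, 4], [6002, 6032, 6002, 5952]⟩, ⟨3102, [12, 10, 8, 6, 10, 8, 7, 10, 4, 8, 2], []⟩],
  .tm 1 [12, 8, 4, 8, 10, 2, 8, 15, 6] [] [⟨3195, [], []⟩],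
  .tm 23 [12, 8, 0, 6, 10] [] [⟨2987, [8, 7, 10, 8, 6, 10, 8, 7, 10, 4, 8, 6, 10, 4], [267]⟩, ⟨2977, [4, 8, 12, 2, 8, 10, 4], [6002]⟩, ⟨3181, [8, 12, 7, 10, 8, 6, 10, 8, 4, 8, 10, 6], []⟩],
  .tm 1 [8, 10, 4, 8, 7, 10, 4, 8, 6, 10, 7] [] [⟨3197, [], []⟩],
  .tm 23 [12, 4, 8, 10, 8, 0, 15, 4, 7] [] [⟨3077, [8, 4, 2, 8, 7], []⟩, ⟨2977, [6, 10, 8, 12, 4, 8, 10], [6032, 6002, 6033, 5953]⟩, ⟨3187, [8, 7, 10, 8, 15, 7], []⟩],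
  .tm 1 [8, 12, 8, 10, 8, 6, 10, 8, 7, 10, 4, 2, 8, 6, 10, 6] [] [⟨3199, [], []⟩],
  .tm 23 [12, 8, 10, 4, 8, 7, 10, 8, 4, 8, 10, 7] [] [⟨2987, [8, 10, 4, 8, 7, 10, 2, 8, 15, 4, 7], [267, 269]⟩, ⟨2977, [6, 10, 8, 12, 7, 10, 4, 0], [5952, 6002, 6033]⟩, ⟨3143, [7, 10, 8, 6, 10, 8, 7, 10, 4, 8, 2, 7], []⟩],
  .tm 1 [8, 12, 8, 2, 6, 10] [] [⟨3201, [], []⟩],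
  .tm 23 [8, 12, 6, 10, 8, 7, 10, 8, 4, 8, 2, 15, 4, 7] [] [⟨3150, [8, 12, 8, 4, 8, 10, 8, 0, 15, 7], [269]⟩, ⟨2977, [6, 10, 4, 8, 10, 8, 4, 2], [6003, 6032, 6003]⟩, ⟨3197, [12, 8, 10, 8, 10, 4, 8, 15, 4], []⟩],
  .tm 1 [8, 12, 4, 8, 2, 6] [] [⟨3203, [], []⟩],
  .tm 23 [8, 4, 8, 10, 8, 10, 4] [] [⟨3150, [8, 12, 8, 4, 8, 10, 8, 7, 10, 8, 0, 7], [269]⟩, ⟨2977, [4, 8, 6, 10, 8, 10, 4, 2], [6002, 6032, 6002, 5952]⟩, ⟨3125, [12, 8, 10, 4, 8, 2, 15, 4, 7], []⟩],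
  .tm 1 [8, 10, 8, 6, 10, 8, 4, 8, 2, 15, 4, 7] [] [⟨3205, [], []⟩],
  .tm 23 [12, 8, 10, 8, 4, 2, 8, 15, 4] [] [⟨2978, [8, 10, 8, 6, 10, 2, 8, 6, 10, 6], [267]⟩, ⟨2977, [10, 4, 8, 12, 8, 10, 8, 4], [6003, 6032, 6003]⟩, ⟨3169, [8, 4, 8, 10, 8, 6, 10, 8, 2, 4, 6], []⟩],
  .tm 1 [8, 12, 4, 8, 10, 8, 6, 10, 4, 8, 4, 6] [] [⟨3207, [], []⟩],
  .tm 23 [8, 12, 8, 4, 8, 10, 4, 8, 7, 10, 8, 2, 6, 10, 4, 6] [] [⟨3059, [10, 8, 4, 8, 0, 6, 10, 4, 6], [267]⟩, ⟨2977, [12, 6, 10, 4, 8, 6, 10, 4], [6002, 5953, 6002]⟩, ⟨3052, [8, 12, 8, 10, 4, 8, 6, 10, 2, 8, 10, 4], []⟩],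
  .tm 1 [12, 8, 4, 8, 10, 8, 6, 10, 8, 0, 10, 4] [] [⟨3209, [], []⟩],
  .tm 23 [4, 8, 7, 10, 8, 4, 8, 2, 6] [] [⟨3077, [10, 4, 8, 7, 10, 4, 8, 15, 4, 6], []⟩, ⟨2977, [10, 4, 2, 8, 12, 6, 10, 4], [6003, 6033, 6003, 5952]⟩, ⟨3169, [8, 12, 8, 4, 8, 10, 8, 7, 10, 8, 6, 10, 4, 6], []⟩],
  .tm 1 [8, 12, 8, 4, 8, 10, 4, 8, 7, 10, 8, 10, 4, 7] [] [⟨3211, [], []⟩],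
  .tm 23 [8, 12, 10, 8, 7, 10, 8, 6, 10, 8, 2, 15, 7] [] [⟨3053, [8, 10, 4, 8, 6, 10, 8, 4, 8, 2, 4, 7], [267]⟩, ⟨2977, [8, 6, 10, 4, 8, 12, 7, 10], [6003, 6032, 6002]⟩, ⟨3127, [12, 8, 6, 10, 8, 4, 8, 10, 8, 15, 6], []⟩],
  .tm 1 [7, 10, 8, 10, 4, 8, 2, 4, 7] [] [⟨3213, [], []⟩],
  .tm 16 [8, 7, 10, 4, 8, 0, 15, 6] [] [⟨3021, [8, 12, 8, 6, 10, 8, 0, 6, 10, 4, 6], [267, 269]⟩, ⟨2977, [7, 10, 8, 12, 4, 8, 10, 2], [6032, 6002, 6033, 5953]⟩, ⟨3149, [12, 8, 10, 8, 4, 8, 7, 10, 8, 7], []⟩],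
  .tm 1 [8, 12, 8, 10, 4, 8, 6, 10, 8, 2] [] [⟨3215, [], []⟩],
  .tm 16 [12, 10, 4, 8, 0, 6, 10, 7] [] [⟨3065, [8, 12, 10, 4, 8, 7], [267]⟩, ⟨2977, [4, 8, 10, 4, 2, 8, 7, 10], [5952, 6003, 5952]⟩, ⟨3064, [10, 4, 8, 7, 10, 8, 2, 15, 4], []⟩],
  .tm 1 [8, 12, 8, 10, 8, 10, 4, 8, 6, 10, 8, 10, 4, 7] [] [⟨3217, [], []⟩],
  .tm 16 [8, 12, 10, 8, 4, 8, 10, 8, 6, 10, 8] [] [⟨3073, [12, 10, 4, 8, 7, 10, 4, 8, 4], []⟩, ⟨2977, [8, 12, 6, 10, 8, 10, 8, 12, 0], [5952, 6003, 5952]⟩, ⟨3064, [8, 6, 10, 8, 7, 10, 8, 6, 10, 4, 8, 15, 4], []⟩],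
  .tm 1 [8, 10, 8, 10, 4, 8, 2, 6, 10, 4, 7] [] [⟨3219, [], []⟩],
  .tm 16 [8, 7, 10, 8, 4, 8, 10, 8, 15, 6] [] [⟨3146, [8, 12, 8, 6, 10, 8, 7, 10, 8, 2, 6], [267, 269, 267]⟩, ⟨2977, [12, 7, 10, 8, 4, 8, 10, 8, 2], [6003, 6032, 6002]⟩, ⟨3131, [12, 8, 10, 4, 8, 6, 10, 8, 0, 4], []⟩],
  .tm 1 [8, 12, 4, 8, 7, 10, 2, 8, 6, 10, 4, 6] [] [⟨3221, [], []⟩],
  .tm 16 [10, 8, 7, 10, 4, 8, 0, 4] [] [⟨3111, [8, 6, 10, 8, 4, 8, 10, 8, 2, 6, 10, 4, 6], [267]⟩, ⟨2977, [10, 4, 8, 7, 10, 8, 12, 6, 10], [6032, 6002]⟩, ⟨3193, [8, 12, 7, 10, 8, 10, 8, 4, 8, 2, 15, 7], []⟩],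
  .tm 1 [12, 4, 8, 10, 4, 8, 7, 10, 2, 8, 10, 4] [] [⟨3223, [], []⟩],
  .tm 32 [12, 10, 8, 6, 10, 8, 7, 10, 4, 2, 8, 4, 7] [] [⟨3077, [7, 10, 8, 6, 10, 4, 2, 8, 6, 10], [269]⟩, ⟨2977, [10, 8, 12, 10, 4, 2, 8, 7, 10], [6002, 5953, 6002, 5952]⟩, ⟨3195, [10, 8, 7, 10, 8, 6, 10, 7], []⟩],
  .tm 1 [12, 10, 8, 4, 8, 7, 10, 8, 0, 10, 6] [] [⟨3225, [], []⟩],
  .tm 32 [12, 6, 10, 8, 7, 10, 8, 4, 8, 15, 6] [] [⟨3095, [8, 12, 10, 4, 8, 7, 10, 8, 6, 10, 8, 15, 4], [269]⟩, ⟨2977, [4, 8, 10, 8, 6, 10, 4, 8, 10, 0], []⟩, ⟨3181, [6, 10, 8, 7, 10, 4, 8, 6, 10, 8, 2, 15, 4, 6], []⟩],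
  .tm 1 [8, 10, 8, 4, 8, 10, 8, 2, 4, 6] [] [⟨3227, [], []⟩],
  .tm 26 [8, 12, 6, 10, 8, 7, 10, 4, 8, 6, 10, 8, 2, 15, 4] [] [⟨3222, [12, 8, 6, 10, 8, 7, 10, 4, 2, 8, 6, 10, 6], [269]⟩, ⟨2977, [10, 8, 6, 10, 2], [6032, 6032, 5951]⟩, ⟨3183, [12, 8, 4, 8, 7, 10, 8, 6, 10, 4, 8, 2, 10, 4, 6], []⟩],
  .tm 1 [8, 12, 8, 6, 10, 8, 7, 10, 8, 4, 8, 0, 15, 4] [] [⟨3229, [], []⟩],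
  .tm 27 [8, 12, 8, 10, 8, 10, 4, 8, 7, 10, 8, 2, 6, 10, 6] [] [⟨3073, [12, 10, 4, 8, 0, 15, 6], [269]⟩, ⟨2977, [8, 4, 8, 10, 2, 8, 12], [6033, 6003]⟩, ⟨3054, [10, 4, 8, 6, 10, 8, 0, 4, 7], []⟩],
  .tm 1 [12, 10, 8, 4, 8, 10, 8, 6, 10, 8, 6] [] [⟨3231, [], []⟩],
  .tm 27 [12, 8, 4, 8, 10, 8, 7, 10, 4, 8, 0, 15, 7] [] [⟨3198, [8, 10, 4, 8, 7, 10, 2, 8, 15, 4], [267, 269, 267]⟩, ⟨2977, [4, 8, 7, 10, 4, 8, 4, 2], [5952, 6032]⟩, ⟨3181, [4, 8, 10, 8, 6, 10, 4, 8, 6, 10, 6], []⟩],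
  .tm 1 [10, 4, 8, 6, 10, 8, 0, 15, 7] [] [⟨3233, [], []⟩],
  .tm 27 [12, 8, 10, 8, 6, 10, 8, 7, 10, 8, 2, 4, 7] [] [⟨3035, [12, 7, 10, 4, 8, 2], [267, 269]⟩, ⟨2977, [7, 10, 4, 8, 7, 10, 4, 2], [6002, 5952, 6002]⟩, ⟨3183, [12, 8, 6, 10, 8, 7, 10, 8, 4, 8, 6, 10, 6], []⟩],
  .tm 1 [10, 8, 7, 10, 8, 10, 4, 8, 2, 15, 6] [] [⟨3235, [], []⟩],
  .tm 27 [12, 10, 4, 2, 8, 7] [] [⟨825, [8, 12, 8, 10, 8, 4, 2, 8, 6, 10, 4, 7], [269]⟩, ⟨2977, [12, 7, 10, 8, 10, 4, 8, 4], [5952, 6033, 5950]⟩, ⟨2996, [4], []⟩],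
  .tm 1 [8, 12, 7, 10, 8, 7, 10, 4, 8, 2, 6, 10, 4] [] [⟨3237, [], []⟩],
  .tm 27 [8, 12, 10, 8, 7, 10, 4, 8, 6, 10, 8, 6, 10, 7] [] [⟨3194, [12, 6, 10, 7], [269, 267]⟩, ⟨2977, [6, 10, 8, 12, 8, 10, 8, 4], [6033, 5953]⟩, ⟨3100, [12, 10, 8, 7, 10, 8, 4, 6], []⟩],
  .tm 1 [12, 8, 6, 10, 4, 8, 0, 4, 6] [] [⟨3239, [], []⟩],
  .tm 27 [8, 10, 8, 6, 10, 8, 15, 4, 6] [] [⟨490, [8, 12, 7, 10, 8, 7, 10, 8, 4, 8, 6, 10, 6], [269]⟩, ⟨2977, [8, 12, 10, 4, 8, 10, 8, 12], [6003, 6033, 6003, 5952]⟩, ⟨2981, [2, 4, 6], []⟩],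
  .tm 1 [8, 7, 10, 8, 6, 10, 4, 8, 7, 10, 8, 4] [] [⟨3241, [], []⟩]]

theorem fc3158 : checkL (nat_lit 12) (nat_lit 4095) tH tK tK' BB FF TM XW d3158 (nat_lit 3158) = true := by decide +kernel

def d3243 : List Der := [.tm 44 [8, 12, 10, 8, 7, 10, 8, 10, 4, 8, 4, 7] [] [⟨564, [8, 12, 8, 4, 8, 10, 8, 6, 10, 4, 8, 0, 6, 10], [267, 269, 267]⟩, ⟨2977, [10, 4, 8], [6003, 6032, 6002, 5952]⟩, ⟨2981, [8, 12, 8, 7, 10, 4, 8, 2, 4, 7], []⟩],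
  .tm 1 [6, 10, 8, 4, 8, 7, 10, 2, 8, 15, 4, 6] [] [⟨3243, [], []⟩],
  .tm 37 [8, 12, 8, 7, 10, 8, 7, 10, 8, 4, 8, 15, 4, 6] [] [⟨3009, [10, 8, 7, 10, 8, 10, 4, 8, 2, 6, 10, 4, 6], [6002]⟩, ⟨2978, [8, 12, 8, 10, 4], []⟩, ⟨3222, [8, 4, 8, 6, 10, 8, 7, 10, 8, 6, 10, 7], []⟩],
  .tm 1 [12, 6, 10, 8, 4, 8, 6, 10, 8, 2, 15, 4, 6] [] [⟨3245, [], []⟩],
  .tm 13 [8, 12, 8, 4, 8, 10, 8, 6, 10, 8, 10] [] [⟨3235, [12, 4, 8, 6, 10, 8, 7, 10, 4, 8, 2, 15, 7], [6003, 5952, 6003]⟩, ⟨2978, [8, 12, 8, 10, 4, 8, 10, 2], []⟩, ⟨3150, [8, 12, 8, 7, 10, 4, 8, 6, 10, 7], []⟩],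
  .tm 1 [12, 10, 4, 8, 7, 10, 8, 4, 8, 6, 10, 4, 6] [] [⟨3247, [], []⟩],
  .tm 23 [12, 8, 4, 8, 10, 8, 15] [] [⟨3011, [4, 8, 10, 4, 8, 6, 10, 8, 0, 10, 7], [6003]⟩, ⟨2978, [4, 8, 12, 8, 4, 8, 10], [266, 268, 266]⟩, ⟨3204, [10, 8, 7, 10, 8, 6, 10, 8, 2, 15, 4, 6], []⟩],
  .tm 1 [8, 4, 8, 10, 2, 8, 15, 4, 6] [] [⟨3249, [], []⟩],
  .tm 23 [7, 10, 8, 6, 10, 4, 2, 8, 4, 7] [] [⟨3207, [10, 2, 8, 10], [5950, 6032]⟩, ⟨2978, [4, 8, 10, 8, 7, 10, 4, 0], [268, 266]⟩, ⟨3021, [8, 12, 10, 8, 6, 10, 8, 10, 4, 8, 2], []⟩],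
  .tm 1 [12, 8, 10, 8, 6, 10, 8, 7, 10, 4, 2, 8, 6, 10, 6] [] [⟨3251, [], []⟩],
  .tm 16 [12, 4, 8, 6, 10, 8, 7, 10, 4, 8, 7] [] [⟨3193, [8, 12, 8, 4, 8, 7, 10, 8, 4, 8, 10, 4, 6], [5953, 6003]⟩, ⟨2978, [12, 8, 10, 8, 12, 10, 4, 8, 4], [266, 268]⟩, ⟨3083, [12, 10, 8, 7, 10, 8, 10, 4, 8, 6, 10, 4], []⟩],
  .tm 1 [8, 6, 10, 8, 10, 4, 8, 15, 4, 7] [] [⟨3253, [], []⟩],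
  .tm 26 [10, 8, 4, 8, 6, 10, 8, 2, 15, 7] [] [⟨3141, [8, 12, 6, 10, 8, 0, 15, 4], [6033, 5952]⟩, ⟨2978, [8, 6, 10, 4, 8, 7, 10, 4], [268]⟩, ⟨3251, [8, 12, 8, 7, 10, 8, 4, 8, 2, 15, 7], []⟩],
  .tm 1 [12, 6, 10, 8, 4, 2, 8, 15] [] [⟨3255, [], []⟩],
  .tm 17 [12, 10, 8, 6, 10, 8, 10, 4, 8, 15, 4] [] [⟨2985, [4, 8, 10, 8, 7, 10, 4, 8, 2, 15, 4, 6], [269]⟩, ⟨2979, [12, 6, 10, 2], [6032, 6032]⟩, ⟨3250, [8, 10, 4, 8, 6, 10, 8, 0, 15, 7], []⟩],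
  .tm 1 [8, 12, 6, 10, 8, 7, 10, 8, 4, 8, 15, 4, 6] [] [⟨3257, [], []⟩],
  .tm 17 [7, 10, 8, 4, 8, 7, 10, 8, 15, 4, 6] [] [⟨2980, [8, 7, 10, 8, 4, 8, 7, 10, 8, 2, 15, 7], [269]⟩, ⟨2979, [12, 8, 6, 10, 2], [6032, 6032]⟩, ⟨3250, [10, 4, 8, 6, 10, 8, 15, 7], []⟩],
  .tm 1 [10, 8, 10, 4, 8, 6, 10, 8, 6] [] [⟨3259, [], []⟩],
  .tm 32 [12, 6, 10, 4, 8, 10, 4] [] [⟨2981, [12, 8, 7, 10, 4, 8, 6, 10, 6], [6003, 5953, 6003, 5952]⟩, ⟨2989, [10, 8, 6, 10, 8, 12], [268]⟩, ⟨3247, [12, 10, 8, 10, 8, 4, 8, 2, 4, 6], []⟩],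
  .dfn,
  .tm 1 [] [] [⟨3262, [], []⟩],
  .tm 0 [] [] [⟨3262, [], [51, 72, 51, 54, 73, 60]⟩, ⟨3262, [13], []⟩],
  .tm 2 [] [] [⟨3262, [], []⟩, ⟨2973, [], []⟩],
  .tm 1 [] [] [⟨3265, [], []⟩],
  .tm 2 [7] [] [⟨3262, [6], [52]⟩, ⟨3262, [], []⟩],
  .tm 1 [7] [] [⟨3267, [], []⟩],
  .tm 2 [] [] [⟨3262, [7], [73, 73, 73, 50, 58]⟩, ⟨148, [8, 7], []⟩],
  .tm 1 [12, 8, 4, 8, 10, 8, 0, 10, 7] [] [⟨3269, [], []⟩],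
  .tm 4 [] [] [⟨3262, [7], [72, 52, 73, 50, 58]⟩, ⟨148, [8, 6], []⟩],
  .tm 1 [12, 8, 6, 10, 8, 7, 10, 4, 2, 8, 10, 4] [] [⟨3271, [], []⟩],
  .tm 4 [7] [] [⟨3262, [6], [73, 53, 72, 50, 58]⟩, ⟨148, [8, 7], []⟩],
  .tm 1 [12, 8, 4, 8, 6, 10, 8, 2] [] [⟨3273, [], []⟩],
  .tm 3 [12, 10, 7] [] [⟨3262, [12, 10, 4], [72, 72, 52, 50, 58]⟩, ⟨148, [8, 12, 4], []⟩],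
  .tm 1 [12, 4, 8, 10, 4, 8, 7, 10, 2, 8, 15, 4] [] [⟨3275, [], []⟩],
  .tm 3 [2, 15, 4, 6] [] [⟨3262, [8, 12, 4], [60, 58, 53, 60, 56]⟩, ⟨3262, [8, 12, 8, 6, 10, 4, 2, 8], []⟩],
  .tm 1 [8, 10, 8, 6, 10, 2, 8, 6, 10] [] [⟨3277, [], []⟩],
  .tm 3 [6] [] [⟨3262, [6, 10, 6], [52, 50, 73, 54, 58]⟩, ⟨148, [8, 10, 7], []⟩],
  .tm 1 [4, 8, 7, 10, 4, 8, 15, 4, 6] [] [⟨3279, [], []⟩],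
  .tm 3 [6] [] [⟨3262, [7, 10, 6], [50, 73, 56, 54, 52]⟩, ⟨3262, [10, 4], []⟩],
  .tm 1 [8, 10, 8, 7, 10, 8, 6, 10, 4, 8, 10] [] [⟨3281, [], []⟩],
  .tm 3 [10, 4, 8, 10, 4, 6] [] [⟨3262, [8, 12, 6], [60, 56, 53, 58, 52, 50]⟩, ⟨3262, [8, 12, 10, 4, 2, 8, 6], []⟩],
  .tm 3 [6] [] [⟨3262, [7, 10, 7], [54, 72, 56, 53, 50]⟩, ⟨148, [8, 6, 10], []⟩],
  .tm 1 [4, 8, 6, 10, 8, 7, 10, 4, 2, 8, 4, 6] [] [⟨3284, [], []⟩],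
  .tm 3 [] [] [⟨3262, [12, 10, 7], [73, 53, 50, 58]⟩, ⟨148, [8, 12, 4, 6], []⟩],
  .tm 1 [4, 8, 7, 10, 4, 8, 6, 10, 8, 2, 10, 4] [] [⟨3286, [], []⟩],
  .tm 3 [7] [] [⟨3262, [12, 6, 10], [58, 60, 73, 52]⟩, ⟨148, [8, 12, 10, 4, 6], []⟩],
  .tm 1 [7, 10, 2, 8, 15, 4, 7] [] [⟨3288, [], []⟩],
  .tm 3 [4, 6] [] [⟨3262, [12, 7, 10], [60, 54, 52, 72, 52]⟩, ⟨148, [8, 12, 6, 10, 4, 6], []⟩],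
  .tm 1 [4, 8, 10, 8, 6, 10, 4, 2, 8] [] [⟨3290, [], []⟩],
  .tm 3 [7, 10, 4, 8, 4, 7] [] [⟨3262, [8, 12, 10], [58, 72, 52, 50, 73, 56]⟩, ⟨148, [12, 8, 4, 2, 8, 7], []⟩],
  .tm 1 [8, 4, 8, 10, 8, 7, 10, 4, 8, 0, 10, 7] [] [⟨3292, [], []⟩],
  .tm 3 [6, 10, 4] [] [⟨3262, [6, 10, 6, 4], [72, 53, 73, 54, 50]⟩, ⟨3262, [10], []⟩],
  .tm 1 [8, 10, 8, 6, 10, 8, 7, 10, 4, 8, 0, 6, 10, 4, 6] [] [⟨3294, [], []⟩],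
  .tm 3 [12, 10, 4, 7] [] [⟨3262, [12, 10, 6, 4], [53, 50, 58]⟩, ⟨148, [8, 12, 15, 4], []⟩],
  .tm 1 [12, 10, 4, 8, 6, 10, 8, 6, 10, 6] [] [⟨3296, [], []⟩],
  .tm 3 [8, 2, 10, 4, 6] [] [⟨3262, [8, 12, 6, 4], [73, 53, 72, 58]⟩, ⟨148, [12, 7, 10, 4, 2, 8], []⟩],
  .tm 1 [12, 4, 8, 10, 8, 4, 8, 6, 10, 8, 0] [] [⟨3298, [], []⟩],
  .tm 5 [] [] [⟨3262, [7, 10, 7, 4], [52, 50, 73, 56, 54]⟩, ⟨2973, [10, 6], [5952, 6003]⟩, ⟨3266, [12, 8, 10, 8, 6, 10, 8, 7, 10, 4, 8, 15, 7], []⟩],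
  .tm 3 [8, 2, 10, 4, 6] [] [⟨3262, [8, 12, 7, 4], [72, 52, 73, 60, 56, 54]⟩, ⟨148, [12, 6, 10, 4, 2, 8], []⟩],
  .tm 1 [10, 4, 8, 6, 10, 2, 8, 15, 6] [] [⟨3301, [], []⟩],
  .tm 3 [6] [] [⟨3262, [12, 6, 10, 4], [72]⟩, ⟨2973, [12, 15, 4, 6], []⟩],
  .tm 1 [12, 8, 10, 8, 6, 10, 8, 7, 10, 4, 8, 15] [] [⟨3303, [], []⟩],
  .tm 3 [4, 8, 6, 10, 4, 8, 10, 7] [] [⟨3262, [8, 12, 10, 4], [60, 73, 54, 53, 72, 56, 50]⟩, ⟨148, [12, 8, 6, 10, 2, 8], []⟩],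
  .tm 1 [12, 8, 10, 8, 10, 4, 8, 7, 10, 8, 6, 10, 6] [] [⟨3305, [], []⟩],
  .tm 3 [6, 10, 4, 8, 6, 10, 4] [] [⟨3262, [8, 12, 10, 6], [58, 53, 58, 60, 50]⟩, ⟨2973, [8, 12, 8, 10, 4, 2, 8, 7], []⟩],
  .tm 1 [8, 7, 10, 4, 8, 10, 7] [] [⟨3307, [], []⟩],
  .tm 3 [7, 10, 8, 15] [] [⟨3262, [8, 12, 10, 7], [73, 73, 50, 60, 73, 56, 50]⟩, ⟨148, [12, 8, 6, 10, 2, 8, 6], []⟩],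
  .tm 1 [8, 6, 10, 8, 6, 10, 8, 4, 8, 2, 6, 10, 4, 6] [] [⟨3309, [], []⟩],
  .tm 3 [7, 10, 4, 8, 4, 7] [] [⟨3262, [8, 12, 7, 10], [73, 54, 53, 58, 72, 60]⟩, ⟨148, [12, 4, 2, 8], []⟩],
  .tm 1 [12, 8, 6, 10, 4, 8, 0, 10, 7] [] [⟨3311, [], []⟩],
  .tm 3 [10, 4, 8, 6, 10, 8, 0, 6, 10, 4] [] [⟨3262, [8, 12, 10, 6, 4], [72, 52, 73, 58]⟩, ⟨47, [8, 12, 8, 10, 8, 6, 10, 4, 8, 2, 15, 7], []⟩],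
  .tm 1 [6, 10, 8, 4, 8, 7, 10, 8, 2, 10, 6] [] [⟨3313, [], []⟩],
  .tm 3 [10, 8, 6, 10, 8, 6, 10, 6] [] [⟨3262, [8, 12, 10, 7, 4], [58, 52, 60, 56, 50]⟩, ⟨2973, [8, 12, 7, 10, 2, 8, 7], []⟩],
  .tm 1 [8, 10, 8, 7, 10, 4, 8, 6, 10, 8] [] [⟨3315, [], []⟩],
  .tm 3 [4, 8, 10, 4, 8, 10, 7] [] [⟨3262, [8, 12, 6, 10, 4], [72, 54, 60, 52, 73, 56]⟩, ⟨148, [12, 8, 10, 2, 8], []⟩],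
  .tm 1 [6, 10, 8, 6, 10, 8, 4, 8, 2, 15, 4, 7] [] [⟨3317, [], []⟩],
  .tm 3 [7, 10, 4, 8, 10, 7] [] [⟨3262, [8, 12, 7, 10, 4], [54, 53]⟩, ⟨3262, [8, 12, 10, 2, 8], []⟩],
  .tm 1 [10, 8, 7, 10, 8, 4, 8, 10, 4] [] [⟨3319, [], []⟩],
  .tm 3 [7, 10, 8, 6, 10, 4] [] [⟨3262, [8, 12, 7, 10, 6], [73, 73, 73, 60, 56, 54]⟩, ⟨148, [12, 6, 10, 4, 2, 8, 7], []⟩],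
  .tm 1 [12, 4, 8, 7, 10, 8, 0, 10, 7] [] [⟨3321, [], []⟩],
  .tm 5 [] [] [⟨3262, [8, 12, 6, 10, 7], [60, 56, 53, 58, 50]⟩, ⟨2973, [8, 12, 10, 2, 8, 6], [6033, 5952, 5950]⟩, ⟨3304, [8, 12, 4, 8, 10, 8, 6, 10, 4, 8, 2, 10, 4], []⟩],
  .tm 3 [10, 8, 15, 4, 7] [] [⟨3262, [8, 12, 6, 10, 6, 4], [73, 50, 73, 73, 54]⟩, ⟨55, [8, 12, 8, 10, 8, 4, 8, 10, 8, 2, 4, 6], []⟩],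
  .tm 1 [10, 8, 7, 10, 8, 10, 4, 8, 6, 10, 4] [] [⟨3324, [], []⟩],
  .tm 3 [10, 8, 15, 4, 7] [] [⟨3262, [8, 12, 7, 10, 6, 4], [73, 56, 53, 72, 54]⟩, ⟨55, [8, 12, 8, 10, 8, 4, 8, 10, 8, 2, 4], []⟩],
  .tm 1 [4, 8, 4, 8, 10, 8, 6, 10, 8, 6, 10, 7] [] [⟨3326, [], []⟩],
  .tm 3 [10, 8, 6, 10, 6] [] [⟨3262, [8, 12, 7, 10, 7, 4], [73, 50, 73, 54, 73, 56, 50]⟩, ⟨148, [12, 8, 7, 10, 2, 8, 7], []⟩],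
  .tm 1 [0, 6, 10, 6] [] [⟨3328, [], []⟩],
  .tm 3 [] [] [⟨3262, [], [50, 73, 54, 58]⟩, ⟨148, [8, 10, 6], []⟩],
  .tm 1 [8, 7, 10, 8, 4, 8, 7, 10, 8, 4] [] [⟨3330, [], []⟩],
  .tm 3 [] [] [⟨3262, [4], [53, 72, 54, 56]⟩, ⟨148, [8, 12, 15, 6], []⟩],
  .tm 1 [7, 10, 8, 4, 8, 6, 10, 2, 8, 7] [] [⟨3332, [], []⟩],
  .tm 3 [7] [] [⟨3262, [6], [54, 73, 60, 73, 52, 50]⟩, ⟨3262, [6, 10, 6], []⟩],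
  .tm 3 [] [] [⟨3262, [7], [72, 54, 56]⟩, ⟨148, [8, 12, 15, 7], []⟩],
  .tm 1 [8, 6, 10, 8, 10, 4, 8, 6, 10, 6] [] [⟨3335, [], []⟩],
  .tm 3 [] [] [⟨3262, [10], [60, 56, 72, 52, 50]⟩, ⟨148, [8, 6, 10, 4], []⟩],
  .tm 1 [8, 10, 4, 8, 0, 4, 6] [] [⟨3337, [], []⟩],
  .tm 3 [] [] [⟨3262, [6, 4], [58, 72, 53, 60, 73, 56]⟩, ⟨148, [8, 12, 7], []⟩],
  .tm 1 [10, 8, 4, 8, 10, 8, 6, 10, 8, 6, 10, 7] [] [⟨3339, [], []⟩],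
  .tm 30 [10, 4, 8, 2, 15] [] [⟨3339, [10, 8, 6, 10, 8], [6529, 6601]⟩, ⟨3262, [4, 8, 4], [58, 53, 58, 60, 52, 50]⟩, ⟨3262, [8, 12, 10, 8, 6, 10, 8, 7, 10, 8, 6, 10, 4, 7], []⟩],
  .tm 1 [8, 7, 10, 4, 8, 2, 15, 6] [] [⟨3341, [], []⟩],
  .tm 30 [8, 12, 7, 10, 4, 8, 0, 6, 10, 4, 6] [] [⟨3290, [8, 0, 10], [6601]⟩, ⟨3262, [10, 8, 4], [58, 53, 58, 60, 52, 50]⟩, ⟨3262, [8, 12, 6, 10, 8, 7, 10, 4, 2, 8, 15, 6], []⟩],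
  .tm 1 [7, 10, 8, 2, 6, 10, 6] [] [⟨3343, [], []⟩],
  .tm 30 [12, 8, 10, 8, 6, 10, 4, 8, 7, 10, 8, 6, 10, 6] [] [⟨3290, [8, 7, 10, 4, 8, 2, 15, 4, 7], [6601]⟩, ⟨3262, [8, 10, 4], [60, 56, 53, 58, 50]⟩, ⟨3262, [8, 12, 7, 10, 8, 7], []⟩],
  .tm 1 [12, 8, 10, 8, 7, 10, 4, 8, 2, 6, 10, 6] [] [⟨3345, [], []⟩],
  .tm 30 [8, 7, 10, 8, 6, 10, 8, 4, 8, 0, 6, 10, 4, 6] [] [⟨3337, [7, 10, 8, 4, 8, 6, 10, 8, 2, 15, 4], [6600]⟩, ⟨3262, [12, 6, 10], [52, 50, 73, 56, 54]⟩, ⟨3262, [2, 0, 15, 7], []⟩],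
  .tm 1 [8, 4, 8, 10, 8, 6, 10, 8, 0, 6, 10, 4, 7] [] [⟨3347, [], []⟩],
  .tm 30 [8, 4, 8, 4] [] [⟨3271, [12, 8, 6, 10, 4, 2, 8, 6, 10, 4, 6], [6601]⟩, ⟨3262, [7, 10, 8, 4], [58, 53, 58, 60, 52, 50]⟩, ⟨3262, [8, 12, 10, 8, 7, 10, 4, 2, 8, 15, 6], []⟩],
  .tm 1 [8, 12, 8, 4, 8, 2, 4, 6] [] [⟨3349, [], []⟩],
  .tm 30 [12, 10, 8, 7, 10, 4, 2, 8, 6, 10] [] [⟨3271, [12, 10, 8, 7, 10, 4, 8, 0, 10, 4, 6], [6601]⟩, ⟨3262, [4, 8, 7, 10], [58, 52, 60, 56, 50]⟩, ⟨3262, [8, 12, 8, 10, 8, 10, 4, 8, 7, 10, 8, 15], []⟩],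
  .tm 1 [12, 4, 8, 6, 10, 8, 7, 10, 8, 2, 10, 7] [] [⟨3351, [], []⟩],
  .tm 30 [10, 4, 8, 6, 10, 8, 4, 8, 4, 7] [] [⟨3337, [4, 8, 0, 10, 4, 6], [6529, 6601]⟩, ⟨3262, [10, 8, 7, 10], [58, 52, 60, 56, 50]⟩, ⟨3262, [8, 12, 8, 10, 8, 6, 10, 8, 7, 10, 4, 8, 15, 7], []⟩],
  .tm 1 [8, 10, 8, 4, 8, 6, 10, 8, 0, 10, 7] [] [⟨3353, [], []⟩],
  .tm 30 [8, 12, 7, 10, 8, 10, 8, 4, 8, 7, 10, 8, 2, 4, 7] [] [⟨3339, [8, 10, 8, 2, 6, 10, 6], [6529, 6601]⟩, ⟨3262, [7, 10, 8, 10], [58, 52, 60, 56, 50]⟩, ⟨3262, [8, 12, 8, 6, 10, 8, 4, 8, 10, 8, 15, 6], []⟩],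
  .tm 1 [8, 12, 4, 8, 10, 8, 7, 10, 4, 8, 6, 10, 6] [] [⟨3355, [], []⟩],
  .tm 30 [8, 12, 10, 8, 4, 8, 10, 8, 2, 15] [] [⟨3337, [4, 8, 10, 4, 8, 6, 10, 2, 8, 10, 6], [6529, 6601]⟩, ⟨3262, [6, 10, 4, 8, 4], [58, 53, 58, 60, 52, 50]⟩, ⟨3262, [8, 12, 7, 10, 8, 4, 8, 6, 10, 8, 0, 6, 10], []⟩]]

theorem fc3243 : checkL (nat_lit 12) (nat_lit 4095) tH tK tK' BB FF TM XW d3243 (nat_lit 3243) = true := by decide +kernel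

def d3358 : List Der := [.tm 1 [12, 8, 10, 8, 7, 10, 4, 8, 0] [] [⟨3357, [], []⟩],
  .tm 30 [4, 8, 7, 10, 4, 8, 15, 7] [] [⟨3339, [4, 8, 10, 4, 8, 6, 10, 2, 8], [6529, 6601]⟩, ⟨3262, [10, 4, 8, 10, 4], [60, 56, 53, 58, 50]⟩, ⟨3262, [8, 12, 8, 6, 10, 8, 7, 10, 4, 8, 6, 10, 8, 10, 4], []⟩],
  .tm 1 [7, 10, 8, 10, 8, 4, 8, 7, 10, 8, 6] [] [⟨3359, [], []⟩],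
  .tm 30 [12, 4, 8, 0, 4] [] [⟨3271, [12, 8, 4, 8, 10, 8, 6, 10, 8, 0, 10, 4, 7], [6601]⟩, ⟨3262, [7, 10, 8, 4, 8], [72, 53]⟩, ⟨3262, [12, 8, 10, 8, 7, 10, 8, 6, 10, 8, 10, 7], []⟩],
  .tm 1 [8, 12, 8, 4, 8, 0, 4, 7] [] [⟨3361, [], []⟩],
  .tm 30 [12, 4, 8, 7, 10, 8, 6, 10, 4, 8, 0, 6, 10, 4, 7] [] [⟨3339, [8, 7, 10, 2, 8, 6], [6529, 6601]⟩, ⟨3262, [6, 10, 8, 10, 8], [52, 73]⟩, ⟨3262, [12, 8, 6, 10, 8, 4, 8, 10, 8, 2, 6, 10, 4, 7], []⟩],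
  .tm 1 [12, 8, 4, 8, 10, 8, 6, 10, 8, 0, 15, 6] [] [⟨3363, [], []⟩],
  .tm 30 [8, 12, 4, 8, 6, 10, 8, 4, 8, 2] [] [⟨3339, [6, 10, 8, 7, 10, 8, 2, 7], [6529, 6601]⟩, ⟨3262, [7, 10, 8, 10, 8], [72, 53]⟩, ⟨3262, [12, 8, 7, 10, 8, 4, 8, 10, 8, 2, 15, 4, 6], []⟩],
  .tm 1 [8, 12, 4, 8, 6, 10, 8, 7, 10, 4, 8, 4, 7] [] [⟨3365, [], []⟩],
  .tm 30 [10, 8, 10, 4, 8, 6, 10, 8, 7, 10, 8, 6, 10, 4] [] [⟨3337, [6, 10, 8, 4, 8, 7, 10, 8, 2, 6, 10, 4], [6529, 6601]⟩, ⟨3262, [8, 10, 8, 7, 10], [72, 53]⟩, ⟨3262, [12, 8, 10, 8, 6, 10, 4, 8, 0, 15, 4, 7], []⟩],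
  .tm 1 [10, 4, 8, 7, 10, 8, 0, 6, 10, 4] [] [⟨3367, [], []⟩],
  .tm 30 [12, 10, 8, 6, 10, 8, 7, 10, 4, 8, 2, 15, 4] [] [⟨3271, [12, 8, 4, 8, 6, 10, 8, 6, 10, 4], [6601]⟩, ⟨3262, [6, 10, 8, 7, 10, 4], [60, 56, 53, 58, 50]⟩, ⟨3262, [8, 12, 8, 6, 10, 8, 4, 2, 8, 15, 4, 6], []⟩],
  .tm 1 [8, 12, 8, 10, 4, 8, 6, 10, 8, 7, 10, 8, 2, 15, 7] [] [⟨3369, [], []⟩],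
  .tm 30 [8, 12, 4, 8, 10, 4, 8, 6, 10, 8, 15] [] [⟨3290, [8, 10, 8, 6, 10, 8, 2, 10], [6601]⟩, ⟨3262, [6, 10, 4, 8, 6, 10], [58, 52, 60, 56, 50]⟩, ⟨3262, [8, 12, 8, 6, 10, 8, 7, 10, 8, 4, 8, 6, 10], []⟩],
  .tm 1 [4, 8, 10, 2, 8, 6, 10, 6] [] [⟨3371, [], []⟩],
  .tm 30 [12, 4, 8, 10, 8, 6, 10, 8, 15] [] [⟨3271, [12, 7, 10, 8, 10, 8, 4, 8, 2, 6, 10, 4, 6], [6601]⟩, ⟨3262, [8, 10, 4, 8, 6, 10], [52, 73]⟩, ⟨3262, [12, 8, 6, 10, 8, 7, 10, 4, 8, 4, 6], []⟩],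
  .tm 1 [12, 4, 8, 7, 10, 4, 8, 6, 10, 4, 7] [] [⟨3373, [], []⟩],
  .tm 30 [8, 12, 6, 10, 8, 4, 8, 7, 10, 8, 0] [] [⟨3337, [8, 6, 10, 8, 4, 8, 6, 10, 8, 2, 4, 6], [6529, 6601]⟩, ⟨3262, [7, 10, 4, 8, 6, 10, 4], [60, 56, 53, 58, 50]⟩, ⟨3262, [8, 12, 8, 4, 8, 10, 4, 8, 7, 10, 8, 6, 10, 6], []⟩],
  .tm 1 [12, 8, 10, 8, 7, 10, 4, 8, 2, 15, 6] [] [⟨3375, [], []⟩],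
  .tm 30 [8, 4, 8, 6, 10, 8, 2, 4, 7] [] [⟨3290, [8, 4, 8, 10, 8, 6, 10, 8, 10, 4], [6601]⟩, ⟨3262, [6, 10, 8, 6, 10, 4, 8], [52, 73]⟩, ⟨3262, [12, 8, 7, 10, 8, 6, 10, 4, 8, 7, 10, 8, 15, 4, 6], []⟩],
  .tm 1 [8, 7, 10, 8, 6, 10, 4, 2, 8, 4] [] [⟨3377, [], []⟩],
  .tm 30 [12, 7, 10, 8, 6, 10, 4, 2, 8, 6, 10, 4, 6] [] [⟨3290, [8, 10, 4, 8, 7, 10, 8, 6, 10, 8, 6, 10, 4, 6], [6601]⟩, ⟨3262, [7, 10, 8, 7, 10, 4, 8], [72, 53]⟩, ⟨3262, [12, 8, 10, 4, 8, 6, 10, 8, 7, 10, 4, 8, 6], []⟩],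
  .tm 1 [12, 10, 8, 4, 8, 10, 8, 7, 10, 8, 4] [] [⟨3379, [], []⟩],
  .tm 6 [8, 12, 8, 10, 8, 4, 8, 10, 8, 2, 10, 6] [] [⟨3290, [8, 12, 8, 7, 10, 8, 0, 6, 10], [6529, 6600]⟩, ⟨3262, [12, 8, 4, 8, 10], [73, 73, 54]⟩, ⟨3262, [8, 12, 8, 10, 4, 8, 7, 10, 8, 10, 4], []⟩],
  .tm 1 [8, 12, 4, 8, 6, 10, 8, 7, 10, 8, 2, 10, 6] [] [⟨3381, [], []⟩],
  .tm 6 [8, 12, 4, 8, 6, 10, 8, 7, 10, 4, 8, 0, 6, 10, 4, 7] [] [⟨3339, [8, 12, 8, 10, 8, 6, 10, 8, 7, 10, 8, 2, 10], [6600]⟩, ⟨3262, [12, 6, 10, 8, 10], [52, 73, 60, 56, 54, 53]⟩, ⟨3262, [8, 10, 4, 8, 6, 10, 8, 7, 10, 4, 8, 15, 4], []⟩],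
  .tm 1 [8, 12, 4, 8, 6, 10, 4, 8, 10, 4, 6] [] [⟨3383, [], []⟩],
  .tm 6 [8, 6, 10, 8, 4] [] [⟨3290, [12, 8, 7, 10, 8, 2, 6, 10], [6529, 6600]⟩, ⟨3262, [12, 8, 10, 8, 4, 2], [52, 72, 56, 53, 50]⟩, ⟨3262, [10, 4, 8, 6, 10, 8, 4, 8, 6, 10], []⟩],
  .tm 1 [2, 10, 7] [] [⟨3385, [], []⟩],
  .tm 6 [8, 12, 8, 10, 8, 4, 8, 7, 10, 2, 8, 4, 7] [] [⟨3290, [12, 10, 8, 10, 8, 4, 8, 7, 10, 8, 4, 6], [6529, 6600]⟩, ⟨3262, [12, 8, 4, 8, 10, 2], [72, 56, 72, 58, 52, 50]⟩, ⟨3262, [8, 4, 8, 10, 8, 6, 10, 8, 6, 10, 6], []⟩],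
  .tm 1 [8, 12, 10, 8, 7, 10, 8, 2, 15, 4] [] [⟨3387, [], []⟩],
  .tm 6 [12, 4, 8, 6, 10, 4, 8, 7, 10, 8, 2, 15, 4] [] [⟨3339, [8, 12, 10, 8, 7, 10, 4, 8, 0, 15], [6529, 6601]⟩, ⟨3262, [10, 8, 10, 4, 8, 4], [72, 60, 54, 53, 73, 56]⟩, ⟨3262, [8, 12, 4, 8, 10, 8, 7, 10, 8, 2, 6, 10, 6], []⟩],
  .tm 1 [12, 10, 8, 4, 8, 10, 8, 6, 10, 8, 7] [] [⟨3389, [], []⟩],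
  .tm 6 [8, 12, 8, 7, 10, 8, 4, 8, 7, 10, 8, 6, 10] [] [⟨3339, [12, 8, 10, 8, 7, 10, 8, 4, 8, 2, 7], [6600]⟩, ⟨3262, [12, 10, 4, 8, 10, 4], [50, 73, 73, 58, 52, 50]⟩, ⟨3262, [8, 4, 8, 7, 10, 8, 4, 8, 10, 4, 7], []⟩],
  .tm 1 [8, 10, 8, 6, 10, 4, 2, 8, 6, 10, 4, 6] [] [⟨3391, [], []⟩],
  .tm 6 [12, 4, 8, 10, 8, 4, 8, 6, 10, 8] [] [⟨3290, [12, 4, 8, 4, 8, 10, 8, 6, 10, 8, 2, 4, 7], [6529, 6600]⟩, ⟨3262, [8, 4, 8, 12, 10, 4], [53, 58, 56, 54, 72, 50]⟩, ⟨3262, [8, 12, 4, 8, 7, 10, 8, 4, 8, 4, 6], []⟩],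
  .tm 1 [12, 8, 10, 4, 8, 2, 10, 4] [] [⟨3393, [], []⟩],
  .tm 6 [8, 12, 8, 6, 10, 8, 7, 10, 8, 4, 8, 0, 10, 7] [] [⟨3339, [8, 12, 10, 8, 4, 8, 2, 6, 10], [6600]⟩, ⟨3262, [4, 8, 10, 8, 12, 4], [73, 54, 58, 52, 72, 56, 50]⟩, ⟨3262, [8, 12, 8, 4, 8, 6, 10, 2, 8, 6], []⟩],
  .tm 1 [12, 4, 8, 10, 4, 8, 7, 10, 8, 15, 4] [] [⟨3395, [], []⟩],
  .tm 6 [12, 6, 10, 8, 10, 4, 8, 6, 10] [] [⟨3339, [12, 6, 10, 8, 10, 4, 8, 2, 15, 6], [6529, 6601]⟩, ⟨3262, [2], [50, 56]⟩, ⟨3262, [12, 2, 0], []⟩],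
  .tm 1 [12, 7, 10, 8, 6, 10, 8, 2, 7] [] [⟨3397, [], []⟩],
  .tm 6 [7, 10, 4, 2, 8, 15, 7] [] [⟨3290, [8, 12, 10, 8, 4, 2, 8], [6601]⟩, ⟨3262, [10, 4, 2], [56, 52, 60, 54, 53]⟩, ⟨3262, [12, 2, 0, 10, 4], []⟩],
  .tm 1 [8, 4, 8, 6, 10, 8, 2, 15] [] [⟨3399, [], []⟩],
  .tm 6 [8, 12, 8, 10, 4, 8, 7, 10, 8, 0, 15, 6] [] [⟨3339, [8, 12, 8, 10, 8, 10, 4, 8, 6, 10, 8, 10, 4], [6529, 6601]⟩, ⟨3262, [10, 8, 10], [73, 73, 73, 56, 54]⟩, ⟨3262, [12, 8, 10, 4, 8, 7, 10, 8, 6, 10, 4, 8, 2, 6, 10, 7], []⟩],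
  .tm 1 [12, 10, 4, 8, 7, 10, 8, 6, 10, 8, 15] [] [⟨3401, [], []⟩],
  .tm 6 [8, 12, 8, 10, 8, 4, 8, 7, 10, 2, 8, 6, 10, 6] [] [⟨3339, [12, 0, 15, 7], [6529, 6601]⟩, ⟨3262, [10, 8, 10, 2], [72, 72, 72, 50, 48]⟩, ⟨3262, [8, 12, 10, 8], []⟩],
  .tm 1 [10, 8, 6, 10, 4, 2, 8, 10] [] [⟨3403, [], []⟩],
  .tm 19 [12, 8, 7, 10, 8, 7, 10, 4, 8, 2, 6, 10, 7] [] [⟨3404, [8, 7, 10, 8, 6, 10, 8, 15, 7], [6529, 6647]⟩, ⟨3262, [8, 6, 10, 4, 8, 4], [52, 50, 73, 56, 54]⟩, ⟨3262, [8, 12, 8, 6, 10, 8, 6, 10, 4, 7], []⟩],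
  .tm 1 [12, 8, 10, 8, 4, 8, 7, 10, 8, 0, 15, 4, 7] [] [⟨3405, [], []⟩],
  .tm 15 [8, 12, 8, 10, 8, 6, 10, 4, 8, 7, 10, 8, 15, 4, 7] [] [⟨3339, [6, 10, 2, 8, 15, 7], [6529, 6601]⟩, ⟨3262, [7, 10, 8, 10, 8, 2], [50, 73, 56, 53]⟩, ⟨3262, [8, 12, 10, 8, 10, 4, 8, 2, 10, 4, 6], []⟩],
  .tm 1 [8, 12, 6, 10, 8, 4, 8, 6, 10, 8, 2, 15] [] [⟨3407, [], []⟩],
  .tm 15 [7, 10, 8, 4, 8, 7, 10, 8, 15, 4, 7] [] [⟨3339, [10, 8, 7, 10, 8, 4, 8, 6, 10, 4, 6], [6600]⟩, ⟨3262, [8, 10, 8, 12, 8, 2], [58, 52, 72, 56, 54, 52]⟩, ⟨3262, [8, 10, 8, 6, 10, 8, 0, 10, 4, 7], []⟩],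
  .tm 1 [12, 4, 8, 6, 10, 4, 8, 2, 10, 6] [] [⟨3409, [], []⟩],
  .tm 15 [8, 12, 4, 8, 10, 8, 4, 8, 10] [] [⟨3406, [8, 10, 4, 8, 6, 10, 2, 8, 6, 10, 4, 6], []⟩, ⟨3262, [8, 12, 4, 8, 10, 2], [72, 72, 60]⟩, ⟨3262, [12, 8, 10, 4, 8, 7, 10, 8, 4, 8, 2, 10, 4, 7], []⟩],
  .tm 1 [12, 4, 8, 10, 8, 4, 8, 2, 15] [] [⟨3411, [], []⟩],
  .tm 15 [12, 8, 10, 8, 6, 10, 4, 2, 8, 10] [] [⟨3290, [7, 10, 4, 2, 8, 15, 4, 7], [6529, 6600]⟩, ⟨3262, [8, 4, 8, 12, 10, 4], [58, 72, 52, 50, 73, 56, 50]⟩, ⟨3262, [8, 12, 8, 10, 8, 6, 10, 8, 7, 10, 4, 8, 0, 7], []⟩],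
  .tm 1 [12, 8, 10, 8, 6, 10, 8, 7, 10, 4, 8, 2, 10] [] [⟨3413, [], []⟩],
  .tm 15 [8, 10, 8, 4, 8, 2, 10, 6] [] [⟨3406, [8, 4, 8, 0, 4], []⟩, ⟨3262, [4, 8, 12, 10, 4, 8], [54, 52, 72]⟩, ⟨3262, [12, 4, 8, 4, 8, 10, 8, 7, 10, 8, 2, 15, 4], []⟩],
  .tm 1 [8, 10, 8, 6, 10, 8, 7, 10, 8, 6, 10, 4, 7] [] [⟨3415, [], []⟩],
  .tm 15 [8, 6, 10, 8, 4, 8, 6, 10, 8] [] [⟨3339, [10, 8, 4, 8, 10, 8, 6, 10, 8, 0, 15, 4, 6], [6529, 6601]⟩, ⟨3262, [], [58, 56, 54, 50]⟩, ⟨3262, [2, 0, 4], []⟩],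
  .tm 1 [8, 10, 8, 4, 8, 7, 10, 8, 0] [] [⟨3417, [], []⟩],
  .tm 15 [7, 10, 8, 7, 10, 4, 8, 10, 4] [] [⟨3290, [6, 10, 8, 7, 10, 8, 6, 10, 4, 8, 2, 4, 7], [6601]⟩, ⟨3262, [10, 4], [50, 54]⟩, ⟨3262, [12, 2, 0, 10], []⟩],
  .tm 1 [8, 12, 7, 10, 8, 10, 8, 4, 8, 2, 15, 4] [] [⟨3419, [], []⟩],
  .tm 15 [7, 10, 4, 8, 6, 10, 8, 2, 15, 7] [] [⟨3290, [8, 7, 10, 4, 8, 2, 15, 4, 7], [6601]⟩, ⟨3262, [8, 10, 4], [73, 73, 73, 54, 56, 50]⟩, ⟨3262, [8, 12, 8, 10, 4, 8, 7, 10, 8, 6, 10, 4, 8, 6, 10, 7], []⟩],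
  .tm 1 [8, 10, 8, 7, 10, 4, 8, 10, 7] [] [⟨3421, [], []⟩],
  .tm 15 [8, 12, 4, 8, 6, 10, 8, 2, 6, 10, 4, 7] [] [⟨3290, [8, 10, 8, 6, 10, 4, 8, 2, 10, 4, 7], [6601]⟩, ⟨3262, [8, 10, 4, 2], [72, 72, 72, 54, 56]⟩, ⟨3262, [12, 8, 7, 10, 8, 6, 10, 4, 8, 7, 10, 8, 6, 10, 4], []⟩],
  .tm 1 [12, 10, 8, 4, 8, 6, 10, 8, 6, 10, 6] [] [⟨3423, [], []⟩],
  .tm 15 [7, 10, 2, 8, 10, 4, 7] [] [⟨3406, [10, 8, 7, 10, 4, 8, 15, 4, 7], []⟩, ⟨3262, [8, 12, 10, 4], [72, 72, 72, 56]⟩, ⟨3262, [12, 4, 8, 7, 10, 8, 6, 10, 4, 2, 8, 15, 6], []⟩],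
  .tm 1 [4, 8] [] [⟨3425, [], []⟩],
  .tm 15 [12, 10, 8, 6, 10, 8, 7, 10, 4, 2, 8, 10, 4, 6] [] [⟨3339, [8, 10, 8, 7, 10, 8, 6, 10, 8, 2, 6], [6529, 6601]⟩, ⟨3262, [10, 8, 10, 8], [53, 50, 73, 50, 56]⟩, ⟨3262, [12, 4, 8, 6, 10, 8, 4, 8, 6, 10], []⟩],
  .tm 1 [8, 12, 8, 10, 4, 2, 8, 15, 4] [] [⟨3427, [], []⟩],
  .tm 15 [8, 12, 6, 10, 8, 10, 4, 8, 2, 10, 4] [] [⟨3339, [8, 10, 8, 2, 6, 10, 6], [6529, 6601]⟩, ⟨3262, [7, 10, 8, 10], [58, 60, 73, 52]⟩, ⟨3262, [8, 12, 8, 10, 8, 7, 10, 8, 4, 8, 6, 10, 7], []⟩],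
  .tm 1 [12, 8, 6, 10, 8, 4, 8, 7, 10, 8, 0, 10, 4, 6] [] [⟨3429, [], []⟩],
  .tm 15 [8, 6, 10, 8, 2, 10] [] [⟨3406, [8, 10, 8, 7, 10, 4, 8, 15, 4, 7], []⟩, ⟨3262, [8, 12, 10, 4, 2], [73, 73, 73, 56, 48]⟩, ⟨3262, [10, 8, 2, 10], []⟩],
  .tm 1 [10, 8, 6, 10, 8, 4, 8, 2, 6, 10, 4, 6] [] [⟨3431, [], []⟩],
  .tm 15 [8, 4, 8, 10, 4, 8, 7, 10, 8, 2, 4, 7] [] [⟨3290, [6, 10, 8, 7, 10, 8, 4, 2, 8, 6, 10, 4, 7], [6601]⟩, ⟨3262, [8, 10, 4, 8, 2], [73, 53, 58, 72, 58, 54]⟩, ⟨3262, [8, 12, 4, 8, 10, 4, 8, 6, 10, 8, 2, 4], []⟩],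
  .tm 1 [8, 4, 8, 10, 4, 8, 7, 10, 8, 2, 10, 4] [] [⟨3433, [], []⟩],
  .tm 21 [8, 10, 8, 7, 10, 8, 6, 10, 4, 8, 0, 6, 10, 6] [] [⟨3422, [8, 12, 7, 10, 8], [6601, 6601]⟩, ⟨3262, [12, 6, 10, 4, 8, 10, 4], [58, 72, 53, 60, 54, 73, 50]⟩, ⟨3262, [8, 12, 8, 7, 10, 8, 4, 8, 7, 10, 8, 10, 4, 6], []⟩],
  .tm 1 [8, 10, 4, 8, 6, 10, 2, 8, 6, 10, 4, 6] [] [⟨3435, [], []⟩],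
  .tm 21 [8, 4, 8, 10, 8, 7, 10, 2, 8, 10, 4, 7] [] [⟨3404, [8, 6, 10, 8, 7, 10, 8, 6, 10, 4, 8, 4], [6529, 6647]⟩, ⟨3262, [8, 6, 10], [54, 60, 52, 73, 54, 53]⟩, ⟨3262, [8, 12, 10, 8, 4, 8, 10, 8, 6, 10, 8, 15, 7], []⟩],
  .tm 1 [4, 8, 6, 10, 4, 8, 2, 6, 10, 7] [] [⟨3437, [], []⟩],
  .tm 31 [12, 7, 10, 2, 8, 4, 6] [] [⟨3426, [8, 12, 8, 7, 10, 8, 6, 10, 4, 7], [6529, 6647]⟩, ⟨3262, [4, 8, 7, 10, 4], [73, 53, 58, 60, 53, 50]⟩, ⟨3262, [8, 10, 8, 4, 8, 10, 8, 2, 6, 10, 4, 6], []⟩],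
  .tm 1 [12, 8, 10, 8, 10, 4, 8, 7, 10, 8, 2, 10, 7] [] [⟨3439, [], []⟩],
  .tm 22 [10, 4, 8, 6, 10, 8, 2, 6, 10, 4, 7] [] [⟨3412, [10, 8, 4, 8, 6, 10, 8, 7, 10, 8, 6, 10, 4, 7], [6529]⟩, ⟨3262, [8, 4, 8, 10, 2], [50, 60, 73, 52, 72, 50]⟩, ⟨3262, [10, 8, 6, 10, 8, 4, 8, 0, 4, 6], []⟩],
  .tm 1 [8, 10, 8, 7, 10, 8, 10, 4, 8, 2, 6, 10, 4, 7] [] [⟨3441, [], []⟩],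
  .tm 22 [8, 7, 10, 8, 0, 10, 7] [] [⟨3440, [4, 8, 7, 10, 8, 4, 8, 2, 10], []⟩, ⟨3262, [8, 6, 10, 4, 8, 4, 2], [50, 58, 72, 53, 73]⟩, ⟨3262, [12, 10, 8, 4, 8, 10, 8, 7], []⟩],
  .tm 1 [4, 8, 6, 10, 4, 8, 7, 10, 8, 2, 15, 4] [] [⟨3443, [], []⟩],
  .tm 22 [8, 4, 8, 10, 8, 6, 10, 8, 6, 10, 4, 7] [] [⟨3352, [10, 8, 7, 10, 8, 6, 10, 4, 8, 6, 10, 7], [6601, 6601]⟩, ⟨3262, [8, 4, 8, 12, 8, 4, 2], [53, 60, 58, 54, 52, 50]⟩, ⟨3262, [12, 8, 10, 8, 6, 10, 8, 7, 10, 8, 6, 10, 4, 7], []⟩],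
  .tm 1 [12, 8, 10, 8, 7, 10, 8, 2, 15] [] [⟨3445, [], []⟩],
  .tm 22 [12, 8, 10, 8, 6, 10, 4, 8, 7, 10, 8, 10, 4] [] [⟨3444, [8, 4, 8, 10, 8, 10], [6529]⟩, ⟨3262, [12, 8, 10, 8, 12, 4, 2], [58, 72, 56, 72, 72]⟩, ⟨3262, [12, 6, 10, 8, 6, 10, 8, 4, 8, 10, 4, 6], []⟩],
  .tm 1 [12, 8, 10, 8, 4, 8, 6, 10, 8, 15] [] [⟨3447, [], []⟩],
  .tm 22 [12, 8, 4, 8, 10, 4, 8, 7, 10, 8, 2, 10] [] [⟨3440, [8, 4, 8, 7, 10, 8, 4, 8, 2, 10], []⟩, ⟨3262, [8, 6, 10, 4, 2, 8, 4], [54, 56, 52, 72, 60, 50]⟩, ⟨3262, [10, 8, 10, 4, 8, 6, 10, 8, 2, 6, 10], []⟩],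
  .tm 1 [6, 10, 8, 7, 10, 4, 8, 2, 10, 4] [] [⟨3449, [], []⟩]]

theorem fc3358 : checkL (nat_lit 12) (nat_lit 4095) tH tK tK' BB FF TM XW d3358 (nat_lit 3358) = true := by decide +kernel

def d3451 : List Der := [.tm 22 [12, 4, 8, 7, 10, 8, 4, 8, 2, 15, 4, 6] [] [⟨3450, [12, 4, 8, 10, 4, 8, 10], []⟩, ⟨3262, [12, 8, 10, 8, 12, 10, 4], [73, 58, 50, 73, 73, 58]⟩, ⟨3262, [12, 7, 10, 8, 10, 8, 4, 8, 10, 4, 6], []⟩],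
  .tm 1 [12, 8, 4, 8, 10, 8, 6, 10, 4, 2, 8, 10, 7] [] [⟨3451, [], []⟩],
  .tm 22 [6, 10, 8, 0, 15, 4, 7] [] [⟨3440, [4, 8, 10, 8, 7, 10, 4, 8, 2, 15, 6], [6529]⟩, ⟨3262, [8, 10, 8, 12, 8, 6, 10], [73, 56, 54, 52, 50]⟩, ⟨3262, [10, 4, 8, 6, 10, 8, 0, 10, 4], []⟩],
  .tm 1 [12, 8, 10, 4, 8, 6, 10, 8, 7, 10, 4, 8, 2, 4, 6] [] [⟨3453, [], []⟩],
  .tm 22 [8, 10, 8, 10, 4, 8, 2, 4] [] [⟨3352, [8, 4, 8, 10, 8, 6, 10, 8, 0, 10, 7], [6529, 6600, 6600]⟩, ⟨3262, [8, 12, 4, 8, 10, 8, 12], [54, 52, 72, 56, 60, 52, 50]⟩, ⟨3262, [12, 8, 10, 4, 8, 6, 10, 8, 4, 8, 2, 10, 4, 7], []⟩],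
  .tm 1 [8, 12, 8, 6, 10, 8, 4, 8, 0, 10, 4] [] [⟨3455, [], []⟩],
  .tm 22 [8, 10, 8, 7, 10, 8, 6, 10, 4, 8, 0, 15, 4, 7] [] [⟨3442, [4, 8, 10, 8, 6, 10, 2, 8, 6, 10, 4], []⟩, ⟨3262, [8, 10, 4, 8, 6, 10, 4, 2], [72, 53, 60, 73, 60, 50]⟩, ⟨3262, [12, 8, 10, 8, 6, 10, 8, 0, 6], []⟩],
  .tm 1 [7, 10, 4, 2, 8, 10, 4, 7] [] [⟨3457, [], []⟩],
  .tm 22 [10, 8, 10, 4, 8, 6, 10, 8, 0, 10, 4] [] [⟨3404, [8, 4, 8, 10, 8, 7, 10, 2, 8, 10, 4, 6], [6529, 6647]⟩, ⟨3262, [4, 8, 10, 4, 2, 8, 7, 10], [60, 73, 56, 53, 72, 50]⟩, ⟨3262, [12, 8, 10, 8, 7, 10, 8, 6], []⟩],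
  .tm 1 [8, 6, 10, 4, 2, 8, 10, 4, 7] [] [⟨3459, [], []⟩],
  .tm 22 [8, 12, 8, 2] [] [⟨3352, [4, 8, 4, 8, 10, 8, 7, 10, 8, 2, 10, 4], [6529, 6600, 6600]⟩, ⟨3262, [8, 12, 4, 8, 6, 10, 8, 12], [72, 56, 54, 72, 60, 53, 50]⟩, ⟨3262, [12, 8, 10, 4, 8, 7, 10, 8, 4, 8, 10, 6], []⟩],
  .tm 1 [8, 12, 2, 15, 4, 6] [] [⟨3461, [], []⟩],
  .tm 11 [10, 8, 10, 8, 4, 8, 6, 10, 8, 15, 7] [] [⟨3432, [8, 7, 10, 4, 2, 8, 4, 6], [6529, 6601, 6647]⟩, ⟨3262, [8, 10, 2, 8, 12, 6, 10], [60, 52, 50, 73, 58, 50]⟩, ⟨3262, [8, 12, 4, 8, 4, 8, 10, 8, 6, 10, 8, 2, 6, 10, 4, 7], []⟩],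
  .tm 1 [12, 7, 10, 8, 4, 8, 0, 7] [] [⟨3463, [], []⟩],
  .tm 11 [4, 8, 10, 8, 4, 8, 7, 10, 8, 0, 6, 10, 4, 7] [] [⟨3464, [8, 12, 8, 6, 10, 8, 4, 6], [6529, 6647, 6601]⟩, ⟨3262, [6, 10, 4, 2, 8, 7, 10], [52, 72, 60, 58, 50]⟩, ⟨3262, [8, 10, 8, 6, 10, 4, 8, 15, 6], []⟩],
  .tm 1 [8, 12, 6, 10, 8, 10, 8, 4, 8, 2, 6, 10] [] [⟨3465, [], []⟩],
  .tm 11 [8, 6, 10, 4, 8, 7, 10, 8, 2, 15] [] [⟨3388, [6, 10, 8, 10, 8, 4, 8, 6, 10, 8], [6529, 6647, 6601, 6601, 6646]⟩, ⟨3262, [7, 10, 4, 2, 8, 7, 10], [72, 54, 58, 72, 52, 50]⟩, ⟨3262, [6, 10, 8, 7, 10, 8, 6, 10, 4, 8, 15, 6], []⟩],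
  .tm 1 [12, 4, 8, 6, 10, 8, 7, 10, 4, 2, 8, 10, 6] [] [⟨3467, [], []⟩],
  .tm 11 [8, 12, 8, 0, 4, 6] [] [⟨3402, [12, 10, 8, 4, 2, 8], [6601, 6647]⟩, ⟨3262, [4, 8, 12, 2, 8, 7, 10], [56, 72, 54, 72, 56, 53]⟩, ⟨3262, [10, 8, 6, 10, 2, 8], []⟩],
  .tm 1 [12, 10, 8, 4, 8, 7, 10, 2, 8, 10, 4, 6] [] [⟨3469, [], []⟩],
  .tm 11 [10, 8, 7, 10, 8, 6, 10, 4, 2, 8, 15, 4, 6] [] [⟨3328, [10, 8, 4, 8, 10, 8, 6, 10, 8, 0, 10, 4, 7], [6600, 6647, 6600]⟩, ⟨3262, [10, 8, 10, 4, 8, 7, 10], [50, 73, 73, 50, 60]⟩, ⟨3262, [10, 8, 6, 10, 8, 7, 10, 8, 4, 6], []⟩],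
  .tm 1 [12, 4, 8, 7, 10, 8, 4, 8, 2, 4, 7] [] [⟨3471, [], []⟩],
  .tm 11 [12, 8, 4, 8, 6, 10, 8, 2, 6, 10, 4] [] [⟨3286, [8, 12, 8, 10, 8, 7, 10, 8], [6600, 6600, 6600]⟩, ⟨3262, [4, 8, 6, 10, 8, 7, 10], [54, 73, 56, 52, 72]⟩, ⟨3262, [8, 10, 8, 6, 10, 8, 10, 4, 8, 2, 10, 6], []⟩],
  .tm 1 [8, 10, 4, 8, 6, 10, 8, 7, 10, 4, 8, 2, 10, 6] [] [⟨3473, [], []⟩],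
  .tm 11 [8, 12, 8, 10, 4, 8, 7, 10, 8, 6, 10, 4, 8, 4, 7] [] [⟨3394, [8, 12, 10, 8, 10, 4, 8, 2, 10, 6], [6600, 6647]⟩, ⟨3262, [12, 8, 6, 10, 8, 7, 10], [73, 58, 52, 58, 50]⟩, ⟨3262, [8, 4, 8, 7, 10, 4, 8, 6, 10, 8], []⟩],
  .tm 1 [8, 12, 2, 0, 15, 4] [] [⟨3475, [], []⟩],
  .tm 11 [8, 12, 10, 8, 7, 10, 8, 6, 10, 4, 8, 2, 4, 7] [] [⟨3400, [6, 10, 8, 6, 10, 8, 4, 8, 15, 6], [6601, 6646, 6600, 6647]⟩, ⟨3262, [8, 12, 7, 10, 8, 7, 10], [56, 72, 72, 54, 56, 50]⟩, ⟨3262, [12, 8, 6, 10, 8, 7, 10, 8, 4, 8, 6, 10, 6], []⟩],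
  .tm 1 [12, 8, 4, 8, 10, 8, 7, 10, 8, 0, 15, 7] [] [⟨3477, [], []⟩],
  .tm 11 [12, 4, 8, 4, 8, 10, 8, 7, 10, 8, 6] [] [⟨3412, [10, 4, 8, 6, 10, 8, 2, 10, 4, 6], [6601, 6601, 6646]⟩, ⟨3262, [8, 12, 8, 10, 8, 7, 10], [73, 73, 56, 60]⟩, ⟨3262, [8, 10, 8, 7, 10, 8, 4, 8, 6, 10, 6], []⟩],
  .tm 1 [8, 12, 10, 4, 8, 10, 4, 7] [] [⟨3479, [], []⟩],
  .tm 11 [12, 7, 10, 8, 6, 10, 4, 2, 8, 6, 10, 7] [] [⟨3350, [12, 8, 10, 8, 7, 10, 8, 4, 7], [6601, 6646, 6529]⟩, ⟨3262, [6, 10, 4, 8, 12, 7, 10], [54, 52, 72]⟩, ⟨3262, [12, 6, 10, 8, 7, 10, 8, 6, 10, 4, 8, 2, 15, 6], []⟩],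
  .tm 1 [12, 4, 8, 10, 8, 4, 8, 6, 10, 8, 0, 6] [] [⟨3481, [], []⟩],
  .tm 11 [12, 4, 8, 10, 8, 6, 10, 4, 8, 0, 10, 4, 6] [] [⟨3440, [8, 12, 8, 4, 8, 10, 4, 8, 7, 10, 8, 2, 10], [6529, 6601, 6601, 6646]⟩, ⟨3262, [7, 10, 4, 8, 4, 8, 10], [73, 73, 73, 56, 54]⟩, ⟨3262, [12, 8, 4, 8, 6, 10, 8, 7, 10, 8, 2, 6, 10, 4, 6], []⟩],
  .tm 1 [10, 8, 10, 4, 8, 6, 10, 8, 0, 4, 7] [] [⟨3483, [], []⟩],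
  .tm 11 [10, 8, 7, 10, 4, 8] [] [⟨3446, [12, 8, 4, 8, 6, 10, 8, 7, 10, 8, 2, 15, 4, 6], [6600, 6646, 6529, 6601]⟩, ⟨3262, [6, 10, 8, 12, 4, 8, 10], [56, 72, 58, 60, 50]⟩, ⟨3262, [12, 8, 4, 8, 10, 8, 6, 10, 4, 8, 2, 6, 10, 4, 6], []⟩],
  .tm 1 [8, 12, 8, 10, 4, 2, 8, 15, 4, 6] [] [⟨3485, [], []⟩],
  .tm 11 [12, 4, 8, 6] [] [⟨3386, [8, 12, 6, 10, 8, 4, 8, 6, 10, 8, 6, 10, 6], [6529, 6601, 6646]⟩, ⟨3262, [10, 8, 10, 8, 12, 8, 10], [73, 73, 73, 54, 50]⟩, ⟨3262, [8, 10, 8], []⟩],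
  .tm 1 [8, 10, 8, 7, 10, 8, 4, 8, 2, 15] [] [⟨3487, [], []⟩],
  .tm 11 [10, 8, 4, 8, 7, 10, 8, 0, 15, 6] [] [⟨3470, [12, 10, 8, 7, 10, 2, 8, 15, 7], [6646, 6600, 6647]⟩, ⟨3262, [12, 8, 10, 8, 12, 8, 10], [72, 72, 72, 54, 56]⟩, ⟨3262, [12, 8, 10, 8, 0, 10], []⟩],
  .tm 1 [10, 8, 4, 8, 10, 8, 2, 6, 10] [] [⟨3489, [], []⟩],
  .tm 11 [12, 6, 10, 8, 10, 8, 4, 8, 6, 10, 8] [] [⟨3350, [6, 10, 8, 6, 10, 4], [6647, 6529, 6601, 6601]⟩, ⟨3262, [10, 4, 8, 10, 4, 8, 12], [52, 60, 56, 54, 53]⟩, ⟨3262, [8, 10, 8, 6, 10, 8, 4, 8, 2, 10, 7], []⟩],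
  .tm 1 [12, 8, 6, 10, 8, 4, 8, 7, 10, 8, 0, 15, 4] [] [⟨3491, [], []⟩],
  .tm 11 [8, 12, 8, 6, 10, 8, 7, 10, 4, 2, 8, 10, 7] [] [⟨3418, [8, 12, 8, 2, 10], [6601, 6601]⟩, ⟨3262, [6, 10, 8, 7, 10, 8, 12], [53, 58, 52, 58, 50]⟩, ⟨3262, [8, 6, 10, 8, 4, 8, 6, 10, 8, 10, 4, 6], []⟩],
  .tm 1 [12, 10, 8, 10, 4, 8, 6, 10, 8, 2, 6] [] [⟨3493, [], []⟩],
  .tm 11 [8, 12, 8, 6, 10, 8, 7, 10, 4, 8, 2, 6, 10, 4] [] [⟨3376, [8, 12, 7, 10, 8, 4, 8, 10, 7], [6647]⟩, ⟨3262, [10, 8, 12, 6, 10, 8, 4, 0], [52, 73, 58, 52, 60]⟩, ⟨3262, [4, 8, 10, 8, 6, 10, 8, 10, 7], []⟩],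
  .tm 1 [8, 7, 10, 8, 4, 8, 6, 10, 8, 15] [] [⟨3495, [], []⟩],
  .tm 11 [12, 8, 4, 2, 8, 10, 4, 7] [] [⟨3490, [8, 12, 10, 8, 10, 4, 8, 2, 7], [6647, 6600, 6600]⟩, ⟨3262, [8, 12, 8, 7, 10, 8, 4, 0], [72, 60, 54, 52, 73, 58, 50]⟩, ⟨3262, [8, 7, 10, 8, 6, 10, 8, 6, 10], []⟩],
  .tm 1 [8, 7, 10, 8, 6, 10, 8, 7, 10, 4, 8, 4, 7] [] [⟨3497, [], []⟩],
  .tm 11 [7, 10, 8, 6, 10, 4, 8, 2, 6, 10, 4, 7] [] [⟨3434, [8, 4, 8, 10, 2, 8], [6529, 6601, 6646]⟩, ⟨3262, [10, 8, 10, 8, 12, 8, 4, 0], [73, 73, 54]⟩, ⟨3262, [8, 12, 7, 10, 4, 8, 6, 10, 8, 2, 15, 4], []⟩],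
  .tm 1 [12, 10, 8, 7, 10, 8, 4, 8, 2, 7] [] [⟨3499, [], []⟩],
  .tm 11 [12, 8, 10, 8, 6, 10, 8, 4, 8, 2, 10, 4] [] [⟨3462, [12, 4, 8, 10, 8, 6, 10, 4, 8, 2, 6, 10, 4], [6646, 6529]⟩, ⟨3262, [10, 4, 8, 12, 7, 10, 4, 0], [53, 72, 60, 56, 54, 50]⟩, ⟨3262, [8, 4, 8, 10, 8, 4, 8, 2, 10, 4, 7], []⟩],
  .tm 1 [6, 10, 8, 10, 6] [] [⟨3501, [], []⟩],
  .tm 11 [4, 8, 4, 8, 10, 8, 7, 10, 8, 2, 15, 7] [] [⟨3446, [8, 10, 8, 6, 10, 8, 4, 2, 8, 10, 4, 7], [6600, 6646, 6529, 6601]⟩, ⟨3262, [12, 6, 10, 4, 8, 10, 4, 0], [58, 72, 53, 60, 54, 73, 50]⟩, ⟨3262, [8, 12, 6, 10, 8, 6, 10, 8, 4, 8, 2, 15, 6], []⟩],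
  .tm 1 [12, 4, 8, 10, 8, 6, 10, 8, 2, 15, 7] [] [⟨3503, [], []⟩],
  .tm 11 [10, 8, 7, 10, 8, 6, 10, 4, 8, 2, 4] [] [⟨3296, [8, 10, 4, 8, 6, 10, 8, 0, 6, 10, 6], [6601, 6646, 6529, 6647]⟩, ⟨3262, [10, 8, 12, 4, 8, 10, 4, 0], [72, 72, 60]⟩, ⟨3262, [12, 6, 10, 8, 6, 10, 8, 4, 8, 7], []⟩],
  .tm 1 [12, 7, 10, 8, 6, 10, 8, 2, 4] [] [⟨3505, [], []⟩],
  .tm 11 [6, 10, 8, 7, 10, 8, 4, 8, 0, 6] [] [⟨3342, [8, 12, 10, 8, 7, 10, 8, 6, 10, 4, 2, 8, 6, 10, 4], [6601, 6601, 6646, 6600]⟩, ⟨3262, [10, 4, 8, 12, 8, 10, 4, 0], [73, 73, 60, 58, 56, 52]⟩, ⟨3262, [8, 7, 10, 8, 4, 8, 10, 8, 15, 4], []⟩],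
  .tm 1 [12, 10, 8, 6, 10, 8, 4, 8] [] [⟨3507, [], []⟩],
  .tm 11 [8, 12, 8, 6, 10, 8, 4, 8, 15, 7] [] [⟨3454, [8, 12, 7, 10, 8, 4, 8, 10, 8, 2], [6601, 6647, 6600, 6600]⟩, ⟨3262, [8, 10, 8, 12, 8, 10, 4, 0], [72, 54, 50]⟩, ⟨3262, [7, 10, 4, 8, 6, 10, 8, 2, 15, 4], []⟩],
  .tm 1 [8, 10, 8, 6, 10, 4, 8, 7, 10, 8, 2, 6, 10, 7] [] [⟨3509, [], []⟩],
  .tm 11 [8, 12, 8, 10, 8, 7, 10, 8, 6, 10, 8, 2, 15] [] [⟨3330, [8, 12, 8, 6, 10, 8, 7, 10, 8, 6, 10, 4, 8, 10, 4, 6], [6529, 6647, 6601, 6601, 6646]⟩, ⟨3262, [4, 8, 6, 10, 8, 12, 4, 0], [50, 73, 73, 58, 52, 50]⟩, ⟨3262, [8, 4, 8, 10, 8, 2, 10, 7], []⟩],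
  .tm 1 [8, 12, 10, 8, 6, 10, 8, 7, 10, 8, 10, 7] [] [⟨3511, [], []⟩],
  .tm 11 [12, 2, 10, 4, 6] [] [⟨3498, [10, 8, 6, 10, 4, 8, 7, 10, 8, 6, 10, 6], [6600, 6646, 6529]⟩, ⟨3262, [7, 10, 8, 10, 8, 12, 4, 0], [73, 50, 54, 53, 72, 50]⟩, ⟨3262, [7, 10, 8, 4, 8, 7, 10, 8, 2, 10, 7], []⟩],
  .tm 1 [8, 12, 8, 4, 8, 10, 8, 7, 10, 8, 7] [] [⟨3513, [], []⟩],
  .tm 11 [8, 12, 8, 4, 8, 10, 8, 7, 10, 4, 2, 8, 10, 4, 6] [] [⟨3284, [8, 12, 8, 10, 8, 6, 10, 8, 7, 10, 4, 8, 2, 15, 4], [6601, 6646, 6529]⟩, ⟨3262, [10, 4, 8, 6, 10, 4, 8, 0], [54, 72, 56, 60]⟩, ⟨3262, [8, 12, 4, 8, 7, 10, 8, 6, 10, 4, 8, 2, 15, 4, 6], []⟩],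
  .tm 1 [12, 8, 10, 8, 6, 10, 8, 7, 10, 4, 8, 0, 6, 10, 7] [] [⟨3515, [], []⟩],
  .tm 11 [8, 10, 8, 4, 8, 6, 10, 8, 2, 15, 6] [] [⟨3442, [10, 8, 6, 10, 8, 4, 8, 2, 6, 10, 4], [6646, 6601, 6647]⟩, ⟨3262, [8, 12, 8, 6, 10, 4, 8, 0], [72, 60, 53, 50, 73]⟩, ⟨3262, [8, 10, 8, 4, 8, 10, 8, 2, 10, 4, 7], []⟩],
  .tm 1 [12, 8, 7, 10, 8, 2, 10, 4, 6] [] [⟨3517, [], []⟩],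
  .tm 11 [8, 12, 8, 6, 10, 8, 4, 8, 10, 8, 2, 10, 4, 6] [] [⟨3360, [8, 12, 8, 10, 4, 8, 6, 10, 2, 8, 6, 10, 7], [6647, 6601]⟩, ⟨3262, [10, 8, 12, 6, 10, 4, 8, 0], [73, 54, 53, 58, 72, 54, 50]⟩, ⟨3262, [8, 10, 8, 4, 8, 10, 8, 2, 4, 7], []⟩],
  .tm 1 [12, 7, 10, 8, 4, 7] [] [⟨3519, [], []⟩],
  .tm 11 [12, 8, 10, 4, 8, 7, 10, 8, 0, 15, 7] [] [⟨3514, [4, 8, 10, 8, 2, 10], [6529, 6601, 6647, 6601]⟩, ⟨3262, [8, 7, 10, 8, 12, 4, 8, 0], [52, 73, 56, 52, 50]⟩, ⟨3262, [7, 10, 8, 10, 8, 4, 8, 2, 4, 7], []⟩],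
  .tm 1 [12, 4, 8, 6, 10, 4, 8, 4, 7] [] [⟨3521, [], []⟩],
  .tm 11 [4, 8, 0, 4, 6] [] [⟨3474, [8, 12, 4, 8, 7, 10, 4, 8, 2, 10, 6], [6600, 6646, 6601, 6647]⟩, ⟨3262, [8, 10, 4, 8, 6, 10, 8, 0], [58, 72, 58, 60, 53]⟩, ⟨3262, [12, 7, 10, 8, 10, 8, 4, 8, 15], []⟩],
  .tm 1 [8, 12, 8, 6, 10, 8, 7, 10, 4, 8, 2, 10] [] [⟨3523, [], []⟩],
  .tm 11 [4, 8, 6, 10, 8, 2, 10, 4, 7] [] [⟨3400, [12, 6, 10, 4, 8, 7, 10, 8, 2, 10, 4, 7], [6601, 6646, 6600, 6647]⟩, ⟨3262, [4, 8, 10, 8, 6, 10, 8, 0], [73, 56, 53, 72, 54]⟩, ⟨3262, [10, 8, 4, 8, 7, 10, 8, 6, 10, 8, 7], []⟩],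
  .tm 1 [8, 12, 8, 4, 8, 10, 8, 6, 10, 8] [] [⟨3525, [], []⟩],
  .tm 11 [12, 8, 4, 8, 10, 8, 7, 10, 4, 8, 15, 7] [] [⟨3284, [12, 10, 8, 10, 4, 8, 4, 7], [6601, 6646, 6529]⟩, ⟨3262, [10, 4, 8, 12, 6, 10, 8, 0], [50, 73, 73, 54, 60, 50]⟩, ⟨3262, [8, 7, 10, 8, 6, 10, 4, 8, 7, 10, 8, 15, 7], []⟩],
  .tm 1 [12, 10, 8, 7, 10, 8, 4, 8, 0, 10, 6] [] [⟨3527, [], []⟩]]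

theorem fc3451 : checkL (nat_lit 12) (nat_lit 4095) tH tK tK' BB FF TM XW d3451 (nat_lit 3451) = true := by decide +kernel

def d3529 : List Der := [.tm 11 [12, 8, 10, 8, 4, 8, 6, 10, 8, 0, 15, 7] [] [⟨3508, [8, 10, 8, 15, 4], [6600, 6600, 6600]⟩, ⟨3262, [4, 8, 10, 8, 7, 10, 8, 0], [72, 53, 73, 60, 56, 50]⟩, ⟨3262, [12, 8, 4, 8, 7, 10, 8, 0, 6, 10], []⟩],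
  .tm 1 [8, 12, 7, 10, 4, 8, 6, 10, 8, 10, 4, 6] [] [⟨3529, [], []⟩],
  .tm 11 [12, 6, 10, 8, 10, 8, 4, 8, 6, 10, 8, 2, 15, 6] [] [⟨3496, [8, 7, 10, 8, 0, 10, 4, 6], [6529, 6600]⟩, ⟨3262, [6, 10, 4, 8, 12, 10, 8, 0], [52, 72, 60, 56, 54, 52, 50]⟩, ⟨3262, [8, 10, 8, 7, 10, 4, 8, 6, 10, 8, 2, 6], []⟩],
  .tm 1 [8, 10, 8, 10, 4, 8, 7, 10, 8, 2, 10, 4, 7] [] [⟨3531, [], []⟩],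
  .tm 11 [12, 10, 8, 10, 8, 4, 8, 7, 10, 8, 2, 4] [] [⟨3324, [8, 12, 6, 10, 8, 4, 8, 2, 15, 6], [6647, 6600]⟩, ⟨3262, [8, 10, 8, 4, 8, 6, 10, 0], [60, 56, 72, 72]⟩, ⟨3262, [8, 12, 4, 8, 6, 10, 4, 8, 6], []⟩],
  .tm 1 [8, 12, 4, 8, 7, 10, 8, 6, 10, 4, 8, 2, 6, 10, 4, 6] [] [⟨3533, [], []⟩],
  .tm 11 [12, 8, 10, 4, 8, 6, 10, 8, 15, 4, 6] [] [⟨3330, [12, 4, 8, 7, 10, 4, 8, 10], [6529, 6647, 6601, 6601, 6646]⟩, ⟨3262, [8, 12, 8, 4, 8, 6, 10, 0], [73, 53, 58, 56, 72, 58]⟩, ⟨3262, [4, 8, 6, 10, 8, 7, 10, 4, 2, 8, 15], []⟩],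
  .tm 1 [8, 12, 8, 10, 8, 7, 10, 8, 6, 10, 8, 2, 4, 6] [] [⟨3535, [], []⟩],
  .tm 11 [12, 8, 10, 8, 7, 10, 4, 8, 6, 10, 8, 2, 10, 4, 6] [] [⟨3534, [4, 2, 8, 6, 10, 4, 7], [6647, 6529, 6601]⟩, ⟨3262, [4, 8, 10, 8, 12, 6, 10, 0], [52, 60, 73, 50, 58]⟩, ⟨3262, [8, 10, 4, 8, 6, 10, 8, 2], []⟩],
  .tm 1 [7, 10, 4, 8, 6, 10, 8, 15, 6] [] [⟨3537, [], []⟩],
  .tm 11 [8, 12, 10, 4, 8, 7, 10, 8, 6, 10, 4, 6] [] [⟨3502, [8, 12, 6, 10, 8, 4, 8, 7, 10, 8], [6646, 6529, 6601, 6647]⟩, ⟨3262, [4, 8, 6, 10, 8, 7, 10, 0], [54, 73, 56, 52, 72]⟩, ⟨3262, [6, 10, 8, 4, 8, 10, 8, 6, 10], []⟩],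
  .tm 1 [8, 12, 10, 8, 10, 8, 4, 8, 7, 10, 8, 2, 15, 6] [] [⟨3539, [], []⟩],
  .tm 11 [8, 12, 8, 10, 8, 4, 8, 7, 10, 8, 0, 10, 4, 7] [] [⟨3530, [8, 12, 8, 10, 8, 4, 8, 7, 10, 8, 0, 6, 10], [6601]⟩, ⟨3262, [10, 8, 4, 8, 12, 7, 10, 0], [54, 52, 73, 56, 58, 52, 50]⟩, ⟨3262, [8, 12, 8, 10, 8, 7, 10, 8, 6, 10, 4, 2, 8, 6, 10], []⟩],
  .tm 1 [7, 10, 8, 6, 10, 8, 7, 10, 4, 8, 2, 6] [] [⟨3541, [], []⟩],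
  .tm 11 [8, 12, 8, 10, 8, 7, 10, 8, 0, 10] [] [⟨3510, [12, 10, 8, 4, 6], [6646, 6600]⟩, ⟨3262, [6, 10, 4, 8, 12, 7, 10, 0], [54, 52, 72]⟩, ⟨3262, [12, 8, 10, 8, 7, 10, 4, 8, 6, 10, 8, 15, 7], []⟩],
  .tm 1 [4, 8, 10, 2, 8, 15, 4, 7] [] [⟨3543, [], []⟩],
  .tm 11 [6, 10, 8, 4, 2, 8, 10, 4, 7] [] [⟨3319, [8, 10, 8, 7, 10, 4, 8, 6, 10, 8, 2, 10, 7], [6646, 6600]⟩, ⟨3262, [4, 8, 10, 8, 12, 7, 10, 0], [72, 72, 54]⟩, ⟨2973, [8, 12, 4, 8, 7, 10, 8, 6, 10, 8, 2, 6, 10, 7], []⟩],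
  .tm 1 [8, 6, 10, 8, 10, 4, 8, 15, 4, 6] [] [⟨3545, [], []⟩],
  .tm 11 [10, 8, 10, 4, 8, 6, 10, 2, 8, 10] [] [⟨3536, [8, 12, 8, 10, 8, 7, 10, 8, 6, 10, 8, 15, 6], [6600, 6646, 6601]⟩, ⟨3262, [8, 10, 8, 12, 10, 8, 10, 0], [72, 72, 72, 54]⟩, ⟨3262, [8, 12, 8, 10, 4, 8, 7, 10, 8, 6, 10, 4, 8, 2, 6, 10, 7], []⟩],
  .tm 1 [8, 10, 4, 8, 7, 10, 8, 2, 6, 10, 6] [] [⟨3547, [], []⟩],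
  .tm 11 [12, 7, 10, 8, 4, 8, 0, 6, 10, 4, 6] [] [⟨3332, [12, 8, 10, 4, 8, 7, 10, 4, 8, 2, 6, 10, 6], [6647, 6601, 6601, 6646]⟩, ⟨3262, [7, 10, 8, 4, 8, 12, 10, 0], [58, 72, 53, 60, 54, 73, 50]⟩, ⟨3262, [8, 12, 8, 10, 8, 10, 4, 8, 7, 10, 8, 2, 6], []⟩],
  .tm 1 [12, 8, 10, 4, 8, 6, 10, 8, 7, 10, 8, 6] [] [⟨3549, [], []⟩],
  .tm 11 [12, 10, 4, 8, 6, 10, 8, 7, 10, 4, 8, 6, 10, 7] [] [⟨3446, [8, 12, 2, 10, 7], [6529, 6601, 6601]⟩, ⟨3262, [8, 10, 8, 6, 10, 8, 12, 0], [72, 72, 72, 56]⟩, ⟨3262, [12, 10, 4, 8, 6, 10, 8, 10, 4], []⟩],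
  .tm 1 [12, 8, 10, 8, 4, 8, 6, 10, 8, 0, 10, 6] [] [⟨3551, [], []⟩],
  .tm 11 [8, 12, 8, 0, 10, 4, 6] [] [⟨3410, [6, 10, 8, 10, 8, 4, 8, 6, 10, 8, 7], [6529, 6647, 6601]⟩, ⟨3262, [12, 10, 8, 6, 10, 8, 12, 0], [50, 54]⟩, ⟨3262, [12, 4, 8, 10, 8, 7, 10, 4, 8, 10, 7], []⟩],
  .tm 1 [12, 7, 10, 8, 6, 10, 8, 7, 10, 4, 8, 15, 4, 7] [] [⟨3553, [], []⟩],
  .tm 11 [8, 12, 10, 8, 10, 4, 8, 6, 10, 8, 7, 10, 8, 15] [] [⟨3516, [10, 8, 10, 4, 8, 7, 10, 8, 2, 15, 7], [6529]⟩, ⟨3262, [10, 8, 10, 8, 4, 8, 4, 2], [72, 60, 54, 53, 73, 56]⟩, ⟨3262, [8, 12, 4, 8, 10, 8, 7, 10, 8, 2, 6, 10, 6], []⟩],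
  .tm 1 [12, 8, 10, 4, 8, 7, 10, 8, 0, 15] [] [⟨3555, [], []⟩],
  .tm 11 [8, 10, 4, 8, 6, 10, 8, 0, 6, 10, 6] [] [⟨3484, [8, 12, 8, 10, 8, 4, 8, 0, 15, 4, 6], []⟩, ⟨3262, [12, 8, 10, 8, 4, 8, 4, 2], [73, 53, 58, 56, 54, 72, 50]⟩, ⟨3262, [8, 12, 4, 8, 10, 4, 8, 6, 10, 8, 2, 4], []⟩],
  .tm 1 [8, 10, 8, 7, 10, 8, 0, 7] [] [⟨3557, [], []⟩],
  .tm 11 [12, 8, 10, 8, 7, 10, 8, 10, 4, 8, 2, 15, 7] [] [⟨3374, [8, 12, 7, 10, 8, 10, 8, 4, 8, 7, 10, 8, 2, 10, 4], [6529, 6600, 6646, 6600]⟩, ⟨3262, [8, 10, 8, 10, 4, 8, 4, 2], [72, 60, 54, 53, 73, 56]⟩, ⟨3262, [8, 12, 8, 10, 8, 6, 10, 8, 7, 10, 8, 10, 4, 6], []⟩],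
  .tm 1 [7, 10, 4, 2, 8, 10, 7] [] [⟨3559, [], []⟩],
  .tm 11 [12, 10, 8, 10, 4, 8, 6, 10, 8, 2, 15, 4, 6] [] [⟨3358, [8, 6, 10, 8, 4, 8, 0, 6, 10, 7], [6647, 6600, 6600, 6646]⟩, ⟨3262, [4, 8, 12, 10, 4, 8, 4, 2], [56, 72, 72, 54, 56, 50]⟩, ⟨3262, [12, 10, 4, 8, 7, 10, 8, 6, 10, 4, 8, 6, 10, 4], []⟩],
  .tm 1 [12, 8, 6, 10, 8, 4, 8, 0, 10, 6] [] [⟨3561, [], []⟩],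
  .tm 11 [12, 4, 8, 7, 10, 2, 8, 6, 10, 4, 6] [] [⟨3404, [12, 8, 10, 8, 6, 10, 8, 2, 15, 6], [6600, 6600]⟩, ⟨3262, [12, 4, 8, 7, 10, 8, 4, 2], [58, 54, 72, 60, 56, 52]⟩, ⟨3262, [8, 12, 8, 10, 4, 8, 0, 6, 10, 4, 7], []⟩],
  .tm 1 [10, 4, 8, 0, 10, 6] [] [⟨3563, [], []⟩],
  .tm 11 [8, 12, 8, 10, 4, 8, 6, 10, 8, 4, 8, 10, 4, 6] [] [⟨3374, [8, 12, 7, 10, 8, 4, 8, 10, 8, 2, 10, 4], [6529, 6646]⟩, ⟨3262, [12, 10, 4, 8, 7, 10, 4, 2], [73, 54, 73, 56, 54, 53]⟩, ⟨3262, [8, 4, 8, 10, 8, 4, 8, 2, 6, 10, 6], []⟩],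
  .tm 1 [8, 12, 8, 4, 2, 8, 4] [] [⟨3565, [], []⟩],
  .tm 11 [8, 10, 8, 10, 6] [] [⟨3454, [12, 8, 10, 4, 8, 7, 10, 8, 6, 10, 4, 8, 2, 15], [6601, 6647, 6600, 6600]⟩, ⟨3262, [8, 12, 8, 10, 8, 10, 4, 2], [60, 52, 60, 50, 73]⟩, ⟨3262, [6, 10, 8, 7, 10, 8, 6, 10, 4, 8, 10, 4, 7], []⟩],
  .tm 1 [8, 12, 8, 4, 8, 6, 10, 8, 4, 8, 6, 10, 7] [] [⟨3567, [], []⟩],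
  .tm 11 [8, 6, 10, 4, 8, 2, 10, 4] [] [⟨3282, [12, 10, 8, 4, 8, 10, 8, 7, 10, 8, 6, 10, 4, 6], [6601, 6601, 6646]⟩, ⟨3262, [8, 6, 10, 4, 8, 4, 8, 2], [72, 58, 56, 72, 58, 52]⟩, ⟨148, [12, 8, 6, 10, 8, 7, 10, 4, 2, 8, 6], []⟩],
  .tm 1 [8, 12, 10, 8, 10, 4, 8, 2, 15] [] [⟨3569, [], []⟩],
  .tm 11 [8, 12, 8, 6, 10, 8, 4, 8, 6, 10, 8, 2, 6, 10, 4] [] [⟨3406, [8, 12, 8, 10, 8, 6, 10, 8, 10, 4, 8, 2, 6, 10, 6], [6601, 6601, 6647]⟩, ⟨3262, [10, 8, 7, 10, 8, 4, 8, 2], [52, 58, 72, 52, 48]⟩, ⟨3262, [8, 12, 8, 4, 2, 8, 6, 10, 4, 6], []⟩],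
  .tm 1 [8, 7, 10, 4, 8, 10, 4, 6] [] [⟨3571, [], []⟩],
  .tm 11 [8, 12, 10, 8, 6, 10, 8, 7, 10, 4, 8, 2, 10, 7] [] [⟨3542, [8, 12, 10, 8, 6, 10, 8, 7, 10, 8, 15, 6], [6529, 6647, 6601]⟩, ⟨3262, [10, 4, 8, 7, 10, 4, 8, 2], [58, 53, 58, 72, 58]⟩, ⟨3262, [12, 6, 10, 8, 4, 8, 7, 10, 8, 0, 4, 7], []⟩],
  .tm 1 [8, 7, 10, 8, 4, 8, 10, 8, 2, 15, 4, 6] [] [⟨3573, [], []⟩],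
  .tm 11 [10, 8, 4, 8, 6, 10, 8, 4, 7] [] [⟨3550, [12, 10, 4, 8, 7, 10, 8, 6, 10, 4, 8, 15, 4, 7], [6529, 6646]⟩, ⟨3262, [12, 10, 4, 8, 10, 4, 8, 2], [50, 73, 73, 58, 52, 50]⟩, ⟨3262, [8, 7, 10, 8, 4, 8, 10, 7], []⟩],
  .tm 1 [12, 8, 7, 10, 8, 4, 8, 2, 7] [] [⟨3575, [], []⟩],
  .tm 11 [12, 4, 8, 10, 8, 4, 8, 15, 6] [] [⟨3370, [8, 12, 8, 10, 4, 8, 6, 10, 8, 7, 10, 8, 6, 10, 4, 6], [6600, 6600]⟩, ⟨3262, [12, 8, 10, 8, 6, 10, 8, 2], [56, 72, 60, 56, 50]⟩, ⟨3262, [8, 12, 10, 4, 8, 7, 10, 4, 8, 10, 4, 6], []⟩],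
  .tm 1 [6, 10, 8, 7, 10, 8, 4, 2, 8, 6, 10, 4, 7] [] [⟨3577, [], []⟩],
  .tm 11 [12, 8, 4, 8, 7, 10, 8, 6, 10, 4, 8, 4, 7] [] [⟨3440, [10, 8, 6, 10, 8, 10, 4, 8, 15, 4, 6], [6600, 6647]⟩, ⟨3262, [10, 8, 12, 8, 6, 10, 8, 2], [72, 53, 60, 54, 53]⟩, ⟨3262, [4, 8, 7, 10, 8, 2], []⟩],
  .tm 1 [8, 7, 10, 8, 6, 10, 4, 8, 10] [] [⟨3579, [], []⟩],
  .tm 11 [12, 4, 8, 4, 8, 10, 8, 6, 10, 8, 2, 15, 4, 6] [] [⟨3504, [8, 12, 7, 10, 8, 6, 10, 8, 4, 2, 8, 4], [6529, 6601, 6646]⟩, ⟨3262, [12, 8, 4, 8, 7, 10, 8, 2], [54, 72, 54, 72, 58, 50]⟩, ⟨3262, [8, 12, 6, 10, 8, 4, 8, 7, 10, 8, 0, 10, 4], []⟩],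
  .tm 1 [8, 12, 8, 10, 8, 6, 10, 8, 7, 10, 8, 2, 6, 10, 4] [] [⟨3581, [], []⟩],
  .tm 11 [8, 12, 8, 10, 8, 0, 6, 10, 4, 6] [] [⟨3328, [12, 10, 4, 8, 6, 10, 8, 7, 10, 8, 4], [6600, 6647, 6600]⟩, ⟨3262, [12, 8, 10, 8, 7, 10, 8, 2], [54, 52, 73, 56, 58, 52, 50]⟩, ⟨3262, [8, 12, 4, 8, 7, 10, 8, 2, 15], []⟩],
  .tm 1 [8, 12, 8, 4, 8, 10, 2, 8, 15, 6] [] [⟨3583, [], []⟩],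
  .tm 11 [12, 7, 10, 8, 6, 10, 8, 4, 2, 8, 4, 7] [] [⟨3386, [8, 12, 10, 8, 4, 2, 8, 6, 10, 4], [6600, 6600, 6646, 6601]⟩, ⟨3262, [12, 10, 8, 4, 8, 10, 8, 2], [73, 54, 53]⟩, ⟨3262, [8, 12, 7, 10, 8, 15, 6], []⟩],
  .tm 1 [8, 12, 8, 4, 8, 10, 8, 6, 10, 4, 8, 2, 6, 10] [] [⟨3585, [], []⟩],
  .tm 11 [12, 6, 10, 8, 4, 8, 10, 4, 6] [] [⟨3362, [8, 12, 8, 10, 8, 6, 10, 8, 10, 4, 6], [6647, 6601]⟩, ⟨3262, [12, 6, 10, 4, 8, 10, 8, 2], [58, 52, 72, 56, 54, 52]⟩, ⟨3262, [4, 8, 6, 10, 4, 8, 7, 10, 8, 6, 10, 4], []⟩],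
  .tm 1 [8, 12, 10, 8, 7, 10, 8, 4, 2, 8, 10, 6] [] [⟨3587, [], []⟩],
  .tm 11 [12, 2, 4, 6] [] [⟨3588, [10, 8, 6, 10, 8, 7, 10, 4, 2, 8, 15, 4], [6601, 6646, 6601]⟩, ⟨3262, [8, 10, 8, 12, 8, 6, 10, 2], [73, 54, 73, 56, 54, 53]⟩, ⟨3262, [8, 10, 8, 7, 10, 4, 8, 6, 10, 4, 6], []⟩],
  .tm 1 [12, 10, 4, 8, 7, 10, 8, 6, 10, 4, 8, 2, 10] [] [⟨3589, [], []⟩],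
  .tm 11 [12, 8, 4, 8, 7, 10, 8, 6, 10, 4, 8, 7] [] [⟨3376, [10, 4, 8, 7, 10, 4, 8, 15, 4, 6], [6529, 6600, 6600]⟩, ⟨3262, [12, 8, 10, 8, 12, 6, 10, 2], [52, 58, 60, 73]⟩, ⟨3262, [8, 12, 8, 10, 8, 6, 10, 2, 8, 6, 10, 4, 7], []⟩],
  .tm 1 [8, 10, 8, 4, 2, 8] [] [⟨3591, [], []⟩],
  .tm 11 [7, 10, 8, 6, 10, 8, 7, 10, 4, 8, 6, 10, 4, 6] [] [⟨3558, [8, 12, 10, 8, 0, 4, 7], [6600, 6647]⟩, ⟨3262, [8, 10, 8, 4, 8, 7, 10, 2], [60, 52, 50, 73, 50]⟩, ⟨3262, [4, 8, 7, 10, 8, 6, 10, 4, 2, 8, 10, 4, 7], []⟩],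
  .tm 1 [12, 8, 4, 8, 10, 8, 2, 15, 4, 7] [] [⟨3593, [], []⟩],
  .tm 11 [7, 10, 8, 4, 8, 6, 10, 8, 2, 4] [] [⟨3530, [8, 12, 8, 10, 8, 6, 10, 8, 7, 10, 4, 8, 2, 15, 4, 6], [6647, 6529]⟩, ⟨3262, [12, 7, 10, 4, 8, 7, 10, 2], [72, 56, 72, 58, 52, 50]⟩, ⟨3262, [8, 10, 8, 6, 10, 4, 8, 7, 10, 8, 2, 6, 10], []⟩],
  .tm 1 [10, 8, 7, 10, 8, 6, 10, 4, 8, 6, 10, 4, 6] [] [⟨3595, [], []⟩],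
  .tm 11 [12, 8, 7, 10, 8, 4, 8, 7, 10, 8, 6, 10] [] [⟨3554, [12, 7, 10, 4, 2, 8, 4, 7], [6529]⟩, ⟨3262, [8, 12, 10, 4, 8, 7, 10, 2], [73, 53, 58, 56, 72, 58]⟩, ⟨3262, [10, 8, 10, 4, 8, 7, 10, 8, 6, 10, 8, 6, 10, 4, 7], []⟩],
  .tm 1 [8, 12, 7, 10, 8, 4, 8, 2, 6, 10] [] [⟨3597, [], []⟩],
  .tm 11 [8, 12, 7, 10, 8, 4, 8, 10, 7] [] [⟨3474, [10, 4, 8, 6, 10, 8, 7, 10, 4, 8, 6, 10, 4, 7], [6647, 6601, 6601, 6646]⟩, ⟨3262, [10, 4, 8, 6, 10, 8, 10, 2], [72, 54, 58, 72, 52, 50]⟩, ⟨3262, [8, 10, 8, 7, 10, 4, 8, 6, 10, 8, 2, 15, 7], []⟩],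
  .tm 1 [4, 8, 7, 10, 8, 6, 10, 4, 2, 8, 6, 10, 4, 7] [] [⟨3599, [], []⟩],
  .tm 11 [12, 8, 4, 8, 6, 10, 2, 8, 10, 6] [] [⟨3522, [12, 10, 8, 6, 10, 8, 4, 8, 15, 7], [6529, 6600, 6600]⟩, ⟨3262, [7, 10, 8, 12, 10, 2, 8, 4], [53, 72, 60, 58]⟩, ⟨3262, [10, 4, 8, 7, 10, 8, 4, 8, 2, 15, 4, 6], []⟩],
  .tm 1 [7, 10, 8, 4, 8, 6, 10, 8, 0] [] [⟨3601, [], []⟩],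
  .tm 11 [12, 8, 7, 10, 8, 6, 10, 8, 4, 8, 6, 10, 4, 6] [] [⟨3588, [12, 10, 8, 7, 10, 8, 4, 8, 15, 6], []⟩, ⟨3262, [8, 4, 8, 10, 8, 4, 8, 4], [53, 58, 72, 48]⟩, ⟨3262, [8, 12, 8, 10, 4, 8, 6, 10, 8, 7, 10, 8, 10], []⟩],
  .tm 1 [10, 4, 8, 7, 10, 8, 6, 10, 8, 2, 10, 4, 6] [] [⟨3603, [], []⟩],
  .tm 11 [12, 8, 4, 8, 6, 10, 8, 15, 4] [] [⟨3416, [12, 8, 10, 8, 10, 4, 8, 6, 10, 8, 4, 6], [6601, 6647, 6600, 6600]⟩, ⟨3262, [12, 4, 8, 10, 8, 4, 8, 4], [72, 54, 50]⟩, ⟨3262, [8, 10, 4, 8, 7, 10, 8, 10, 4], []⟩],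
  .tm 1 [12, 10, 8, 4, 2, 8, 6, 10, 7] [] [⟨3605, [], []⟩]]

theorem fc3529 : checkL (nat_lit 12) (nat_lit 4095) tH tK tK' BB FF TM XW d3529 (nat_lit 3529) = true := by decide +kernel

def d3607 : List Der := [.tm 11 [8, 12, 8, 10, 8, 7, 10, 8, 6, 10, 4, 8, 15, 4, 6] [] [⟨3464, [8, 7, 10, 8, 4, 8, 6, 10, 8, 0, 15, 4, 7], [6601, 6601]⟩, ⟨3262, [12, 6, 10, 8, 6, 10, 8, 4], [72, 56, 72, 58, 52, 50]⟩, ⟨3262, [10, 8, 6, 10, 8, 4, 8, 0, 6, 10], []⟩],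
  .tm 1 [12, 8, 10, 4, 8, 6, 10, 8, 7, 10, 4, 8, 2, 15, 4, 7] [] [⟨3607, [], []⟩],
  .tm 11 [8, 12, 4, 8, 7, 10, 8, 6, 10, 8, 2, 6, 10, 4, 7] [] [⟨3586, [12, 4, 8, 10, 4, 8, 6, 10, 8, 2, 15], [6601, 6601, 6601]⟩, ⟨3262, [10, 8, 12, 8, 7, 10, 8, 4], [73, 58, 56, 54, 52, 72, 50]⟩, ⟨3262, [7, 10, 8, 6, 10, 8, 15, 7], []⟩],
  .tm 1 [12, 8, 10, 8, 4, 2, 8, 15, 4] [] [⟨3609, [], []⟩],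
  .tm 11 [12, 4, 8, 10, 8, 4, 8, 6, 10, 8, 6, 10, 7] [] [⟨3295, [6, 10, 8, 10, 4, 8, 15, 4, 6], [6601, 6646, 6529]⟩, ⟨3262, [8, 10, 4, 8, 12, 10, 8, 4], [72, 72, 72, 58, 60, 54]⟩, ⟨148, [8, 7, 10, 8, 6, 10, 4, 2, 8, 6, 10, 7], []⟩],
  .tm 1 [12, 8, 7, 10, 8, 6, 10, 4, 8, 0, 15, 6] [] [⟨3611, [], []⟩],
  .tm 11 [8, 12, 8, 10, 8, 7, 10, 8, 6, 10, 8, 15] [] [⟨3396, [8, 12, 10, 4, 8, 7, 10, 8, 6, 10, 8], [6601, 6647, 6601]⟩, ⟨3262, [12, 8, 10, 8, 12, 10, 8, 4], [72, 54, 58, 72, 52, 50]⟩, ⟨3262, [8, 4, 8, 10, 4, 8, 7, 10, 8, 15, 4, 7], []⟩],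
  .tm 1 [12, 10, 8, 7, 10, 8, 6, 10, 8, 4, 7] [] [⟨3613, [], []⟩],
  .tm 11 [8, 12, 4, 8, 7, 10, 8, 4, 8, 2, 6, 10, 4, 6] [] [⟨3586, [10, 4, 8, 7, 10, 8, 0, 6, 10, 4], [6647, 6600, 6600]⟩, ⟨3262, [12, 7, 10, 4, 8, 7, 10, 4], [73, 53, 58, 56, 54, 72, 50]⟩, ⟨3262, [8, 12, 8, 4, 8, 10, 8, 4, 8, 6, 10, 4, 6], []⟩],
  .tm 1 [8, 12, 10, 8, 4, 8, 10, 8, 6, 10, 8, 0, 15, 4, 7] [] [⟨3615, [], []⟩],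
  .tm 11 [8, 12, 10, 8, 7, 10, 4, 8] [] [⟨3604, [8, 4, 8, 10, 8, 6, 10, 8, 2, 6, 10, 4], [6529, 6601, 6601]⟩, ⟨3262, [6, 10, 8, 7, 10, 8, 12, 4], [72, 52, 73, 60, 56, 54]⟩, ⟨3262, [6, 10, 8, 7, 10, 4, 2, 8, 10, 7], []⟩],
  .tm 1 [12, 7, 10, 8, 6, 10, 4, 8, 0, 15] [] [⟨3617, [], []⟩],
  .tm 11 [7, 10, 8, 7, 10, 4, 8, 7] [] [⟨3510, [8, 6, 10, 8, 2, 10], [6529, 6601, 6601]⟩, ⟨3262, [12, 10, 8, 7, 10, 4, 2, 8], [72, 52, 73, 60, 56, 54]⟩, ⟨3262, [8, 7, 10, 8, 4, 8, 10, 8, 2, 15], []⟩],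
  .tm 1 [12, 8, 7, 10, 8, 0, 10] [] [⟨3619, [], []⟩],
  .tm 11 [8, 10, 2, 8, 15, 4, 7] [] [⟨3534, [12, 8, 7, 10, 8, 4, 8, 7, 10, 8, 4, 6], [6600, 6646, 6601, 6647]⟩, ⟨3262, [10, 4, 8, 12, 8, 10, 4, 8], [73, 73, 60, 58, 56, 52]⟩, ⟨3262, [10, 8, 4, 8, 7, 10, 2, 8, 4, 7], []⟩],
  .tm 1 [8, 12, 8, 4, 8, 10, 8, 4] [] [⟨3621, [], []⟩],
  .tm 11 [8, 6, 10, 8, 0, 15, 4, 6] [] [⟨3506, [8, 4, 8, 6, 10, 8, 2, 10, 4], [6529, 6601, 6647]⟩, ⟨3262, [12, 8, 7, 10, 8, 12, 4, 8], [52, 50, 73, 54, 52, 50]⟩, ⟨3262, [12, 4, 8, 7, 10, 4, 8, 2, 10, 7], []⟩],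
  .tm 1 [10, 8, 6, 10, 4, 8, 7, 10, 8, 2, 10, 4, 6] [] [⟨3623, [], []⟩],
  .tm 11 [12, 8, 10, 4, 8, 6, 10, 8, 4, 8, 4, 7] [] [⟨3420, [7, 10, 8, 10, 8, 4, 8, 7, 10, 8, 15, 4, 7], [6600, 6646, 6529]⟩, ⟨3262, [7, 10, 8, 10, 8, 12, 4, 8], [73, 50, 54, 53, 72, 50]⟩, ⟨3262, [7, 10, 8, 7, 10, 4, 8, 2, 10, 7], []⟩],
  .tm 1 [2, 8, 10] [] [⟨3625, [], []⟩],
  .tm 11 [7, 10, 2, 8, 10, 4, 7] [] [⟨3604, [8, 12, 8, 6, 10, 8, 4, 8, 6, 10, 8, 7], [6647, 6529, 6601]⟩, ⟨3262, [4, 8, 6, 10, 8, 7, 10, 8], [54, 73, 56, 52, 72]⟩, ⟨3262, [8, 7, 10, 8, 7, 10, 8, 4, 8, 2, 10, 6], []⟩],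
  .tm 1 [12, 10, 8, 7, 10, 4, 8, 0, 4, 6] [] [⟨3627, [], []⟩],
  .tm 11 [12, 8, 6, 10, 8, 4, 8, 0, 15, 6] [] [⟨3492, [8, 10, 8, 7, 10, 8, 4, 8, 0, 6, 10], [6600, 6647]⟩, ⟨3262, [4, 8, 7, 10, 8, 4, 8, 10], [72, 60, 54, 53, 73, 56]⟩, ⟨3262, [8, 12, 6, 10, 8, 10, 4, 8, 6, 10, 6], []⟩],
  .tm 1 [4, 8, 10, 8, 6, 10, 4, 8, 6, 10, 4, 7] [] [⟨3629, [], []⟩],
  .tm 13 [12, 10, 8, 7, 10, 2, 8, 10, 6] [] [⟨3396, [8, 7, 10, 8, 4, 8, 10, 8, 2, 10, 7], [6601, 6601, 6647]⟩, ⟨3262, [4, 8, 4, 8, 12, 7, 10, 8], [54, 72, 54, 72, 58, 50]⟩, ⟨3262, [8, 12, 6, 10, 8, 7, 10, 4, 2, 8, 10, 4], []⟩],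
  .tm 1 [4, 8, 10, 8, 4, 8, 7, 10, 8, 0, 6] [] [⟨3631, [], []⟩],
  .tm 13 [8, 12, 8, 4, 8, 10, 8, 7, 10, 8, 0, 15, 4, 6] [] [⟨3582, [2, 15, 4], [6529]⟩, ⟨3262, [10, 4, 8, 12, 2, 8, 6, 10], [52, 72, 60, 58, 52]⟩, ⟨3262, [8, 7, 10, 4, 8, 2, 7], []⟩],
  .tm 1 [10, 8, 6, 10, 4, 8, 7, 10, 8, 2, 15, 4, 7] [] [⟨3633, [], []⟩],
  .tm 34 [4, 8, 7, 10, 8, 10, 6] [] [⟨3386, [8, 12, 8, 10, 8, 6, 10, 8, 4, 8, 0, 6, 10], [6529, 6601, 6646]⟩, ⟨3262, [7, 10, 8, 4, 8, 12, 10, 2], [58, 72, 53, 60, 54, 73, 50]⟩, ⟨3262, [8, 12, 10, 8, 10, 8, 4, 8, 2, 15, 6], []⟩],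
  .tm 1 [8, 12, 4, 8, 6, 10, 4, 8, 2, 10, 6] [] [⟨3635, [], []⟩],
  .tm 9 [8, 12, 4, 8, 7, 10, 4, 8, 6, 10, 8, 10, 4] [] [⟨3250, [8, 10, 4, 8, 7, 10, 8, 6, 10, 8, 15, 7], [6033, 6033]⟩, ⟨3265, [12, 10], []⟩],
  .tm 1 [8, 12, 4, 8, 10, 8, 7, 10, 4, 2, 8, 4] [] [⟨3637, [], []⟩],
  .tm 9 [12, 8, 10, 8, 10, 4, 8] [] [⟨3257, [12, 8, 10, 4, 8, 10, 4, 6], [6003]⟩, ⟨3265, [8, 12], []⟩],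
  .tm 1 [12, 8, 7, 10, 8, 6, 10, 4, 8, 7, 10, 8, 2, 15, 7] [] [⟨3639, [], []⟩],
  .tm 9 [12, 8, 7, 10, 8, 7, 10, 4, 8, 2, 6, 10] [] [⟨2998, [], [5950]⟩, ⟨3265, [7, 10, 4], []⟩],
  .tm 1 [8, 12, 8, 10, 8, 6, 10, 8, 7, 10, 4, 8, 10, 6] [] [⟨3641, [], []⟩],
  .tm 9 [12, 8, 10, 4, 8, 7, 10, 8, 6, 10, 4, 8, 6] [] [⟨3003, [0, 10, 7], [5953, 6003]⟩, ⟨3265, [12, 10, 4], []⟩],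
  .tm 1 [8, 10, 4, 8, 6, 10, 8, 7, 10, 4, 8, 10, 4, 6] [] [⟨3643, [], []⟩],
  .tm 9 [8, 6, 10] [] [⟨3246, [12, 2, 8, 10, 7], [6002, 6033, 6002]⟩, ⟨3265, [8, 12, 4], []⟩],
  .tm 1 [7, 10, 8, 6, 10, 8, 2, 15, 4, 6] [] [⟨3645, [], []⟩],
  .tm 9 [8, 12, 8, 7, 10, 8, 6, 10, 4, 8, 2, 10, 4] [] [⟨3003, [0, 10], [5953, 6003, 5952]⟩, ⟨3265, [7, 10, 6], []⟩],
  .tm 1 [8, 12, 8, 10, 8, 6, 10, 2, 8, 10, 4] [] [⟨3647, [], []⟩],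
  .tm 9 [12, 10, 4, 8, 0, 6, 10, 4, 7] [] [⟨3000, [], [5951, 5953]⟩, ⟨3265, [12, 10, 7], []⟩],
  .tm 1 [8, 12, 7, 10, 8, 4, 8, 6, 10, 2, 8, 15, 7] [] [⟨3649, [], []⟩],
  .tm 9 [10, 8, 4, 8, 6, 10, 2, 8, 6, 10, 6] [] [⟨3020, [10, 8, 10, 4, 8, 4, 7], [5950]⟩, ⟨3265, [8, 12, 10], []⟩],
  .tm 1 [10, 8, 7, 10, 4, 2, 8, 15, 4, 6] [] [⟨3651, [], []⟩],
  .tm 9 [8, 4, 8, 7, 10, 4, 8, 6, 10, 8, 10, 7] [] [⟨3003, [7], [5950]⟩, ⟨3265, [6, 10, 6, 4], []⟩],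
  .tm 1 [8, 10, 8, 6, 10, 8, 4, 8, 0, 15, 4, 6] [] [⟨3653, [], []⟩],
  .tm 9 [8, 12, 8, 10, 8, 7, 10, 8, 4, 2, 8, 4, 7] [] [⟨3250, [8, 12, 7, 10, 4, 2, 8, 10, 7], [6003, 6033, 6003]⟩, ⟨3265, [8, 12, 10, 4], []⟩],
  .tm 1 [8, 12, 4, 8, 10, 8, 6, 10, 4, 8] [] [⟨3655, [], []⟩],
  .tm 9 [10, 8, 6, 10, 8, 7, 10, 4, 8, 2, 10, 4, 6] [] [⟨3011, [10, 4, 8, 4, 7], [5950]⟩, ⟨3265, [8, 12, 7, 10], []⟩],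
  .tm 1 [8, 10, 8, 6, 10, 8, 4, 8, 2, 10, 7] [] [⟨3657, [], []⟩],
  .tm 9 [8, 12, 8, 10, 4, 8, 7, 10, 8, 4, 8, 2, 6, 10, 4] [] [⟨3000, [8, 12, 8, 10, 8, 6, 10, 8, 2, 6, 10, 6], [5950, 6032]⟩, ⟨3265, [8, 12, 10, 7, 4], []⟩],
  .tm 1 [8, 12, 6, 10, 4, 8, 10, 4, 6] [] [⟨3659, [], []⟩],
  .tm 9 [7, 10, 8, 6, 10, 4, 2, 8, 6, 10, 6] [] [⟨3246, [12, 8, 4, 8, 0, 10, 4], [6003, 6033, 6003]⟩, ⟨3265, [8, 12, 7, 10, 6], []⟩],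
  .tm 1 [6, 10, 8, 7, 10, 4, 8, 15, 7] [] [⟨3661, [], []⟩],
  .tm 9 [4, 2, 8, 10, 4] [] [⟨3020, [10, 8, 7, 10, 8, 15], [5951]⟩, ⟨3265, [8, 12, 6, 10, 7], []⟩],
  .tm 1 [8, 10, 8, 7, 10, 8, 6, 10, 8, 15, 7] [] [⟨3663, [], []⟩],
  .tm 9 [8, 4, 8, 10, 8, 2, 10, 6] [] [⟨3009, [10, 4, 8, 7, 10, 8, 15, 4, 7], []⟩, ⟨3265, [8, 12, 6, 10, 6, 4], []⟩],
  .tm 1 [8, 10, 4, 8, 7, 10, 8, 0, 15, 7] [] [⟨3665, [], []⟩],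
  .tm 9 [8, 10, 4, 8, 7, 10, 8, 4, 8, 2, 10] [] [⟨3020, [10, 8, 6, 10, 8, 6, 10, 6], []⟩, ⟨3265, [8, 12, 6, 10, 7, 4], []⟩],
  .tm 1 [8, 10, 4, 8, 7, 10, 8, 4, 8, 15] [] [⟨3667, [], []⟩],
  .tm 9 [8, 12, 10, 4, 8, 7, 10, 4, 8, 2, 15, 4] [] [⟨2998, [0, 6, 10, 4, 6], [5953, 6003, 5952]⟩, ⟨3265, [10, 7], []⟩],
  .tm 1 [12, 6, 10, 8, 7, 10, 8, 4, 8, 0] [] [⟨3669, [], []⟩],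
  .tm 29 [8, 12, 8, 4, 8, 10, 8, 6, 10, 8, 4] [] [⟨2998, [6, 10, 4, 2, 8, 7], [5952, 6003]⟩, ⟨3265, [12, 7, 10], [6601]⟩, ⟨3267, [7, 10, 8, 10, 8, 4, 8, 7, 10, 8, 2, 6], []⟩],
  .tm 1 [12, 8, 4, 8, 10, 2, 8, 6, 10, 7] [] [⟨3671, [], []⟩],
  .tm 29 [8, 12, 8, 6, 10, 8, 7, 10, 8, 4, 8, 4, 7] [] [⟨3000, [8, 12, 10, 8, 7, 10, 4, 8, 0, 15, 4, 7], [6032]⟩, ⟨3265, [8, 12, 10], []⟩, ⟨3277, [8, 15, 4, 6], []⟩],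
  .tm 1 [8, 12, 6, 10, 8, 4, 8, 7, 10, 8, 2, 15, 6] [] [⟨3673, [], []⟩],
  .tm 30 [8, 12, 8, 7, 10, 8, 4, 8, 6, 10, 8, 0, 10] [] [⟨3003, [8, 4, 8, 2, 4, 6], []⟩, ⟨3265, [6, 10, 8, 4, 8, 4], [6528]⟩, ⟨3295, [10, 8, 7, 10, 8, 6, 10, 8, 15, 7], []⟩],
  .tm 1 [8, 10, 8, 7, 10, 4, 8, 0, 10, 4] [] [⟨3675, [], []⟩],
  .tm 30 [12, 8, 6, 10, 8, 6, 10, 8, 4, 8, 4, 7] [] [⟨2998, [7, 10, 4, 8, 2, 10, 4, 7], []⟩, ⟨3265, [7, 10, 8, 10, 8, 4], [6528]⟩, ⟨3282, [8, 4, 8, 6, 10, 8, 7, 10, 4, 8, 15, 6], []⟩],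
  .tm 1 [8, 7, 10, 8, 0, 15, 4, 7] [] [⟨3677, [], []⟩],
  .tm 30 [8, 12, 4, 8, 10, 8, 6, 10, 4, 2, 8, 15, 6] [] [⟨3003, [8, 10, 4, 8, 6, 10, 2, 8, 6, 10, 4, 6], []⟩, ⟨3265, [10, 4, 8, 7, 10, 4], []⟩, ⟨3320, [4, 8, 4, 8, 10, 8, 6, 10, 8, 6, 10], []⟩],
  .tm 1 [12, 8, 10, 4, 8, 7, 10, 8, 0, 10, 7] [] [⟨3679, [], []⟩],
  .tm 30 [12, 4, 8, 7, 10, 4, 8, 10, 7] [] [⟨3011, [8, 7, 10, 8, 6, 10, 8, 7, 10, 4, 8, 4, 6], []⟩, ⟨3265, [8, 12, 8, 7, 10, 4], [6528]⟩, ⟨3282, [6, 10, 2, 8, 10, 7], []⟩],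
  .tm 1 [12, 8, 7, 10, 8, 6, 10, 4, 8, 7, 10, 8, 6, 10, 7] [] [⟨3681, [], []⟩],
  .tm 30 [12, 4, 8, 7, 10, 8, 6, 10, 8, 10] [] [⟨3000, [8, 10, 4, 8, 7, 10, 8, 2, 15, 4], [5951]⟩, ⟨3265, [7, 10, 4, 8, 10, 4], []⟩, ⟨3320, [7, 10, 8, 6, 10, 4, 8, 7, 10, 8, 6, 10, 4, 7], []⟩],
  .tm 1 [8, 6, 10, 8, 0, 10] [] [⟨3683, [], []⟩],
  .tm 30 [4, 8, 10, 4, 8, 2, 15, 7] [] [⟨2998, [6, 10, 8, 4, 2, 8, 7], [5952, 6003]⟩, ⟨3265, [12, 7, 10, 8, 4, 8], []⟩, ⟨3281, [8, 10, 8, 7, 10, 8, 6, 10, 8, 15, 6], []⟩],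
  .tm 1 [12, 4, 8, 10, 8, 6, 10, 4, 8, 15] [] [⟨3685, [], []⟩],
  .tm 30 [8, 12, 10, 8, 6, 10, 4, 8, 7, 10, 8, 2, 15, 4, 6] [] [⟨2998, [8, 4, 8, 10, 8, 0, 10, 4, 7], []⟩, ⟨3265, [6, 10, 8, 10, 4, 8], [6528]⟩, ⟨3281, [8, 7, 10, 8, 6, 10, 4, 8, 7, 10, 8, 6, 10, 4, 7], []⟩],
  .tm 1 [12, 7, 10, 8, 4, 8, 7, 10, 8, 2, 15, 4, 6] [] [⟨3687, [], []⟩],
  .tm 30 [8, 10, 8, 6, 10, 8, 6, 10] [] [⟨3015, [8, 6, 10, 8, 4, 8, 10, 4, 6], [5951]⟩, ⟨3265, [6, 10, 4, 8, 12, 8], [6528]⟩, ⟨3295, [0, 6], []⟩],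
  .tm 1 [12, 7, 10, 4, 8, 10, 4] [] [⟨3689, [], []⟩],
  .tm 30 [8, 12, 6, 10, 8, 2, 15, 4] [] [⟨3003, [10, 8, 7, 10, 8, 15], [5951, 5953]⟩, ⟨3265, [12, 8, 10, 8, 6, 10], [6600]⟩, ⟨3267, [12, 7, 10, 8, 6, 10, 4, 2, 8, 15, 7], []⟩],
  .tm 1 [12, 6, 10, 8, 6, 10, 8, 4, 8, 10, 7] [] [⟨3691, [], []⟩],
  .tm 30 [12, 7, 10, 8, 2, 10, 7] [] [⟨3009, [7, 10, 8, 10], [5951]⟩, ⟨3265, [4, 8, 12, 8, 6, 10], [6528]⟩, ⟨3295, [10, 4, 2, 8, 10, 4, 6], []⟩],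
  .tm 1 [12, 7, 10, 4, 8, 6, 10, 8, 2, 15] [] [⟨3693, [], []⟩],
  .tm 30 [4, 8, 10, 4, 8, 7, 10, 8, 2, 15] [] [⟨3009, [10, 8, 7, 10, 8, 4, 8, 0, 15, 4, 6], [5951]⟩, ⟨3265, [10, 8, 12, 8, 6, 10], [6601]⟩, ⟨3267, [8, 4, 8, 6, 10, 8, 0], []⟩],
  .tm 1 [12, 10, 8, 10, 8, 4, 8, 6, 10, 8, 2, 10, 4] [] [⟨3695, [], []⟩],
  .tm 30 [7, 10, 8, 10, 4, 7] [] [⟨2998, [10, 8, 7, 10, 4, 8, 6, 10, 8, 10], [5953, 6003, 5953]⟩, ⟨3265, [8, 10, 4, 8, 7, 10], [6601]⟩, ⟨3267, [4, 8, 6, 10, 4, 8, 2, 4, 6], []⟩],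
  .tm 1 [7, 10, 4, 8, 6, 10, 8, 6, 10, 7] [] [⟨3697, [], []⟩],
  .tm 30 [12, 4, 8, 7, 10, 4, 8, 10, 6] [] [⟨3011, [8, 4, 8, 6, 10, 8, 2, 6, 10, 4, 6], []⟩, ⟨3265, [8, 12, 4, 8, 7, 10], [6601]⟩, ⟨3267, [8, 6, 10, 8, 7, 10, 8, 6, 10, 4, 8, 6, 10], []⟩],
  .tm 1 [12, 8, 10, 8, 6, 10, 8, 10, 4, 8, 2, 10, 7] [] [⟨3699, [], []⟩],
  .tm 30 [8, 12, 8, 4, 8, 10, 8, 4, 8, 2, 6] [] [⟨3000, [8, 7, 10, 8, 2, 10], [5951]⟩, ⟨3265, [6, 10, 8, 10, 4, 8, 4], [6528]⟩, ⟨3295, [10, 8, 4, 8, 7, 10, 8, 0, 15, 4], []⟩],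
  .tm 1 [8, 12, 10, 8, 6, 10, 8, 2, 6] [] [⟨3701, [], []⟩],
  .tm 30 [8, 12, 8, 6, 10, 8, 7, 10, 4, 8, 6, 10, 8, 2, 4, 7] [] [⟨3000, [8, 6, 10, 8, 2, 10], [5951]⟩, ⟨3265, [7, 10, 8, 10, 4, 8, 4], [6528]⟩, ⟨3282, [10, 4, 8, 6, 10, 8, 4, 8, 6, 10, 6], []⟩],
  .tm 1 [8, 12, 10, 8, 6, 10, 8, 15, 4, 7] [] [⟨3703, [], []⟩],
  .tm 30 [8, 12, 7, 10, 8, 10, 8, 4, 8, 2, 10, 4, 6] [] [⟨2998, [8, 10, 4, 8, 7, 10, 8, 2, 15, 4], [5951, 5953]⟩, ⟨3265, [12, 6, 10, 8, 6, 10, 4], []⟩, ⟨3320, [8, 4, 8, 10, 8, 7, 10, 8, 2, 15, 4, 6], []⟩],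
  .tm 1 [8, 12, 6, 10, 2, 8, 4] [] [⟨3705, [], []⟩],
  .tm 30 [8, 12, 8, 10, 8, 7, 10, 8, 6, 10, 4, 8, 4, 6] [] [⟨3003, [8, 6, 10, 8, 4, 8, 10, 4, 7], []⟩, ⟨3265, [8, 10, 4, 8, 7, 10, 4], [6528]⟩, ⟨3282, [8, 4, 8, 10, 4, 8, 7, 10, 8, 15, 7], []⟩],
  .tm 1 [8, 12, 8, 10, 4, 8, 7, 10, 8, 4, 8, 10, 6] [] [⟨3707, [], []⟩],
  .tm 30 [8, 12, 8, 4, 8, 10, 8, 0] [] [⟨3000, [8, 12, 4, 8, 10, 8, 2, 10, 4], [6032]⟩, ⟨3265, [6, 10, 8, 12, 7, 10, 4], []⟩, ⟨3295, [6, 10, 2, 8, 10, 7], []⟩],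
  .tm 1 [12, 6, 10, 8, 7, 10, 8, 4, 8, 2, 6, 10, 4, 6] [] [⟨3709, [], []⟩],
  .tm 30 [12, 8, 10, 8, 7, 10, 4, 8, 6, 10, 8, 2, 15, 4] [] [⟨3009, [8, 4, 8, 10, 8, 7, 10, 8, 15, 4, 6], [5951]⟩, ⟨3265, [10, 4, 8, 12, 8, 6, 10], [6528]⟩, ⟨3282, [6, 10, 4, 2, 8, 10, 4, 6], []⟩],
  .tm 1 [8, 12, 8, 10, 4, 8, 6, 10, 4, 8, 15] [] [⟨3711, [], []⟩]]

theorem fc3607 : checkL (nat_lit 12) (nat_lit 4095) tH tK tK' BB FF TM XW d3607 (nat_lit 3607) = true := by decide +kernel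

def d3713 : List Der := [.tm 30 [8, 12, 10, 4, 8, 6, 10, 8, 15, 4, 7] [] [⟨2998, [8, 10, 8, 6, 10, 8, 7, 10, 8, 6, 10, 7], []⟩, ⟨3265, [4, 8], [6600, 6600, 6646]⟩, ⟨3283, [8, 12, 6, 10, 8, 10, 8, 4, 8, 6, 10, 8, 2, 6, 10, 4, 6], []⟩],
  .tm 1 [8, 6, 10, 8, 4, 8, 6, 10, 8] [] [⟨3713, [], []⟩],
  .tm 30 [6, 10, 8, 10, 8, 4, 8, 10, 7] [] [⟨3003, [6], []⟩, ⟨3265, [6, 10], [6528]⟩, ⟨3281, [2, 0, 7], []⟩],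
  .tm 1 [8, 10, 4, 8, 6, 10, 8, 0, 15] [] [⟨3715, [], []⟩],
  .tm 30 [12, 7, 10, 4, 8, 6, 10, 8, 2, 10, 7] [] [⟨2998, [0, 6, 10, 4], [5953, 6003, 5953]⟩, ⟨3265, [6, 10, 4], [6528]⟩, ⟨3295, [2, 0, 6], []⟩],
  .tm 1 [8, 10, 8, 6, 10, 8, 7, 10, 4, 2, 8, 6, 10, 7] [] [⟨3717, [], []⟩],
  .tm 30 [8, 4, 8, 6, 10, 8, 15] [] [⟨2998, [8, 10, 8, 6, 10, 8, 7, 10, 8, 2, 4, 6], [5953, 6003, 5953]⟩, ⟨3265, [6, 10, 4, 8], [6600, 6600, 6646]⟩, ⟨3283, [8, 12, 7, 10, 8, 6, 10, 8, 2, 7], []⟩],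
  .tm 1 [8, 12, 8, 10, 8, 4, 8, 6, 10, 2, 8, 6] [] [⟨3719, [], []⟩],
  .tm 17 [7, 10, 8, 10, 4, 8, 2, 10, 4, 6] [] [⟨3040, [12, 10, 8, 6, 10, 4, 8, 6, 10, 4], [5952]⟩, ⟨3265, [12, 7, 10, 2], [6601]⟩, ⟨3267, [8, 7, 10, 8, 10, 4, 8, 2, 15, 6], []⟩],
  .tm 1 [8, 10, 8, 6, 10, 8, 4, 8, 10, 4, 7] [] [⟨3721, [], []⟩],
  .tm 6 [8, 4, 8, 10, 8, 7, 10, 4, 8, 2, 10, 4, 6] [] [⟨3003, [12, 7, 10, 8, 6, 10, 4, 8, 0, 15, 6], []⟩, ⟨3265, [10, 8, 7, 10, 2], [6600, 6646, 6528]⟩, ⟨3294, [8, 12, 4, 8, 7, 10, 2, 8, 10, 7], []⟩],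
  .tm 1 [15, 7] [] [⟨3723, [], []⟩],
  .tm 15 [7, 10, 8, 6, 10, 4, 8, 2, 15, 4, 6] [] [⟨2998, [4, 8, 10, 8, 6, 10, 8, 0, 15, 6], [5953, 6003, 5953]⟩, ⟨3265, [6, 10, 4, 8, 2], [6600]⟩, ⟨3334, [8, 6, 10, 8, 10], []⟩],
  .tm 1 [12, 10, 4, 8, 6, 10, 8, 7, 10, 8, 4, 7] [] [⟨3725, [], []⟩],
  .tm 15 [8, 12, 8, 4, 8, 7, 10, 8, 15, 4] [] [⟨2998, [4, 8, 4, 8, 7, 10, 8, 6, 10, 8, 6, 10, 7], []⟩, ⟨3265, [10, 4, 8, 10], [6601, 6601, 6646]⟩, ⟨3320, [12, 8, 10, 8, 6, 10, 8, 4, 2, 8, 15, 4, 7], []⟩],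
  .tm 1 [8, 12, 10, 8, 4, 8, 0, 4] [] [⟨3727, [], []⟩],
  .tm 22 [12, 8, 7, 10, 8, 7, 10, 4, 8] [] [⟨3316, [6, 10, 8, 6, 10, 8, 4, 8, 6, 10, 4, 7], [6002]⟩, ⟨3265, [4, 8, 10, 4, 8, 12, 4, 8, 4], [6528, 6647, 6600]⟩, ⟨3724, [8, 12, 8, 6, 10, 8, 7, 10, 4, 8, 2, 10, 6], []⟩],
  .tm 1 [12, 8, 4, 8, 10, 8, 6, 10, 4, 8, 15, 7] [] [⟨3729, [], []⟩],
  .tm 22 [12, 10, 8, 7, 10, 4, 8, 2, 15, 4, 7] [] [⟨3034, [12, 10, 4, 8, 6, 10, 4, 8, 10, 6], [5952]⟩, ⟨3265, [4, 8, 10, 8, 12, 7, 10, 8, 4], [6600, 6646]⟩, ⟨3319, [6, 10, 8, 4, 8, 6, 10, 8, 2, 6, 10, 4, 6], []⟩],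
  .tm 1 [10, 8, 10, 4, 8, 6, 10, 2, 8, 15] [] [⟨3731, [], []⟩],
  .tm 34 [8, 7, 10, 8, 7, 10, 4, 8, 6, 10, 6] [] [⟨3167, [8, 12, 10, 8, 6, 10, 8, 7, 10, 4, 8, 4, 6], [6033, 6033]⟩, ⟨3265, [4, 8, 4, 8, 6, 10], [6600, 6646, 6528]⟩, ⟨3294, [8, 12, 8, 7, 10, 8, 6, 10, 8, 2, 6, 10, 4, 7], []⟩],
  .tm 1 [8, 12, 8, 6, 10, 8, 4, 8, 10, 8, 2, 10, 7] [] [⟨3733, [], []⟩],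
  .tm 24 [12, 6, 10, 8, 7, 10, 8, 15] [] [⟨3316, [8, 2, 7], [6003, 5952]⟩, ⟨3265, [10, 8, 4], [6601, 6647]⟩, ⟨3696, [8, 12, 8, 4, 8, 4], []⟩],
  .tm 1 [8, 12, 7, 10, 8, 4, 8, 6, 10, 8, 0, 10] [] [⟨3735, [], []⟩],
  .tm 3 [7, 10, 4, 8, 10, 4, 6] [] [⟨3267, [8, 12, 7], [6600, 6646, 6600]⟩, ⟨3714, [12, 4, 8, 6, 10, 8, 7, 10, 4, 8, 15, 4, 7], []⟩],
  .tm 1 [12, 8, 4, 8, 10, 4, 8, 7, 10, 8, 2, 4, 6] [] [⟨3737, [], []⟩],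
  .tm 22 [8, 10, 8, 4, 8, 0, 15, 6] [] [⟨3421, [8, 7, 10, 8, 6, 10, 8, 15, 4, 7], [269]⟩, ⟨3269, [10, 8, 6, 10, 4, 8, 10, 2], [6528, 6647]⟩, ⟨3698, [8, 12, 10, 8, 6, 10, 8, 6, 10], []⟩],
  .tm 1 [12, 10, 8, 10, 4, 8, 7, 10, 8, 6, 10, 7] [] [⟨3739, [], []⟩],
  .dfn,
  .tm 1 [] [] [⟨3741, [], []⟩],
  .tm 0 [] [] [⟨3741, [], [85, 86]⟩, ⟨3741, [9, 13, 9], []⟩],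
  .tm 0 [] [] [⟨3741, [], [116, 90, 82]⟩, ⟨3741, [5, 9, 11, 7, 9, 5, 9, 13, 9], []⟩],
  .tm 2 [] [] [⟨3741, [7], [116, 116, 88]⟩, ⟨597, [12, 7, 10, 8, 6, 10, 4, 8, 2, 15], []⟩],
  .tm 1 [8, 12, 8, 6, 10, 8, 6, 10, 4, 6] [] [⟨3745, [], []⟩],
  .tm 4 [7] [] [⟨3741, [6], [140, 140]⟩, ⟨2854, [12, 10, 8, 4, 8, 10, 8, 6, 10, 8, 0, 7], []⟩],
  .tm 1 [7, 10, 8, 10, 8, 4, 8, 7, 10, 8, 6, 10, 4] [] [⟨3747, [], []⟩],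
  .tm 3 [6] [] [⟨3741, [6, 10, 6], [117, 84, 141]⟩, ⟨110, [8, 12, 8, 4, 8, 10, 8, 6, 10, 4, 8, 2, 15, 4, 6], []⟩],
  .tm 1 [12, 10, 8, 4, 8, 10, 8, 7, 10, 8, 0, 4, 6] [] [⟨3749, [], []⟩],
  .tm 3 [6] [] [⟨3741, [7, 10, 6], [116, 140]⟩, ⟨2613, [12, 10, 8, 10, 4, 7], []⟩],
  .tm 1 [8, 12, 10, 4, 8, 6, 10, 8, 7, 10, 8, 15, 6] [] [⟨3751, [], []⟩],
  .tm 3 [12, 0, 7] [] [⟨3741, [12, 10, 6], [90, 88, 84]⟩, ⟨597, [7, 10, 4, 2, 8, 6, 10], []⟩],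
  .tm 1 [10, 8, 7, 10, 8, 0, 10, 6] [] [⟨3753, [], []⟩],
  .tm 3 [6] [] [⟨3741, [6, 10, 7], [84, 116]⟩, ⟨3081, [8, 10, 8, 6, 10, 4, 2, 8, 15, 7], []⟩],
  .tm 1 [8, 10, 4, 8, 6, 10, 8, 4, 8, 10, 7] [] [⟨3755, [], []⟩],
  .tm 3 [] [] [⟨3741, [12, 10, 7], [90, 117, 88]⟩, ⟨597, [8, 6, 10, 4, 8, 7, 10, 8, 10, 4, 7], []⟩],
  .tm 1 [12, 7, 10, 8, 4, 2, 8, 6, 10, 4, 6] [] [⟨3757, [], []⟩],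
  .tm 5 [] [] [⟨3741, [12, 6, 10], [141, 117]⟩, ⟨2854, [8, 4, 8, 10, 8, 4, 8, 2, 10, 4, 6], []⟩, ⟨3754, [12, 8, 10, 8, 6, 10, 4, 8, 6, 10, 4], []⟩],
  .tm 3 [6, 10, 4] [] [⟨3741, [6, 10, 6, 4], [90, 140, 116, 84]⟩, ⟨3533, [8, 2, 6, 10, 4], []⟩],
  .tm 1 [8, 12, 6, 10, 8, 6, 10, 8, 4, 8, 2, 6, 10, 4, 6] [] [⟨3760, [], []⟩],
  .tm 3 [7] [] [⟨3741, [7, 10, 6, 4], [141, 117]⟩, ⟨2495, [8, 7, 10, 8, 2, 15, 4], []⟩],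
  .tm 1 [6, 10, 8, 7, 10, 8, 10, 4, 7] [] [⟨3762, [], []⟩],
  .tm 3 [] [] [⟨3741, [6, 10, 7, 4], [140, 117, 82]⟩, ⟨126, [8, 12, 6, 10, 8, 10, 8, 4, 8, 6, 10, 6], []⟩],
  .tm 1 [8, 12, 7, 10, 4, 8, 0, 6, 10, 4] [] [⟨3764, [], []⟩],
  .tm 3 [7, 10, 8, 15] [] [⟨3741, [8, 12, 10, 7], [140, 116, 88, 82]⟩, ⟨2086, [12, 10, 4, 8, 6, 10, 8, 0, 15, 4], []⟩],
  .tm 1 [8, 12, 8, 7, 10, 8, 6, 10, 8, 2, 10] [] [⟨3766, [], []⟩],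
  .tm 3 [12, 0] [] [⟨3741, [12], [84, 82]⟩, ⟨3741, [12, 8, 10, 4, 8, 7, 10, 8, 0, 6, 10], []⟩],
  .tm 9 [8, 12, 10, 8, 6, 10, 2, 8, 6, 10, 4, 7] [] [⟨1961, [12, 4, 8, 6, 10, 8, 4, 8, 15, 4], [269, 267]⟩, ⟨3745, [8, 12, 4], []⟩],
  .tm 1 [12, 4, 8, 10, 4, 8, 6, 10, 8, 2, 6] [] [⟨3769, [], []⟩],
  .tm 9 [8, 6, 10, 4, 8, 2, 4] [] [⟨1822, [8, 12, 8, 10, 8, 7, 10, 8, 6, 10, 4, 2, 8, 15, 4], []⟩, ⟨3745, [6, 10, 6], []⟩],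
  .tm 1 [8, 7, 10, 4, 8, 4, 7] [] [⟨3771, [], []⟩],
  .tm 9 [6, 10, 8, 7, 10, 4, 8, 0, 7] [] [⟨2368, [8, 10, 4, 8, 7, 10, 8, 6, 10, 8, 2, 15, 4], [269]⟩, ⟨3745, [6, 10, 7], []⟩],
  .tm 1 [7, 10, 8, 10, 4, 8, 2, 6, 10] [] [⟨3773, [], []⟩],
  .tm 9 [10] [] [⟨532, [4, 8, 10, 8, 6, 10, 2, 8, 6, 10], [267, 269, 267]⟩, ⟨3745, [8, 12, 7], []⟩],
  .tm 1 [12, 6, 10, 7] [] [⟨3775, [], []⟩],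
  .tm 9 [8, 4, 8, 10, 8, 0, 6, 10] [] [⟨1755, [8, 12, 8, 10, 8, 10, 4, 8, 6, 10, 8, 10, 4, 6], [269, 267]⟩, ⟨3745, [8, 12, 10], []⟩],
  .tm 1 [6, 10, 8, 7, 10, 4, 8, 4, 7] [] [⟨3777, [], []⟩],
  .tm 9 [10, 8, 10, 4, 8, 10, 4, 6] [] [⟨519, [8, 6, 10, 4, 2, 8, 10, 4, 7], [267, 269, 267]⟩, ⟨3745, [6, 10, 7, 4], []⟩],
  .tm 1 [6, 10, 8, 10, 4, 8, 2, 10, 4, 6] [] [⟨3779, [], []⟩],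
  .tm 9 [12, 10, 8, 6, 10, 4, 8, 7, 10, 8, 10, 4, 7] [] [⟨1611, [8, 12, 10, 8, 7, 10, 8, 6, 10, 8, 10, 4, 7], [269, 267]⟩, ⟨3745, [8, 12, 7, 4], []⟩],
  .tm 1 [8, 12, 10, 8, 7, 10, 8, 0, 15, 6] [] [⟨3781, [], []⟩],
  .tm 9 [12, 10, 8, 7, 10, 4, 8, 6, 10, 8, 2, 6, 10, 4, 6] [] [⟨576, [12, 6, 10, 8, 7, 10, 4, 8, 6, 10, 8, 15, 4], []⟩, ⟨3745, [8, 12, 10, 4], []⟩],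
  .tm 1 [8, 12, 6, 10, 8, 7, 10, 8, 4, 8, 15, 4] [] [⟨3783, [], []⟩],
  .tm 45 [] [] [⟨3754, [12, 8, 6, 10, 8, 4, 8, 6, 10, 8, 2, 4], [267]⟩, ⟨382, [10, 8, 4, 8, 6, 10, 8, 7, 10, 8, 10, 7], [269]⟩, ⟨3745, [12, 8, 4, 8, 10, 4], [7489]⟩, ⟨3768, [12, 8, 7, 10, 8, 4, 8, 10, 8, 4, 6], []⟩],
  .tm 17 [4, 8, 10, 8, 6, 10, 4, 8, 2, 6, 10, 7] [] [⟨3758, [10, 4, 8, 7, 10, 4, 8, 6, 10], [269]⟩, ⟨3745, [10, 4, 8, 10], [7489, 7486]⟩, ⟨3762, [4, 8, 6, 10, 8, 7, 10, 8, 15, 4], []⟩],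
  .tm 1 [12, 8, 7, 10, 8, 10, 4, 8, 15, 7] [] [⟨3786, [], []⟩],
  .tm 20 [8, 12, 8, 6, 10, 8, 10, 4, 8, 6, 10, 4, 6] [] [⟨3758, [8, 10, 8, 4, 2, 8, 6, 10, 4, 7], [269]⟩, ⟨3745, [10, 4, 8, 10, 4], [7489, 7486]⟩, ⟨3755, [10, 8, 6, 10, 2, 8, 6, 10, 7], []⟩],
  .tm 1 [8, 12, 8, 4, 8, 7, 10, 8, 2, 6, 10, 4, 6] [] [⟨3788, [], []⟩],
  .tm 22 [12, 8, 6, 10, 8, 10, 4, 8, 2, 6] [] [⟨3758, [8, 10, 8, 6, 10, 8, 10, 4, 8, 2, 10, 4, 7], [269]⟩, ⟨3745, [8, 10, 4, 8, 10, 2], [7570, 7518]⟩, ⟨3762, [8, 12, 6, 10, 8, 4, 8, 10, 8, 6, 10], []⟩],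
  .tm 1 [12, 4, 8, 6, 10, 8, 7, 10, 8, 10, 7] [] [⟨3790, [], []⟩],
  .tm 11 [12, 10, 8, 7, 10, 8, 6, 10, 4, 2, 8, 15, 4, 7] [] [⟨3773, [4, 8, 4, 8, 10, 8, 6, 10, 8, 6], []⟩, ⟨3745, [12, 10, 8, 4, 8], [7518, 7486]⟩, ⟨3755, [10, 8, 6, 10, 2, 8, 6, 10, 7], []⟩],
  .tm 1 [8, 12, 8, 6, 10, 8, 4, 8, 2, 6, 10] [] [⟨3792, [], []⟩],
  .tm 16 [12, 8, 10, 8, 7, 10, 4, 8, 6, 10, 8, 15, 4] [] [⟨3773, [10, 8, 10, 8, 4, 8, 2, 15, 4], []⟩, ⟨3745, [12, 10, 4, 8], [7518]⟩, ⟨3764, [10, 8, 7, 10, 8, 2, 15, 7], []⟩],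
  .tm 1 [12, 4, 8, 6, 10, 4, 8, 2, 6, 10, 4, 7] [] [⟨3794, [], []⟩],
  .tm 27 [7, 10, 8, 10, 8, 4, 8, 10, 4] [] [⟨3781, [12, 4, 8, 6, 10, 8, 7, 10, 4, 2, 8, 10, 4, 7], [267]⟩, ⟨3745, [7, 10, 8, 12, 8, 6, 10, 0], [7519, 7489]⟩, ⟨3792, [12, 6, 10, 8, 7, 10, 8, 15, 4, 7], []⟩],
  .tm 1 [8, 12, 8, 6, 10, 8, 7, 10, 8, 15, 6] [] [⟨3796, [], []⟩],
  .tm 27 [8, 12, 4, 7] [] [⟨3773, [8, 12, 7, 10, 8, 0, 6, 10, 7], []⟩, ⟨3745, [12, 10, 2, 0], [7489, 7570, 7488]⟩, ⟨3749, [8, 12, 7, 10, 8, 4, 8, 10, 8, 2, 10, 7], []⟩],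
  .tm 1 [8, 12, 8, 4, 8, 10, 8, 7, 10, 2, 8, 15, 4, 7] [] [⟨3798, [], []⟩],
  .tm 11 [8, 12, 8, 7, 10, 8, 4, 8, 6, 10, 8, 0, 15, 4] [] [⟨3798, [12, 8, 7, 10, 8, 6, 10, 4, 8, 15, 4, 6], [7571, 7519]⟩, ⟨3746, [12, 6, 10, 2, 8, 4], [266]⟩, ⟨3758, [7, 10, 8, 4, 8, 6, 10, 2, 8, 6, 10], []⟩],
  .tm 1 [8, 10, 8, 7, 10, 8, 2, 6, 10, 4, 7] [] [⟨3800, [], []⟩],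
  .tm 9 [12, 10, 2, 8, 4, 7] [] [⟨1049, [4, 8, 4, 6], [267, 269, 267]⟩, ⟨3747, [8, 12, 7, 10, 6], []⟩],
  .tm 1 [8, 12, 8, 4, 8, 0, 6, 10, 4, 6] [] [⟨3802, [], []⟩],
  .tm 9 [8, 12, 8, 6, 10, 8, 7, 10, 4, 8, 7] [] [⟨2263, [6, 10, 8, 7, 10, 8, 6, 10, 4, 8, 15, 4], [269]⟩, ⟨3747, [8, 12, 6, 10, 7], []⟩],
  .tm 1 [8, 12, 10, 8, 6, 10, 8, 4, 8, 0, 7] [] [⟨3804, [], []⟩],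
  .tm 9 [8, 10, 4, 8, 10, 6] [] [⟨3779, [4, 8, 7, 10, 4, 8, 6, 10, 8, 2, 10], [269, 267]⟩, ⟨3747, [], []⟩],
  .tm 30 [8, 12, 6, 10, 8, 7, 10, 8, 4, 8, 15, 4, 7] [] [⟨3758, [12, 6, 10, 4, 8, 7, 10, 8, 6, 10, 4], []⟩, ⟨3747, [12, 7, 10], [7486]⟩, ⟨3770, [7, 10, 8, 6, 10, 4, 8, 4, 7], []⟩],
  .tm 1 [12, 7, 10, 4, 8, 0, 15, 4, 6] [] [⟨3807, [], []⟩],
  .tm 30 [8, 10, 4, 8, 6, 10, 8, 7, 10, 4, 8, 2, 6, 10] [] [⟨3758, [12, 4, 8, 10, 2, 8, 4, 6], []⟩, ⟨3747, [12, 7, 10, 8], [7488, 7486]⟩, ⟨3776, [12, 8, 4, 8, 10, 8, 4, 8, 2], []⟩],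
  .tm 1 [12, 8, 6, 10, 8, 7, 10, 4, 8, 2, 7] [] [⟨3809, [], []⟩],
  .tm 30 [8, 6, 10, 8, 4, 8, 10, 4, 6] [] [⟨3758, [12, 6, 10, 8, 10, 4, 8, 2, 15, 4, 7], []⟩, ⟨3747, [12, 10, 8, 6, 10], [7488, 7486]⟩, ⟨3782, [4, 8, 10, 8, 6, 10, 8, 0, 6, 10], []⟩],
  .tm 1 [12, 8, 10, 8, 7, 10, 8, 6, 10, 8, 4] [] [⟨3811, [], []⟩],
  .tm 30 [8, 10, 8, 4, 8, 6, 10, 8, 2, 6, 10, 4] [] [⟨3758, [12, 4, 8, 10, 4, 8, 6], []⟩, ⟨3747, [12, 7, 10, 4, 8, 4], []⟩, ⟨3778, [7, 10, 8, 6, 10, 8, 4, 8, 6, 10, 6], []⟩],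
  .tm 1 [12, 8, 10, 8, 6, 10, 8, 10, 4, 8, 2, 6, 10, 4] [] [⟨3813, [], []⟩],
  .tm 30 [6, 10, 8, 4, 8, 10, 4] [] [⟨3758, [12, 10, 8, 10, 4, 8, 6, 10, 8, 2, 6, 10, 4, 7], []⟩, ⟨3747, [12, 4, 8, 7, 10, 4], [7486]⟩, ⟨3774, [10, 8, 6, 10, 8, 7, 10, 8, 6, 10, 6], []⟩],
  .tm 1 [12, 8, 10, 8, 7, 10, 8, 2, 6] [] [⟨3815, [], []⟩],
  .tm 30 [10, 8, 10, 4, 8, 7, 10, 2, 8, 10, 4] [] [⟨3758, [12, 4, 8, 4, 8, 10, 8, 6, 10, 8, 2, 10, 6], []⟩, ⟨3747, [12, 10, 8, 6, 10, 8], [7488, 7486]⟩, ⟨3772, [10, 8, 7, 10, 2, 8, 15, 6], []⟩],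
  .tm 1 [8, 4, 8, 10, 8, 6, 10, 8, 15, 7] [] [⟨3817, [], []⟩],
  .tm 30 [4, 8, 10, 8, 7, 10, 2, 8, 15, 4, 7] [] [⟨3758, [12, 10, 8, 2, 7], []⟩, ⟨3747, [12, 10, 4, 8, 6, 10, 4], [7486]⟩, ⟨3780, [8, 10, 8, 4, 8, 2, 10, 4, 6], []⟩],
  .tm 1 [12, 8, 6, 10, 8, 4, 8] [] [⟨3819, [], []⟩]]

theorem fc3713 : checkL (nat_lit 12) (nat_lit 4095) tH tK tK' BB FF TM XW d3713 (nat_lit 3713) = true := by decide +kernel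

def d3821 : List Der := [.tm 30 [8, 10, 4, 8, 2, 10, 4, 6] [] [⟨3758, [12, 8, 4, 8, 10, 8, 6, 10, 4, 8, 0, 10, 6], []⟩, ⟨3747, [12, 10, 8, 6, 10, 4, 8, 4], [7486]⟩, ⟨3784, [12, 10, 8, 10, 8, 4, 8, 7, 10, 8, 2, 10, 4, 6], []⟩],
  .tm 1 [12, 8, 10, 8, 6, 10, 8, 7, 10, 8, 2, 15, 6] [] [⟨3821, [], []⟩],
  .tm 17 [8, 12, 4, 8, 6, 10, 8, 2, 10, 4, 7] [] [⟨3804, [8, 12, 8, 7, 10, 4, 8, 6, 10, 8, 2, 6], [267]⟩, ⟨3747, [10, 4, 8, 12, 6, 10, 4], [7486]⟩, ⟨3780, [8, 10, 8, 6, 10, 8, 10, 4, 8, 15, 4, 6], []⟩],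
  .tm 1 [12, 6, 10, 4, 8, 6, 10, 7] [] [⟨3823, [], []⟩],
  .tm 17 [12, 8, 4, 8, 7, 10, 8, 6, 10, 4, 7] [] [⟨3808, [8, 12, 7, 10, 8, 4, 8, 0], [269, 267]⟩, ⟨3747, [6, 10, 8, 12, 4], []⟩, ⟨3778, [4, 8, 10, 8, 6, 10, 4, 2, 8, 6, 10, 4, 7], []⟩],
  .tm 1 [8, 12, 4, 8, 7, 10, 8, 2, 15, 7] [] [⟨3825, [], []⟩],
  .tm 37 [8, 12, 8, 4, 8, 10, 8, 15, 4, 7] [] [⟨3808, [8, 12, 8, 7, 10, 8, 6, 10, 8, 4, 8, 0, 10, 6], [267]⟩, ⟨3747, [7, 10, 8, 10, 4, 2], [7519, 7570]⟩, ⟨3790, [8, 10, 4, 8, 6, 10, 8, 7, 10, 4, 8, 2, 4], []⟩],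
  .tm 1 [12, 10, 8, 7, 10, 8, 6, 10, 4, 8, 0, 15, 4] [] [⟨3827, [], []⟩],
  .tm 20 [12, 8, 10, 4, 8, 7, 10, 8, 0, 7] [] [⟨3808, [8, 12, 8, 10, 8, 7, 10, 8, 0, 6, 10, 4, 7], [269, 267]⟩, ⟨3747, [6, 10, 8, 12], [7488, 7486]⟩, ⟨3776, [12, 8, 4, 8, 7, 10, 8, 4, 8, 15, 6], []⟩],
  .tm 1 [4, 8, 10, 8, 7, 10, 4, 8] [] [⟨3829, [], []⟩],
  .tm 20 [8, 12, 10, 4, 8, 6, 10, 8, 7, 10, 4, 8, 6, 10, 6] [] [⟨3804, [8, 12, 8, 4, 8, 10, 8, 7, 10, 8, 7], [267]⟩, ⟨3747, [10, 4, 8, 12, 6, 10], [7488, 7486]⟩, ⟨3782, [8, 10, 4, 8, 7, 10, 2, 8, 15, 6], []⟩],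
  .tm 1 [8, 12, 10, 8, 0, 6, 10, 4, 7] [] [⟨3831, [], []⟩],
  .tm 22 [12, 8, 10, 8, 7, 10, 8, 4, 8, 0, 15, 4] [] [⟨3808, [8, 12, 8, 10, 8, 7, 10, 8, 6, 10, 4, 8, 6], [267]⟩, ⟨3747, [10, 4, 8, 6, 10, 8, 6, 10], [7570]⟩, ⟨3821, [12, 8, 0, 15, 6], []⟩],
  .tm 1 [12, 8, 6, 10, 8, 6, 10, 8, 4, 8, 15] [] [⟨3833, [], []⟩],
  .tm 22 [8, 10, 8, 4, 8, 7, 10, 8, 10, 4] [] [⟨3808, [8, 12, 8, 10, 8, 7, 10, 8, 6, 10, 4, 6], [267]⟩, ⟨3747, [10, 4, 8, 6, 10, 8, 6, 10, 0], [7571, 7488]⟩, ⟨3772, [12, 10, 8, 7, 10, 8, 6, 10, 8, 2, 10], []⟩],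
  .tm 1 [10, 8, 4, 8, 10, 8, 6, 10, 8, 0, 15] [] [⟨3835, [], []⟩],
  .tm 22 [8, 12, 8, 4, 8, 10, 8, 2, 6, 10, 4, 7] [] [⟨3804, [8, 12, 8, 10, 8, 6, 10, 8, 7, 10, 4, 8], [267]⟩, ⟨3747, [10, 8, 12, 10, 4, 8, 7, 10, 2], [7570, 7489, 7519]⟩, ⟨3835, [8, 12, 4, 8, 10, 4, 8, 7, 10, 8, 2, 6], []⟩],
  .tm 1 [12, 4, 8, 6, 10, 4, 8, 7, 10, 8, 2, 6, 10, 4, 7] [] [⟨3837, [], []⟩],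
  .tm 22 [8, 10, 8, 7, 10, 8, 10, 4, 8, 2, 15, 6] [] [⟨3804, [8, 12, 8, 10, 8, 6, 10, 8, 15, 4], [269, 267]⟩, ⟨3747, [12, 10, 8, 4, 8, 12, 7, 10, 4], [7570, 7488, 7518]⟩, ⟨3798, [8, 12, 10, 8, 2, 4], []⟩],
  .tm 1 [8, 12, 4, 8, 7, 10, 8, 4, 8, 2, 6, 10, 4, 6] [] [⟨3839, [], []⟩],
  .tm 22 [8, 10, 8, 7, 10, 8, 10, 4, 8, 2, 15, 6] [] [⟨3804, [8, 12, 8, 10, 8, 6, 10, 8, 0, 15, 4], [269, 267]⟩, ⟨3747, [10, 8, 4, 8, 7, 10, 4, 8, 4, 2], [7489, 7571, 7488]⟩, ⟨3778, [8, 12, 7, 10, 8, 6, 10, 4, 8, 0, 15, 4], []⟩],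
  .tm 1 [8, 12, 4, 8, 10, 8, 6, 10, 8, 4, 6] [] [⟨3841, [], []⟩],
  .tm 22 [10, 8, 4, 8, 6, 10, 8, 2, 6, 10, 4, 7] [] [⟨3804, [8, 12, 8, 10, 8, 6, 10, 8, 7, 10, 4, 8, 0], [269, 267]⟩, ⟨3747, [10, 4, 8, 4, 8, 7, 10, 8, 4, 2], [7570, 7518, 7488]⟩, ⟨3813, [12, 8, 10, 8, 10, 4, 8, 6, 10, 8, 2, 15, 4], []⟩],
  .tm 1 [10, 8, 6, 10, 8, 10, 4, 8, 2, 6, 10, 4, 6] [] [⟨3843, [], []⟩],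
  .tm 11 [12, 7, 10, 8, 4, 8, 10, 4] [] [⟨3746, [8, 12, 10, 8, 4, 8, 4, 6], [269]⟩, ⟨3747, [4, 8, 10, 8, 12, 7, 10, 4, 2], [7488, 7519, 7486]⟩, ⟨3770, [8, 4, 8, 10, 8, 7, 10, 4, 2, 8, 7], []⟩],
  .tm 1 [8, 12, 6, 10, 4, 8, 7, 10, 8, 15, 4] [] [⟨3845, [], []⟩],
  .tm 11 [12, 4, 8, 7, 10, 8, 10, 4, 6] [] [⟨3746, [8, 12, 10, 4, 8, 6, 10, 8, 6], [267]⟩, ⟨3747, [7, 10, 8, 7, 10, 8, 4, 8, 2], [7489, 7518]⟩, ⟨3790, [8, 12, 10, 4, 8, 6, 10, 8, 7, 10, 8, 7], []⟩],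
  .tm 1 [10, 4, 8, 6, 10, 4, 8, 6, 10, 4, 7] [] [⟨3847, [], []⟩],
  .tm 11 [12, 8, 7, 10, 8, 4, 8, 0, 6, 10, 6] [] [⟨3848, [12, 7, 10, 8, 2, 4], [269, 267]⟩, ⟨3747, [8, 7, 10, 4, 8, 12, 8, 10, 2], [7488, 7519]⟩, ⟨3778, [4, 8, 10, 4, 8, 6, 10, 2, 8, 6, 10, 4, 7], []⟩],
  .tm 1 [8, 12, 7, 10, 8, 4, 8, 7, 10, 8, 15, 4, 6] [] [⟨3849, [], []⟩],
  .tm 11 [8, 12, 8, 10, 8, 6, 10, 8, 4, 8, 0, 6, 10, 4, 7] [] [⟨3769, [8, 12, 8, 4, 8, 0, 4, 6], [267]⟩, ⟨3747, [8, 6, 10, 4, 8, 12, 10, 8, 4], [7571]⟩, ⟨3747, [12, 8, 10, 8, 0, 15, 4, 7], []⟩],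
  .tm 1 [12, 10, 4, 8, 6, 10, 8, 7, 10, 4, 8, 2, 6] [] [⟨3851, [], []⟩],
  .tm 11 [8, 12, 8, 0, 10, 6] [] [⟨3810, [12, 10, 4, 8, 7, 10, 8, 7], []⟩, ⟨3747, [7, 10, 4, 8, 10, 8, 12, 8, 4, 0], [7488, 7519, 7488]⟩, ⟨3782, [8, 10, 4, 8, 7, 10, 8, 4, 8, 15, 4, 6], []⟩],
  .tm 1 [10, 8, 7, 10, 8, 6, 10, 4, 8, 10, 6] [] [⟨3853, [], []⟩],
  .tm 11 [12, 2, 0, 15, 4, 7] [] [⟨3810, [12, 7, 10, 8, 6, 10, 8, 7, 10, 4, 8, 15, 4, 7], [269]⟩, ⟨3747, [10, 8, 4, 8, 10], [7519, 7570]⟩, ⟨3790, [8, 10, 8, 0, 15, 4, 7], []⟩],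
  .tm 1 [12, 10, 8, 6, 10, 4, 8, 0, 6, 10] [] [⟨3855, [], []⟩],
  .tm 11 [12, 7, 10, 4, 8, 6, 10, 8, 2, 15, 4, 6] [] [⟨3769, [4, 8, 0, 4, 6], [269, 267]⟩, ⟨3747, [6, 10, 8, 4, 8, 4], [7489, 7571, 7489]⟩, ⟨3841, [7, 10, 4, 8, 0, 10, 4], []⟩],
  .tm 1 [12, 8, 10, 4, 8, 7, 10, 8, 4, 8, 2, 15, 6] [] [⟨3857, [], []⟩],
  .tm 11 [8, 12, 8, 6, 10, 8, 4, 8, 6, 10, 8, 2, 15, 4, 6] [] [⟨3818, [6, 10, 8, 10, 8, 4, 8, 6, 10, 8, 2, 7], [267]⟩, ⟨3747, [12, 6, 10, 8, 7, 10], [7488, 7519, 7488]⟩, ⟨3782, [8, 4, 8, 10, 4, 8, 7, 10, 8, 2, 15, 4, 7], []⟩],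
  .tm 1 [8, 12, 6, 10, 4, 8, 2, 7] [] [⟨3859, [], []⟩],
  .tm 11 [12, 10, 8, 4, 8, 2, 15, 4] [] [⟨3763, [12, 4, 8, 10, 8, 7, 10, 8, 2, 10, 4, 6], [267]⟩, ⟨3747, [8, 12, 10, 8, 10, 4, 2], [7570, 7488]⟩, ⟨3790, [10, 4, 8, 7, 10, 4, 8, 4, 7], []⟩],
  .tm 1 [6, 10, 4, 8, 7, 10, 8, 2, 4] [] [⟨3861, [], []⟩],
  .tm 11 [10, 4, 8, 7, 10, 8, 6, 10, 8, 4, 7] [] [⟨3802, [8, 7, 10, 8, 10, 4, 8, 2, 4, 6], [267, 269]⟩, ⟨3747, [12, 10, 2, 8, 7, 10, 4], [7518, 7571, 7488]⟩, ⟨3747, [12, 6, 10, 4, 8, 0, 6], []⟩],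
  .tm 1 [6, 10, 8, 4, 8, 2, 15, 4, 7] [] [⟨3863, [], []⟩],
  .tm 11 [12, 10, 8, 7, 10, 8, 6, 10, 4, 8, 2, 6] [] [⟨3862, [8, 10, 8, 7, 10, 8, 6, 10, 8, 10, 6], [267]⟩, ⟨3747, [8, 7, 10, 2, 8, 12, 4], [7519, 7488, 7486]⟩, ⟨3762, [10, 4, 8, 7, 10, 8, 4, 8, 15, 7], []⟩],
  .tm 1 [8, 12, 4, 8, 10, 8, 6, 10, 8, 15, 4] [] [⟨3865, [], []⟩],
  .tm 11 [12, 4, 8, 10, 8, 4, 8, 7, 10, 8, 10, 4, 7] [] [⟨3848, [8, 12, 8, 10, 8, 4, 8, 6, 10, 8, 2, 6, 10, 4], [267]⟩, ⟨3747, [7, 10, 8, 10, 8, 4, 8], [7519, 7570]⟩, ⟨3790, [8, 10, 4, 8, 6, 10, 8, 2, 15], []⟩],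
  .tm 1 [8, 10, 8, 6, 10, 4, 8, 0, 7] [] [⟨3867, [], []⟩],
  .tm 11 [12, 10, 4, 8, 7, 10, 8, 4, 8, 15, 6] [] [⟨3852, [4, 8, 10, 4, 8, 7, 10, 8, 0, 15, 6], [267, 269, 267]⟩, ⟨3747, [12, 10, 4, 2, 8, 7, 10], [7519, 7571, 7489]⟩, ⟨3747, [12, 8, 10, 4, 8, 0, 15], []⟩],
  .tm 1 [12, 4, 8, 7, 10, 4, 8] [] [⟨3869, [], []⟩],
  .tm 11 [12, 8, 7, 10, 8, 4, 8, 4] [] [⟨3810, [7, 10, 8, 10, 4, 8, 2, 4, 6], [269]⟩, ⟨3747, [8, 10, 8, 4, 8, 12, 10], [7488, 7519]⟩, ⟨3867, [8, 4, 8, 10, 8, 7, 10, 8, 0, 10, 4], []⟩],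
  .tm 1 [8, 12, 8, 10, 8, 4, 8, 10, 8] [] [⟨3871, [], []⟩],
  .tm 11 [8, 12, 8, 4, 8, 6] [] [⟨3852, [8, 12, 8, 10, 8, 4, 8, 2, 6, 10, 4, 7], [267, 269, 267]⟩, ⟨3747, [8, 12, 10, 8, 6, 10, 8, 0], [7571, 7488]⟩, ⟨3788, [12, 8, 7, 10, 4, 8, 15, 4, 7], []⟩],
  .tm 1 [7, 10, 8, 6, 10, 8, 2, 4, 7] [] [⟨3873, [], []⟩],
  .tm 12 [12, 10, 8, 4, 8, 7, 10, 2, 8, 15, 7] [] [⟨3808, [8, 12, 10, 8, 10, 8, 4, 8, 15, 7], [269, 267]⟩, ⟨3747, [7, 10, 8, 12, 10, 8, 10, 4], [7489, 7570]⟩, ⟨3847, [8, 12, 4, 8, 4, 8, 10, 8, 7, 10, 8, 2, 4], []⟩],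
  .tm 1 [8, 12, 8, 10, 4, 8, 7, 10, 8, 0, 10, 4, 6] [] [⟨3875, [], []⟩],
  .tm 13 [12, 8, 10, 4, 8, 7, 10, 8, 6, 10, 8, 2, 6, 10] [] [⟨3864, [7, 10, 8, 6, 10, 8, 4, 2, 8, 6, 10, 4], []⟩, ⟨3747, [12, 6, 10, 4, 8, 0], [7571]⟩, ⟨3747, [12, 4, 8, 7, 10, 8, 6, 10, 4, 8, 2, 4, 6], []⟩],
  .tm 1 [8, 12, 8, 4, 8, 2, 6, 10, 6] [] [⟨3877, [], []⟩],
  .tm 13 [8, 12, 10, 8, 6, 10, 8, 10, 4, 8, 2, 10] [] [⟨3864, [12, 8, 0, 15, 4, 7], [267, 269, 267]⟩, ⟨3747, [8, 6, 10, 4, 8, 10], [7519, 7570]⟩, ⟨3790, [10, 8, 7, 10, 4, 8, 6, 10, 8, 10, 7], []⟩],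
  .tm 1 [12, 8, 4, 8, 10, 8, 7, 10, 2, 8, 6, 10] [] [⟨3879, [], []⟩],
  .tm 33 [8, 10, 8, 4, 8, 7, 10, 8, 0, 6, 10, 4, 6] [] [⟨3844, [12, 8, 10, 4, 8, 7, 10, 8, 15, 7], [267]⟩, ⟨3747, [4, 8, 10, 4, 2], [7486]⟩, ⟨3784, [12, 8, 6, 10, 8, 7, 10, 4, 8, 2, 15], []⟩],
  .tm 1 [10, 4, 8, 6, 10, 8, 7, 10, 8, 10, 6] [] [⟨3881, [], []⟩],
  .tm 23 [8, 7, 10, 8, 10, 4, 8, 2, 6, 10, 6] [] [⟨3808, [8, 12, 8, 10, 8, 7, 10, 8, 6, 10, 4, 8, 6], [267]⟩, ⟨3747, [10, 4, 8, 6, 10, 8, 6, 10], [7519, 7570]⟩, ⟨3786, [8, 12, 10, 8, 6, 10, 8, 7, 10, 8, 4, 7], []⟩],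
  .tm 1 [8, 10, 4, 8, 7, 10, 8, 6, 10, 8, 2, 15, 7] [] [⟨3883, [], []⟩],
  .tm 23 [12, 10, 4, 8, 7, 10, 8, 4, 8, 6, 10, 6] [] [⟨3804, [8, 12, 8, 10, 8, 10, 4, 8, 7, 10, 8, 2, 6, 10, 6], [267]⟩, ⟨3747, [7, 10, 8, 12, 7, 10, 8, 4, 0], [7570, 7489, 7519]⟩, ⟨3857, [8, 12, 8, 10, 8, 7, 10, 8, 4, 2, 8, 15, 4, 7], []⟩],
  .tm 1 [12, 4, 8, 10, 8, 7, 10, 4, 2, 8, 6, 10] [] [⟨3885, [], []⟩],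
  .tm 23 [12, 7, 10, 8, 6, 10, 4, 8, 10, 6] [] [⟨3844, [12, 8, 6, 10, 8, 7, 10, 8, 15, 4, 7], [269, 267]⟩, ⟨3747, [10, 8, 12, 6, 10, 8, 6, 10, 2], [7571, 7519, 7489]⟩, ⟨3821, [12, 8, 10, 4, 8, 7, 10, 8, 6, 10, 8, 15, 4, 6], []⟩],
  .tm 1 [8, 7, 10, 8, 4, 8, 10, 8, 2, 6, 10, 6] [] [⟨3887, [], []⟩],
  .tm 23 [12, 4, 8, 6, 10, 8, 7, 10, 4, 2, 8, 4, 7] [] [⟨3844, [12, 8, 10, 2, 8, 10, 4], [269, 267]⟩, ⟨3747, [7, 10, 8, 12, 4, 8, 6, 10, 4], [7571, 7518, 7488]⟩, ⟨3869, [10, 8, 6, 10, 8, 7, 10, 8, 2, 6, 10, 7], []⟩],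
  .tm 1 [12, 7, 10, 8, 4, 8, 2, 10, 7] [] [⟨3889, [], []⟩],
  .tm 23 [8, 12, 4, 8, 10, 8, 7, 10, 4, 8, 7] [] [⟨3804, [8, 12, 8, 10, 8, 6, 10, 8, 15, 4], [269, 267]⟩, ⟨3747, [12, 10, 8, 4, 8, 12, 7, 10, 4], [7518, 7571, 7488]⟩, ⟨3815, [12, 8, 10, 8, 7, 10, 8, 4, 8, 2, 10, 4], []⟩],
  .tm 1 [8, 12, 6, 10, 8, 4, 8, 0, 6, 10, 7] [] [⟨3891, [], []⟩],
  .tm 23 [12, 10, 8, 10, 8, 4, 8, 7, 10, 8, 2, 4] [] [⟨3804, [8, 12, 8, 10, 8, 6, 10, 8, 7, 10, 4, 8, 0], [269, 267]⟩, ⟨3747, [10, 4, 8, 4, 8, 7, 10, 8, 4, 2], [7488, 7519, 7486]⟩, ⟨3829, [12, 10, 8, 10, 4, 8, 2, 15], []⟩],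
  .tm 1 [6, 10, 8, 4, 8, 7, 10, 8, 10, 4] [] [⟨3893, [], []⟩],
  .tm 23 [8, 6, 10, 8, 10, 4, 8, 2, 15, 4, 6] [] [⟨3844, [12, 4, 8, 10, 8, 4, 8, 7, 10, 8, 0, 15, 4, 7], [269, 267]⟩, ⟨3747, [6, 10, 8, 12, 4, 8, 7, 10, 4, 2], [7488, 7519]⟩, ⟨3798, [8, 12, 4, 8, 10, 8, 7, 10, 8, 0, 6, 10, 4], []⟩],
  .tm 1 [12, 8, 10, 8, 7, 10, 4, 8, 2, 4, 7] [] [⟨3895, [], []⟩],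
  .tm 23 [12, 4, 8, 7, 10, 8, 4, 8, 4, 7] [] [⟨3844, [12, 8, 6, 10, 8, 7, 10, 4, 8, 6, 10, 8, 2, 15, 7], [267]⟩, ⟨3747, [10, 4, 8, 6, 10, 8, 4, 8, 10, 2], [7519, 7571, 7488]⟩, ⟨3843, [12, 10, 8, 10, 4, 8, 15], []⟩],
  .tm 1 [12, 10, 8, 7, 10, 8, 2] [] [⟨3897, [], []⟩],
  .tm 23 [8, 12, 8, 6, 10, 8, 4, 8, 7, 10, 8, 0, 6, 10, 7] [] [⟨3844, [12, 8, 4, 8, 10, 8, 7, 10, 8, 15, 7], [267]⟩, ⟨3747, [4, 2, 8, 10, 4], [7489, 7571, 7488]⟩, ⟨3843, [12, 8, 10, 4, 8, 15, 4], []⟩],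
  .tm 1 [12, 10, 8, 7, 10, 8, 10, 4, 8, 2, 6, 10, 6] [] [⟨3899, [], []⟩]]

theorem fc3821 : checkL (nat_lit 12) (nat_lit 4095) tH tK tK' BB FF TM XW d3821 (nat_lit 3821) = true := by decide +kernel

def d3901 : List Der := [.tm 23 [8, 12, 7, 10, 8, 6, 10, 8, 4] [] [⟨3808, [8, 12, 7, 10, 4, 2, 8], [267]⟩, ⟨3747, [8, 6, 10, 4, 8, 10], [7488, 7570, 7489]⟩, ⟨3784, [4, 8, 10, 8, 2], []⟩],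
  .tm 1 [8, 12, 7, 10, 8, 6, 10, 8, 4, 8, 15, 4] [] [⟨3901, [], []⟩],
  .tm 23 [12, 10, 8, 6, 10, 4, 8, 2, 6, 10] [] [⟨3900, [8, 12, 0], [267]⟩, ⟨3747, [10, 8, 4, 8, 12, 10, 0], [7488, 7518]⟩, ⟨3859, [8, 12, 10, 8, 7, 10, 8, 6, 10], []⟩],
  .tm 1 [7, 10, 4, 8, 6, 10, 8, 2, 10, 4] [] [⟨3903, [], []⟩],
  .tm 16 [10, 8, 7, 10, 4, 8, 6, 10, 8, 10, 4, 6] [] [⟨3810, [12, 10, 4, 2, 8, 15, 7], [267, 269, 267]⟩, ⟨3747, [8, 7, 10, 8, 12, 8, 10, 2], [7489, 7518, 7489]⟩, ⟨3772, [8, 6, 10, 8, 7, 10, 4, 8, 6, 10, 8, 15, 4, 7], []⟩],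
  .tm 1 [12, 4, 8, 10, 8] [] [⟨3905, [], []⟩],
  .tm 16 [4, 8, 10, 4, 8, 15, 4, 6] [] [⟨3894, [12, 4, 8, 10, 8, 6, 10, 8, 7], [267, 269]⟩, ⟨3747, [8, 12, 4, 8, 10, 8, 12, 2], [7488, 7570]⟩, ⟨3853, [8, 7, 10, 8, 6, 10, 8, 2, 15, 4, 7], []⟩],
  .tm 1 [8, 12, 8, 4, 8, 10, 8, 7, 10, 2, 8, 10, 4] [] [⟨3907, [], []⟩],
  .tm 16 [10, 4, 8, 6, 10, 8, 7, 10, 4, 8, 2, 4] [] [⟨3888, [8, 12, 10, 8, 4, 8, 6, 10, 8, 7, 10, 8, 15, 7], [269, 267]⟩, ⟨3747, [4, 8, 7, 10, 4, 8, 12, 10], [7518, 7489]⟩, ⟨3770, [10, 8, 10, 4, 8, 6, 10, 8, 7, 10, 8, 10, 4], []⟩],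
  .tm 1 [8, 10, 8, 6, 10, 4, 8, 0, 6, 10, 7] [] [⟨3909, [], []⟩],
  .tm 16 [12, 10, 8, 6, 10, 4, 8, 7, 10, 8, 6, 10, 4] [] [⟨3763, [10, 8, 10, 8, 4, 8, 2, 15, 4, 6], [267]⟩, ⟨3747, [12, 8, 10, 8, 12, 8, 10, 8, 4], [7489, 7518]⟩, ⟨3790, [8, 12, 8, 6, 10, 8, 4, 8, 6, 10, 8, 2, 10, 7], []⟩],
  .tm 1 [8, 12, 4, 8, 7, 10, 8, 6, 10] [] [⟨3911, [], []⟩],
  .tm 16 [6, 10, 8, 6, 10, 4, 8, 2, 6, 10, 4] [] [⟨3746, [8, 12, 10, 8, 4, 8, 2, 4], [269]⟩, ⟨3747, [7, 10, 4, 8, 6, 10, 8, 12, 4], [7489, 7518, 7489]⟩, ⟨3776, [12, 10, 4, 8, 7, 10, 8, 10, 4, 6], []⟩],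
  .tm 1 [8, 10, 4, 8, 6, 10, 4, 8, 2, 15, 4, 6] [] [⟨3913, [], []⟩],
  .tm 16 [8, 12, 8, 4, 8, 7, 10, 8, 2, 10, 4, 7] [] [⟨3848, [12, 7, 10, 8, 4, 7], [269, 267]⟩, ⟨3747, [6, 10, 8, 4, 8, 12, 7, 10, 8, 0], [7488, 7519]⟩, ⟨3774, [8, 10, 8, 6, 10, 8, 4, 8, 6, 10, 4], []⟩],
  .tm 1 [12, 7, 10, 8, 10, 8, 4, 8, 7, 10, 8, 2, 10, 4, 7] [] [⟨3915, [], []⟩],
  .tm 16 [12, 8, 6, 10, 8, 4, 8, 6, 10, 8, 2] [] [⟨3769, [4, 2, 8, 4], [267]⟩, ⟨3747, [12, 8, 10, 8, 4, 8, 12, 7, 10, 2], [7570]⟩, ⟨3855, [7, 10, 4, 8, 2, 15], []⟩],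
  .tm 1 [12, 6, 10, 7] [] [⟨3917, [], []⟩],
  .tm 32 [6, 10, 4, 8, 2, 6, 10, 4] [] [⟨3884, [10, 8, 6, 10, 4, 8, 0, 6, 10, 4], []⟩, ⟨3747, [12, 10, 8, 6, 10, 8, 6, 10, 4, 2], [7518, 7488]⟩, ⟨3915, [4, 8, 7, 10, 8, 6, 10, 4, 8, 0, 6, 10], []⟩],
  .tm 1 [10, 8, 10, 8, 4, 8, 7, 10, 8, 2, 15, 7] [] [⟨3919, [], []⟩],
  .tm 32 [8, 12, 4, 8, 6, 10, 8, 7, 10, 4, 8, 2, 15, 4] [] [⟨3888, [8, 12, 10, 8, 4, 8, 6, 10, 8, 6, 10, 4, 7], [269]⟩, ⟨3747, [8, 10, 4, 8, 7, 10, 2], [7519, 7571, 7486]⟩, ⟨3907, [8, 12, 8, 10, 8, 2, 15, 6], []⟩],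
  .tm 1 [8, 12, 10, 8, 7, 10, 8, 6, 10, 4, 8, 2, 4, 6] [] [⟨3921, [], []⟩],
  .tm 32 [12, 7, 10, 8, 6, 10, 4, 8, 2, 6, 10, 6] [] [⟨3888, [8, 12, 8, 10, 8, 4, 8, 6, 10, 8, 6, 10, 4, 7], [269]⟩, ⟨3747, [8, 10, 4, 2, 8, 7, 10], [7519, 7571, 7488, 7486]⟩, ⟨3911, [8, 4, 8, 7, 10, 8], []⟩],
  .tm 1 [12, 10, 8, 4, 8, 7, 10, 8, 0, 6, 10, 6] [] [⟨3923, [], []⟩],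
  .tm 32 [8, 12, 6, 10, 8, 7, 10, 8, 4, 2, 8, 6, 10, 4, 6] [] [⟨3888, [8, 12, 8, 10, 8, 7, 10, 4, 2, 8, 15, 4, 6], [269]⟩, ⟨3747, [12, 8, 10, 8, 12, 6, 10, 4], [7571, 7489, 7486]⟩, ⟨3907, [8, 12, 8, 10, 8, 7, 10, 8, 4, 8, 0, 6], []⟩],
  .tm 1 [8, 12, 4, 8, 10, 8, 6, 10, 4, 8, 2, 6] [] [⟨3925, [], []⟩],
  .tm 32 [12, 8, 10, 8, 6, 10, 8, 7, 10, 8, 4, 6] [] [⟨3906, [8, 12, 10, 4, 8, 6, 10, 8, 7, 10, 8, 6, 10, 4, 6], [269, 267]⟩, ⟨3747, [4, 8, 7, 10, 4, 8, 7, 10], [7571, 7488]⟩, ⟨3790, [10, 8, 6, 10, 4, 8, 2, 15, 4, 7], []⟩],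
  .tm 1 [12, 6, 10, 8, 10, 4, 8, 15] [] [⟨3927, [], []⟩],
  .tm 32 [8, 12, 6, 10, 2, 8, 4, 7] [] [⟨3924, [12, 8, 6, 10, 8, 10, 4, 8, 10, 7], [267, 269, 267]⟩, ⟨3747, [10, 8, 12, 7, 10, 4, 8, 4, 0], [7488, 7486]⟩, ⟨3925, [10, 2, 8, 10, 6], []⟩],
  .tm 1 [8, 12, 8, 4, 8, 10, 8, 6, 10, 8, 0, 4, 6] [] [⟨3929, [], []⟩],
  .tm 32 [12, 10, 8, 4, 8, 6, 10, 2, 8, 10, 6] [] [⟨3924, [12, 8, 4, 8, 6, 10, 8, 4, 8, 4, 6], [267, 269, 267]⟩, ⟨3747, [8, 7, 10, 8, 6, 10, 8, 12, 0], [7570, 7489]⟩, ⟨3843, [12, 10, 8, 10, 8, 4, 8, 2, 15, 7], []⟩],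
  .tm 1 [12, 8, 10, 8, 7, 10, 8, 10, 4, 8, 7] [] [⟨3931, [], []⟩],
  .tm 32 [12, 8, 10, 8, 7, 10, 8, 0, 6] [] [⟨3844, [12, 6, 10, 8, 4, 8, 10, 7], [267]⟩, ⟨3747, [12, 8, 10, 8, 12, 4, 8, 10, 4], [7570, 7519, 7486]⟩, ⟨3925, [8, 10, 8, 6, 10, 2, 8, 6, 10], []⟩],
  .tm 1 [8, 10, 4, 8, 6, 10, 8, 4, 8, 10, 4, 7] [] [⟨3933, [], []⟩],
  .tm 39 [12, 8, 6, 10, 8, 6, 10, 8, 4, 8, 15, 4, 7] [] [⟨3884, [4, 8, 6, 10, 8, 7, 10, 8, 15, 4, 7], [267, 269, 267]⟩, ⟨3747, [12, 8, 4, 2], [7488, 7518]⟩, ⟨3760, [6, 10, 8, 4, 2, 8, 7], []⟩],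
  .tm 1 [4, 8, 6, 10, 4, 8, 2, 10, 4] [] [⟨3935, [], []⟩],
  .tm 35 [10, 8, 7, 10, 8, 6, 10, 4, 8, 0, 10] [] [⟨3884, [8, 4, 8, 7, 10, 8, 6, 10, 8, 2, 6, 10, 4], [267, 269, 267]⟩, ⟨3747, [12, 8, 4, 2], [7519]⟩, ⟨3753, [12, 6, 10, 8, 4, 8, 2, 10, 4], []⟩],
  .tm 1 [8, 10, 8, 6, 10, 4, 8] [] [⟨3937, [], []⟩],
  .tm 35 [12, 10, 8, 4, 8, 10, 8, 15, 7] [] [⟨3888, [8, 12, 7, 10, 8, 4, 8, 6, 10, 8, 0, 6, 10, 4, 6], [269]⟩, ⟨3747, [4, 8, 6, 10], [7488]⟩, ⟨3782, [8, 10, 8, 10, 4, 8, 7, 10, 8, 2, 10, 4], []⟩],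
  .tm 1 [8, 12, 8, 7, 10, 8, 10, 4, 8, 2, 6, 10, 4, 7] [] [⟨3939, [], []⟩],
  .tm 35 [10, 8, 7, 10, 2, 8, 10, 6] [] [⟨3924, [12, 10, 8, 7, 10, 8, 6, 10, 4, 8, 10], [267, 269, 267]⟩, ⟨3747, [8, 12, 7, 10], [7486]⟩, ⟨3774, [8, 6, 10, 4, 8, 0, 10, 6], []⟩],
  .tm 1 [6, 10, 8, 2] [] [⟨3941, [], []⟩],
  .tm 35 [12, 8, 4, 8, 10, 4, 8, 7, 10, 8, 2, 10, 4] [] [⟨3900, [8, 12, 10, 8, 10, 4, 8, 6, 10, 8, 10, 4, 7], [269, 267]⟩, ⟨3747, [12, 10, 4, 8, 10, 4], [7519, 7489]⟩, ⟨3745, [12, 10, 8, 4, 8, 7, 10, 8, 0, 4], []⟩],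
  .tm 1 [8, 12, 10, 4, 8, 7, 10, 4, 8, 2, 10, 4] [] [⟨3943, [], []⟩],
  .tm 35 [7, 10, 8, 4, 8, 7, 10, 8, 6, 10, 4, 6] [] [⟨3906, [8, 12, 2, 0], [267]⟩, ⟨3747, [7, 10, 8, 12, 8, 6, 10], []⟩, ⟨3784, [12, 10, 4, 8, 7, 10, 2, 8, 15, 6], []⟩],
  .tm 1 [8, 12, 6, 10, 8, 4, 8, 0, 7] [] [⟨3945, [], []⟩],
  .tm 24 [12, 7, 10, 4, 2, 8, 4] [] [⟨3900, [8, 12, 8, 0], [267]⟩, ⟨3747, [10, 8, 4, 8, 12, 10], [7570, 7518, 7489]⟩, ⟨3891, [], []⟩],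
  .tm 1 [10, 8, 10, 8, 4, 8, 10, 4] [] [⟨3947, [], []⟩],
  .tm 24 [8, 4, 8, 6, 10, 8, 7, 10, 8, 6, 10, 4, 7] [] [⟨3888, [8, 12, 8, 6, 10, 8, 7, 10, 4, 8, 15, 4], [267, 269]⟩, ⟨3747, [10, 8, 12, 6, 10, 4, 2], [7488]⟩, ⟨3923, [10, 4, 8, 7, 10, 8, 6, 10, 8, 2, 15, 4], []⟩],
  .tm 1 [4, 8, 7, 10, 2, 8, 10, 4, 6] [] [⟨3949, [], []⟩],
  .tm 24 [10, 8, 6, 10, 8, 7, 10, 4, 2, 8, 6, 10, 4, 6] [] [⟨3804, [8, 12, 8, 7, 10, 8, 4, 8, 7, 10, 8, 2, 6, 10, 7], [269, 267]⟩, ⟨3747, [8, 6, 10, 4, 2], [7570, 7518]⟩, ⟨3917, [12, 8, 4, 8, 7, 10, 8, 4, 8, 2, 6, 10], []⟩],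
  .tm 1 [12, 10, 8, 7, 10, 8, 6, 10, 8, 2, 6, 10, 4, 7] [] [⟨3951, [], []⟩],
  .tm 25 [8, 4, 8, 7, 10, 8, 6, 10, 4, 8, 2, 10, 4, 6] [] [⟨3946, [4, 8, 10, 4, 8, 7, 10, 8, 2, 10, 7], [267, 269, 267]⟩, ⟨3747, [10, 4, 8, 7, 10, 4, 8, 4], []⟩, ⟨3869, [2, 8, 15], []⟩],
  .tm 1 [12, 8, 6, 10, 8, 7, 10, 8, 2, 10, 4] [] [⟨3953, [], []⟩],
  .tm 25 [8, 12, 10, 8, 7, 10, 8, 6, 10, 8, 2, 15, 4] [] [⟨3948, [12, 4, 8, 6, 10, 8, 7, 10, 4, 8, 6, 10, 4, 7], []⟩, ⟨3747, [4, 8, 12, 10, 8, 7, 10, 4], [7570, 7488]⟩, ⟨3841, [8, 12, 8, 7, 10, 8, 6, 10, 8, 4, 8, 15, 4, 6], []⟩],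
  .tm 1 [8, 12, 4, 8, 7, 10, 8, 0, 10, 7] [] [⟨3955, [], []⟩],
  .tm 25 [8, 12, 10, 4, 8, 6, 10, 8, 7, 10, 4, 8, 6, 10, 7] [] [⟨3950, [10, 4, 8, 7, 10, 8, 6, 10, 8, 10, 6], [269, 267]⟩, ⟨3747, [4, 8, 12, 4, 8, 7, 10, 4, 0], [7518, 7488, 7571]⟩, ⟨3796, [12, 10, 4, 8, 6, 10, 8, 10, 4], []⟩],
  .tm 1 [12, 6, 10, 8, 4, 8, 7, 10, 8, 6, 10, 4, 6] [] [⟨3957, [], []⟩],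
  .tm 25 [8, 12, 8, 6, 10, 8, 7] [] [⟨3948, [8, 12, 10, 8, 7, 10, 4, 8, 7], [269]⟩, ⟨3747, [10, 8, 6, 10, 8, 12, 4, 8, 2], [7488, 7519, 7488]⟩, ⟨3907, [12, 8, 7, 10, 4, 8, 0, 4, 7], []⟩],
  .tm 1 [12, 4, 8, 10, 2, 8, 10, 7] [] [⟨3959, [], []⟩],
  .tm 25 [8, 12, 4, 8, 6, 10, 4, 8, 7, 10, 8, 10, 6] [] [⟨3858, [12, 4, 8, 7, 10, 8, 6, 10, 8, 2, 7], [269, 267]⟩, ⟨3747, [10, 4, 8, 7, 10, 8, 6, 10, 2], [7488, 7571]⟩, ⟨3945, [8, 4, 8, 6, 10, 8, 7, 10, 4, 8, 2, 10, 4, 6], []⟩],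
  .tm 1 [8, 12, 8, 7, 10, 8, 6, 10, 8, 7, 10, 4, 8] [] [⟨3961, [], []⟩],
  .tm 25 [8, 12, 10, 8, 6, 10, 4, 2, 8, 6, 10, 4] [] [⟨3938, [8, 12, 7, 10, 8, 7, 10, 4, 8, 2, 10], [267]⟩, ⟨3747, [7, 10, 8, 12, 4, 2, 8, 10, 4], [7486]⟩, ⟨3851, [0, 6, 10, 4, 6], []⟩],
  .tm 1 [12, 10, 8, 6, 10, 4, 8, 7, 10, 8, 2, 6, 10, 7] [] [⟨3963, [], []⟩],
  .tm 25 [6, 10, 4, 8] [] [⟨3888, [8, 10, 8, 7, 10, 8, 4, 8, 2, 15, 6], [269, 267]⟩, ⟨3747, [10, 8, 7, 10, 8, 12, 7, 10, 8], [7570, 7519, 7486]⟩, ⟨3903, [12, 4, 8, 10, 4, 8, 7, 10, 8, 0, 15, 6], []⟩],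
  .tm 1 [4, 8, 10, 4, 8, 7, 10, 2, 8, 15, 7] [] [⟨3965, [], []⟩],
  .tm 25 [8, 12, 8, 10, 8, 2, 10, 4, 7] [] [⟨3818, [8, 12, 7, 10, 4, 2, 8, 15, 6], [269, 267]⟩, ⟨3747, [12, 6, 10, 8, 10, 4, 8, 6, 10, 0], [7489, 7571, 7488]⟩, ⟨3907, [12, 7, 10, 4, 8, 15, 4, 6], []⟩],
  .tm 1 [6, 10, 8, 10, 8, 4, 8, 6, 10, 8, 2, 4, 7] [] [⟨3967, [], []⟩],
  .tm 25 [4, 8, 10, 8, 7, 10, 4, 8, 0, 6, 10] [] [⟨3966, [8, 12, 10, 4, 8, 7, 10, 8, 6, 10, 8, 6, 10, 7], [269, 267]⟩, ⟨3747, [4, 8], [7519, 7489]⟩, ⟨3766, [8, 12, 4, 8, 7, 10, 8, 6, 10, 4, 8, 15, 6], []⟩],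
  .tm 1 [8, 10, 8, 6, 10, 2, 8, 7] [] [⟨3969, [], []⟩],
  .tm 25 [4, 8, 6, 10, 2, 8, 10, 4, 6] [] [⟨3966, [8, 10, 8, 7, 10, 8, 4, 8, 0, 15, 7], [269, 267]⟩, ⟨3747, [12, 8], [7518, 7489, 7486]⟩, ⟨3857, [8, 4, 8, 6, 10, 8, 7, 10, 4, 8, 2, 4], []⟩],
  .tm 1 [8, 10, 8, 7, 10, 8, 4, 8, 10, 4] [] [⟨3971, [], []⟩],
  .tm 26 [8, 12, 10, 8, 10, 4, 8, 7, 10, 8, 0, 6, 10, 4] [] [⟨3898, [8, 12, 6, 10, 8, 10, 4, 8, 7], [267]⟩, ⟨3747, [8, 10, 4, 8, 12, 8, 10, 4], [7488, 7519]⟩, ⟨3881, [7, 10, 8, 6, 10, 4, 8, 2, 4, 7], []⟩],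
  .tm 1 [12, 8, 4, 8, 10, 8, 2, 10, 4, 7] [] [⟨3973, [], []⟩],
  .tm 26 [8, 4, 8, 10, 8, 6, 10, 2, 8, 6] [] [⟨3900, [8, 10, 8, 7, 10, 8, 6, 10, 8, 10, 4, 7], [267]⟩, ⟨3747, [12, 4, 8, 6, 10, 4, 8, 10], [7570, 7486]⟩, ⟨3899, [10, 4, 8, 15, 6], []⟩],
  .tm 1 [7, 10, 8, 6, 10, 4, 8, 2, 10, 4, 7] [] [⟨3975, [], []⟩],
  .tm 26 [12, 8, 10, 4, 8, 7, 10, 8, 4, 8, 2, 6, 10] [] [⟨3924, [4, 8, 10, 4, 8, 6, 10, 8, 0, 10], [267, 269, 267]⟩, ⟨3747, [8, 10, 8, 6, 10, 8, 12, 10], [7571, 7488, 7486]⟩, ⟨3953, [8, 12, 8, 10, 8, 7, 10, 8, 4, 8, 7], []⟩],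
  .tm 1 [10, 8, 4, 8, 6, 10, 8, 2, 4] [] [⟨3977, [], []⟩],
  .tm 26 [12, 2, 0, 6, 10, 7] [] [⟨3906, [12, 8, 10, 8, 6, 10, 8, 7, 10, 8, 2, 15, 4, 6], [269, 267]⟩, ⟨3747, [8, 12, 10, 8, 10, 4, 8, 12, 0], [7570, 7518]⟩, ⟨3899, [12, 8, 10, 8, 7, 10, 4, 8, 10, 4, 7], []⟩],
  .tm 1 [12, 4, 8, 10, 8, 7, 10, 4, 2, 8, 6, 10, 7] [] [⟨3979, [], []⟩]]

theorem fc3901 : checkL (nat_lit 12) (nat_lit 4095) tH tK tK' BB FF TM XW d3901 (nat_lit 3901) = true := by decide +kernel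

def d3981 : List Der := [.tm 26 [8, 10, 4, 8, 6, 10, 8, 7, 10, 8, 15, 4, 7] [] [⟨3888, [12, 4, 7], [267, 269]⟩, ⟨3747, [4, 8, 12, 8, 6, 10, 8, 4, 2], [7571, 7518, 7488]⟩, ⟨3817, [8, 6, 10, 8, 7, 10, 8, 6, 10, 4, 8, 15], []⟩],
  .tm 1 [12, 8, 4, 8, 7, 10, 8, 2, 15, 4, 6] [] [⟨3981, [], []⟩],
  .tm 26 [12, 8, 10, 8, 10, 4, 8, 6, 10, 8, 6, 10, 4, 7] [] [⟨3844, [8, 12, 8, 10, 8, 6, 10, 8, 7, 10, 4, 8, 15, 7], [267]⟩, ⟨3747, [10, 4, 8, 7, 10, 4, 8, 10, 2], [7570, 7489, 7519]⟩, ⟨3809, [12, 8, 4, 8, 10, 4, 8, 7, 10, 8, 6, 10, 7], []⟩],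
  .tm 1 [8, 12, 4, 8, 10, 4, 8, 2, 6, 10, 4, 6] [] [⟨3983, [], []⟩],
  .tm 26 [10, 8, 6, 10, 8, 7, 10, 4, 8, 2, 15, 6] [] [⟨3906, [12, 8, 10, 8, 6, 10, 8, 7, 10, 8, 2, 4], [267]⟩, ⟨3747, [10, 8, 12, 8, 10, 4, 2, 8, 4], [7489, 7571, 7488]⟩, ⟨3913, [12, 8, 10, 8, 10, 4, 8, 6, 10, 8, 10, 4, 6], []⟩],
  .tm 1 [8, 12, 4, 8, 10, 8, 6, 10, 8, 0, 6, 10] [] [⟨3985, [], []⟩],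
  .tm 26 [8, 12, 8, 4, 8, 10, 6] [] [⟨3888, [4, 7], [267, 269]⟩, ⟨3747, [4, 8, 12, 8, 6, 10, 2, 8, 4], [7570, 7518, 7489]⟩, ⟨3776, [12, 4, 8, 10, 4, 8, 6, 10, 8, 10, 4, 6], []⟩],
  .tm 1 [7, 10, 8, 4, 8, 7, 10, 8, 2, 6, 10, 6] [] [⟨3987, [], []⟩],
  .tm 26 [8, 12, 8, 10, 8, 6, 10, 8, 10, 4, 8, 2, 15, 4, 7] [] [⟨3888, [12, 2, 0, 15, 7], [267, 269]⟩, ⟨3747, [8, 12, 10, 8, 7, 10, 2, 8, 4], [7570, 7518]⟩, ⟨3792, [10, 8, 6, 10, 4], []⟩],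
  .tm 1 [8, 12, 4, 8, 4, 8, 10, 8, 7, 10, 8, 2, 6, 10, 7] [] [⟨3989, [], []⟩],
  .tm 26 [12, 8, 10, 8, 7, 10, 8, 4, 8, 0, 10] [] [⟨3924, [4, 8, 10, 4, 8, 6, 10, 8, 2, 10, 7], [267, 269, 267]⟩, ⟨3747, [6, 10, 8, 12, 6, 10, 4, 8, 4], [7570, 7488, 7518]⟩, ⟨3774, [12, 10, 8, 4, 8, 10, 4, 7], []⟩],
  .tm 1 [10, 8, 10, 4, 8, 6, 10, 8, 0, 10, 4, 6] [] [⟨3991, [], []⟩],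
  .tm 26 [8, 12, 7, 10, 8, 10, 8, 4, 8, 2] [] [⟨3906, [12, 8, 10, 8, 6, 10, 8, 7, 10, 8, 2, 10, 4, 6], [269, 267]⟩, ⟨3747, [4, 8, 6, 10, 8, 6, 10, 8, 4], [7518]⟩, ⟨3923, [8, 7, 10, 8, 6, 10, 8, 4, 8, 6, 10], []⟩],
  .tm 1 [8, 12, 10, 8, 10, 4, 8, 7, 10, 2, 8, 15, 7] [] [⟨3993, [], []⟩],
  .tm 26 [12, 4, 8, 10, 8, 7, 10, 4, 8, 15] [] [⟨3804, [8, 4, 8, 10, 8, 6, 10, 8, 0, 4, 6], [269, 267]⟩, ⟨3747, [10, 8, 6, 10, 2, 8, 7, 10, 4], [7570, 7518, 7489]⟩, ⟨3931, [12, 8, 6, 10, 8, 7, 10, 4, 8, 10, 4, 6], []⟩],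
  .tm 1 [12, 8, 10, 4, 8, 7, 10, 2, 8, 15, 6] [] [⟨3995, [], []⟩],
  .tm 26 [8, 12, 10, 8, 6, 10, 8, 10, 4, 8, 15, 6] [] [⟨3898, [6, 10, 8, 7, 10, 8, 4, 8, 10, 4, 7], [267]⟩, ⟨3747, [7, 10, 8, 4, 8, 12, 7, 10, 4], [7570, 7488, 7519]⟩, ⟨3909, [8, 6, 10, 8, 4, 8, 6, 10, 8, 6, 10, 6], []⟩],
  .tm 1 [8, 12, 8, 10, 8, 6, 10, 8, 15] [] [⟨3997, [], []⟩],
  .tm 26 [12, 4, 8, 10, 8, 6, 10, 4, 2, 8, 4, 7] [] [⟨3906, [12, 8, 10, 8, 7, 10, 8, 6, 10, 8, 10, 4], [267]⟩, ⟨3747, [10, 4, 8, 12, 4, 2, 8, 10, 4], [7489, 7571]⟩, ⟨3969, [8, 12, 8, 4, 8, 10, 8, 7, 10, 8, 0, 10], []⟩],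
  .tm 1 [12, 4, 8, 4, 8, 10, 8, 6, 10, 8, 2, 6] [] [⟨3999, [], []⟩],
  .tm 26 [12, 10, 8, 4, 8, 6, 10, 8, 7, 10, 8, 10, 7] [] [⟨3804, [8, 4, 8, 10, 8, 6, 10, 8, 0, 10, 4, 7], [269, 267]⟩, ⟨3747, [12, 10, 8, 7, 10, 8, 12, 10, 4], [7519, 7571, 7489]⟩, ⟨3949, [10, 8, 2, 15, 7], []⟩],
  .tm 1 [12, 8, 4, 8, 6, 10, 8, 7, 10, 4, 8, 6, 10, 4] [] [⟨4001, [], []⟩],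
  .tm 26 [12, 10, 8, 6, 10, 8, 7, 10, 4, 8, 4] [] [⟨3906, [12, 8, 10, 8, 6, 10, 8, 7, 10, 8, 2, 6, 10, 6], [269, 267]⟩, ⟨3747, [4, 8, 7, 10, 4, 2, 8, 7, 10], [7519, 7571, 7489]⟩, ⟨3774, [8, 12, 8, 7, 10, 8, 4, 8, 6, 10, 8, 0, 6], []⟩],
  .tm 1 [8, 12, 6, 10, 8, 7, 10, 8, 4, 8, 6, 10, 7] [] [⟨4003, [], []⟩],
  .tm 26 [10, 4, 8, 0, 6, 10, 4, 7] [] [⟨3924, [4, 8, 10, 4, 8, 6, 10, 8, 2, 6, 10, 4, 6], []⟩, ⟨3747, [12, 8, 4, 8, 12, 2, 8, 7, 10], [7518, 7488, 7571]⟩, ⟨3995, [10, 4, 8, 7, 10, 4, 8, 2, 15, 7], []⟩],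
  .tm 1 [6, 10, 8, 6, 10, 8, 4, 8, 2, 10, 6] [] [⟨4005, [], []⟩],
  .tm 26 [12, 8, 6, 10, 8, 4, 8, 10, 8, 2, 6, 10, 4] [] [⟨3924, [8, 12, 10, 8, 6, 10, 4, 8, 7], [267, 269, 267]⟩, ⟨3747, [6, 10, 8, 12, 6, 10, 4, 8, 4, 0], [7518, 7571, 7488]⟩, ⟨3809, [8, 12, 8, 4, 8, 10, 4, 8, 7, 10, 8, 2, 6, 10, 7], []⟩],
  .tm 1 [12, 7, 10, 8, 4, 2, 8, 6, 10] [] [⟨4007, [], []⟩],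
  .tm 26 [8, 6, 10, 8, 7, 10, 8, 2, 10, 7] [] [⟨3992, [12, 4, 8, 10, 8, 4, 8, 10, 4, 6], [267, 269]⟩, ⟨3747, [7, 10, 4, 8, 6, 10, 8, 12, 4, 0], [7488, 7519, 7488]⟩, ⟨3879, [8, 12, 2, 0, 10], []⟩],
  .tm 1 [12, 8, 10, 8, 6, 10, 8, 10, 4, 8, 2, 6, 10, 6] [] [⟨4009, [], []⟩],
  .tm 26 [12, 8, 10, 4, 8, 7, 10, 4, 8, 4, 6] [] [⟨3994, [2, 8, 6, 10, 4, 7], []⟩, ⟨3747, [12, 10, 2, 8, 10], [7518, 7488]⟩, ⟨3887, [12, 7, 10, 8, 6, 10, 4, 2, 8, 4, 6], []⟩],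
  .tm 1 [8, 12, 10, 8, 7, 10, 8, 10, 4, 8, 2, 10] [] [⟨4011, [], []⟩],
  .tm 26 [4, 8, 10, 8, 15, 4] [] [⟨3992, [12, 10, 8, 4, 8, 10, 8, 2, 15, 4], [269]⟩, ⟨3747, [12, 7, 10, 4, 8, 4, 0], [7488, 7570]⟩, ⟨3867, [8, 12, 8, 7, 10, 8, 7, 10, 8, 4, 8, 2, 4, 7], []⟩],
  .tm 1 [12, 4, 8, 6, 10, 2, 8, 10, 6] [] [⟨4013, [], []⟩],
  .tm 26 [8, 10, 8, 7, 10, 8, 4, 2, 8, 10, 4, 6] [] [⟨3888, [2, 0, 10, 7], [267, 269]⟩, ⟨3747, [10, 8, 12, 6, 10, 4, 0], [7488, 7518]⟩, ⟨4011, [8, 12, 8, 10, 8, 6, 10, 8, 0, 15, 4, 6], []⟩],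
  .tm 1 [6, 10, 8, 7, 10, 4, 8, 6, 10, 8, 2, 15, 4, 7] [] [⟨4015, [], []⟩],
  .tm 36 [4, 8, 4, 8, 10, 8, 6, 10, 8, 15, 7] [] [⟨3966, [4, 8, 6, 10, 8, 7, 10, 4, 8, 0, 15, 6], [269, 267]⟩, ⟨3747, [4], [7570, 7489]⟩, ⟨3883, [8, 12, 7, 10, 8, 6, 10, 8, 7, 10, 4, 8, 2, 4], []⟩],
  .tm 1 [8, 10, 8, 4, 8, 10, 8, 2, 10, 7] [] [⟨4017, [], []⟩],
  .tm 36 [12, 10, 4, 8, 6, 10, 8, 2, 6, 10, 6] [] [⟨3982, [10, 8, 7, 10, 2, 8, 10, 4, 7], [269, 267]⟩, ⟨3747, [7, 10, 2, 8, 10, 4], [7488, 7519, 7486]⟩, ⟨3774, [6, 10, 8, 10, 8, 4, 8, 6, 10, 8, 2, 10, 4, 7], []⟩],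
  .tm 1 [12, 8, 6, 10, 8, 4, 8, 10, 8, 4] [] [⟨4019, [], []⟩],
  .tm 36 [8, 10, 4, 8, 6, 10, 8, 2, 15, 4] [] [⟨3970, [8, 12, 8, 10, 8, 6, 10, 8, 7, 10, 8, 2, 15], [267, 269]⟩, ⟨3747, [8, 6, 10, 8, 4, 8, 2], [7488, 7518]⟩, ⟨3749, [8, 4, 8, 10, 8, 10, 4, 6], []⟩],
  .tm 1 [8, 12, 8, 4, 8, 7, 10, 8, 6, 10, 8, 7] [] [⟨4021, [], []⟩],
  .tm 41 [8, 7, 10, 8, 7, 10, 8, 4, 8, 2, 6, 10, 4, 7] [] [⟨3888, [8, 10, 8, 6, 10, 8, 7, 10, 8, 10, 4, 7], [267, 269]⟩, ⟨3747, [8, 4, 8, 12, 10, 8, 6, 10, 8], [7488, 7570]⟩, ⟨4017, [12, 8, 6, 10, 8, 7, 10, 4, 8, 6, 10, 8, 15, 4, 6], []⟩],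
  .tm 1 [12, 8, 4, 8, 10, 8, 7, 10, 4, 8, 2, 15, 7] [] [⟨4023, [], []⟩],
  .tm 41 [8, 12, 10, 8, 10, 4, 8, 6] [] [⟨3808, [8, 7, 10, 4, 2, 8, 10], [267]⟩, ⟨3747, [8, 12, 8, 10, 8, 4, 8, 6, 10], [7489, 7518]⟩, ⟨4017, [12, 10, 8, 7, 10, 8, 6, 10, 4, 2, 8, 6], []⟩],
  .tm 1 [8, 12, 4, 8, 6, 10, 4, 8, 7, 10, 8, 15, 6] [] [⟨4025, [], []⟩],
  .tm 41 [12, 8, 10, 8, 6, 10, 4, 8, 6] [] [⟨4026, [12, 10, 4, 8, 7, 10, 8, 6, 10, 4, 8, 6, 10, 6], [267, 269]⟩, ⟨3747, [12, 8, 6, 10, 4, 8, 12, 4, 8, 0], [7518, 7571]⟩, ⟨3917, [8, 12, 4, 8, 10, 8, 7, 10, 8, 2, 10, 6], []⟩],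
  .tm 1 [4, 8, 0, 6] [] [⟨4027, [], []⟩],
  .tm 41 [8, 12, 4, 8, 10, 8, 4, 8, 6, 10, 8, 4, 7] [] [⟨4012, [12, 8, 10, 8, 6, 10, 8, 4, 8, 2, 15, 6], [269, 267]⟩, ⟨3747, [12, 4, 8, 10, 8, 12, 6, 10, 8, 0], [7519, 7571]⟩, ⟨4021, [8, 12, 7, 10, 8, 10, 4, 8, 2, 6, 10, 4, 6], []⟩],
  .tm 1 [12, 8, 6, 10, 4, 8, 2, 10, 4] [] [⟨4029, [], []⟩],
  .tm 41 [4, 8, 10, 8, 7, 10, 4, 8, 4] [] [⟨4026, [8, 12, 7, 10, 8, 6, 10, 4, 8, 7, 10, 8, 2, 6, 10, 4, 7], [269]⟩, ⟨3747, [4, 8, 7, 10, 8, 7, 10, 4, 8, 2], [7518, 7489]⟩, ⟨3885, [8, 10, 8, 10, 4, 8, 6, 10, 8, 15, 7], []⟩],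
  .tm 1 [8, 4, 8, 10, 4, 8, 7, 10, 8, 2, 10, 7] [] [⟨4031, [], []⟩],
  .tm 41 [6, 10, 8, 7, 10, 4, 8, 2, 10, 4, 7] [] [⟨3994, [8, 12, 8, 10, 8, 6, 10, 8, 7, 10, 8, 6, 10], [267, 269, 267]⟩, ⟨3747, [2, 8, 7, 10, 4], [7570, 7519, 7486]⟩, ⟨4027, [12, 10, 4, 8, 6, 10, 4, 8, 4, 6], []⟩],
  .tm 1 [10, 8, 7, 10, 8, 6, 10, 8, 4, 7] [] [⟨4033, [], []⟩],
  .tm 27 [12, 4, 8, 7, 10, 4, 8, 6, 10, 8, 2, 6, 10, 4, 7] [] [⟨3910, [12, 8, 10, 4, 8, 6, 10, 8, 7, 10, 8, 10], [267]⟩, ⟨3747, [8, 4, 8, 7, 10, 8, 7, 10, 0], [7518, 7571, 7486]⟩, ⟨3945, [12, 4, 8, 10, 8, 7, 10, 4, 8, 0, 4, 6], []⟩],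
  .tm 1 [12, 6, 10, 8, 6, 10, 8, 4, 8, 2, 15, 7] [] [⟨4035, [], []⟩],
  .tm 27 [8, 10, 4, 8, 7, 10, 8, 6, 10, 8, 2, 15, 6] [] [⟨3888, [12, 4, 2, 8, 10, 4, 7], [267]⟩, ⟨3747, [10, 8, 12, 6, 10, 8, 10, 4, 2], [7489, 7486]⟩, ⟨4017, [8, 12, 2, 8, 15], []⟩],
  .tm 1 [12, 6, 10, 8, 0, 15, 7] [] [⟨4037, [], []⟩],
  .tm 27 [8, 7, 10, 8, 0, 10, 4, 7] [] [⟨3878, [12, 6, 10, 8, 7, 10, 4, 8, 6, 10, 8, 2, 15], []⟩, ⟨3747, [10, 8, 4, 8, 12, 8, 7, 10, 2], [7488, 7570, 7489]⟩, ⟨4021, [8, 12, 10, 8, 10, 8, 4, 8, 6, 10, 4], []⟩],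
  .tm 1 [8, 7, 10, 8, 4, 8, 10, 8, 6] [] [⟨4039, [], []⟩],
  .tm 27 [12, 8, 6, 10, 8, 7, 10, 4, 8, 2, 15, 4, 7] [] [⟨3974, [12, 7, 10, 8, 4, 8, 6, 10, 2, 8, 6, 10, 7], [267, 269, 267]⟩, ⟨3747, [8, 12, 2, 8], [7571, 7489, 7486]⟩, ⟨3831, [8, 4, 8, 6, 10, 8, 7, 10, 8, 10], []⟩],
  .tm 1 [8, 12, 8, 10, 8, 6, 10, 8, 7, 10, 4, 2, 8, 6, 10, 4] [] [⟨4041, [], []⟩],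
  .tm 27 [12, 8, 10, 8, 7, 10, 8, 10, 4, 8, 2, 15, 4, 6] [] [⟨4020, [8, 12, 7, 10, 4, 8, 0, 6, 10, 4, 7], []⟩, ⟨3747, [12, 7, 10, 2, 8], [7571, 7518]⟩, ⟨3796, [8, 10, 8, 4, 8, 7, 10, 8, 0, 6, 10, 4], []⟩],
  .tm 1 [12, 10, 8, 4, 8, 7, 10, 8, 2, 10, 4] [] [⟨4043, [], []⟩],
  .tm 27 [12, 8, 10, 8, 4, 8, 7, 10, 8, 0, 6, 10, 4, 7] [] [⟨3864, [8, 12, 2, 8, 15, 4, 7], []⟩, ⟨3747, [12, 6, 10, 4, 8, 4], [7519]⟩, ⟨3993, [8, 12, 8, 7, 10, 8, 0], []⟩],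
  .tm 1 [8, 6, 10, 8, 7, 10, 4, 8, 6, 10, 8, 2, 10] [] [⟨4045, [], []⟩],
  .tm 27 [8, 12, 10, 8, 10, 4, 8, 7, 10, 8, 2, 6, 10] [] [⟨3862, [12, 6, 10, 8, 4, 2, 8], [269, 267]⟩, ⟨3747, [4, 8, 7, 10, 4, 8, 2], [7519, 7488]⟩, ⟨3861, [8, 12, 4, 8, 6, 10, 4, 8, 4, 7], []⟩],
  .tm 1 [8, 12, 4, 8, 0, 6, 10, 4] [] [⟨4047, [], []⟩],
  .tm 27 [12, 10, 8, 6, 10, 8, 4, 8, 15] [] [⟨4016, [12, 8, 10, 8, 4, 8, 7, 10, 2, 8, 6, 10, 4, 6], [269]⟩, ⟨3747, [12, 8, 7, 10, 2, 8, 4], [7489, 7519]⟩, ⟨4047, [12, 4, 8, 7, 10, 8, 4, 8, 10], []⟩],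
  .tm 1 [10, 8, 7, 10, 2, 8, 15, 4] [] [⟨4049, [], []⟩],
  .tm 27 [8, 12, 10, 8, 10, 8, 4, 8, 2, 15, 6] [] [⟨4016, [10, 4, 8, 6, 10, 8, 2, 10, 4], [267, 269]⟩, ⟨3747, [8, 4, 8, 12, 7, 10, 4], [7518]⟩, ⟨3911, [7, 10, 8, 6, 10, 4, 8, 7, 10, 8, 15, 4, 6], []⟩],
  .tm 1 [8, 12, 8, 4, 8, 7, 10, 4, 8, 6, 10, 8, 15, 6] [] [⟨4051, [], []⟩],
  .tm 27 [7, 10, 8, 4, 8, 4, 6] [] [⟨3838, [12, 8, 4, 8, 7], [267, 269]⟩, ⟨3747, [8, 12, 6, 10, 4, 8, 4, 0], [7519, 7571, 7489]⟩, ⟨3909, [12, 8, 10, 4, 8, 7, 10, 4, 8, 6, 10, 7], []⟩],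
  .tm 1 [8, 12, 8, 4, 8, 7, 10, 4, 8, 6, 10, 8, 6, 10, 4] [] [⟨4053, [], []⟩],
  .tm 46 [8, 12, 10, 8, 10, 8, 4, 8, 7, 10, 8, 10, 7] [] [⟨3810, [12, 4, 8, 6, 10, 8, 7, 10, 8, 2, 10, 7], [267, 269, 267]⟩, ⟨3747, [12, 10, 8, 4, 8, 6, 10, 8], [7488, 7570, 7489]⟩, ⟨3917, [8, 12, 10, 4, 8, 6, 10, 8, 7, 10, 8, 6], []⟩],
  .tm 1 [12, 8, 10, 8, 7, 10, 8, 6, 10, 8, 10, 4, 7] [] [⟨4055, [], []⟩],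
  .tm 3 [4, 8, 6, 10, 8, 4, 8, 2, 10] [] [⟨3748, [8, 12, 7, 10, 7, 4], []⟩, ⟨3938, [10, 8, 10, 7], []⟩],
  .tm 1 [12, 8, 4, 8, 7, 10, 8, 2, 15] [] [⟨4057, [], []⟩],
  .tm 3 [4, 8, 10, 4, 8, 7, 10, 8, 2, 15] [] [⟨3748, [7, 10, 6], [266, 268]⟩, ⟨4056, [4, 8, 7, 10, 8, 6, 10, 8, 2, 4], []⟩],
  .tm 1 [8, 7, 10, 2, 8, 10, 6] [] [⟨4059, [], []⟩],
  .tm 30 [12, 6, 10, 8, 4, 8, 6, 10, 8, 10, 4, 7] [] [⟨3780, [4, 8, 10, 8, 7, 10, 4, 8, 0, 15], []⟩, ⟨3748, [6, 10, 8, 10, 4], [266, 268]⟩, ⟨4002, [8, 7, 10, 8, 4, 8, 6, 10, 8, 0, 4, 7], []⟩]]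

theorem fc3981 : checkL (nat_lit 12) (nat_lit 4095) tH tK tK' BB FF TM XW d3981 (nat_lit 3981) = true := by decide +kernel

def d4062 : List Der := [.tm 1 [12, 8, 4, 8, 10, 4, 8, 6, 10, 8, 6, 10] [] [⟨4061, [], []⟩],
  .tm 30 [12, 8, 10, 8, 6, 10, 8, 4, 2, 8, 6, 10, 4, 6] [] [⟨3745, [12, 7, 10, 8, 6, 10, 8, 2, 4], [7488, 7518]⟩, ⟨3748, [8, 6, 10, 4, 8, 12], [266]⟩, ⟨4002, [10, 8, 4, 2, 8, 15, 4], []⟩],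
  .tm 1 [12, 8, 10, 8, 6, 10, 8, 10, 4, 8, 4, 6] [] [⟨4063, [], []⟩],
  .tm 17 [8, 12, 10, 8, 6, 10, 8, 4, 2, 8, 6, 10, 4, 6] [] [⟨4058, [10, 8, 6, 10, 4, 2, 8, 15, 4, 6], [7519, 7488]⟩, ⟨3748, [10, 8, 7, 10], [268, 266]⟩, ⟨1563, [8, 10, 8, 6, 10, 2, 8, 6, 10, 6], []⟩],
  .tm 1 [8, 12, 7, 10, 8, 6, 10, 8, 4, 8, 15, 4, 6] [] [⟨4065, [], []⟩],
  .tm 37 [12, 10, 8, 10, 4, 8, 2, 10, 6] [] [⟨4060, [8, 12, 10, 8, 4, 8, 10, 8, 7, 10, 8, 10, 4], [7487, 7488]⟩, ⟨3748, [12, 10, 8, 7, 10, 4, 2], [268]⟩, ⟨2446, [10, 8, 10, 4, 8, 7, 10, 2, 8, 10, 4], []⟩],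
  .tm 1 [12, 8, 4, 8, 10, 8, 6, 10, 4, 7] [] [⟨4067, [], []⟩],
  .tm 37 [8, 10, 8, 4, 8, 2, 10, 6] [] [⟨4058, [8, 4, 8, 10, 8, 6, 10, 4, 8, 0, 15], [7519, 7488]⟩, ⟨3748, [8, 7, 10, 8, 6, 10, 2], [266]⟩, ⟨2401, [12, 7, 10, 8, 6, 10, 4, 8, 0, 15, 7], []⟩],
  .tm 1 [4, 8, 10, 8, 6, 10, 4, 8, 10] [] [⟨4069, [], []⟩],
  .tm 37 [8, 12, 4, 8, 6, 10, 2, 8, 10, 4, 6] [] [⟨3991, [4, 8, 10, 8, 4, 8, 7, 10, 8, 4, 6], [7489, 7570, 7488]⟩, ⟨3748, [12, 7, 10, 8, 6, 10, 2], [266]⟩, ⟨3898, [12, 4, 8, 10, 8, 6, 10, 4, 8, 2, 15, 4, 6], []⟩],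
  .tm 1 [8, 12, 8, 10, 8, 6, 10, 8, 7, 10, 4, 8, 0, 4] [] [⟨4071, [], []⟩],
  .tm 37 [12, 10, 4, 8, 7, 10, 2, 8, 15, 4] [] [⟨4017, [12, 10, 4, 8, 7, 10, 8, 0, 15, 6], [7518, 7488, 7571]⟩, ⟨3748, [10, 4, 8, 12, 7, 10, 2], [266]⟩, ⟨3906, [8, 12, 4, 8, 2, 4], []⟩],
  .tm 1 [7, 10, 8, 0, 10, 7] [] [⟨4073, [], []⟩],
  .tm 6 [7, 10, 8, 6, 10, 8, 4, 2, 8, 10, 4, 7] [] [⟨3772, [12, 8, 6, 10, 8, 6, 10, 8, 4, 8, 10, 7], [7489]⟩, ⟨3748, [4, 8, 12, 7, 10, 2], [266]⟩, ⟨3906, [8, 12, 10, 8, 7, 10, 8, 10, 4, 8, 6, 10, 4], []⟩],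
  .tm 1 [8, 12, 6, 10, 8, 10, 8, 4, 8, 6, 10, 8, 2, 10, 4] [] [⟨4075, [], []⟩],
  .tm 6 [10, 8, 10, 4, 8, 4, 6] [] [⟨3757, [12, 8, 10, 4, 8, 2, 15, 4], [7519, 7488]⟩, ⟨3748, [8, 4, 8, 12, 10, 4], [268, 266]⟩, ⟨4026, [4, 8, 6, 10, 4, 8, 7, 10, 8, 15, 7], []⟩],
  .tm 1 [8, 12, 8, 10, 8, 7, 10, 4, 8, 0, 4, 7] [] [⟨4077, [], []⟩],
  .tm 6 [8, 10, 4, 8, 7, 10, 4, 8, 15, 6] [] [⟨3747, [8, 10, 8, 6, 10, 8, 4, 8, 2, 15], [7488, 7519]⟩, ⟨3748, [12, 6, 10, 8, 7, 10, 2], [268, 266]⟩, ⟨4063, [8, 4, 8, 10, 8, 6, 10, 4, 8, 0, 6, 10, 7], []⟩],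
  .tm 1 [8, 12, 10, 4, 8, 6, 10, 4, 8, 2, 15, 4] [] [⟨4079, [], []⟩],
  .tm 18 [8, 7, 10, 8, 2, 10, 6] [] [⟨3745, [12, 8, 4, 8, 7, 10, 8, 6, 10, 6], [7488, 7518]⟩, ⟨3748, [8, 12, 4, 8], [266, 268, 266]⟩, ⟨4079, [10, 8, 4, 8, 6, 10, 8, 2, 6, 10, 4, 6], []⟩],
  .tm 1 [8, 12, 8, 10, 8, 7, 10, 8, 6, 10, 7] [] [⟨4081, [], []⟩],
  .tm 18 [8, 6, 10, 8, 7, 10, 8, 15, 6] [] [⟨3753, [12, 8, 6, 10, 8, 7, 10, 4, 8, 15, 6], [7518]⟩, ⟨3748, [4], []⟩, ⟨4079, [], []⟩],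
  .tm 1 [8, 12, 6, 10, 8, 7, 10, 8, 2, 10, 6] [] [⟨4083, [], []⟩],
  .tm 19 [8, 6, 10, 4, 8, 7, 10, 8, 2, 10, 4, 7] [] [⟨3971, [8, 12, 8, 4, 8, 6, 10, 8, 4, 8, 2, 15, 7], [7487, 7518, 7571]⟩, ⟨3748, [10, 4, 8, 10], []⟩, ⟨4079, [12, 10, 8, 7, 10, 4, 8, 0, 6, 10, 4], []⟩],
  .tm 1 [12, 8, 10, 8, 7, 10, 4, 8, 0, 6, 10, 4, 7] [] [⟨4085, [], []⟩],
  .tm 19 [8, 12, 10, 4, 8, 2, 6, 10] [] [⟨4045, [12, 4, 8, 7, 10, 8, 0, 10, 4], [7487, 7488, 7570]⟩, ⟨3748, [10, 8, 10, 4, 2], []⟩, ⟨4079, [8, 12, 4, 8, 10, 8, 4, 8, 7, 10, 8, 4, 6], []⟩],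
  .tm 1 [8, 12, 8, 7, 10, 8, 6, 10, 4, 8, 7, 10, 8, 2, 6, 10] [] [⟨4087, [], []⟩],
  .tm 20 [8, 4, 8, 10, 8, 10, 6] [] [⟨3953, [7, 10, 8, 7, 10, 8, 4, 8, 10, 4], [7487, 7488, 7519]⟩, ⟨3748, [4, 8, 6, 10], [266]⟩, ⟨4002, [8, 6, 10, 8, 4, 8, 7, 10, 8, 10, 4, 7], []⟩],
  .tm 1 [8, 12, 4, 8, 10, 8, 4, 8, 7, 10, 8, 0, 6, 10] [] [⟨4089, [], []⟩],
  .tm 20 [8, 12, 8, 6, 10, 8, 6, 10, 8, 4, 8] [] [⟨4058, [8, 12, 10, 8, 7, 10, 4, 2, 8], [7489, 7570]⟩, ⟨3748, [8, 6, 10, 4, 2], [266]⟩, ⟨4002, [10, 8, 7, 10, 8, 10, 4, 8, 2, 10, 4], []⟩],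
  .tm 1 [12, 8, 4, 8, 6, 10, 8, 7, 10, 4, 8, 4, 6] [] [⟨4091, [], []⟩],
  .tm 20 [8, 12, 10, 4, 8, 6, 10, 8, 4, 8, 6] [] [⟨3917, [8, 12, 10, 8, 4, 8, 10, 8, 6, 10, 8, 6, 10, 7], [7518, 7489]⟩, ⟨3748, [10, 4, 8, 10, 2], []⟩, ⟨4079, [8, 7, 10, 4, 8, 0, 10, 4, 6], []⟩],
  .tm 1 [10, 8, 7, 10, 8, 4, 8, 0, 10, 4, 6] [] [⟨4093, [], []⟩],
  .tm 20 [8, 4, 8, 10, 8, 7, 10, 4, 8, 15, 4, 6] [] [⟨4058, [8, 7, 10, 8, 4, 8, 6, 10, 4, 6], [7519, 7488]⟩, ⟨3748, [10, 8, 7, 10, 4], [266]⟩, ⟨4002, [8, 10, 8, 6, 10, 8, 10, 4, 8, 2, 6, 10, 4, 6], []⟩],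
  .tm 20 [8, 10, 4, 8, 7, 10, 8, 4, 8, 2, 6, 10, 6] [] [⟨4049, [8, 12, 7, 10, 8, 6, 10, 4, 8, 7, 10, 8, 2, 15, 4], [7571, 7488]⟩, ⟨3748, [8, 4, 8, 6, 10], [266]⟩, ⟨4002, [4, 8, 10, 8, 4, 8, 2, 15], []⟩],
  .tm 1 [12, 6, 10, 8, 4, 2, 8, 6, 10, 4] [] [⟨4096, [], []⟩],
  .tm 21 [12, 8, 10, 8, 6, 10, 8, 10, 4, 8, 10] [] [⟨4091, [8, 4, 8, 7, 10, 8, 6, 10, 4, 8, 6, 10, 7], [7571, 7488]⟩, ⟨3748, [12, 4, 8, 6, 10, 4], [268, 266]⟩, ⟨906, [8, 10, 4, 8, 6, 10, 8, 7, 10, 4, 8, 6, 10], []⟩],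
  .tm 1 [8, 12, 8, 6, 10, 8, 7, 10, 8, 4, 8, 10, 7] [] [⟨4098, [], []⟩],
  .tm 21 [8, 12, 6, 10, 8, 4, 8, 7, 10, 2, 8, 15, 4, 6] [] [⟨4058, [8, 4, 8, 10, 8, 6, 10, 4, 8, 0, 15], [7519, 7488]⟩, ⟨3748, [8, 7, 10, 8, 6, 10, 2], []⟩, ⟨963, [8, 12, 10, 4, 8, 7, 10, 8, 6, 10, 8, 2, 6], []⟩],
  .tm 1 [12, 8, 7, 10, 8, 4, 8, 7, 10, 8, 2, 4, 6] [] [⟨4100, [], []⟩],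
  .tm 21 [7, 10, 8, 10, 8, 4, 8, 7, 10, 8, 6, 10, 4, 7] [] [⟨4057, [10, 8, 6, 10, 4, 8, 7, 10, 8, 2, 6, 10, 4, 7], [7518]⟩, ⟨3748, [12, 2], []⟩, ⟨748, [7, 10, 8, 4, 8, 10, 8, 6], []⟩],
  .tm 1 [4, 8, 10, 8, 6, 10, 4, 8, 10, 4, 6] [] [⟨4102, [], []⟩],
  .tm 31 [12, 8, 4, 8, 10, 4, 8, 6, 10, 8, 15, 7] [] [⟨4017, [8, 12, 4, 8, 4, 8, 7, 10, 8, 6, 10, 8, 10, 6], [7518, 7488]⟩, ⟨3748, [8, 10, 4, 2], [266]⟩, ⟨3808, [8, 12, 4, 8, 7, 10, 4, 8, 6, 10, 8, 2, 10, 4, 6], []⟩],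
  .tm 1 [8, 4, 8, 10, 8, 2, 15, 4, 6] [] [⟨4104, [], []⟩],
  .tm 31 [12, 10, 8, 6, 10, 8, 4, 8, 2, 4, 6] [] [⟨4091, [8, 10, 8, 6, 10, 4, 8, 6, 10], [7489, 7519, 7571]⟩, ⟨3748, [12, 10, 8, 10, 8, 4], [266, 268]⟩, ⟨3900, [8, 12, 2, 0, 6], []⟩],
  .tm 1 [10, 8, 7, 10, 8, 10, 4, 8, 2, 15, 7] [] [⟨4106, [], []⟩],
  .tm 22 [8, 10, 8, 7, 10, 8, 4, 8, 2, 6, 10, 4] [] [⟨4058, [4, 8, 10, 8, 6, 10, 8, 15, 4, 6], [7487, 7519, 7488]⟩, ⟨3748, [8, 6, 10, 8, 6, 10, 8, 12], [266, 268, 266]⟩, ⟨3423, [10, 4, 2, 8, 6, 10, 7], []⟩],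
  .tm 1 [12, 10, 8, 4, 8, 6] [] [⟨4108, [], []⟩],
  .tm 22 [8, 12, 10, 8, 10, 4, 8, 6, 10, 8, 0, 4, 7] [] [⟨4107, [10, 8, 4, 7], [7519, 7489, 7571]⟩, ⟨3748, [8, 7, 10, 4, 8, 6, 10, 4, 0], []⟩, ⟨317, [12, 10, 8, 10, 4, 8, 6, 10, 8, 4, 7], []⟩],
  .tm 1 [12, 4, 8, 10, 8, 4, 8, 6, 10, 8, 6] [] [⟨4110, [], []⟩],
  .tm 22 [8, 10, 8, 6, 10, 8, 10, 4, 8, 7] [] [⟨4107, [8, 12, 8, 4, 8, 7, 10, 8, 6, 10, 4, 8, 6, 10, 4, 7], [7489, 7519, 7570]⟩, ⟨3748, [6, 10, 4, 8, 12, 8, 6, 10, 0], [266, 268]⟩, ⟨2935, [8, 12, 6, 10, 4, 8, 7], []⟩],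
  .tm 1 [4, 8, 10, 8, 2] [] [⟨4112, [], []⟩],
  .tm 22 [8, 12, 8, 7, 10, 4, 8, 6, 10, 8, 2, 7] [] [⟨4091, [8, 6, 10, 8, 7, 10, 4, 8, 6, 10, 8, 2, 15, 4, 7], [7489, 7519, 7571]⟩, ⟨3748, [10, 8, 10, 8, 12, 4, 8, 10, 0], [266, 268, 266]⟩, ⟨1582, [10, 8, 4, 8, 6, 10, 8, 4], []⟩],
  .tm 1 [12, 4, 8, 10, 8, 4, 8, 10, 7] [] [⟨4114, [], []⟩],
  .tm 22 [10, 8, 4, 2, 8, 4, 6] [] [⟨4058, [8, 7, 10, 8, 4, 8, 0, 6, 10, 4, 7], [7487, 7519, 7488]⟩, ⟨3748, [10, 8, 12, 6, 10, 4, 8, 4, 2], [266, 268, 266]⟩, ⟨3597, [10, 8, 4, 8, 10, 8, 7, 10, 8, 0, 4], []⟩],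
  .tm 1 [8, 4, 2, 8, 6] [] [⟨4116, [], []⟩],
  .tm 22 [12, 8, 6, 10, 8, 4, 8, 6, 10, 8, 2, 6, 10, 6] [] [⟨4095, [12, 8, 4, 8, 10, 8, 7, 10, 4, 8, 15, 4, 7], [7518]⟩, ⟨3748, [7, 10, 8, 12, 10, 4, 8, 4, 2], [268, 266]⟩, ⟨1521, [8, 12, 7, 10, 4, 8, 6, 10], []⟩],
  .tm 1 [8, 12, 7, 10, 8, 10, 8, 4, 8, 2, 4, 6] [] [⟨4118, [], []⟩],
  .tm 22 [7, 10, 8, 4, 8, 10, 8, 2, 4, 6] [] [⟨4095, [12, 8, 10, 4, 8, 7, 10, 8, 6, 10, 8, 2, 15, 6], [7487, 7518]⟩, ⟨3748, [12, 8, 4, 8, 12, 8, 7, 10, 2], [266, 268]⟩, ⟨2321, [8, 12, 7, 10, 8, 4, 8, 15, 4], []⟩],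
  .tm 1 [8, 12, 7, 10, 8, 6, 10, 4, 8, 7, 10, 8, 15, 4] [] [⟨4120, [], []⟩],
  .tm 22 [12, 10, 4, 8, 2, 10, 4, 7] [] [⟨4058, [8, 10, 8, 6, 10, 8, 7, 10, 4, 2, 8, 4, 7], [7487, 7519, 7488]⟩, ⟨3748, [7, 10, 8, 12, 7, 10, 4, 8, 4], []⟩, ⟨3280, [12, 8, 4, 8, 7, 10, 8, 6, 10, 4, 8, 10], []⟩],
  .tm 1 [8, 12, 7, 10, 8, 6, 10, 4, 8, 7, 10, 8, 6, 10, 6] [] [⟨4122, [], []⟩],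
  .tm 22 [10, 8, 6, 10, 8, 7, 10, 4, 2, 8, 10, 4, 7] [] [⟨4107, [10, 8, 0, 4, 6], [7489, 7571, 7488]⟩, ⟨3748, [8, 4, 8, 10, 8, 12, 6, 10, 4], [266]⟩, ⟨4054, [12, 8, 6, 10, 8, 4, 6], []⟩],
  .tm 1 [12, 4, 8, 10, 8, 10, 4, 7] [] [⟨4124, [], []⟩],
  .tm 11 [6, 10, 8, 4, 8, 7, 10, 8, 0, 6] [] [⟨4058, [8, 12, 8, 10, 8, 6, 10, 4, 8, 7, 10, 8, 4, 7], [7489, 7571]⟩, ⟨3748, [7, 10, 8, 4, 8, 7, 10, 8, 4], [268, 266]⟩, ⟨846, [8, 10, 8], []⟩],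
  .tm 1 [8, 12, 8, 7, 10, 4, 8, 2, 10, 6] [] [⟨4126, [], []⟩],
  .tm 11 [12, 7, 10, 8, 4, 8, 6, 10, 8, 6, 10, 4] [] [⟨3977, [8, 12, 10, 4, 8, 0, 15, 4], [7571]⟩, ⟨3748, [12, 10, 4, 8, 10, 8, 12, 8, 4], [268]⟩, ⟨4113, [12, 10, 8, 4, 8, 7, 10, 8, 10, 4], []⟩],
  .tm 1 [8, 12, 10, 8, 6, 10, 8, 6] [] [⟨4128, [], []⟩],
  .tm 11 [4, 8, 2] [] [⟨4116, [8, 12, 8, 10, 8, 7, 10, 8, 4, 2, 8, 6], [7487, 7571, 7488]⟩, ⟨3748, [6, 10, 4, 2, 8, 12, 7, 10, 4], [266, 268]⟩, ⟨3808, [8, 12, 8, 4, 8, 7, 10, 8, 6, 10, 8, 2, 10, 6], []⟩],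
  .tm 1 [8, 12, 7, 10, 2, 8, 15, 7] [] [⟨4130, [], []⟩],
  .tm 11 [7, 10, 8, 4, 8, 0, 15, 7] [] [⟨4106, [8, 10, 2, 8, 4], [7487]⟩, ⟨3748, [12, 10, 8, 4, 8, 12, 7, 10, 4], [266, 268]⟩, ⟨720, [8, 12, 4, 8, 10, 8, 4, 8, 7, 10, 8, 6, 10, 6], []⟩],
  .tm 1 [12, 6, 10, 8, 7, 10, 8, 4, 2, 8, 4, 6] [] [⟨4132, [], []⟩],
  .tm 11 [8, 12, 4, 8, 6, 10, 8, 7, 10, 4, 8, 4] [] [⟨4025, [10, 4, 8, 6, 10, 2, 8, 6, 10, 7], [7518]⟩, ⟨3748, [12, 10, 8, 10, 8, 12, 8, 10, 4], [266, 268]⟩, ⟨3804, [8, 12, 8, 4, 8, 7, 10, 4, 8, 6, 10, 8, 4], []⟩],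
  .tm 1 [12, 4, 8, 7, 10, 4, 8, 4, 7] [] [⟨4134, [], []⟩],
  .tm 11 [12, 8, 6, 10, 4, 8, 2] [] [⟨4092, [8, 12, 8, 7, 10, 8, 6, 10, 8, 2, 10, 4], [7489, 7570]⟩, ⟨3748, [7, 10, 8, 4, 2, 8, 12, 6, 10], [266, 268]⟩, ⟨3898, [12, 8, 4, 8, 7, 10, 8, 6, 10, 4, 8, 2, 4, 6], []⟩],
  .tm 11 [10, 4, 8, 0, 10, 7] [] [⟨4015, [10, 8, 7, 10, 8, 10, 4, 6], [7487, 7571, 7488]⟩, ⟨3748, [7, 10, 8, 7, 10, 4, 8, 7, 10], [268]⟩, ⟨3888, [8, 12, 8, 6, 10, 8, 4, 8, 6, 10, 8, 6, 10, 4, 6], []⟩],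
  .tm 1 [12, 7, 10, 8, 4, 8, 7, 10, 8, 4] [] [⟨4137, [], []⟩],
  .tm 11 [8, 12, 4, 8, 6, 10, 8, 15, 6] [] [⟨4120, [7, 10, 8, 4, 8, 2, 15, 7], [7570, 7488]⟩, ⟨3748, [8, 12, 10, 8, 6, 10, 8, 10, 4, 2], [266, 268]⟩, ⟨3808, [8, 12, 8, 7, 10, 8, 7, 10, 4, 8, 2, 10, 6], []⟩],
  .tm 1 [8, 12, 10, 8, 4, 8, 7, 10, 2, 8, 4, 7] [] [⟨4139, [], []⟩],
  .tm 11 [12, 6, 10, 8, 6, 10, 4, 8, 4, 7] [] [⟨4106, [8, 12, 6, 10, 8, 4, 8, 10, 8, 2, 6, 10, 4], [7487, 7488, 7570]⟩, ⟨3748, [12, 7, 10, 8, 10], [268, 266]⟩, ⟨3355, [7, 10, 8, 6, 10, 8, 7, 10, 4, 8, 6, 10, 4, 7], []⟩],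
  .tm 1 [12, 10, 4, 8, 6, 10, 8, 2, 15, 4, 6] [] [⟨4141, [], []⟩]]

theorem fc4062 : checkL (nat_lit 12) (nat_lit 4095) tH tK tK' BB FF TM XW d4062 (nat_lit 4062) = true := by decide +kernel

def d4143 : List Der := [.tm 11 [8, 12, 10, 8, 7, 10, 4, 8, 6, 10, 8, 6, 10, 7] [] [⟨4047, [12, 8, 4, 8, 7, 10, 8, 4, 8, 10, 4, 7], [7518, 7488]⟩, ⟨3748, [7, 10, 8, 7, 10, 8], [268]⟩, ⟨4113, [12, 6, 10, 8, 7, 10, 4, 8, 6, 10, 4, 7], []⟩],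
  .tm 1 [12, 8, 6, 10, 8, 10, 4, 8, 7] [] [⟨4143, [], []⟩],
  .tm 11 [7, 10, 8, 7, 10, 8, 4, 8, 7] [] [⟨4076, [12, 7, 10, 8, 6, 10, 8, 4, 8, 0, 6, 10, 7], [7487, 7518, 7489]⟩, ⟨3748, [6, 10, 8, 4, 8, 10, 0], [268]⟩, ⟨3888, [8, 12, 8, 7, 10, 8, 4, 8, 6, 10, 8, 6, 10, 4, 6], []⟩],
  .tm 1 [12, 10, 8, 6, 10, 4, 8, 7, 10, 8, 2, 10, 4, 6] [] [⟨4145, [], []⟩],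
  .tm 11 [4, 8, 10, 4, 8, 6, 10, 2, 8, 6, 10] [] [⟨4106, [8, 12, 10, 2, 8, 4, 6], []⟩, ⟨3748, [12, 8, 6, 10, 8, 12, 0], [266]⟩, ⟨1466, [8, 10, 8, 4, 8, 6, 10, 8, 0, 10, 4], []⟩],
  .tm 1 [8, 10, 8, 7, 10, 4, 8, 2, 6, 10, 4, 6] [] [⟨4147, [], []⟩],
  .tm 11 [10, 8, 10, 8, 4, 8, 7, 10, 8, 2, 15, 4, 6] [] [⟨4102, [4, 8, 6, 10, 8, 7, 10, 4, 8, 2, 10, 4, 7], [7488, 7519, 7570]⟩, ⟨3748, [6, 10, 8, 10, 4, 8, 2], [266, 268]⟩, ⟨3804, [8, 12, 8, 4, 8, 10, 8, 7, 10, 2, 8, 7], []⟩],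
  .tm 1 [8, 12, 4, 8, 10, 2, 8, 15] [] [⟨4149, [], []⟩],
  .tm 11 [8, 12, 8, 6, 10, 4, 8, 7, 10, 8, 2, 6, 10, 7] [] [⟨4107, [8, 10, 8, 6, 10, 8, 4, 8, 0, 10, 6], [7487, 7518, 7571]⟩, ⟨3748, [12, 10, 8, 6, 10, 8, 2], [266, 268]⟩, ⟨4012, [8, 12, 4, 8, 10, 4, 8, 6, 10, 2, 8, 10, 4], []⟩],
  .tm 1 [8, 4, 8, 6, 10, 8, 4, 8, 2, 15] [] [⟨4151, [], []⟩],
  .tm 11 [8, 12, 6, 10, 8, 10, 8, 4, 8, 6, 10, 8, 2, 6, 10, 4, 6] [] [⟨4124, [8, 12, 6, 10, 8, 7, 10, 8, 4, 2, 8, 4, 6], [7487, 7488, 7570]⟩, ⟨3748, [12, 10, 8, 4, 8, 10, 2], [266]⟩, ⟨3900, [8, 12, 4, 8, 10, 8, 6, 10, 4, 8, 6, 10, 7], []⟩],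
  .tm 1 [8, 12, 4, 8, 10, 8, 4, 8, 6, 10, 8, 10, 4, 6] [] [⟨4153, [], []⟩],
  .tm 11 [12, 8, 10, 4, 8, 7, 10, 8, 0, 10, 4, 6] [] [⟨3995, [8, 12, 8, 4, 8, 7, 10, 8, 2, 15, 4], [7487, 7489, 7518]⟩, ⟨3748, [8, 6, 10, 8, 12, 8, 4], [266, 268]⟩, ⟨3900, [8, 12, 10, 8, 6, 10, 8, 4, 8, 0, 6, 10, 4], []⟩],
  .tm 1 [12, 7, 10, 4, 8, 0, 6, 10, 4] [] [⟨4155, [], []⟩],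
  .tm 11 [8, 12, 8, 7, 10, 8, 4, 8, 7, 10, 8, 6, 10, 4, 7] [] [⟨4122, [8, 12, 6, 10, 8, 7, 10, 4, 2, 8, 10], [7488, 7570, 7488]⟩, ⟨3748, [7, 10, 8, 12, 6, 10, 4], [266, 268]⟩, ⟨3808, [8, 12, 10, 8, 6, 10, 8, 7, 10, 4, 8, 2, 10, 6], []⟩],
  .tm 1 [12, 10, 8, 10, 4, 8, 6, 10, 2, 8, 6] [] [⟨4157, [], []⟩],
  .tm 11 [7, 10, 8, 15, 4] [] [⟨4125, [12, 7, 10, 8, 2, 15, 4, 7], [7571, 7519]⟩, ⟨3748, [10, 8, 10, 4, 8, 7, 10], [266, 268, 266]⟩, ⟨3570, [8, 12, 8, 10, 8, 4, 8, 0, 4, 6], []⟩],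
  .tm 1 [10, 8, 6, 10, 8, 10, 4, 8, 2, 6, 10, 4, 7] [] [⟨4159, [], []⟩],
  .tm 11 [8, 10, 4, 8, 6, 10, 8, 4, 8, 2, 7] [] [⟨4039, [8, 12, 8, 10, 8, 6, 10, 8, 7, 10, 4, 8, 0, 6, 10, 7], [7488, 7571]⟩, ⟨3748, [6, 10, 4, 8, 12, 7, 10], [268, 266]⟩, ⟨4113, [12, 10, 8, 6, 10, 2, 8, 10, 6], []⟩],
  .tm 1 [4, 8, 6, 10, 8, 7, 10, 4, 2, 8, 15] [] [⟨4161, [], []⟩],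
  .tm 12 [8, 12, 4, 8, 10, 8, 6, 10, 8, 4] [] [⟨4107, [10, 8, 7, 10, 8, 6, 10, 4, 8, 0, 6, 10, 7], [7489, 7571, 7488]⟩, ⟨3748, [8, 12, 10, 4, 8, 7, 10, 4, 2], [266, 268]⟩, ⟨3888, [12, 10, 8, 4, 8, 10, 8, 2, 10, 4], []⟩],
  .tm 23 [6, 10, 8, 7, 10, 4, 8, 0, 10, 7] [] [⟨4058, [2, 0, 6, 10, 7], [7519, 7488]⟩, ⟨3748, [7, 10, 4, 8, 6, 10, 4, 0], [268]⟩, ⟨4008, [8, 12, 8, 4, 8, 10, 8, 7, 10, 4, 8, 6, 10, 4, 7], []⟩],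
  .tm 23 [4, 8, 10, 4, 8, 7, 10, 8, 4, 7] [] [⟨4114, [10, 8, 7, 10, 8, 4, 8, 6, 10, 4, 6], [7570, 7518]⟩, ⟨3748, [4, 8, 12, 8, 7, 10, 4, 0], [266, 268]⟩, ⟨4128, [8, 12, 8, 10, 8, 4, 2, 8, 15], []⟩],
  .tm 1 [12, 10, 8, 7, 10, 8, 6, 10, 8, 2, 15, 7] [] [⟨4165, [], []⟩],
  .tm 23 [12, 4, 8, 10, 4, 8, 7, 10, 8, 2, 15, 4, 7] [] [⟨4021, [8, 12, 10, 8, 6, 10, 8, 10, 4, 8, 6, 10, 4, 6], [7488, 7519, 7488]⟩, ⟨3748, [8, 12, 6, 10, 8, 10, 4, 0], []⟩, ⟨4061, [12, 10, 8, 10, 4, 8, 7, 10, 2, 8, 10], []⟩],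
  .tm 1 [12, 8, 10, 8, 6, 10, 8, 4, 8, 0, 6, 10, 4, 7] [] [⟨4167, [], []⟩],
  .tm 23 [12, 4, 8, 7, 10, 8, 4, 8, 10, 7] [] [⟨4091, [10, 8, 10, 4, 8, 6, 10, 2, 8, 10, 4, 7], [7487, 7571, 7488]⟩, ⟨3748, [8, 10, 8, 12, 8, 6, 10, 0], [266, 268]⟩, ⟨551, [12, 10, 8, 4, 8, 7, 10, 2, 8, 15, 4, 6], []⟩],
  .tm 1 [8, 12, 10, 8, 4, 8, 10, 8, 7, 10, 8, 10, 4] [] [⟨4169, [], []⟩],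
  .tm 23 [8, 12, 10, 8, 10, 8, 4, 8, 7] [] [⟨4164, [10, 8, 4, 8, 10, 8, 15], [7518, 7489]⟩, ⟨3748, [10, 4, 8, 12, 10, 8, 10, 0], [268, 266]⟩, ⟨2366, [8, 10, 4, 8, 6, 10, 8, 2, 6, 10, 4], []⟩],
  .tm 1 [4, 8, 7, 10, 4, 8, 6, 10, 8, 6] [] [⟨4171, [], []⟩],
  .tm 23 [8, 12, 4, 8, 10, 2, 8, 10, 6] [] [⟨4057, [8, 10, 8, 7, 10, 4, 8, 6, 10, 8, 15, 4, 6], [7487, 7518]⟩, ⟨3748, [8, 10, 8, 12, 10, 8, 10, 0], [266]⟩, ⟨490, [4, 8, 7, 10, 8, 4, 8, 7], []⟩],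
  .tm 1 [8, 10, 4, 8, 7, 10, 4, 8, 10] [] [⟨4173, [], []⟩],
  .tm 23 [8, 10, 8, 7, 10, 8, 0, 10, 4, 7] [] [⟨4091, [8, 4, 8, 10, 8, 6, 10, 4, 8, 2, 6, 10, 6], [7487, 7571, 7488]⟩, ⟨3748, [12, 8, 6, 10, 4, 8, 4, 2], [268]⟩, ⟨2330, [12, 8, 10, 8, 10, 4, 8, 6, 10, 8, 2, 10, 4, 6], []⟩],
  .tm 1 [12, 10, 4, 8, 6, 10, 8, 7, 10, 8, 4] [] [⟨4175, [], []⟩],
  .tm 23 [12, 8, 10, 4, 8, 6, 10, 8, 4, 8, 2, 4, 6] [] [⟨4095, [12, 8, 7, 10, 8, 6, 10, 4, 8, 0, 6, 10], [7487, 7518]⟩, ⟨3748, [8, 10, 4, 8, 6, 10, 4, 2], [268]⟩, ⟨860, [8, 12, 8, 6, 10, 8, 7, 10, 8, 6, 10, 4, 8, 6, 10, 7], []⟩],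
  .tm 1 [6, 10, 4, 2, 8, 6, 10, 7] [] [⟨4177, [], []⟩],
  .tm 23 [12, 8, 7, 10, 8, 6, 10, 4, 8, 0] [] [⟨4151, [8, 10, 8, 7, 10, 8, 4, 8, 0, 4, 7], [7488, 7571]⟩, ⟨3748, [7, 10, 8, 12, 4, 2, 8, 4], [268, 266]⟩, ⟨4056, [4, 8, 7, 10, 4, 8, 6, 10, 8, 2, 6, 10, 4, 6], []⟩],
  .tm 1 [8, 12, 7, 10, 8, 4, 8, 6, 10, 8, 0, 6, 10, 4, 7] [] [⟨4179, [], []⟩],
  .tm 23 [8, 12, 6, 10, 8, 7, 10, 8, 10, 7] [] [⟨4058, [2, 6, 10], [7519, 7488]⟩, ⟨3748, [4, 8, 10, 2, 8, 7, 10, 4], [266]⟩, ⟨1246, [7, 10, 8, 6, 10, 4, 8, 15, 4], []⟩],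
  .tm 1 [8, 4, 8, 7, 10, 8, 2, 10, 4, 7] [] [⟨4181, [], []⟩],
  .tm 23 [8, 12, 8, 6, 10, 8, 2, 4] [] [⟨3798, [8, 12, 7, 10, 8, 6, 10, 4, 8, 7, 10, 8, 2, 4], [7489, 7570, 7488]⟩, ⟨3748, [8, 10, 8, 6, 10, 8, 10, 4], [266, 268, 266]⟩, ⟨4115, [8, 12, 8, 10, 8, 7, 10, 4, 8, 6, 10, 8, 2, 6], []⟩],
  .tm 1 [12, 4, 8, 10, 8, 6, 10, 2, 8, 6] [] [⟨4183, [], []⟩],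
  .tm 23 [8, 12, 4, 8, 4, 8, 7, 10, 8, 6, 10, 8, 10] [] [⟨4151, [6, 10, 8, 6, 10, 8, 4, 8, 2, 10, 4, 7], [7571, 7519]⟩, ⟨3748, [12, 7, 10, 8, 4, 8, 12, 10], [268, 266]⟩, ⟨3970, [8, 12, 8, 6, 10, 8, 7, 10, 8, 6, 10, 4, 7], []⟩],
  .tm 1 [8, 7, 10, 8, 4, 8, 10, 8, 2, 4, 7] [] [⟨4185, [], []⟩],
  .tm 23 [12, 4, 8, 10, 8, 7, 10, 8, 0, 7] [] [⟨4095, [8, 12, 7, 10, 4, 2, 8, 6, 10, 4], [7487, 7488, 7519, 7571]⟩, ⟨3748, [12, 4, 8, 7, 10, 2, 8, 12], []⟩, ⟨1553, [4, 8, 6, 10, 4, 8, 6, 10, 7], []⟩],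
  .tm 1 [8, 12, 7, 10, 8, 6, 10, 4, 8, 0, 6, 10, 4] [] [⟨4187, [], []⟩],
  .tm 23 [8, 4, 8, 6, 10, 8, 0, 15, 6] [] [⟨4060, [8, 12, 10, 8, 6, 10, 8, 4, 8, 0, 6, 10, 4, 6], [7487, 7488]⟩, ⟨3748, [8, 6, 10, 8, 12, 8, 10, 4, 0], []⟩, ⟨2419, [8, 12, 10, 8, 4, 8, 7, 10, 8, 0, 4, 6], []⟩],
  .tm 1 [8, 4, 8, 10, 8, 6, 10, 4, 8, 0, 15] [] [⟨4189, [], []⟩],
  .tm 23 [8, 12, 7, 10, 8, 4, 8, 10, 8, 4, 7] [] [⟨4021, [8, 12, 8, 4, 8, 10, 8, 6, 10, 4, 2, 8, 15, 6], [7488, 7519, 7488]⟩, ⟨3748, [10, 4, 8, 12, 10, 8, 10, 4, 2], [268, 266]⟩, ⟨3836, [12, 8, 10, 4, 8, 6, 10, 8, 7, 10, 8, 6, 10], []⟩],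
  .tm 1 [8, 12, 8, 10, 4, 8, 6, 10, 4, 8, 10, 6] [] [⟨4191, [], []⟩],
  .tm 23 [7, 10, 4, 2, 8, 10, 7] [] [⟨4185, [12, 4, 8, 6, 10, 4, 8, 7, 10, 8, 10, 4], [7571, 7519, 7489]⟩, ⟨3748, [12, 8, 7, 10, 8, 4, 8, 10, 2], [268, 266]⟩, ⟨3836, [8, 10, 4, 8, 6, 10, 8, 7, 10, 8, 6, 10, 7], []⟩],
  .tm 1 [8, 12, 10, 8, 10, 4, 8, 6, 10, 8, 10, 4, 7] [] [⟨4193, [], []⟩],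
  .tm 16 [7, 10, 8, 6, 10, 8, 4, 8, 0, 6] [] [⟨4092, [8, 7, 10, 4, 8, 6, 10, 8, 15, 6], [7488, 7519]⟩, ⟨3748, [6, 10, 4, 8, 12, 7, 10, 0], [268, 266]⟩, ⟨4113, [12, 7, 10, 8, 2, 15, 6], []⟩],
  .tm 1 [12, 8, 10, 8, 0, 6, 10, 6] [] [⟨4195, [], []⟩],
  .tm 16 [12, 8, 10, 4, 8, 6, 10, 8, 2, 4] [] [⟨4153, [8, 4, 8, 7, 10, 8, 4, 8, 2, 10, 6], [7487, 7488]⟩, ⟨3748, [10, 8, 7, 10, 4, 8, 10, 2], [266]⟩, ⟨3808, [8, 12, 8, 10, 4, 8, 6, 10, 4, 8, 2, 4, 7], []⟩],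
  .tm 32 [12, 8, 10, 4, 8, 6, 10, 8, 7, 10, 8, 2, 6, 10, 6] [] [⟨4058, [8, 4, 8, 10, 4, 8, 7, 10, 8, 2], [7487, 7519, 7488]⟩, ⟨3748, [6, 10, 8, 12, 10, 2], [266, 268]⟩, ⟨2062, [12, 4, 8, 6, 10, 8, 7, 10, 8, 10, 4, 7], []⟩],
  .tm 1 [12, 8, 4, 8, 10, 4, 8, 6, 10, 8, 10, 4, 7] [] [⟨4198, [], []⟩],
  .tm 32 [12, 8, 10, 8, 4, 8, 6, 10, 8, 0, 10, 4, 6] [] [⟨4164, [8, 4, 8, 6, 10, 8, 7, 10, 8, 2, 7], [7518, 7489]⟩, ⟨3748, [4, 8, 12, 10, 8, 10], [268, 266]⟩, ⟨1564, [10, 4, 8, 6, 10, 8, 7, 10, 8, 6, 10, 4], []⟩],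
  .tm 1 [8, 12, 4, 8, 10, 8, 7, 10, 8, 15, 6] [] [⟨4200, [], []⟩],
  .tm 32 [8, 10, 8, 7, 10, 8, 6, 10, 8, 4] [] [⟨3867, [8, 10, 4, 8, 6, 10, 8, 2, 10, 4], [7487, 7518, 7489]⟩, ⟨3748, [12, 10, 8, 10, 8, 12], [268, 266]⟩, ⟨4199, [12, 8, 4, 8, 10, 4, 8, 7, 10, 8, 2, 15], []⟩],
  .tm 1 [12, 4, 8, 6, 10, 8, 7, 10, 4, 8, 2, 10, 4, 6] [] [⟨4202, [], []⟩],
  .tm 39 [8, 12, 8, 4, 8, 6, 10, 8, 2, 4, 7] [] [⟨4196, [6, 10, 8, 4, 8, 0, 6, 10, 4, 6], [7488]⟩, ⟨3748, [12, 8, 6, 10, 4], [266, 268]⟩, ⟨3984, [12, 0], []⟩],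
  .tm 1 [8, 12, 4, 8, 7, 10, 8, 6, 10] [] [⟨4204, [], []⟩],
  .tm 35 [12, 8, 7, 10, 8, 10, 4, 8, 6] [] [⟨4171, [12, 8, 6, 10, 8, 6, 10, 4, 8, 4, 7], [7519, 7489, 7571]⟩, ⟨3748, [8, 12], [266, 268, 266]⟩, ⟨4079, [7, 10, 8, 6, 10, 8, 4, 8, 6, 10, 7], []⟩],
  .tm 1 [8, 10, 4, 2, 8, 15, 4, 7] [] [⟨4206, [], []⟩],
  .tm 24 [8, 12, 8, 10, 8, 6, 10, 8, 7, 10, 8, 4, 6] [] [⟨3873, [10, 8, 6, 10, 8, 7, 10, 8, 2, 6, 10, 4], [7487, 7488, 7519]⟩, ⟨3748, [8, 6, 10, 8, 6, 10], [268]⟩, ⟨4113, [12, 6, 10, 8, 7, 10, 4, 2, 8, 6, 10, 4], []⟩],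
  .tm 1 [12, 4, 8, 10, 4, 8, 10, 6] [] [⟨4208, [], []⟩],
  .tm 26 [8, 12, 8, 10, 8, 10, 4, 8, 6, 10, 8, 10] [] [⟨4185, [6, 10, 8, 7, 10, 8, 4, 8, 2, 6, 10, 4, 6], [7489, 7571, 7489]⟩, ⟨3748, [12, 8, 10, 8, 7, 10, 2], []⟩, ⟨2453, [12, 10, 8, 10, 4, 8, 6, 10, 8, 0, 4, 7], []⟩],
  .tm 1 [8, 12, 10, 8, 4, 8, 15] [] [⟨4210, [], []⟩],
  .tm 26 [8, 12, 10, 8, 7, 10, 8, 4, 8, 10, 4] [] [⟨3941, [12, 10, 4, 8, 7, 10, 8, 6, 10, 4, 8, 2, 15], [7489, 7570, 7519]⟩, ⟨3748, [10, 8, 12, 10, 8, 7, 10], [268]⟩, ⟨4201, [10, 4, 8, 0, 10, 6], []⟩],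
  .tm 1 [8, 6, 10, 8, 4, 8, 0, 15, 6] [] [⟨4212, [], []⟩],
  .tm 27 [8, 12, 6, 10, 8, 7, 10, 8, 4, 2, 8, 15, 4, 6] [] [⟨4194, [10, 8, 6, 10, 2, 8, 4], [7518, 7489, 7571]⟩, ⟨3748, [8, 12, 10, 2, 8], [268]⟩, ⟨3810, [8, 12, 10, 4, 8, 6, 10, 8, 7, 10, 4, 8, 10, 4, 6], []⟩],
  .tm 27 [8, 12, 8, 10, 4, 8, 6, 10, 8, 4, 6] [] [⟨4203, [12, 10, 8, 4, 8, 10, 8, 2, 4, 6], [7488, 7570, 7518]⟩, ⟨3748, [4, 8, 10, 8, 12, 8], [266, 268, 266]⟩, ⟨4050, [10, 8, 4, 8, 6, 10, 8, 0, 10, 4], []⟩],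
  .tm 1 [8, 12, 10, 4, 8, 7, 10, 8, 4, 8, 2, 6] [] [⟨4215, [], []⟩]]

theorem fc4143 : checkL (nat_lit 12) (nat_lit 4095) tH tK tK' BB FF TM XW d4143 (nat_lit 4143) = true := by decide +kernel

def d4217 : List Der := [.tm 34 [12, 7, 10, 8, 6, 10, 4, 8, 2, 15, 7] [] [⟨91, [12, 8, 7, 10, 8, 6, 10, 4, 2, 8, 4, 7], [169, 217, 167, 216]⟩, ⟨3749, [8, 4, 8, 12, 7, 10, 0], [7519, 7570]⟩, ⟨4092, [12, 8, 10, 8, 4, 8, 6, 10, 8, 2, 6, 10, 6], []⟩],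
  .tm 1 [6, 10, 8, 6, 10, 8, 4, 8, 2, 6, 10, 4, 7] [] [⟨4217, [], []⟩],
  .tm 36 [12, 10, 4, 8, 6, 10, 8, 2, 10] [] [⟨3800, [8, 12, 8, 10, 8, 6], [167, 216, 167, 169]⟩, ⟨3749, [12, 6, 10, 8, 10, 8, 4, 8], [7488, 7518, 7570]⟩, ⟨4152, [7, 10, 8, 7, 10, 8, 4, 8, 6, 10, 4, 6], []⟩],
  .dfn,
  .tm 1 [] [] [⟨4220, [], []⟩],
  .tm 0 [] [] [⟨4220, [], [89, 84, 82]⟩, ⟨4220, [1, 3, 13], []⟩],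
  .tm 0 [] [] [⟨4220, [], [116, 116, 82]⟩, ⟨4220, [7, 9, 5, 9, 11, 7, 9, 5, 9], []⟩],
  .tm 2 [] [] [⟨4220, [], [141, 88]⟩, ⟨2918, [8, 10, 4, 8, 6, 10, 8, 7, 10, 4, 8, 2, 10, 7], []⟩],
  .tm 1 [12, 10, 4, 8, 6, 10, 8, 7, 10, 8, 2, 10] [] [⟨4224, [], []⟩],
  .tm 4 [] [] [⟨4220, [7], [86, 116]⟩, ⟨2782, [8, 12, 10, 8, 6, 10, 4, 8, 7, 10, 8, 2, 10, 6], []⟩],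
  .tm 1 [12, 8, 7, 10, 8, 10, 4, 8, 6] [] [⟨4226, [], []⟩],
  .tm 3 [6, 10, 4] [] [⟨4220, [6, 10, 6, 4], [90, 117, 141, 84]⟩, ⟨207, [8, 12, 7, 10, 4, 8, 6, 10, 8, 10, 4, 6], []⟩],
  .tm 1 [4, 8, 10, 8, 10, 7] [] [⟨4228, [], []⟩],
  .tm 5 [] [] [⟨4220, [7, 10, 6, 4], [90, 82]⟩, ⟨432, [8, 12, 7, 10, 4, 8, 6], [268, 266]⟩, ⟨4229, [8, 12, 8, 10, 8, 6, 10, 8, 4, 8, 0, 4, 6], []⟩],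
  .tm 3 [12, 10, 4, 7] [] [⟨4220, [12, 10, 6, 4], [116, 141, 84]⟩, ⟨2572, [12, 8, 10, 8, 4, 8, 2, 6, 10, 4], []⟩],
  .tm 1 [7, 10, 8, 6, 10, 8, 7, 10, 4, 8, 15, 4] [] [⟨4231, [], []⟩],
  .tm 3 [] [] [⟨4220, [6, 10, 7, 4], [117, 140, 90, 82]⟩, ⟨2086, [4, 8, 6, 10, 2, 8, 15], []⟩],
  .tm 1 [12, 8, 10, 4, 8, 7, 10, 8, 6, 10, 8, 10, 4, 6] [] [⟨4233, [], []⟩],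
  .tm 3 [6, 10, 4, 8, 6, 10, 4] [] [⟨4220, [8, 12, 10, 6], [141, 90]⟩, ⟨2918, [8, 12, 4, 8, 4, 8, 10, 8, 7, 10, 8, 4, 6], []⟩],
  .tm 1 [4, 8, 7, 10, 8, 0, 10, 4, 7] [] [⟨4235, [], []⟩],
  .tm 3 [12, 7, 10, 4, 2, 8, 10, 4, 6] [] [⟨4220, [8, 12], [86, 82]⟩, ⟨4220, [8, 12, 8, 15, 4, 6], []⟩],
  .tm 27 [8, 12, 7, 10, 8, 6, 10, 4, 8, 0, 10, 4] [] [⟨4237, [12, 8, 10, 8, 10, 4, 8, 7, 10, 8, 6, 10, 4, 6], [8460, 8446, 8461, 8445, 8446]⟩, ⟨4220, [8, 6, 10, 8, 12, 4, 2], [90, 116, 88]⟩, ⟨4190, [12, 7, 10, 8, 6, 10, 8, 7, 10, 4, 8, 6, 10, 4, 7], []⟩],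
  .tm 1 [8, 10, 8, 4, 8, 7, 10, 2, 8, 15, 4, 7] [] [⟨4238, [], []⟩],
  .tm 27 [8, 12, 6, 10, 8, 10, 8, 4, 8, 6, 10, 8, 15, 4, 7] [] [⟨4237, [12, 10, 8, 4, 8, 10, 8, 7, 10, 8, 15, 4, 6], [8461, 8461]⟩, ⟨4220, [4, 2, 8, 12, 6, 10, 4], [116, 86]⟩, ⟨4190, [12, 4, 8, 6, 10, 4, 8, 7, 10, 8, 15], []⟩],
  .tm 1 [8, 6, 10, 8, 7, 10, 8, 2, 15, 7] [] [⟨4240, [], []⟩],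
  .tm 6 [10, 8, 7, 10, 8, 10, 4, 8, 6, 10, 4, 6] [] [⟨4220, [12, 10, 4, 8, 6, 10, 8, 4, 8, 10, 4, 6], [85, 117]⟩, ⟨4221, [8, 12, 4, 2], [8461, 8461, 8446, 8460]⟩, ⟨4240, [12, 4, 8, 7, 10, 4, 8, 6, 10, 8, 2, 10, 4], []⟩],
  .tm 1 [8, 12, 8, 6, 10, 8, 4, 8, 0, 6] [] [⟨4242, [], []⟩],
  .tm 19 [8, 7, 10, 8, 6, 10, 4, 8, 7, 10, 8, 2, 6, 10, 4] [] [⟨4220, [12, 10, 4, 8, 7, 10, 8, 10, 4, 6], [87, 89, 140]⟩, ⟨4221, [12, 6, 10, 8, 7, 10, 2], []⟩, ⟨4242, [8, 12, 10, 8, 7, 10, 4, 2, 8, 6, 10, 4], []⟩],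
  .tm 1 [12, 10, 8, 7, 10, 4, 8, 10, 4] [] [⟨4244, [], []⟩],
  .tm 9 [8, 7, 10, 8, 4, 8] [] [⟨3746, [7, 10, 8, 6, 10, 8, 2, 4, 6], []⟩, ⟨4224, [8, 12, 6, 10, 6, 4], []⟩],
  .tm 1 [4, 8, 10, 4, 8, 6, 10, 8, 2, 15, 4, 6] [] [⟨4246, [], []⟩]]

theorem fc4217 : checkL (nat_lit 12) (nat_lit 4095) tH tK tK' BB FF TM XW d4217 (nat_lit 4217) = true := by decide +kernel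

theorem cv0_1_0 : covB FF nets (nat_lit 19656) (nat_lit 15) (nat_lit 20) (nat_lit 2457) (nat_lit 4248) (nat_lit 0) (nat_lit 1) [0, 1, 2, 3, 4, 5, 6, 7, 8, 9] [[0], [2], [4], [6], [8], [10], [12], [14], [16], [18]]
    [10] [9, 7, 5, 3, 9, 4, 9, 7, 4, 3, 9, 2, 7, 3, 4, 0, 9, 5, 4, 9, 3, 9] k0_1 = true := by decide +kernel

theorem rw0 : rowB (nat_lit 19656) (ivl (nat_lit 2457) ((nat_lit 19656) - (nat_lit 2457))) row0 [0, 17199, 0, 0, 0, 0, 0, 0, 0, 0, 0] 0 = true := by decide +kernel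

theorem cv1_0_0 : covB FF nets (nat_lit 19656) (nat_lit 15) (nat_lit 20) (nat_lit 2457) (nat_lit 4248) (nat_lit 1) (nat_lit 0) [12, 13, 14, 15, 16, 17, 18] [[0], [4], [6, 20], [13], [2, 0, 18, 11, 20], [10, 13, 8, 11, 4, 6, 8, 10, 4, 6, 8, 4, 6, 4, 10, 8, 10, 10, 6, 8, 11, 22], [10, 8, 11, 6, 20]]
    [11] [] k1_0 = true := by decide +kernel

theorem cv1_1_0 : covB FF nets (nat_lit 19656) (nat_lit 15) (nat_lit 20) (nat_lit 2457) (nat_lit 4248) (nat_lit 1) (nat_lit 1) [12, 13, 14, 15, 16, 17, 18] [[0], [4], [6, 20], [13], [2, 0, 18, 11, 20], [10, 13, 8, 11, 4, 6, 8, 10, 4, 6, 8, 4, 6, 4, 10, 8, 10, 10, 6, 8, 11, 22], [10, 8, 11, 6, 20]]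
    [19, 20, 21] [3, 3, 2, 6, 3, 3, 4, 5] k1_1 = true := by decide +kernel

theorem cv1_2_0 : covB FF nets (nat_lit 19656) (nat_lit 15) (nat_lit 20) (nat_lit 2457) (nat_lit 4248) (nat_lit 1) (nat_lit 2) [12, 13, 14, 15, 16, 17, 18] [[0], [4], [6, 20], [13], [2, 0, 18, 11, 20], [10, 13, 8, 11, 4, 6, 8, 10, 4, 6, 8, 4, 6, 4, 10, 8, 10, 10, 6, 8, 11, 22], [10, 8, 11, 6, 20]]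
    [22, 37, 32] [3, 2, 3, 1, 6, 3, 3, 4, 5, 2, 4, 6, 3, 5] k1_2 = true := by decide +kernel

theorem cv1_3_0 : covB FF nets (nat_lit 19656) (nat_lit 15) (nat_lit 20) (nat_lit 2457) (nat_lit 4248) (nat_lit 1) (nat_lit 3) [12, 13, 14, 15, 16, 17, 18] [[0], [4], [6, 20], [13], [2, 0, 18, 11, 20], [10, 13, 8, 11, 4, 6, 8, 10, 4, 6, 8, 4, 6, 4, 10, 8, 10, 10, 6, 8, 11, 22], [10, 8, 11, 6, 20]]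
    [39, 57] [3, 1, 3, 2, 6, 3, 3, 4, 5, 2, 4, 6, 3, 3, 5, 2, 4, 6, 3, 3, 5] k1_3 = true := by decide +kernel

end Cfsg.Agent.Lib.ThD
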