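import Cfsg.Agent.Lib.ThDR
import Cfsg.Agent.Lib.ThDT
import Cfsg.Agent.Lib.ThDF
import Cfsg.Agent.Lib.ThDM

set_option autoImplicit false
set_option maxRecDepth 100000

namespace Cfsg.Agent.Lib.ThD
open Cfsg.Agent.Lib.PermNet Cfsg.Agent.Lib.DCE

theorem cv1_4_0 : covB FF nets (nat_lit 19656) (nat_lit 15) (nat_lit 20) (nat_lit 2457) (nat_lit 4248) (nat_lit 1) (nat_lit 4) [12, 13, 14, 15, 16, 17, 18] [[0], [4], [6, 20], [13], [2, 0, 18, 11, 20], [10, 13, 8, 11, 4, 6, 8, 10, 4, 6, 8, 4, 6, 4, 10, 8, 10, 10, 6, 8, 11, 22], [10, 8, 11, 6, 20]]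
    [73] [1, 0, 2, 6, 3, 3, 5, 2, 6, 3, 3, 4, 5, 2, 6, 3, 3] k1_4 = true := by decide +kernel

theorem cv1_5_0 : covB FF nets (nat_lit 19656) (nat_lit 15) (nat_lit 20) (nat_lit 2457) (nat_lit 4248) (nat_lit 1) (nat_lit 5) [12, 13, 14, 15, 16, 17, 18] [[0], [4], [6, 20], [13], [2, 0, 18, 11, 20], [10, 13, 8, 11, 4, 6, 8, 10, 4, 6, 8, 4, 6, 4, 10, 8, 10, 10, 6, 8, 11, 22], [10, 8, 11, 6, 20]]
    [81] [3, 1, 0, 3, 2, 6, 3, 3, 5, 2, 6, 3, 3, 4, 5, 2, 6, 3, 3] k1_5 = true := by decide +kernel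

theorem cv1_6_0 : covB FF nets (nat_lit 19656) (nat_lit 15) (nat_lit 20) (nat_lit 2457) (nat_lit 4248) (nat_lit 1) (nat_lit 6) [12, 13, 14, 15, 16, 17, 18] [[0], [4], [6, 20], [13], [2, 0, 18, 11, 20], [10, 13, 8, 11, 4, 6, 8, 10, 4, 6, 8, 4, 6, 4, 10, 8, 10, 10, 6, 8, 11, 22], [10, 8, 11, 6, 20]]
    [131] [3, 1, 0, 3, 2, 6, 3, 3, 5, 2, 6, 3, 3, 4, 5, 2, 6, 3, 3] k1_6 = true := by decide +kernel

theorem rw1 : rowB (nat_lit 19656) (ivl (nat_lit 2457) ((nat_lit 19656) - (nat_lit 2457))) row1 [1, 78, 480, 2304, 2048, 6144, 6144, 0, 0, 0, 0] 0 = true := by decide +kernel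

theorem cv2_1_0 : covB FF nets (nat_lit 19656) (nat_lit 15) (nat_lit 20) (nat_lit 2457) (nat_lit 4248) (nat_lit 2) (nat_lit 1) [24, 25, 26, 27, 28, 29, 30, 36] [[0], [10, 13, 8, 11, 4, 6, 8, 10, 4, 6, 8, 4, 6, 4, 10, 8, 10, 10, 6, 8, 11, 22], [12], [11, 13, 4, 6, 8, 11, 4, 6, 8, 10, 4, 6, 8, 4, 6, 4, 10, 13, 8, 11, 6, 8, 10, 13], [10, 6, 8, 11, 12, 4, 6, 8, 11, 4, 6, 8, 4, 6, 4, 11, 8, 11, 12, 6, 8, 11, 12], [13, 4, 6, 8, 10, 4, 6, 8, 11, 4, 6, 8, 4, 6, 4, 6, 8, 11, 6, 8, 10, 6, 22], [4, 6, 8, 11, 4, 6, 8, 4, 6, 4, 0, 6, 8, 11, 6, 21], [11, 8, 4, 6, 4, 10, 12, 8, 11]]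
    [23, 31, 38] [2, 2, 7, 2, 2, 7, 7, 6, 2, 2, 7, 6, 2, 2, 7] k2_1 = true := by decide +kernel

theorem cv2_2_0 : covB FF nets (nat_lit 19656) (nat_lit 15) (nat_lit 20) (nat_lit 2457) (nat_lit 4248) (nat_lit 2) (nat_lit 2) [24, 25, 26, 27, 28, 29, 30, 36] [[0], [10, 13, 8, 11, 4, 6, 8, 10, 4, 6, 8, 4, 6, 4, 10, 8, 10, 10, 6, 8, 11, 22], [12], [11, 13, 4, 6, 8, 11, 4, 6, 8, 10, 4, 6, 8, 4, 6, 4, 10, 13, 8, 11, 6, 8, 10, 13], [10, 6, 8, 11, 12, 4, 6, 8, 11, 4, 6, 8, 4, 6, 4, 11, 8, 11, 12, 6, 8, 11, 12], [13, 4, 6, 8, 10, 4, 6, 8, 11, 4, 6, 8, 4, 6, 4, 6, 8, 11, 6, 8, 10, 6, 22], [4, 6, 8, 11, 4, 6, 8, 4, 6, 4, 0, 6, 8, 11, 6, 21], [11, 8, 4, 6, 4, 10, 12, 8, 11]]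
    [33] [2, 2, 7, 2, 2, 7, 7] k2_2 = true := by decide +kernel

theorem cv2_3_0 : covB FF nets (nat_lit 19656) (nat_lit 15) (nat_lit 20) (nat_lit 2457) (nat_lit 4248) (nat_lit 2) (nat_lit 3) [24, 25, 26, 27, 28, 29, 30, 36] [[0], [10, 13, 8, 11, 4, 6, 8, 10, 4, 6, 8, 4, 6, 4, 10, 8, 10, 10, 6, 8, 11, 22], [12], [11, 13, 4, 6, 8, 11, 4, 6, 8, 10, 4, 6, 8, 4, 6, 4, 10, 13, 8, 11, 6, 8, 10, 13], [10, 6, 8, 11, 12, 4, 6, 8, 11, 4, 6, 8, 4, 6, 4, 11, 8, 11, 12, 6, 8, 11, 12], [13, 4, 6, 8, 10, 4, 6, 8, 11, 4, 6, 8, 4, 6, 4, 6, 8, 11, 6, 8, 10, 6, 22], [4, 6, 8, 11, 4, 6, 8, 4, 6, 4, 0, 6, 8, 11, 6, 21], [11, 8, 4, 6, 4, 10, 12, 8, 11]]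
    [47, 55] [2, 2, 7, 2, 2, 7, 6, 2, 2, 7, 2, 2, 7, 6, 2, 2] k2_3 = true := by decide +kernel

theorem cv2_6_0 : covB FF nets (nat_lit 19656) (nat_lit 15) (nat_lit 20) (nat_lit 2457) (nat_lit 4248) (nat_lit 2) (nat_lit 6) [24, 25, 26, 27, 28, 29, 30, 36] [[0], [10, 13, 8, 11, 4, 6, 8, 10, 4, 6, 8, 4, 6, 4, 10, 8, 10, 10, 6, 8, 11, 22], [12], [11, 13, 4, 6, 8, 11, 4, 6, 8, 10, 4, 6, 8, 4, 6, 4, 10, 13, 8, 11, 6, 8, 10, 13], [10, 6, 8, 11, 12, 4, 6, 8, 11, 4, 6, 8, 4, 6, 4, 11, 8, 11, 12, 6, 8, 11, 12], [13, 4, 6, 8, 10, 4, 6, 8, 11, 4, 6, 8, 4, 6, 4, 6, 8, 11, 6, 8, 10, 6, 22], [4, 6, 8, 11, 4, 6, 8, 4, 6, 4, 0, 6, 8, 11, 6, 21], [11, 8, 4, 6, 4, 10, 12, 8, 11]]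
    [148] [2, 0, 2, 7, 2, 2, 7, 6, 2, 2, 7, 2, 2, 7, 6, 2, 2, 7, 6, 2, 2, 7, 6, 2, 2, 7] k2_6 = true := by decide +kernel

theorem cv2_7_0 : covB FF nets (nat_lit 19656) (nat_lit 15) (nat_lit 20) (nat_lit 2457) (nat_lit 4248) (nat_lit 2) (nat_lit 7) [24, 25, 26, 27, 28, 29, 30, 36] [[0], [10, 13, 8, 11, 4, 6, 8, 10, 4, 6, 8, 4, 6, 4, 10, 8, 10, 10, 6, 8, 11, 22], [12], [11, 13, 4, 6, 8, 11, 4, 6, 8, 10, 4, 6, 8, 4, 6, 4, 10, 13, 8, 11, 6, 8, 10, 13], [10, 6, 8, 11, 12, 4, 6, 8, 11, 4, 6, 8, 4, 6, 4, 11, 8, 11, 12, 6, 8, 11, 12], [13, 4, 6, 8, 10, 4, 6, 8, 11, 4, 6, 8, 4, 6, 4, 6, 8, 11, 6, 8, 10, 6, 22], [4, 6, 8, 11, 4, 6, 8, 4, 6, 4, 0, 6, 8, 11, 6, 21], [11, 8, 4, 6, 4, 10, 12, 8, 11]]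
    [2973] [0, 7, 2, 2, 7, 6, 2, 2, 7, 2, 2, 7, 6, 2, 2, 7, 6, 2, 2, 7, 6, 2, 2, 7] k2_7 = true := by decide +kernel

theorem cv2_8_0 : covB FF nets (nat_lit 19656) (nat_lit 15) (nat_lit 20) (nat_lit 2457) (nat_lit 4248) (nat_lit 2) (nat_lit 8) [24, 25, 26, 27, 28, 29, 30, 36] [[0], [10, 13, 8, 11, 4, 6, 8, 10, 4, 6, 8, 4, 6, 4, 10, 8, 10, 10, 6, 8, 11, 22], [12], [11, 13, 4, 6, 8, 11, 4, 6, 8, 10, 4, 6, 8, 4, 6, 4, 10, 13, 8, 11, 6, 8, 10, 13], [10, 6, 8, 11, 12, 4, 6, 8, 11, 4, 6, 8, 4, 6, 4, 11, 8, 11, 12, 6, 8, 11, 12], [13, 4, 6, 8, 10, 4, 6, 8, 11, 4, 6, 8, 4, 6, 4, 6, 8, 11, 6, 8, 10, 6, 22], [4, 6, 8, 11, 4, 6, 8, 4, 6, 4, 0, 6, 8, 11, 6, 21], [11, 8, 4, 6, 4, 10, 12, 8, 11]]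
    [3262] [2, 0, 2, 7, 2, 2, 7, 6, 2, 2, 7, 2, 2, 7, 6, 2, 2, 7, 6, 2, 2, 7, 6, 2, 2, 7] k2_8 = true := by decide +kernel

theorem rw2 : rowB (nat_lit 19656) (ivl (nat_lit 2457) ((nat_lit 19656) - (nat_lit 2457))) row2 [0, 180, 27, 864, 0, 0, 6912, 2304, 6912, 0, 0] 0 = true := by decide +kernel

theorem cv3_1_0 : covB FF nets (nat_lit 19656) (nat_lit 15) (nat_lit 20) (nat_lit 2457) (nat_lit 4248) (nat_lit 3) (nat_lit 1) [41, 42, 43, 44, 45, 58, 70] [[2, 0, 18, 11, 20], [10, 8, 11, 6, 20], [4, 0, 10, 8, 11, 6, 20], [10, 8, 11], [11, 8, 10], [18, 12, 2, 18, 8, 18, 18, 11, 8, 10, 6, 8, 10, 4, 6, 8, 4, 6, 4, 0, 12, 10, 8, 10, 6, 8, 10, 24], [19, 0, 14, 6, 8, 18, 18, 11, 8, 10, 6, 8, 10, 4, 6, 8, 4, 6, 4, 8, 10, 21]]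
    [40, 56] [6, 5, 6, 5] k3_1 = true := by decide +kernel

theorem cv3_2_0 : covB FF nets (nat_lit 19656) (nat_lit 15) (nat_lit 20) (nat_lit 2457) (nat_lit 4248) (nat_lit 3) (nat_lit 2) [41, 42, 43, 44, 45, 58, 70] [[2, 0, 18, 11, 20], [10, 8, 11, 6, 20], [4, 0, 10, 8, 11, 6, 20], [10, 8, 11], [11, 8, 10], [18, 12, 2, 18, 8, 18, 18, 11, 8, 10, 6, 8, 10, 4, 6, 8, 4, 6, 4, 0, 12, 10, 8, 10, 6, 8, 10, 24], [19, 0, 14, 6, 8, 18, 18, 11, 8, 10, 6, 8, 10, 4, 6, 8, 4, 6, 4, 8, 10, 21]]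
    [46, 54] [6, 5, 6, 5] k3_2 = true := by decide +kernel

theorem cv3_3_0 : covB FF nets (nat_lit 19656) (nat_lit 15) (nat_lit 20) (nat_lit 2457) (nat_lit 4248) (nat_lit 3) (nat_lit 3) [41, 42, 43, 44, 45, 58, 70] [[2, 0, 18, 11, 20], [10, 8, 11, 6, 20], [4, 0, 10, 8, 11, 6, 20], [10, 8, 11], [11, 8, 10], [18, 12, 2, 18, 8, 18, 18, 11, 8, 10, 6, 8, 10, 4, 6, 8, 4, 6, 4, 0, 12, 10, 8, 10, 6, 8, 10, 24], [19, 0, 14, 6, 8, 18, 18, 11, 8, 10, 6, 8, 10, 4, 6, 8, 4, 6, 4, 8, 10, 21]]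
    [48, 49, 50, 51, 52, 53, 59, 60, 61, 62, 63, 64, 65, 66, 67, 68, 69, 127, 128, 130, 72, 71] [4, 3, 1, 0, 2, 6, 6, 5, 5] k3_3 = true := by decide +kernel

theorem cv3_4_0 : covB FF nets (nat_lit 19656) (nat_lit 15) (nat_lit 20) (nat_lit 2457) (nat_lit 4248) (nat_lit 3) (nat_lit 4) [41, 42, 43, 44, 45, 58, 70] [[2, 0, 18, 11, 20], [10, 8, 11, 6, 20], [4, 0, 10, 8, 11, 6, 20], [10, 8, 11], [11, 8, 10], [18, 12, 2, 18, 8, 18, 18, 11, 8, 10, 6, 8, 10, 4, 6, 8, 4, 6, 4, 0, 12, 10, 8, 10, 6, 8, 10, 24], [19, 0, 14, 6, 8, 18, 18, 11, 8, 10, 6, 8, 10, 4, 6, 8, 4, 6, 4, 8, 10, 21]]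
    [80] [4, 3, 1, 0, 6, 5, 6, 5] k3_4 = true := by decide +kernel

theorem cv3_5_0 : covB FF nets (nat_lit 19656) (nat_lit 15) (nat_lit 20) (nat_lit 2457) (nat_lit 4248) (nat_lit 3) (nat_lit 5) [41, 42, 43, 44, 45, 58, 70] [[2, 0, 18, 11, 20], [10, 8, 11, 6, 20], [4, 0, 10, 8, 11, 6, 20], [10, 8, 11], [11, 8, 10], [18, 12, 2, 18, 8, 18, 18, 11, 8, 10, 6, 8, 10, 4, 6, 8, 4, 6, 4, 0, 12, 10, 8, 10, 6, 8, 10, 24], [19, 0, 14, 6, 8, 18, 18, 11, 8, 10, 6, 8, 10, 4, 6, 8, 4, 6, 4, 8, 10, 21]]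
    [92, 104, 110, 90, 117, 123, 126] [4, 3, 1, 0, 2, 6, 5, 6, 5] k3_5 = true := by decide +kernel

theorem cv3_6_0 : covB FF nets (nat_lit 19656) (nat_lit 15) (nat_lit 20) (nat_lit 2457) (nat_lit 4248) (nat_lit 3) (nat_lit 6) [41, 42, 43, 44, 45, 58, 70] [[2, 0, 18, 11, 20], [10, 8, 11, 6, 20], [4, 0, 10, 8, 11, 6, 20], [10, 8, 11], [11, 8, 10], [18, 12, 2, 18, 8, 18, 18, 11, 8, 10, 6, 8, 10, 4, 6, 8, 4, 6, 4, 0, 12, 10, 8, 10, 6, 8, 10, 24], [19, 0, 14, 6, 8, 18, 18, 11, 8, 10, 6, 8, 10, 4, 6, 8, 4, 6, 4, 8, 10, 21]]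
    [338, 2495, 253, 352, 334, 150, 146, 2451, 2753, 257, 713, 1807, 1044, 690, 460, 719, 2465, 2572, 603, 2879, 675, 414, 711, 1008, 2613, 2859, 597, 2854, 2918, 2782, 249, 255, 1457, 432, 959, 2016, 989, 2418, 428, 271, 316, 207, 188, 1494, 2445, 2422, 2412, 327, 2086] [4, 3, 1, 0, 2, 6, 5, 6, 5] k3_6 = true := by decide +kernel

theorem cv3_7_0 : covB FF nets (nat_lit 19656) (nat_lit 15) (nat_lit 20) (nat_lit 2457) (nat_lit 4248) (nat_lit 3) (nat_lit 7) [41, 42, 43, 44, 45, 58, 70] [[2, 0, 18, 11, 20], [10, 8, 11, 6, 20], [4, 0, 10, 8, 11, 6, 20], [10, 8, 11], [11, 8, 10], [18, 12, 2, 18, 8, 18, 18, 11, 8, 10, 6, 8, 10, 4, 6, 8, 4, 6, 4, 0, 12, 10, 8, 10, 6, 8, 10, 24], [19, 0, 14, 6, 8, 18, 18, 11, 8, 10, 6, 8, 10, 4, 6, 8, 4, 6, 4, 8, 10, 21]]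
    [2991, 3081] [4, 3, 1, 0, 2, 6, 5, 6, 5] k3_7 = true := by decide +kernel

theorem cv3_8_0 : covB FF nets (nat_lit 19656) (nat_lit 15) (nat_lit 20) (nat_lit 2457) (nat_lit 4248) (nat_lit 3) (nat_lit 8) [41, 42, 43, 44, 45, 58, 70] [[2, 0, 18, 11, 20], [10, 8, 11, 6, 20], [4, 0, 10, 8, 11, 6, 20], [10, 8, 11], [11, 8, 10], [18, 12, 2, 18, 8, 18, 18, 11, 8, 10, 6, 8, 10, 4, 6, 8, 4, 6, 4, 0, 12, 10, 8, 10, 6, 8, 10, 24], [19, 0, 14, 6, 8, 18, 18, 11, 8, 10, 6, 8, 10, 4, 6, 8, 4, 6, 4, 8, 10, 21]]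
    [3314, 3325, 3327, 3621, 3533, 3537] [4, 3, 1, 0, 2, 6, 5, 6, 5] k3_8 = true := by decide +kernel

theorem cv3_9_0 : covB FF nets (nat_lit 19656) (nat_lit 15) (nat_lit 20) (nat_lit 2457) (nat_lit 4248) (nat_lit 3) (nat_lit 9) [41, 42, 43, 44, 45, 58, 70] [[2, 0, 18, 11, 20], [10, 8, 11, 6, 20], [4, 0, 10, 8, 11, 6, 20], [10, 8, 11], [11, 8, 10], [18, 12, 2, 18, 8, 18, 18, 11, 8, 10, 6, 8, 10, 4, 6, 8, 4, 6, 4, 0, 12, 10, 8, 10, 6, 8, 10, 24], [19, 0, 14, 6, 8, 18, 18, 11, 8, 10, 6, 8, 10, 4, 6, 8, 4, 6, 4, 8, 10, 21]]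
    [4111, 4190, 4068, 4217, 3741] [4, 3, 1, 0, 2, 6, 5, 6, 5] k3_9 = true := by decide +kernel

theorem cv3_10_0 : covB FF nets (nat_lit 19656) (nat_lit 15) (nat_lit 20) (nat_lit 2457) (nat_lit 4248) (nat_lit 3) (nat_lit 10) [41, 42, 43, 44, 45, 58, 70] [[2, 0, 18, 11, 20], [10, 8, 11, 6, 20], [4, 0, 10, 8, 11, 6, 20], [10, 8, 11], [11, 8, 10], [18, 12, 2, 18, 8, 18, 18, 11, 8, 10, 6, 8, 10, 4, 6, 8, 4, 6, 4, 0, 12, 10, 8, 10, 6, 8, 10, 24], [19, 0, 14, 6, 8, 18, 18, 11, 8, 10, 6, 8, 10, 4, 6, 8, 4, 6, 4, 8, 10, 21]]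
    [4220] [4, 3, 1, 2, 6, 6] k3_10 = true := by decide +kernel

theorem rw3 : rowB (nat_lit 19656) (ivl (nat_lit 2457) ((nat_lit 19656) - (nat_lit 2457))) row3 [0, 18, 18, 363, 144, 1584, 12672, 432, 1296, 624, 48] 0 = true := by decide +kernel

theorem cv4_1_0 : covB FF nets (nat_lit 19656) (nat_lit 15) (nat_lit 20) (nat_lit 2457) (nat_lit 4248) (nat_lit 4) (nat_lit 1) [75, 76, 77, 113, 114] [[12], [10, 8, 10, 10, 4, 6, 8, 11, 4, 6, 8, 4, 6, 4, 11, 8, 11, 12, 6, 8, 11, 23], [19, 19, 19, 2, 4, 6, 8, 11, 12, 4, 6, 8, 11, 4, 6, 8, 4, 6, 4, 11, 8, 11, 12, 6, 8, 11, 6, 12], [19, 19, 2, 4, 6, 4, 0, 6, 12], [6, 8, 19, 6, 8, 18, 18, 11, 8, 11, 4, 6, 8, 4, 6, 4, 0, 10, 6, 8, 11, 6, 8, 10, 6]]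
    [74] [3, 3, 4, 0, 0, 1, 4] k4_1 = true := by decide +kernel

theorem cv4_3_0 : covB FF nets (nat_lit 19656) (nat_lit 15) (nat_lit 20) (nat_lit 2457) (nat_lit 4248) (nat_lit 4) (nat_lit 3) [75, 76, 77, 113, 114] [[12], [10, 8, 10, 10, 4, 6, 8, 11, 4, 6, 8, 4, 6, 4, 11, 8, 11, 12, 6, 8, 11, 23], [19, 19, 19, 2, 4, 6, 8, 11, 12, 4, 6, 8, 11, 4, 6, 8, 4, 6, 4, 11, 8, 11, 12, 6, 8, 11, 6, 12], [19, 19, 2, 4, 6, 4, 0, 6, 12], [6, 8, 19, 6, 8, 18, 18, 11, 8, 11, 4, 6, 8, 4, 6, 4, 0, 10, 6, 8, 11, 6, 8, 10, 6]]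
    [79] [0, 0, 3, 3, 4, 0, 0, 3, 3, 1, 4] k4_3 = true := by decide +kernel

theorem cv4_4_0 : covB FF nets (nat_lit 19656) (nat_lit 15) (nat_lit 20) (nat_lit 2457) (nat_lit 4248) (nat_lit 4) (nat_lit 4) [75, 76, 77, 113, 114] [[12], [10, 8, 10, 10, 4, 6, 8, 11, 4, 6, 8, 4, 6, 4, 11, 8, 11, 12, 6, 8, 11, 23], [19, 19, 19, 2, 4, 6, 8, 11, 12, 4, 6, 8, 11, 4, 6, 8, 4, 6, 4, 11, 8, 11, 12, 6, 8, 11, 6, 12], [19, 19, 2, 4, 6, 4, 0, 6, 12], [6, 8, 19, 6, 8, 18, 18, 11, 8, 11, 4, 6, 8, 4, 6, 4, 0, 10, 6, 8, 11, 6, 8, 10, 6]]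
    [78] [0, 0, 3, 3, 4, 0, 0, 1, 4] k4_4 = true := by decide +kernel

theorem cv4_5_0 : covB FF nets (nat_lit 19656) (nat_lit 15) (nat_lit 20) (nat_lit 2457) (nat_lit 4248) (nat_lit 4) (nat_lit 5) [75, 76, 77, 113, 114] [[12], [10, 8, 10, 10, 4, 6, 8, 11, 4, 6, 8, 4, 6, 4, 11, 8, 11, 12, 6, 8, 11, 23], [19, 19, 19, 2, 4, 6, 8, 11, 12, 4, 6, 8, 11, 4, 6, 8, 4, 6, 4, 11, 8, 11, 12, 6, 8, 11, 6, 12], [19, 19, 2, 4, 6, 4, 0, 6, 12], [6, 8, 19, 6, 8, 18, 18, 11, 8, 11, 4, 6, 8, 4, 6, 4, 0, 10, 6, 8, 11, 6, 8, 10, 6]]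
    [86, 96, 100, 107] [0, 0, 3, 3, 4, 0, 0, 3, 1, 3, 4] k4_5 = true := by decide +kernel

theorem cv4_6_0 : covB FF nets (nat_lit 19656) (nat_lit 15) (nat_lit 20) (nat_lit 2457) (nat_lit 4248) (nat_lit 4) (nat_lit 6) [75, 76, 77, 113, 114] [[12], [10, 8, 10, 10, 4, 6, 8, 11, 4, 6, 8, 4, 6, 4, 11, 8, 11, 12, 6, 8, 11, 23], [19, 19, 19, 2, 4, 6, 8, 11, 12, 4, 6, 8, 11, 4, 6, 8, 4, 6, 4, 11, 8, 11, 12, 6, 8, 11, 6, 12], [19, 19, 2, 4, 6, 4, 0, 6, 12], [6, 8, 19, 6, 8, 18, 18, 11, 8, 11, 4, 6, 8, 4, 6, 4, 0, 10, 6, 8, 11, 6, 8, 10, 6]]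
    [144, 2168, 2247, 263, 609, 574, 803, 2386, 245, 2293, 1615, 173, 261, 2439, 565, 1554, 456, 1812, 555, 778, 834, 410, 1145, 158, 177, 227, 563, 1202, 426, 217, 402] [0, 0, 3, 3, 1, 3, 4, 0, 0, 1, 3, 3, 4, 0, 0] k4_6 = true := by decide +kernel

theorem cv4_7_0 : covB FF nets (nat_lit 19656) (nat_lit 15) (nat_lit 20) (nat_lit 2457) (nat_lit 4248) (nat_lit 4) (nat_lit 7) [75, 76, 77, 113, 114] [[12], [10, 8, 10, 10, 4, 6, 8, 11, 4, 6, 8, 4, 6, 4, 11, 8, 11, 12, 6, 8, 11, 23], [19, 19, 19, 2, 4, 6, 8, 11, 12, 4, 6, 8, 11, 4, 6, 8, 4, 6, 4, 11, 8, 11, 12, 6, 8, 11, 6, 12], [19, 19, 2, 4, 6, 4, 0, 6, 12], [6, 8, 19, 6, 8, 18, 18, 11, 8, 11, 4, 6, 8, 4, 6, 4, 0, 10, 6, 8, 11, 6, 8, 10, 6]]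
    [3258, 3249, 3260, 3014, 3010, 3243, 3136] [0, 0, 3, 3, 1, 3, 4, 0, 0, 1, 3, 3, 4] k4_7 = true := by decide +kernel

theorem cv4_8_0 : covB FF nets (nat_lit 19656) (nat_lit 15) (nat_lit 20) (nat_lit 2457) (nat_lit 4248) (nat_lit 4) (nat_lit 8) [75, 76, 77, 113, 114] [[12], [10, 8, 10, 10, 4, 6, 8, 11, 4, 6, 8, 4, 6, 4, 11, 8, 11, 12, 6, 8, 11, 23], [19, 19, 19, 2, 4, 6, 8, 11, 12, 4, 6, 8, 11, 4, 6, 8, 4, 6, 4, 11, 8, 11, 12, 6, 8, 11, 6, 12], [19, 19, 2, 4, 6, 4, 0, 6, 12], [6, 8, 19, 6, 8, 18, 18, 11, 8, 11, 4, 6, 8, 4, 6, 4, 0, 10, 6, 8, 11, 6, 8, 10, 6]]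
    [3637, 3689, 3657, 3639, 3655, 3681, 3699] [0, 0, 3, 3, 1, 3, 4, 0, 0, 1, 3, 3, 4, 0, 0] k4_8 = true := by decide +kernel

theorem cv4_9_0 : covB FF nets (nat_lit 19656) (nat_lit 15) (nat_lit 20) (nat_lit 2457) (nat_lit 4248) (nat_lit 4) (nat_lit 9) [75, 76, 77, 113, 114] [[12], [10, 8, 10, 10, 4, 6, 8, 11, 4, 6, 8, 4, 6, 4, 11, 8, 11, 12, 6, 8, 11, 23], [19, 19, 19, 2, 4, 6, 8, 11, 12, 4, 6, 8, 11, 4, 6, 8, 4, 6, 4, 11, 8, 11, 12, 6, 8, 11, 6, 12], [19, 19, 2, 4, 6, 4, 0, 6, 12], [6, 8, 19, 6, 8, 18, 18, 11, 8, 11, 4, 6, 8, 4, 6, 4, 0, 10, 6, 8, 11, 6, 8, 10, 6]]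
    [4188] [0, 0, 3, 3, 1, 3, 4, 0, 0, 1, 3, 3, 4, 0, 0] k4_9 = true := by decide +kernel

theorem rw4 : rowB (nat_lit 19656) (ivl (nat_lit 2457) ((nat_lit 19656) - (nat_lit 2457))) row4 [0, 27, 0, 243, 81, 810, 12312, 810, 2430, 486, 0] 0 = true := by decide +kernel

theorem cv5_1_0 : covB FF nets (nat_lit 19656) (nat_lit 15) (nat_lit 20) (nat_lit 2457) (nat_lit 4248) (nat_lit 5) (nat_lit 1) [83, 84, 108] [[10, 8, 10, 10, 4, 6, 8, 11, 4, 6, 8, 4, 6, 4, 11, 8, 11, 12, 6, 8, 11, 23], [19, 19, 19, 2, 4, 6, 8, 11, 12, 4, 6, 8, 11, 4, 6, 8, 4, 6, 4, 11, 8, 11, 12, 6, 8, 11, 6, 12], [18, 8, 18, 10, 8, 18, 18, 11, 8, 10, 6, 8, 11, 4, 6, 8, 4, 6, 4, 0, 8, 11, 6, 8, 11, 25]]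
    [82] [2, 0, 2, 1, 2] k5_1 = true := by decide +kernel

theorem cv5_3_0 : covB FF nets (nat_lit 19656) (nat_lit 15) (nat_lit 20) (nat_lit 2457) (nat_lit 4248) (nat_lit 5) (nat_lit 3) [83, 84, 108] [[10, 8, 10, 10, 4, 6, 8, 11, 4, 6, 8, 4, 6, 4, 11, 8, 11, 12, 6, 8, 11, 23], [19, 19, 19, 2, 4, 6, 8, 11, 12, 4, 6, 8, 11, 4, 6, 8, 4, 6, 4, 11, 8, 11, 12, 6, 8, 11, 6, 12], [18, 8, 18, 10, 8, 18, 18, 11, 8, 10, 6, 8, 11, 4, 6, 8, 4, 6, 4, 0, 8, 11, 6, 8, 11, 25]]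
    [89, 91, 103, 118, 125, 124, 109] [0, 2, 1, 0, 2, 1, 2, 0, 2] k5_3 = true := by decide +kernel

theorem cv5_4_0 : covB FF nets (nat_lit 19656) (nat_lit 15) (nat_lit 20) (nat_lit 2457) (nat_lit 4248) (nat_lit 5) (nat_lit 4) [83, 84, 108] [[10, 8, 10, 10, 4, 6, 8, 11, 4, 6, 8, 4, 6, 4, 11, 8, 11, 12, 6, 8, 11, 23], [19, 19, 19, 2, 4, 6, 8, 11, 12, 4, 6, 8, 11, 4, 6, 8, 4, 6, 4, 11, 8, 11, 12, 6, 8, 11, 6, 12], [18, 8, 18, 10, 8, 18, 18, 11, 8, 10, 6, 8, 11, 4, 6, 8, 4, 6, 4, 0, 8, 11, 6, 8, 11, 25]]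
    [85, 95, 99, 106] [2, 0, 2, 1, 0, 2, 0, 2] k5_4 = true := by decide +kernel

theorem cv5_5_0 : covB FF nets (nat_lit 19656) (nat_lit 15) (nat_lit 20) (nat_lit 2457) (nat_lit 4248) (nat_lit 5) (nat_lit 5) [83, 84, 108] [[10, 8, 10, 10, 4, 6, 8, 11, 4, 6, 8, 4, 6, 4, 11, 8, 11, 12, 6, 8, 11, 23], [19, 19, 19, 2, 4, 6, 8, 11, 12, 4, 6, 8, 11, 4, 6, 8, 4, 6, 4, 11, 8, 11, 12, 6, 8, 11, 6, 12], [18, 8, 18, 10, 8, 18, 18, 11, 8, 10, 6, 8, 11, 4, 6, 8, 4, 6, 4, 0, 8, 11, 6, 8, 11, 25]]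
    [87, 88, 93, 94, 97, 98, 101, 102, 105, 116, 121, 120, 115, 119, 122, 129] [2, 0, 2, 1, 0, 2, 0, 1] k5_5 = true := by decide +kernel

theorem cv5_6_0 : covB FF nets (nat_lit 19656) (nat_lit 15) (nat_lit 20) (nat_lit 2457) (nat_lit 4248) (nat_lit 5) (nat_lit 6) [83, 84, 108] [[10, 8, 10, 10, 4, 6, 8, 11, 4, 6, 8, 4, 6, 4, 11, 8, 11, 12, 6, 8, 11, 23], [19, 19, 19, 2, 4, 6, 8, 11, 12, 4, 6, 8, 11, 4, 6, 8, 4, 6, 4, 11, 8, 11, 12, 6, 8, 11, 6, 12], [18, 8, 18, 10, 8, 18, 18, 11, 8, 10, 6, 8, 11, 4, 6, 8, 4, 6, 4, 0, 8, 11, 6, 8, 11, 25]]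
    [136, 142, 140, 663, 955, 836, 1903, 943, 621, 233, 977, 1073, 613, 2425, 2437, 1915, 156, 322, 184, 350, 2561, 385, 2429, 518, 1795, 871, 1548, 815, 458, 452, 1708, 1691, 430, 309, 267, 1119, 265, 275, 152, 365, 568, 198, 166, 164, 336, 625, 1508, 1981, 571, 729, 653, 2037, 2033, 1473, 635, 200, 400, 340, 183, 190, 283, 887, 806, 1305, 824, 330, 497, 2427, 269, 2075, 1019, 991, 796, 1214, 905, 424, 1077, 1699, 753, 1143, 679, 1592, 2433, 1845, 2599, 544, 657, 1335, 1130, 818, 515, 727, 2214, 2431, 1164, 733, 1185, 2639, 1552, 534, 277, 1218, 1843, 973, 2817, 583, 1467, 1620, 477, 659, 637, 802, 2628, 2881, 243, 1121, 1063, 2436, 1075, 1693, 546, 291, 782, 1359, 786, 1604, 319, 889, 757, 747, 784, 289, 259, 179, 181, 832, 645, 1714, 685, 671, 2871, 311, 315, 1618, 1379, 2193, 1463, 493, 1111, 687,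 387, 840, 2723, 2914, 1423, 629, 865, 788, 1624, 709, 1689, 953, 175, 160, 2164, 221, 1419, 639, 215, 765, 2586, 1351, 850, 901, 923, 1139, 1905, 373, 2618, 828, 749, 681, 325, 1966, 925, 862, 929, 2889, 1117, 683, 2922, 251, 321, 2848, 867, 987, 383, 911, 306, 1546, 354, 1498, 1983, 627, 348, 225, 241, 235, 585, 891, 2232, 1405, 895, 2805, 1433, 745, 1149, 2718, 798, 826, 2890, 854, 693, 486, 1250, 2862, 213, 705, 2945, 852, 633, 2689, 2747, 856, 820, 2841, 420, 1875, 1415, 2835, 408, 1960, 2953] [0, 2, 1, 0, 2, 1, 2, 0, 2] k5_6 = true := by decide +kernel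

theorem cv5_7_0 : covB FF nets (nat_lit 19656) (nat_lit 15) (nat_lit 20) (nat_lit 2457) (nat_lit 4248) (nat_lit 5) (nat_lit 7) [83, 84, 108] [[10, 8, 10, 10, 4, 6, 8, 11, 4, 6, 8, 4, 6, 4, 11, 8, 11, 12, 6, 8, 11, 23], [19, 19, 19, 2, 4, 6, 8, 11, 12, 4, 6, 8, 11, 4, 6, 8, 4, 6, 4, 11, 8, 11, 12, 6, 8, 11, 6, 12], [18, 8, 18, 10, 8, 18, 18, 11, 8, 10, 6, 8, 11, 4, 6, 8, 4, 6, 4, 0, 8, 11, 6, 8, 11, 25]]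
    [3027, 2999, 3008, 3025, 3245, 2997, 3002, 3237, 3039, 3168, 3220, 3019, 3043, 3061, 3029, 3218, 3174, 3045, 3063, 3047, 3037, 3049, 3033, 3138, 3180] [0, 2, 1, 0, 2, 1, 2, 0, 2] k5_7 = true := by decide +kernel

theorem cv5_8_0 : covB FF nets (nat_lit 19656) (nat_lit 15) (nat_lit 20) (nat_lit 2457) (nat_lit 4248) (nat_lit 5) (nat_lit 8) [83, 84, 108] [[10, 8, 10, 10, 4, 6, 8, 11, 4, 6, 8, 4, 6, 4, 11, 8, 11, 12, 6, 8, 11, 23], [19, 19, 19, 2, 4, 6, 8, 11, 12, 4, 6, 8, 11, 4, 6, 8, 4, 6, 4, 11, 8, 11, 12, 6, 8, 11, 6, 12], [18, 8, 18, 10, 8, 18, 18, 11, 8, 10, 6, 8, 11, 4, 6, 8, 4, 6, 4, 0, 8, 11, 6, 8, 11, 25]]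
    [3738, 3669, 3653, 3659, 3725, 3723, 3675, 3665, 3641, 3731, 3651, 3661, 3709, 3691, 3713, 3673, 3667, 3645, 3647, 3643, 3649, 3671, 3721, 3685, 3730, 3663, 3727, 3715, 3707, 3693, 3719, 3736, 3677, 3697, 3695, 3703, 3701, 3717, 3683, 3687, 3711, 3679, 3733, 3705, 3740] [0, 2, 1, 0, 2, 1, 2, 0, 2] k5_8 = true := by decide +kernel

theorem cv5_9_0 : covB FF nets (nat_lit 19656) (nat_lit 15) (nat_lit 20) (nat_lit 2457) (nat_lit 4248) (nat_lit 5) (nat_lit 9) [83, 84, 108] [[10, 8, 10, 10, 4, 6, 8, 11, 4, 6, 8, 4, 6, 4, 11, 8, 11, 12, 6, 8, 11, 23], [19, 19, 19, 2, 4, 6, 8, 11, 12, 4, 6, 8, 11, 4, 6, 8, 4, 6, 4, 11, 8, 11, 12, 6, 8, 11, 6, 12], [18, 8, 18, 10, 8, 18, 18, 11, 8, 10, 6, 8, 11, 4, 6, 8, 4, 6, 4, 0, 8, 11, 6, 8, 11, 25]]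
    [4040, 3840, 4191, 3765, 3800, 4161, 4183, 3750, 3795, 4103, 4022, 4148, 4167, 4030, 3799, 3896, 4149] [0, 2, 1, 0, 2, 1, 2, 0, 2] k5_9 = true := by decide +kernel

theorem rw5 : rowB (nat_lit 19656) (ivl (nat_lit 2457) ((nat_lit 19656) - (nat_lit 2457))) row5 [0, 9, 0, 297, 90, 549, 12276, 1170, 1890, 918, 0] 0 = true := by decide +kernel

theorem cv6_1_0 : covB FF nets (nat_lit 19656) (nat_lit 15) (nat_lit 20) (nat_lit 2457) (nat_lit 4248) (nat_lit 6) (nat_lit 1) [133, 134] [[10, 8, 10, 10, 4, 6, 8, 11, 4, 6, 8, 4, 6, 4, 11, 8, 11, 12, 6, 8, 11, 23], [19, 19, 19, 2, 4, 6, 8, 11, 12, 4, 6, 8, 11, 4, 6, 8, 4, 6, 4, 11, 8, 11, 12, 6, 8, 11, 6, 12]]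
    [132] [] k6_1 = true := by decide +kernel

theorem cv6_2_0 : covB FF nets (nat_lit 19656) (nat_lit 15) (nat_lit 20) (nat_lit 2457) (nat_lit 4248) (nat_lit 6) (nat_lit 2) [133, 134] [[10, 8, 10, 10, 4, 6, 8, 11, 4, 6, 8, 4, 6, 4, 11, 8, 11, 12, 6, 8, 11, 23], [19, 19, 19, 2, 4, 6, 8, 11, 12, 4, 6, 8, 11, 4, 6, 8, 4, 6, 4, 11, 8, 11, 12, 6, 8, 11, 6, 12]]
    [147] [0, 1] k6_2 = true := by decide +kernel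

theorem cv6_3_0 : covB FF nets (nat_lit 19656) (nat_lit 15) (nat_lit 20) (nat_lit 2457) (nat_lit 4248) (nat_lit 6) (nat_lit 3) [133, 134] [[10, 8, 10, 10, 4, 6, 8, 11, 4, 6, 8, 4, 6, 4, 11, 8, 11, 12, 6, 8, 11, 23], [19, 19, 19, 2, 4, 6, 8, 11, 12, 4, 6, 8, 11, 4, 6, 8, 4, 6, 4, 11, 8, 11, 12, 6, 8, 11, 6, 12]]
    [339, 2855, 149, 145, 252, 1045, 1009, 988, 2917, 596, 2783, 2466, 2015, 189, 2880, 2571, 431, 427, 353, 718, 691, 2858, 254, 2446, 2496, 712, 2419, 2452, 335, 2754, 317, 958, 1456, 602, 413, 270, 248, 1806, 256, 674, 2423, 459, 326, 206, 1493, 2085, 710, 2413, 2614] [0, 1, 0] k6_3 = true := by decide +kernel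

theorem cv6_4_0 : covB FF nets (nat_lit 19656) (nat_lit 15) (nat_lit 20) (nat_lit 2457) (nat_lit 4248) (nat_lit 6) (nat_lit 4) [133, 134] [[10, 8, 10, 10, 4, 6, 8, 11, 4, 6, 8, 4, 6, 4, 11, 8, 11, 12, 6, 8, 11, 23], [19, 19, 19, 2, 4, 6, 8, 11, 12, 4, 6, 8, 11, 4, 6, 8, 4, 6, 4, 11, 8, 11, 12, 6, 8, 11, 6, 12]]
    [143, 244, 176, 157, 172, 575, 564, 554, 1144, 455, 425, 262, 608, 260, 777, 562, 1813, 1616, 1201, 833, 2292, 2440, 1553, 804, 409, 2385, 401, 216, 226, 2167, 2246] [0, 1, 0] k6_4 = true := by decide +kernel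

theorem cv6_5_0 : covB FF nets (nat_lit 19656) (nat_lit 15) (nat_lit 20) (nat_lit 2457) (nat_lit 4248) (nat_lit 6) (nat_lit 5) [133, 134] [[10, 8, 10, 10, 4, 6, 8, 11, 4, 6, 8, 4, 6, 4, 11, 8, 11, 12, 6, 8, 11, 23], [19, 19, 19, 2, 4, 6, 8, 11, 12, 4, 6, 8, 11, 4, 6, 8, 4, 6, 4, 11, 8, 11, 12, 6, 8, 11, 6, 12]]
    [139, 351, 141, 135, 220, 323, 191, 748, 1466, 494, 174, 900, 178, 612, 744, 180, 159, 819, 307, 250, 849, 240, 636, 1842, 976, 258, 2435, 2562, 2598, 1422, 2428, 151, 155, 165, 182, 163, 632, 1497, 388, 201, 310, 728, 656, 638, 1018, 1692, 584, 1715, 855, 2719, 1794, 1547, 268, 1062, 1131, 1334, 545, 827, 2233, 1472, 624, 817, 2038, 570, 928, 986, 2882, 682, 1690, 2891, 451, 407, 423, 212, 224, 386, 517, 331, 349, 2913, 355, 2724, 972, 2163, 652, 2861, 2585, 1358, 1249, 816, 1138, 2834,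 2617, 2638, 1551, 797, 2816, 1984, 2627, 1350, 954, 2804, 942, 1545, 1902, 1418, 337, 274, 374, 185, 922, 756, 1148, 831, 1874, 1074, 1507, 2034, 1959, 764, 1142, 805, 1914, 990, 1120, 1118, 2194, 870, 801, 2438, 2872, 684, 2430, 2748, 894, 2076, 781, 692, 890, 1076, 1623, 314, 2688, 1414, 634, 2888, 1982, 861, 853, 886, 678, 839, 835, 485, 282, 620, 2426, 1698, 795, 457, 670, 234, 866, 1116, 535, 787, 628, 2944, 1619, 266, 864, 1688, 1184, 952, 626, 662, 2434, 1432, 516, 783, 276, 366, 399, 341, 199, 569, 904, 582, 910, 1217, 1603, 1965, 2921, 1165, 708, 1844, 2849, 1304, 1617, 318, 658, 419, 1378, 2213, 320, 746, 1213, 2432, 924, 1462, 1904, 308, 785, 1072, 644, 752, 825, 1709, 726, 704, 1110, 547, 888, 429, 686, 324, 264, 1404, 232, 288, 242, 2952, 2840, 498, 290, 1591, 732, 823, 680, 384, 478,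 851, 214] [0, 1, 0] k6_5 = true := by decide +kernel

end Cfsg.Agent.Lib.ThD
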