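import Cfsg.Agent.Lib.ThDR
import Cfsg.Agent.Lib.ThDT
import Cfsg.Agent.Lib.ThDF
import Cfsg.Agent.Lib.ThDM

set_option autoImplicit false
set_option maxRecDepth 100000

namespace Cfsg.Agent.Lib.ThD
open Cfsg.Agent.Lib.PermNet Cfsg.Agent.Lib.DCE

theorem cv10_10_0 : covB FF nets (nat_lit 19656) (nat_lit 15) (nat_lit 20) (nat_lit 2457) (nat_lit 4248) (nat_lit 10) (nat_lit 10) [4222, 4223, 4230] [[2, 0, 18, 6, 4, 0, 10, 6, 20], [6, 8, 11, 4, 6, 8, 10, 4, 6, 8, 4, 6, 4, 0, 10, 6, 22], [12, 10, 8, 19, 0, 2, 10, 6, 8, 11, 4, 6, 8, 4, 6, 4, 11, 11, 6, 8, 11, 13]]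
    [4237] [1, 2, 0, 1, 2, 0, 1, 2, 0, 1, 2, 0, 1] k10_10 = true := by decide +kernel

theorem rw10 : rowB (nat_lit 19656) (ivl (nat_lit 2457) ((nat_lit 19656) - (nat_lit 2457))) row10 [0, 0, 0, 588, 0, 0, 14112, 0, 0, 2352, 147] 0 = true := by decide +kernel

end Cfsg.Agent.Lib.ThD
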