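import Cfsg.Agent.Lib.DCE2
import Cfsg.Agent.Lib.ThDC0
import Cfsg.Agent.Lib.ThDE0
import Cfsg.Agent.Lib.ThDE1
import Cfsg.Agent.Lib.ThDE2
import Cfsg.Agent.Lib.ThDE3
import Cfsg.Agent.Lib.ThDE4
import Cfsg.Agent.Lib.ThDE5
import Cfsg.Agent.Lib.ThDE6

set_option autoImplicit false
set_option maxRecDepth 100000

namespace Cfsg.Agent.Lib.ThD
open Cfsg.Agent.Lib.PermNet Cfsg.Agent.Lib.DCE

open Cfsg.Agent.Lib.Words Cfsg.Agent.Lib.PermGroup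

/-- Relators of the subgroup. -/
def K1 : List (List ℕ) := [[0, 0], [2, 2], [4, 4], [6, 6], [8, 8], [0, 2, 0, 2, 0, 2], [0, 8, 0, 8], [2, 4, 2, 4, 2, 4], [2, 6, 2, 6], [2, 8, 2, 8], [0, 7, 5, 7, 5, 7, 5, 7, 5], [4, 8, 4, 8], [6, 8, 6, 8, 6, 8], [2, 4, 6, 8, 2, 4, 6, 8, 2, 4, 6, 8, 2, 4, 6, 8, 2, 4, 6, 8, 2, 4, 6, 8, 2, 4, 6, 8, 2, 4, 6, 8], [10, 10, 10, 10, 10, 10, 10], [11, 1, 10, 0], [11, 3, 10, 2], [11, 5, 10, 4], [10, 6, 10, 6], [9, 11, 8, 10, 11, 11, 11, 9, 10, 10, 10], [12, 12, 12], [13, 1, 12, 0], [13, 3, 12, 2], [13, 5, 12, 4], [13, 7, 12, 6], [13, 9, 12, 8], [13, 10, 12, 11, 11]]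

def I1 : List ℕ := [0, 1, 2, 3, 4]

/-- Further relations in the subgroup. -/
def X : List (List ℕ) := [[4, 6, 11, 8, 4, 6, 11, 8, 4, 6, 11, 8, 4, 6, 11, 8, 4, 6, 11, 8, 4, 6, 11, 8, 4, 6, 11, 8, 4, 6, 11, 8, 4, 6, 11, 8]]

/-- Relators that involve the extra generator. -/
def RR : List (List ℕ) := [[0, 14, 1, 15], [4, 14, 5, 15], [8, 14, 9, 15], [12, 14, 12, 15], [6, 4, 6, 14, 13, 7, 9, 10, 9, 7, 11, 11, 9, 11, 5, 7, 5, 9, 7, 5, 11, 9, 7, 5, 10, 9, 12, 11, 15], [11, 8, 10, 14, 9, 10, 9, 11, 15], [2, 0, 4, 2, 14, 1, 3, 1, 5, 9, 3, 5, 15], [14, 5, 1, 14], [14, 10, 14, 10, 0, 4, 14, 10], [14, 11, 14, 11, 14, 11], [14, 10, 6, 14, 8, 6, 10, 8, 6, 10, 12, 4, 6, 4, 8, 6, 4, 11, 8, 6, 12, 11, 8, 14, 6, 11, 8, 11], [14, 6, 14, 4, 8, 6, 4, 14, 4, 0, 6, 8, 14, 4, 0, 6], [14, 6, 14, 4, 6, 4, 2, 8, 6, 4, 6, 8, 4, 6, 4, 2,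 0, 4, 6, 4, 2, 8, 4, 6, 8, 4, 6, 2, 4, 2, 0, 4, 6, 4, 2, 8, 4, 6, 8, 4, 6, 2, 4, 2, 8, 6, 14, 4, 0, 2, 0, 6, 4, 2, 6, 4, 14, 4, 0, 2, 0, 6, 4, 2], [14, 6, 14, 4, 6, 4, 8, 6, 4, 6, 8, 2, 4, 6, 4, 2, 0, 4, 6, 4, 2, 8, 4, 6, 8, 4, 6, 2, 4, 0, 2, 0, 4, 8, 2, 0, 4, 6, 4, 2, 8, 6, 4, 6, 8, 4, 6, 4, 0, 4, 2, 6, 4, 14, 4, 0, 2, 0, 6, 4, 2, 8, 6, 14, 4, 0, 2, 0, 6, 4, 2, 6], [14, 6, 14, 4, 2, 6, 4, 8, 6, 4, 8, 2, 4, 6, 4, 0, 2, 4, 6, 4, 2, 8, 6, 4, 6, 8, 4, 6, 2, 6, 14, 4, 0, 2, 0, 6, 4, 2, 6, 4, 14, 4, 0, 2, 0, 6, 4, 2, 6, 8], [14, 4, 6, 2, 4, 6, 0, 2, 14, 0, 2, 0, 4, 8, 2, 0, 4, 2, 6, 4, 8, 6, 4, 8, 2, 4, 6, 4, 0, 2, 4, 2, 6, 4, 8, 6, 4, 8, 2, 4, 6, 4, 0, 4, 6, 4, 8, 14, 4, 0, 2, 0, 6, 4, 2, 8, 6, 14, 4, 0, 2, 0, 6, 4, 2, 6, 2, 4, 6, 0, 2], [14, 4, 6, 2, 4, 6, 0, 2, 14, 4, 2, 6, 4, 8, 6, 4, 8, 2, 4, 6, 4, 0, 2, 4, 2,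 6, 4, 8, 6, 4, 8, 2, 4, 6, 4, 0, 2, 4, 6, 4, 2, 8, 6, 4, 6, 8, 4, 6, 4, 2, 4, 8, 6, 4, 2, 0, 6, 4, 14, 4, 0, 2, 0, 6, 4, 2, 8, 6, 14, 4, 0, 2, 0, 6, 4, 2, 8, 2, 4, 6, 0, 2], [14, 4, 6, 2, 4, 6, 0, 2, 14, 0, 2, 0, 4, 8, 2, 0, 4, 6, 4, 2, 8, 6, 4, 6, 8, 4, 6, 4, 2, 0, 4, 6, 4, 2, 8, 4, 6, 8, 4, 6, 2, 4, 0, 2, 0, 4, 8, 2, 0, 2, 4, 6, 4, 2, 0, 8, 6, 14, 4, 0, 2, 0, 6, 4, 2, 6, 4, 14, 4, 0, 2, 0, 6, 4, 2, 6, 8, 2, 4, 6, 0, 2], [14, 4, 6, 2, 4, 6, 0, 2, 14, 4, 6, 4, 8, 6, 4, 14, 4, 0, 2, 0, 6, 4, 2, 6, 4, 14, 4, 0, 2, 0, 6, 4, 2, 6, 4, 6, 2, 4, 6, 0, 2], [14, 4, 6, 2, 4, 6, 0, 2, 14, 4, 6, 4, 8, 6, 4, 6, 8, 2, 4, 6, 4, 0, 2, 0, 4, 8, 2, 8, 6, 4, 2, 0, 6, 4, 14, 4, 0, 2, 0, 6, 4, 2, 8, 6, 14, 4, 0, 2, 0, 6, 4, 2, 8, 6, 4, 6, 2, 4, 6, 0, 2], [14, 8, 6, 2, 14, 2, 0, 4, 6, 4, 2, 8, 4, 6, 8, 4, 6, 2, 4, 2, 0, 4, 6, 4, 2,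 8, 4, 6, 8, 4, 6, 2, 4, 0, 2, 0, 4, 8, 2, 4, 2, 6, 4, 2, 0, 8, 6, 14, 4, 0, 2, 0, 6, 4, 6, 8, 6, 4, 2, 6, 4, 14, 4, 0, 2, 0], [14, 8, 6, 2, 14, 0, 2, 0, 4, 8, 2, 0, 4, 6, 4, 2, 8, 6, 4, 6, 8, 4, 6, 4, 2, 0, 4, 6, 4, 2, 8, 4, 6, 8, 4, 6, 2, 4, 0, 2, 0, 4, 8, 2, 4, 2, 6, 4, 2, 0, 8, 6, 14, 4, 0, 2, 0, 6, 4, 2, 8, 6, 4, 2, 0, 14, 4, 0, 2, 6, 4, 6, 8, 6]]

noncomputable def dat : Dat where
  N := (nat_lit 19656)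
  K := (nat_lit 15)
  nS := (nat_lit 2457)
  KS := (nat_lit 12)
  wb := (nat_lit 12)
  mask := (nat_lit 4095)
  n0 := 7
  nl := (nat_lit 58)
  k0 := 13
  nK := (nat_lit 8)
  idT := idT
  T := 634023936
  TK := 36864
  nF := (nat_lit 4248)
  n := 11
  s0 := 0
  tot := 143127000
  nets := nets
  th := th
  tk := tk
  tk' := tk'
  F := FF
  TM := TM
  XW := XW
  defs := defs
  R := RR
  cw := [[], [16], [8, 6, 18, 8, 6]]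
  rows := [row0, row1, row2, row3, row4, row5, row6, row7, row8, row9, row10]
  cs := [[0, 17199, 0, 0, 0, 0, 0, 0, 0, 0, 0], [1, 78, 480, 2304, 2048, 6144, 6144, 0, 0, 0, 0], [0, 180, 27, 864, 0, 0, 6912, 2304, 6912, 0, 0], [0, 18, 18, 363, 144, 1584, 12672, 432, 1296, 624, 48], [0, 27, 0, 243, 81, 810, 12312, 810, 2430, 486, 0], [0, 9, 0, 297, 90, 549, 12276, 1170, 1890, 918, 0], [0, 1, 3, 264, 152, 1364, 12799, 588, 936, 1068, 24], [0, 0, 21, 189, 210, 2730, 12348, 189, 378, 1134, 0], [0, 0, 39, 351, 390, 2730, 12168, 234, 585, 702, 0], [0, 0, 0, 156, 72, 1224, 12816, 648, 648, 1587, 48], [0, 0, 0, 588, 0, 0, 14112, 0, 0, 2352, 147]]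
  u := []
  v := [5, 1]
  live := [(nat_lit 0), (nat_lit 1), (nat_lit 2), (nat_lit 3), (nat_lit 4), (nat_lit 5), (nat_lit 6), (nat_lit 7), (nat_lit 8), (nat_lit 9), (nat_lit 10)]
  cols := [1, 2, 3, 4, 5, 6, 7, 8, 9, 10]
  sz := [1, 17199, 45864, 2201472, 1304576, 11741184, 105670656, 5031936, 8128512, 8805888, 179712]
  par := [0, 0, 1, 1, 1, 1, 1, 2, 2, 3, 3]
  chH := chH
  chK := chK
  tc := [[([], 14)],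
  [([], 14)],
  [([10, 0, 4, 14, 10], 17)],
  [([8, 6, 10, 8, 6, 10, 12, 4, 6, 4, 8, 6, 4, 11, 8, 6, 12, 11, 8, 14, 6, 11, 8, 11], 21)],
  [([11], 19)],
  [([14, 8, 6, 10, 8, 6, 10, 12, 4, 6, 4, 8, 6, 4, 11, 8, 6, 12, 11, 8, 14, 6, 11, 8, 11], 21)],
  [([4, 6, 4, 2, 8, 6, 4, 6, 8, 4, 6, 4, 2, 0, 4, 6, 4, 2, 8, 4, 6, 8, 4, 6, 2, 4, 2, 0, 4, 6, 4, 2, 8, 4, 6, 8, 4, 6, 2, 4, 2, 8, 6, 14, 4, 0, 2, 0, 6, 4, 2, 6, 4, 14, 4, 0, 2, 0, 6, 4, 2], 25)],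
  [([6, 11, 8, 11], 21)],
  [([14, 4, 6, 4, 2, 8, 6, 4, 6, 8, 4, 6, 4, 2, 0, 4, 6, 4, 2, 8, 4, 6, 8, 4, 6, 2, 4, 2, 0, 4, 6, 4, 2, 8, 4, 6, 8, 4, 6, 2, 4, 2, 8, 6, 14, 4, 0, 2, 0, 6, 4, 2, 6, 4, 14, 4, 0, 2, 0, 6, 4, 2], 25)],
  [([6, 11, 8, 11], 21)],
  [([14, 4, 0, 2, 0, 6, 4, 2, 6, 2, 4, 6, 0, 2], 31)],
  [([4, 0, 2, 0, 6, 4, 2, 6, 2, 4, 6, 0, 2], 31)],
  [([4, 6, 2, 4, 6, 0, 2, 14, 0, 2, 0, 4, 8, 2, 0, 4, 2, 6, 4, 8, 6, 4, 8, 2, 4, 6, 4, 0, 2, 4, 2, 6, 4, 8, 6, 4, 8, 2, 4, 6, 4, 0, 4, 6, 4, 8, 14, 4, 0, 2, 0, 6, 4, 2, 8, 6, 14, 4, 0, 2, 0, 6, 4, 2, 6, 2, 4, 6, 0, 2], 31)],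
  [([0, 2, 0, 4, 8, 2, 0, 4, 2, 6, 4, 8, 6, 4, 8, 2, 4, 6, 4, 0, 2, 4, 2, 6, 4, 8, 6, 4, 8, 2, 4, 6, 4, 0, 4, 6, 4, 8, 14, 4, 0, 2, 0, 6, 4, 2, 8, 6, 14, 4, 0, 2, 0, 6, 4, 2, 6, 2, 4, 6, 0, 2], 31)],
  [([4, 2, 6, 4, 8, 6, 4, 8, 2, 4, 6, 4, 0, 2, 4, 2, 6, 4, 8, 6, 4, 8, 2, 4, 6, 4, 0, 2, 4, 6, 4, 2, 8, 6, 4, 6, 8, 4, 6, 4, 2, 4, 8, 6, 4, 2, 0, 6, 4, 14, 4, 0, 2, 0, 6, 4, 2, 8, 6, 14, 4, 0, 2, 0, 6, 4, 2, 8, 2, 4, 6, 0, 2], 33)],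
  [([4, 0, 2, 0, 6, 4, 2, 6, 4, 14, 4, 0, 2, 0, 6, 4, 2, 6, 8], 29)],
  [([4, 0, 2, 0, 6, 4, 2, 6, 8, 2, 4, 6, 0, 2], 35)],
  [([4, 0, 2, 0, 6, 4, 2], 25)],
  [([4, 0, 2, 0, 6, 4, 2, 6], 27)],
  [([6, 14, 4, 6, 4, 8, 6, 4, 6, 8, 2, 4, 6, 4, 2, 0, 4, 6, 4, 2, 8, 4, 6, 8, 4, 6, 2, 4, 0, 2, 0, 4, 8, 2, 0, 4, 6, 4, 2, 8, 6, 4, 6, 8, 4, 6, 4, 0, 4, 2, 6, 4, 14, 4, 0, 2, 0, 6, 4, 2, 8, 6, 14, 4, 0, 2, 0, 6, 4, 2, 6], 27)],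
  [([4, 0, 2, 0, 6, 4, 2, 6, 8], 29)],
  [([6, 14, 4, 2, 6, 4, 8, 6, 4, 8, 2, 4, 6, 4, 0, 2, 4, 6, 4, 2, 8, 6, 4, 6, 8, 4, 6, 2, 6, 14, 4, 0, 2, 0, 6, 4, 2, 6, 4, 14, 4, 0, 2, 0, 6, 4, 2, 6, 8], 29)],
  [([4, 0, 2, 0, 6, 4, 2, 8, 6, 14, 4, 0, 2, 0, 6, 4, 2, 6, 2, 4, 6, 0, 2], 31)],
  [([4, 0, 2, 0, 6, 4, 2, 6, 4, 14, 4, 0, 2, 0, 6, 4, 2, 6, 8, 2, 4, 6, 0, 2], 35)],
  [([4, 0, 2, 0, 6, 4, 2, 8, 6, 14, 4, 0, 2, 0, 6, 4, 2, 8, 6, 4, 6, 2, 4, 6, 0, 2], 39)],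
  [([4, 0, 2, 0, 6, 4, 6, 8, 6, 4, 2, 6, 4, 14, 4, 0, 2, 0], 41)],
  [([4, 0, 2, 0], 41)],
  [([4, 0, 2, 0, 6, 4, 2, 8, 6, 4, 2, 0, 14, 4, 0, 2, 6, 4, 6, 8, 6], 43)],
  [([4, 0, 6, 8, 14, 4, 0, 6], 23)],
  [([4, 0, 6], 23)],
  [([4, 0, 2, 0, 6, 4, 2, 6, 4, 14, 4, 0, 2, 0, 6, 4, 2], 25)],
  [([4, 2, 6, 4, 8, 6, 4, 8, 2, 4, 6, 4, 0, 2, 4, 6, 4, 2, 8, 6, 4, 6, 8, 4, 6, 2, 6, 14, 4, 0, 2, 0, 6, 4, 2, 6, 4, 14, 4, 0, 2, 0, 6, 4, 2, 6, 8], 29)],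
  [([4, 6, 2, 4, 6, 0, 2, 14, 0, 2, 0, 4, 8, 2, 0, 4, 6, 4, 2, 8, 6, 4, 6, 8, 4, 6, 4, 2, 0, 4, 6, 4, 2, 8, 4, 6, 8, 4, 6, 2, 4, 0, 2, 0, 4, 8, 2, 0, 2, 4, 6, 4, 2, 0, 8, 6, 14, 4, 0, 2, 0, 6, 4, 2, 6, 4, 14, 4, 0, 2, 0, 6, 4, 2, 6, 8, 2, 4, 6, 0, 2], 35)],
  [([4, 0, 2, 0, 6, 4, 2, 8, 6, 14, 4, 0, 2, 0, 6, 4, 2, 8, 2, 4, 6, 0, 2], 33)],
  [([0, 2, 0, 4, 8, 2, 0, 4, 6, 4, 2, 8, 6, 4, 6, 8, 4, 6, 4, 2, 0, 4, 6, 4, 2, 8, 4, 6, 8, 4, 6, 2, 4, 0, 2, 0, 4, 8, 2, 0, 2, 4, 6, 4, 2, 0, 8, 6, 14, 4, 0, 2, 0, 6, 4, 2, 6, 4, 14, 4, 0, 2, 0, 6, 4, 2, 6, 8, 2, 4, 6, 0, 2], 35)],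
  [([4, 6, 2, 4, 6, 0, 2, 14, 4, 6, 4, 8, 6, 4, 14, 4, 0, 2, 0, 6, 4, 2, 6, 4, 14, 4, 0, 2, 0, 6, 4, 2, 6, 4, 6, 2, 4, 6, 0, 2], 37)],
  [([8, 6, 2, 14, 2, 0, 4, 6, 4, 2, 8, 4, 6, 8, 4, 6, 2, 4, 2, 0, 4, 6, 4, 2, 8, 4, 6, 8, 4, 6, 2, 4, 0, 2, 0, 4, 8, 2, 4, 2, 6, 4, 2, 0, 8, 6, 14, 4, 0, 2, 0, 6, 4, 6, 8, 6, 4, 2, 6, 4, 14, 4, 0, 2, 0], 41)],
  [([6, 14, 4, 6, 4, 2, 8, 6, 4, 6, 8, 4, 6, 4, 2, 0, 4, 6, 4, 2, 8, 4, 6, 8, 4, 6, 2, 4, 2, 0, 4, 6, 4, 2, 8, 4, 6, 8, 4, 6, 2, 4, 2, 8, 6, 14, 4, 0, 2, 0, 6, 4, 2, 6, 4, 14, 4, 0, 2, 0, 6, 4, 2], 25)],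
  [([4, 6, 2, 4, 6, 0, 2, 14, 4, 2, 6, 4, 8, 6, 4, 8, 2, 4, 6, 4, 0, 2, 4, 2, 6, 4, 8, 6, 4, 8, 2, 4, 6, 4, 0, 2, 4, 6, 4, 2, 8, 6, 4, 6, 8, 4, 6, 4, 2, 4, 8, 6, 4, 2, 0, 6, 4, 14, 4, 0, 2, 0, 6, 4, 2, 8, 6, 14, 4, 0, 2, 0, 6, 4, 2, 8, 2, 4, 6, 0, 2], 33)],
  [([4, 0, 2, 0, 6, 4, 2, 6, 4, 14, 4, 0, 2, 0, 6, 4, 2, 6, 4, 6, 2, 4, 6, 0, 2], 37)],
  [([4, 6, 4, 8, 6, 4, 14, 4, 0, 2, 0, 6, 4, 2, 6, 4, 14, 4, 0, 2, 0, 6, 4, 2, 6, 4, 6, 2, 4, 6, 0, 2], 37)],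
  [([2, 0, 4, 6, 4, 2, 8, 4, 6, 8, 4, 6, 2, 4, 2, 0, 4, 6, 4, 2, 8, 4, 6, 8, 4, 6, 2, 4, 0, 2, 0, 4, 8, 2, 4, 2, 6, 4, 2, 0, 8, 6, 14, 4, 0, 2, 0, 6, 4, 6, 8, 6, 4, 2, 6, 4, 14, 4, 0, 2, 0], 41)],
  [([4, 0, 2, 0, 6, 4, 2, 8, 2, 4, 6, 0, 2], 33)],
  [([], 21)],
  [([4, 0, 2, 6, 4, 6, 8, 6], 43)],
  [([], 25)],
  [([8, 6, 2, 14, 0, 2, 0, 4, 8, 2, 0, 4, 6, 4, 2, 8, 6, 4, 6, 8, 4, 6, 4, 2, 0, 4, 6, 4, 2, 8, 4, 6, 8, 4, 6, 2, 4, 0, 2, 0, 4, 8, 2, 4, 2, 6, 4, 2, 0, 8, 6, 14, 4, 0, 2, 0, 6, 4, 2, 8, 6, 4, 2, 0, 14, 4, 0, 2, 6, 4, 6, 8, 6], 43)]]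

theorem hrels : ∀ w ∈ relW rels, wval nets.perm w = 1 :=
  relW_one (wval_eq_of_relsOn (K := 15) hv (by norm_num) (((((((rels0_0.trans rels0_2).trans rels0_4).trans rels0_6).trans rels0_8).trans rels0_10).trans rels0_12).trans rels0_14))

theorem hK1 : ∀ w ∈ K1, wval nets.perm w = 1 := derive [] hrels _ (by decide +kernel)

theorem hX : ∀ w ∈ X, wval nets.perm w = 1 := derive [] hrels _ (by decide +kernel)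

theorem hB : dat.B = BB := by decide +kernel

theorem facts : AllR (fun c => ∃ e, checkF (nat_lit 12) (nat_lit 4095) tH tK tK' BB FF TM XW c e = true) 0 (nat_lit 4248) :=
  ((((((((((((((((((((((((((((((((((((((((((((((((((((allR_of_checkL d0 0 159 (by decide +kernel) fc0).trans
    (allR_of_checkL d159 159 256 (by decide +kernel) fc159)).trans
    (allR_of_checkL d256 256 338 (by decide +kernel) fc256)).trans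
    (allR_of_checkL d338 338 432 (by decide +kernel) fc338)).trans
    (allR_of_checkL d432 432 523 (by decide +kernel) fc432)).trans
    (allR_of_checkL d523 523 608 (by decide +kernel) fc523)).trans
    (allR_of_checkL d608 608 684 (by decide +kernel) fc608)).trans
    (allR_of_checkL d684 684 760 (by decide +kernel) fc684)).trans
    (allR_of_checkL d760 760 839 (by decide +kernel) fc760)).trans
    (allR_of_checkL d839 839 914 (by decide +kernel) fc839)).trans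
    (allR_of_checkL d914 914 988 (by decide +kernel) fc914)).trans
    (allR_of_checkL d988 988 1064 (by decide +kernel) fc988)).trans
    (allR_of_checkL d1064 1064 1142 (by decide +kernel) fc1064)).trans
    (allR_of_checkL d1142 1142 1216 (by decide +kernel) fc1142)).trans
    (allR_of_checkL d1216 1216 1294 (by decide +kernel) fc1216)).trans
    (allR_of_checkL d1294 1294 1372 (by decide +kernel) fc1294)).trans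
    (allR_of_checkL d1372 1372 1450 (by decide +kernel) fc1372)).trans
    (allR_of_checkL d1450 1450 1527 (by decide +kernel) fc1450)).trans
    (allR_of_checkL d1527 1527 1603 (by decide +kernel) fc1527)).trans
    (allR_of_checkL d1603 1603 1682 (by decide +kernel) fc1603)).trans
    (allR_of_checkL d1682 1682 1760 (by decide +kernel) fc1682)).trans
    (allR_of_checkL d1760 1760 1838 (by decide +kernel) fc1760)).trans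
    (allR_of_checkL d1838 1838 1913 (by decide +kernel) fc1838)).trans
    (allR_of_checkL d1913 1913 1991 (by decide +kernel) fc1913)).trans
    (allR_of_checkL d1991 1991 2067 (by decide +kernel) fc1991)).trans
    (allR_of_checkL d2067 2067 2142 (by decide +kernel) fc2067)).trans
    (allR_of_checkL d2142 2142 2219 (by decide +kernel) fc2142)).trans
    (allR_of_checkL d2219 2219 2294 (by decide +kernel) fc2219)).trans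
    (allR_of_checkL d2294 2294 2368 (by decide +kernel) fc2294)).trans
    (allR_of_checkL d2368 2368 2448 (by decide +kernel) fc2368)).trans
    (allR_of_checkL d2448 2448 2525 (by decide +kernel) fc2448)).trans
    (allR_of_checkL d2525 2525 2600 (by decide +kernel) fc2525)).trans
    (allR_of_checkL d2600 2600 2672 (by decide +kernel) fc2600)).trans
    (allR_of_checkL d2672 2672 2743 (by decide +kernel) fc2672)).trans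
    (allR_of_checkL d2743 2743 2814 (by decide +kernel) fc2743)).trans
    (allR_of_checkL d2814 2814 2888 (by decide +kernel) fc2814)).trans
    (allR_of_checkL d2888 2888 2965 (by decide +kernel) fc2888)).trans
    (allR_of_checkL d2965 2965 3068 (by decide +kernel) fc2965)).trans
    (allR_of_checkL d3068 3068 3158 (by decide +kernel) fc3068)).trans
    (allR_of_checkL d3158 3158 3243 (by decide +kernel) fc3158)).trans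
    (allR_of_checkL d3243 3243 3358 (by decide +kernel) fc3243)).trans
    (allR_of_checkL d3358 3358 3451 (by decide +kernel) fc3358)).trans
    (allR_of_checkL d3451 3451 3529 (by decide +kernel) fc3451)).trans
    (allR_of_checkL d3529 3529 3607 (by decide +kernel) fc3529)).trans
    (allR_of_checkL d3607 3607 3713 (by decide +kernel) fc3607)).trans
    (allR_of_checkL d3713 3713 3821 (by decide +kernel) fc3713)).trans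
    (allR_of_checkL d3821 3821 3901 (by decide +kernel) fc3821)).trans
    (allR_of_checkL d3901 3901 3981 (by decide +kernel) fc3901)).trans
    (allR_of_checkL d3981 3981 4062 (by decide +kernel) fc3981)).trans
    (allR_of_checkL d4062 4062 4143 (by decide +kernel) fc4062)).trans
    (allR_of_checkL d4143 4143 4217 (by decide +kernel) fc4143)).trans
    (allR_of_checkL d4217 4217 4248 (by decide +kernel) fc4217))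

theorem tab : AllR (fun l => tabB nets (nat_lit 19656) (nat_lit 15) (nat_lit 2457) (nat_lit 12) (nat_lit 12) (nat_lit 4095) tH l = true)
    0 (nat_lit 58) :=
  (((allR_of 0 25 25 (by decide) tab0).trans
    (allR_of 25 25 50 (by decide) tab25)).trans
    (allR_of 50 8 58 (by decide) tab50))

theorem cov0 : AllIdx (fun j m => Cov nets FF (nat_lit 2457) (nat_lit 4248) (nat_lit 0) (getD 0 dat.live j) m) 0 row0 :=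
  ⟨cov_zero,
    (cov_of_covB hv _ (by decide +kernel) _ _ _ _ cv0_1_0),
    cov_zero,
    cov_zero,
    cov_zero,
    cov_zero,
    cov_zero,
    cov_zero,
    cov_zero,
    cov_zero,
    cov_zero, trivial⟩

theorem cov1 : AllIdx (fun j m => Cov nets FF (nat_lit 2457) (nat_lit 4248) (nat_lit 1) (getD 0 dat.live j) m) 0 row1 :=
  ⟨(cov_of_covB hv _ (by decide +kernel) _ _ _ _ cv1_0_0),
    (cov_of_covB hv _ (by decide +kernel) _ _ _ _ cv1_1_0),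
    (cov_of_covB hv _ (by decide +kernel) _ _ _ _ cv1_2_0),
    (cov_of_covB hv _ (by decide +kernel) _ _ _ _ cv1_3_0),
    (cov_of_covB hv _ (by decide +kernel) _ _ _ _ cv1_4_0),
    (cov_of_covB hv _ (by decide +kernel) _ _ _ _ cv1_5_0),
    (cov_of_covB hv _ (by decide +kernel) _ _ _ _ cv1_6_0),
    cov_zero,
    cov_zero,
    cov_zero,
    cov_zero, trivial⟩

theorem cov2 : AllIdx (fun j m => Cov nets FF (nat_lit 2457) (nat_lit 4248) (nat_lit 2) (getD 0 dat.live j) m) 0 row2 :=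
  ⟨cov_zero,
    (cov_of_covB hv _ (by decide +kernel) _ _ _ _ cv2_1_0),
    (cov_of_covB hv _ (by decide +kernel) _ _ _ _ cv2_2_0),
    (cov_of_covB hv _ (by decide +kernel) _ _ _ _ cv2_3_0),
    cov_zero,
    cov_zero,
    (cov_of_covB hv _ (by decide +kernel) _ _ _ _ cv2_6_0),
    (cov_of_covB hv _ (by decide +kernel) _ _ _ _ cv2_7_0),
    (cov_of_covB hv _ (by decide +kernel) _ _ _ _ cv2_8_0),
    cov_zero,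
    cov_zero, trivial⟩

theorem cov3 : AllIdx (fun j m => Cov nets FF (nat_lit 2457) (nat_lit 4248) (nat_lit 3) (getD 0 dat.live j) m) 0 row3 :=
  ⟨cov_zero,
    (cov_of_covB hv _ (by decide +kernel) _ _ _ _ cv3_1_0),
    (cov_of_covB hv _ (by decide +kernel) _ _ _ _ cv3_2_0),
    (cov_of_covB hv _ (by decide +kernel) _ _ _ _ cv3_3_0),
    (cov_of_covB hv _ (by decide +kernel) _ _ _ _ cv3_4_0),
    (cov_of_covB hv _ (by decide +kernel) _ _ _ _ cv3_5_0),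
    (cov_of_covB hv _ (by decide +kernel) _ _ _ _ cv3_6_0),
    (cov_of_covB hv _ (by decide +kernel) _ _ _ _ cv3_7_0),
    (cov_of_covB hv _ (by decide +kernel) _ _ _ _ cv3_8_0),
    (cov_of_covB hv _ (by decide +kernel) _ _ _ _ cv3_9_0),
    (cov_of_covB hv _ (by decide +kernel) _ _ _ _ cv3_10_0), trivial⟩

theorem cov4 : AllIdx (fun j m => Cov nets FF (nat_lit 2457) (nat_lit 4248) (nat_lit 4) (getD 0 dat.live j) m) 0 row4 :=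
  ⟨cov_zero,
    (cov_of_covB hv _ (by decide +kernel) _ _ _ _ cv4_1_0),
    cov_zero,
    (cov_of_covB hv _ (by decide +kernel) _ _ _ _ cv4_3_0),
    (cov_of_covB hv _ (by decide +kernel) _ _ _ _ cv4_4_0),
    (cov_of_covB hv _ (by decide +kernel) _ _ _ _ cv4_5_0),
    (cov_of_covB hv _ (by decide +kernel) _ _ _ _ cv4_6_0),
    (cov_of_covB hv _ (by decide +kernel) _ _ _ _ cv4_7_0),
    (cov_of_covB hv _ (by decide +kernel) _ _ _ _ cv4_8_0),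
    (cov_of_covB hv _ (by decide +kernel) _ _ _ _ cv4_9_0),
    cov_zero, trivial⟩

theorem cov5 : AllIdx (fun j m => Cov nets FF (nat_lit 2457) (nat_lit 4248) (nat_lit 5) (getD 0 dat.live j) m) 0 row5 :=
  ⟨cov_zero,
    (cov_of_covB hv _ (by decide +kernel) _ _ _ _ cv5_1_0),
    cov_zero,
    (cov_of_covB hv _ (by decide +kernel) _ _ _ _ cv5_3_0),
    (cov_of_covB hv _ (by decide +kernel) _ _ _ _ cv5_4_0),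
    (cov_of_covB hv _ (by decide +kernel) _ _ _ _ cv5_5_0),
    (cov_of_covB hv _ (by decide +kernel) _ _ _ _ cv5_6_0),
    (cov_of_covB hv _ (by decide +kernel) _ _ _ _ cv5_7_0),
    (cov_of_covB hv _ (by decide +kernel) _ _ _ _ cv5_8_0),
    (cov_of_covB hv _ (by decide +kernel) _ _ _ _ cv5_9_0),
    cov_zero, trivial⟩

theorem cov6 : AllIdx (fun j m => Cov nets FF (nat_lit 2457) (nat_lit 4248) (nat_lit 6) (getD 0 dat.live j) m) 0 row6 :=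
  ⟨cov_zero,
    (cov_of_covB hv _ (by decide +kernel) _ _ _ _ cv6_1_0),
    (cov_of_covB hv _ (by decide +kernel) _ _ _ _ cv6_2_0),
    (cov_of_covB hv _ (by decide +kernel) _ _ _ _ cv6_3_0),
    (cov_of_covB hv _ (by decide +kernel) _ _ _ _ cv6_4_0),
    (cov_of_covB hv _ (by decide +kernel) _ _ _ _ cv6_5_0),
    (cov_of_covB hv _ (by decide +kernel) _ _ _ _ cv6_6_0),
    (cov_of_covB hv _ (by decide +kernel) _ _ _ _ cv6_7_0),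
    (cov_of_covB hv _ (by decide +kernel) _ _ _ _ cv6_8_0),
    (cov_of_covB hv _ (by decide +kernel) _ _ _ _ cv6_9_0),
    (cov_of_covB hv _ (by decide +kernel) _ _ _ _ cv6_10_0), trivial⟩

theorem cov7 : AllIdx (fun j m => Cov nets FF (nat_lit 2457) (nat_lit 4248) (nat_lit 7) (getD 0 dat.live j) m) 0 row7 :=
  ⟨cov_zero,
    cov_zero,
    (cov_of_covB hv _ (by decide +kernel) _ _ _ _ cv7_2_0),
    (cov_of_covB hv _ (by decide +kernel) _ _ _ _ cv7_3_0),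
    (cov_of_covB hv _ (by decide +kernel) _ _ _ _ cv7_4_0),
    (cov_of_covB hv _ (by decide +kernel) _ _ _ _ cv7_5_0),
    (cov_of_covB hv _ (by decide +kernel) _ _ _ _ cv7_6_0),
    (cov_of_covB hv _ (by decide +kernel) _ _ _ _ cv7_7_0),
    (cov_of_covB hv _ (by decide +kernel) _ _ _ _ cv7_8_0),
    (cov_of_covB hv _ (by decide +kernel) _ _ _ _ cv7_9_0),
    cov_zero, trivial⟩

theorem cov8 : AllIdx (fun j m => Cov nets FF (nat_lit 2457) (nat_lit 4248) (nat_lit 8) (getD 0 dat.live j) m) 0 row8 :=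
  ⟨cov_zero,
    cov_zero,
    (cov_of_covB hv _ (by decide +kernel) _ _ _ _ cv8_2_0),
    (cov_of_covB hv _ (by decide +kernel) _ _ _ _ cv8_3_0),
    (cov_of_covB hv _ (by decide +kernel) _ _ _ _ cv8_4_0),
    (cov_of_covB hv _ (by decide +kernel) _ _ _ _ cv8_5_0),
    (cov_of_covB hv _ (by decide +kernel) _ _ _ _ cv8_6_0),
    (cov_of_covB hv _ (by decide +kernel) _ _ _ _ cv8_7_0),
    (cov_of_covB hv _ (by decide +kernel) _ _ _ _ cv8_8_0),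
    (cov_of_covB hv _ (by decide +kernel) _ _ _ _ cv8_9_0),
    cov_zero, trivial⟩

theorem cov9 : AllIdx (fun j m => Cov nets FF (nat_lit 2457) (nat_lit 4248) (nat_lit 9) (getD 0 dat.live j) m) 0 row9 :=
  ⟨cov_zero,
    cov_zero,
    cov_zero,
    (cov_of_covB hv _ (by decide +kernel) _ _ _ _ cv9_3_0),
    (cov_of_covB hv _ (by decide +kernel) _ _ _ _ cv9_4_0),
    (cov_of_covB hv _ (by decide +kernel) _ _ _ _ cv9_5_0),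
    (cov_of_covB hv _ (by decide +kernel) _ _ _ _ cv9_6_0),
    (cov_of_covB hv _ (by decide +kernel) _ _ _ _ cv9_7_0),
    (cov_of_covB hv _ (by decide +kernel) _ _ _ _ cv9_8_0),
    (cov_of_covB hv _ (by decide +kernel) _ _ _ _ cv9_9_0),
    (cov_of_covB hv _ (by decide +kernel) _ _ _ _ cv9_10_0), trivial⟩

theorem cov10 : AllIdx (fun j m => Cov nets FF (nat_lit 2457) (nat_lit 4248) (nat_lit 10) (getD 0 dat.live j) m) 0 row10 :=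
  ⟨cov_zero,
    cov_zero,
    cov_zero,
    (cov_of_covB hv _ (by decide +kernel) _ _ _ _ cv10_3_0),
    cov_zero,
    cov_zero,
    (cov_of_covB hv _ (by decide +kernel) _ _ _ _ cv10_6_0),
    cov_zero,
    cov_zero,
    (cov_of_covB hv _ (by decide +kernel) _ _ _ _ cv10_9_0),
    (cov_of_covB hv _ (by decide +kernel) _ _ _ _ cv10_10_0), trivial⟩

theorem ok : dat.OK :=
  ⟨hv, by decide +kernel, derive [] hrels _ (by decide +kernel), tab, cH, cK, hB ▸ facts,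
    ⟨rw0, rw1, rw2, rw3, rw4, rw5, rw6, rw7, rw8, rw9, rw10, trivial⟩,
    ⟨cov0, cov1, cov2, cov3, cov4, cov5, cov6, cov7, cov8, cov9, cov10, trivial⟩⟩

end Cfsg.Agent.Lib.ThD
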