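import Cfsg.Agent.Lib.ThER

set_option autoImplicit false
set_option maxRecDepth 100000

namespace Cfsg.Agent.Lib.ThE
open Cfsg.Agent.Lib.PermNet

theorem ch_0 : levelB nets [[0], [2], [4], [6], [8], [14]] [] 0 [5, 1, 3, 5, 0, 4, 2, 3, 1, 5, 2, 4, 1, 3, 5, 0, 2, 4] 0 702 702 = true := by decide +kernel

theorem ch_1 : levelB nets [[0], [2], [4], [6], [8]] [0] 1 [0, 1, 2, 4, 3, 1, 2, 4, 1, 3, 0, 2, 4, 3, 4, 1] 1 288 288 = true := by decide +kernel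

theorem ch_2 : levelB nets [[0, 2, 8, 4, 0, 2, 0], [4, 6, 4, 2, 8, 6, 4, 6, 8, 4, 6, 4]] [1, 0] 8 [0, 1, 0, 1, 0, 1, 0, 1, 1] 8 266 42 = true := by decide +kernel

theorem rels0_0 : RelsOn nets 702 10 rels0 0 10 :=
  relsOn_of_B _ _ _ _ _ 10 _ (by decide +kernel) (by decide +kernel)

end Cfsg.Agent.Lib.ThE
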