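import Cfsg.Agent.Lib.DCE5
import Cfsg.Agent.Lib.PermModel
import Cfsg.Agent.Lib.TCTh1
import Cfsg.Agent.Lib.TCTh2
import Cfsg.Agent.Lib.TCTh3
import Cfsg.Agent.Lib.TCTh4
import Cfsg.Agent.Lib.TCTh5
import Cfsg.Agent.Lib.TCTh6
import Cfsg.Agent.Lib.TCTh7
import Cfsg.Agent.Lib.TCTh8
import Cfsg.Agent.Lib.ThMC0
import Cfsg.Agent.Lib.ThEC0

/-! Order bounds and further relations for three subgroups of the presented Thompson group. -/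

set_option autoImplicit false
set_option maxRecDepth 100000

namespace Cfsg.Agent.Lib.ThTC

open Cfsg.Agent.Lib.PermNet Cfsg.Agent.Lib.Words Cfsg.Agent.Lib.PermGroup Cfsg.Agent.Lib.PermModel Cfsg.Agent.Lib.DCE

def K0 : List (List ℕ) := [[0, 0], [2, 2], [4, 4], [6, 6], [8, 8], [0, 2, 0, 2, 0, 2], [0, 8, 0, 8], [2, 4, 2, 4, 2, 4], [2, 6, 2, 6], [2, 8, 2, 8], [0, 7, 5, 7, 5, 7, 5, 7, 5], [4, 8, 4, 8], [6, 8, 6, 8, 6, 8], [2, 4, 6, 8, 2, 4, 6, 8, 2, 4, 6, 8, 2, 4, 6, 8, 2, 4, 6, 8, 2, 4, 6, 8, 2, 4, 6, 8, 2, 4, 6, 8]]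

def K1 : List (List ℕ) := [[0, 0], [2, 2], [4, 4], [6, 6], [8, 8], [0, 2, 0, 2, 0, 2], [0, 8, 0, 8], [2, 4, 2, 4, 2, 4], [2, 6, 2, 6], [2, 8, 2, 8], [0, 7, 5, 7, 5, 7, 5, 7, 5], [4, 8, 4, 8], [6, 8, 6, 8, 6, 8], [2, 4, 6, 8, 2, 4, 6, 8, 2, 4, 6, 8, 2, 4, 6, 8, 2, 4, 6, 8, 2, 4, 6, 8, 2, 4, 6, 8, 2, 4, 6, 8], [10, 10, 10, 10, 10, 10, 10], [11, 1, 10, 0], [11, 3, 10, 2], [11, 5, 10, 4], [10, 6, 10, 6], [9, 11, 8, 10, 11, 11, 11, 9, 10, 10, 10], [12, 12, 12], [13, 1, 12, 0], [13, 3, 12, 2], [13, 5, 12, 4], [13, 7, 12, 6], [13, 9, 12, 8], [13, 10, 12, 11, 11]]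

def KM : List (List ℕ) := [[0, 0], [4, 4], [6, 6], [8, 8], [0, 8, 0, 8], [0, 7, 5, 7, 5, 7, 5, 7, 5], [4, 8, 4, 8], [6, 8, 6, 8, 6, 8], [10, 10, 10, 10, 10, 10, 10], [11, 1, 10, 0], [11, 5, 10, 4], [10, 6, 10, 6], [9, 11, 8, 10, 11, 11, 11, 9, 10, 10, 10], [12, 12, 12], [13, 1, 12, 0], [13, 5, 12, 4], [13, 7, 12, 6], [13, 9, 12, 8], [13, 10, 12, 11, 11], [14, 14, 5, 1], [15, 1, 14, 0], [15, 5, 14, 4], [15, 9, 14, 8], [6, 8, 15, 6, 14, 6, 8, 15, 6, 14], [15, 12, 14, 12], [9, 11, 11, 15, 10, 10, 8, 11, 11, 14, 10, 10], [0, 4, 11, 15, 11, 15, 11, 15], [0, 4, 11, 15, 10, 14, 11, 15, 10, 14, 11, 15, 10, 14, 11, 15, 10, 14], [6, 11, 11, 14, 10, 10, 6, 11, 11, 14, 10, 10, 6, 11, 11, 14, 10, 10, 6, 11, 11, 14, 10, 10, 11, 11, 9, 7, 5, 6, 8, 10, 10, 10, 9, 7, 5, 6, 8, 11, 7, 5, 6, 5, 1], [4, 6, 11,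 8, 4, 6, 11, 8, 4, 6, 11, 8, 4, 6, 11, 8, 4, 6, 11, 8, 4, 6, 11, 8, 4, 6, 11, 8, 4, 6, 11, 8, 4, 6, 11, 8]]

def KD : List (List ℕ) := [[0, 0], [2, 2], [4, 4], [6, 6], [8, 8], [0, 2, 0, 2, 0, 2], [0, 8, 0, 8], [2, 4, 2, 4, 2, 4], [2, 6, 2, 6], [2, 8, 2, 8], [0, 7, 5, 7, 5, 7, 5, 7, 5], [4, 8, 4, 8], [6, 8, 6, 8, 6, 8], [2, 4, 6, 8, 2, 4, 6, 8, 2, 4, 6, 8, 2, 4, 6, 8, 2, 4, 6, 8, 2, 4, 6, 8, 2, 4, 6, 8, 2, 4, 6, 8], [14, 14, 5, 1], [15, 1, 14, 0], [15, 5, 14, 4], [15, 9, 14, 8], [6, 8, 15, 6, 14, 6, 8, 15, 6, 14], [15, 3, 5, 1, 2, 14, 3, 0, 4, 2, 9], [7, 15, 6, 3, 5, 1, 2, 7, 14, 6, 3, 0, 4, 2, 5, 9, 7, 15, 6, 3, 5, 1, 2, 9, 15]]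

def RM : List (List ℕ) := [[6, 4, 6, 14, 13, 7, 9, 10, 9, 7, 11, 11, 9, 11, 5, 7, 5, 9, 7, 5, 11, 9, 7, 5, 10, 9, 12, 11, 15], [11, 8, 10, 14, 9, 10, 9, 11, 15], [14, 10, 14, 10, 0, 4, 14, 10], [14, 11, 14, 11, 14, 11], [14, 10, 6, 14, 8, 6, 10, 8, 6, 10, 12, 4, 6, 4, 8, 6, 4, 11, 8, 6, 12, 11, 8, 14, 6, 11, 8, 11], [0, 8, 11, 6, 8, 14, 4, 11, 0, 8, 11, 6, 8, 14, 4, 11, 0, 8, 11, 6, 8, 14, 4, 11, 0, 8, 11, 6, 8, 14, 4, 11, 0, 8, 11, 6, 8, 14, 4, 11, 0, 8, 11, 6, 8, 14, 4, 11, 0, 8, 11, 6, 8, 14, 4, 11, 0, 8, 11, 6, 8, 14, 4, 11, 0, 8, 11, 6, 8, 14, 4, 11, 0, 8, 11, 6, 8, 14, 4, 11, 0, 8, 11, 6, 8, 14, 4, 11, 0, 8, 11, 6, 8, 14, 4, 11, 0, 8, 11, 6, 8, 14, 4, 11, 0, 8, 11, 6, 8, 14, 4, 11, 0, 8, 11, 6, 8, 14, 4, 11], [0, 8, 11, 6, 8, 14, 4, 11, 0, 8, 11, 6, 8, 14, 4, 11, 0, 8, 11, 6, 8, 14, 4,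 11, 6, 0, 8, 11, 6, 8, 14, 4, 11, 0, 8, 11, 6, 8, 14, 4, 11, 0, 8, 11, 6, 8, 14, 4, 11, 6, 0, 8, 11, 6, 8, 14, 4, 11, 0, 8, 11, 6, 8, 14, 4, 11, 0, 8, 11, 6, 8, 14, 4, 11, 6, 0, 8, 11, 6, 8, 14, 4, 11, 0, 8, 11, 6, 8, 14, 4, 11, 0, 8, 11, 6, 8, 14, 4, 11, 6, 0, 8, 11, 6, 8, 14, 4, 11, 0, 8, 11, 6, 8, 14, 4, 11, 0, 8, 11, 6, 8, 14, 4, 11, 6, 0, 8, 11, 6, 8, 14, 4, 11, 0, 8, 11, 6, 8, 14, 4, 11, 0, 8, 11, 6, 8, 14, 4, 11, 6, 0, 8, 11, 6, 8, 14, 4, 11, 0, 8, 11, 6, 8, 14, 4, 11, 0, 8, 11, 6, 8, 14, 4, 11, 6]]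

def RD : List (List ℕ) := [[2, 0, 4, 2, 14, 1, 3, 1, 5, 9, 3, 5, 15], [14, 6, 14, 4, 8, 6, 4, 14, 4, 0, 6, 8, 14, 4, 0, 6], [14, 6, 14, 4, 6, 4, 2, 8, 6, 4, 6, 8, 4, 6, 4, 2, 0, 4, 6, 4, 2, 8, 4, 6, 8, 4, 6, 2, 4, 2, 0, 4, 6, 4, 2, 8, 4, 6, 8, 4, 6, 2, 4, 2, 8, 6, 14, 4, 0, 2, 0, 6, 4, 2, 6, 4, 14, 4, 0, 2, 0, 6, 4, 2], [14, 6, 14, 4, 6, 4, 8, 6, 4, 6, 8, 2, 4, 6, 4, 2, 0, 4, 6, 4, 2, 8, 4, 6, 8, 4, 6, 2, 4, 0, 2, 0, 4, 8, 2, 0, 4, 6, 4, 2, 8, 6, 4, 6, 8, 4, 6, 4, 0, 4, 2, 6, 4, 14, 4, 0, 2, 0, 6, 4, 2, 8, 6, 14, 4, 0, 2, 0, 6, 4, 2, 6], [14, 6, 14, 4, 2, 6, 4, 8, 6, 4, 8, 2, 4, 6, 4, 0, 2, 4, 6, 4, 2, 8, 6, 4, 6, 8, 4, 6, 2, 6, 14, 4, 0, 2, 0, 6, 4, 2, 6, 4, 14, 4, 0, 2, 0, 6, 4, 2, 6, 8], [14, 4, 6, 2, 4, 6, 0, 2, 14, 0, 2, 0, 4, 8, 2, 0, 4, 2, 6, 4, 8, 6, 4, 8, 2, 4, 6, 4, 0, 2, 4, 2, 6,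 4, 8, 6, 4, 8, 2, 4, 6, 4, 0, 4, 6, 4, 8, 14, 4, 0, 2, 0, 6, 4, 2, 8, 6, 14, 4, 0, 2, 0, 6, 4, 2, 6, 2, 4, 6, 0, 2], [14, 4, 6, 2, 4, 6, 0, 2, 14, 4, 2, 6, 4, 8, 6, 4, 8, 2, 4, 6, 4, 0, 2, 4, 2, 6, 4, 8, 6, 4, 8, 2, 4, 6, 4, 0, 2, 4, 6, 4, 2, 8, 6, 4, 6, 8, 4, 6, 4, 2, 4, 8, 6, 4, 2, 0, 6, 4, 14, 4, 0, 2, 0, 6, 4, 2, 8, 6, 14, 4, 0, 2, 0, 6, 4, 2, 8, 2, 4, 6, 0, 2], [14, 4, 6, 2, 4, 6, 0, 2, 14, 0, 2, 0, 4, 8, 2, 0, 4, 6, 4, 2, 8, 6, 4, 6, 8, 4, 6, 4, 2, 0, 4, 6, 4, 2, 8, 4, 6, 8, 4, 6, 2, 4, 0, 2, 0, 4, 8, 2, 0, 2, 4, 6, 4, 2, 0, 8, 6, 14, 4, 0, 2, 0, 6, 4, 2, 6, 4, 14, 4, 0, 2, 0, 6, 4, 2, 6, 8, 2, 4, 6, 0, 2], [14, 4, 6, 2, 4, 6, 0, 2, 14, 4, 6, 4, 8, 6, 4, 14, 4, 0, 2, 0, 6, 4, 2, 6, 4, 14, 4, 0, 2, 0, 6, 4, 2, 6, 4, 6, 2, 4, 6, 0, 2], [14, 4, 6, 2, 4, 6, 0, 2, 14, 4, 6, 4, 8, 6, 4, 6, 8,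 2, 4, 6, 4, 0, 2, 0, 4, 8, 2, 8, 6, 4, 2, 0, 6, 4, 14, 4, 0, 2, 0, 6, 4, 2, 8, 6, 14, 4, 0, 2, 0, 6, 4, 2, 8, 6, 4, 6, 2, 4, 6, 0, 2], [14, 8, 6, 2, 14, 2, 0, 4, 6, 4, 2, 8, 4, 6, 8, 4, 6, 2, 4, 2, 0, 4, 6, 4, 2, 8, 4, 6, 8, 4, 6, 2, 4, 0, 2, 0, 4, 8, 2, 4, 2, 6, 4, 2, 0, 8, 6, 14, 4, 0, 2, 0, 6, 4, 6, 8, 6, 4, 2, 6, 4, 14, 4, 0, 2, 0], [14, 8, 6, 2, 14, 0, 2, 0, 4, 8, 2, 0, 4, 6, 4, 2, 8, 6, 4, 6, 8, 4, 6, 4, 2, 0, 4, 6, 4, 2, 8, 4, 6, 8, 4, 6, 2, 4, 0, 2, 0, 4, 8, 2, 4, 2, 6, 4, 2, 0, 8, 6, 14, 4, 0, 2, 0, 6, 4, 2, 8, 6, 4, 2, 0, 14, 4, 0, 2, 6, 4, 6, 8, 6]]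

theorem b1 {X : Type*} [Group X] (z : ℕ → X) (hz : ∀ w ∈ K1, wval z w = 1) :
    (gp z [[0], [2], [4], [6], [8], [10]]).relIndex (gp z [[0], [2], [4], [6], [8], [10], [12]]) ≠ 0 ∧
    (gp z [[0], [2], [4], [6], [8], [10]]).relIndex (gp z [[0], [2], [4], [6], [8], [10], [12]]) ≤ 3 :=
  tc_wrap [0, 1, 2, 3, 4] hz [[0], [2], [4], [6], [8], [10], [11], [12], [13]] TCTh1.bound _ _ (by decide +kernel)

theorem b2 {X : Type*} [Group X] (z : ℕ → X) (hz : ∀ w ∈ K1, wval z w = 1) :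
    (gp z [[0], [2], [4], [6], [8]]).relIndex (gp z [[0], [2], [4], [6], [8], [10]]) ≠ 0 ∧
    (gp z [[0], [2], [4], [6], [8]]).relIndex (gp z [[0], [2], [4], [6], [8], [10]]) ≤ 17472 :=
  tc_wrap [0, 1, 2, 3, 4] hz [[0], [2], [4], [6], [8], [10], [11]] TCTh2.bound _ _ (by decide +kernel)

theorem b3 {X : Type*} [Group X] (z : ℕ → X) (hz : ∀ w ∈ K0, wval z w = 1) :
    (gp z [[0], [4], [6], [8]]).relIndex (gp z [[0], [2], [4], [6], [8]]) ≠ 0 ∧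
    (gp z [[0], [4], [6], [8]]).relIndex (gp z [[0], [2], [4], [6], [8]]) ≤ 126 :=
  tc_wrap [0, 1, 2, 3, 4] hz [[0], [2], [4], [6], [8]] TCTh3.bound _ _ (by decide +kernel)

theorem b4 {X : Type*} [Group X] (z : ℕ → X) (hz : ∀ w ∈ K0, wval z w = 1) :
    (gp z []).relIndex (gp z [[0], [4], [6], [8]]) ≠ 0 ∧
    (gp z []).relIndex (gp z [[0], [4], [6], [8]]) ≤ 96 :=
  tc_wrap [0, 1, 2, 3, 4] hz [[0], [4], [6], [8]] TCTh4.bound _ _ (by decide +kernel)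

theorem b5 {X : Type*} [Group X] (z : ℕ → X) (hz : ∀ w ∈ KD, wval z w = 1) :
    (gp z [[0], [2], [4], [6], [8]]).relIndex (gp z [[0], [2], [4], [6], [8], [14]]) ≠ 0 ∧
    (gp z [[0], [2], [4], [6], [8]]).relIndex (gp z [[0], [2], [4], [6], [8], [14]]) ≤ 702 :=
  tc_wrap [0, 1, 2, 3, 4] hz [[0], [2], [4], [6], [8], [14], [15]] TCTh5.bound _ _ (by decide +kernel)

theorem b6 {X : Type*} [Group X] (z : ℕ → X) (hz : ∀ w ∈ KM, wval z w = 1) :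
    (gp z [[0], [4], [6], [8], [10], [12]]).relIndex (gp z [[0], [4], [6], [8], [10], [12], [14]]) ≠ 0 ∧
    (gp z [[0], [4], [6], [8], [10], [12]]).relIndex (gp z [[0], [4], [6], [8], [10], [12], [14]]) ≤ 120 :=
  tc_wrap [0, 2, 3, 4] hz [[0], [4], [6], [8], [10], [11], [12], [13], [14], [15]] TCTh6.bound _ _ (by decide +kernel)

theorem b7 {X : Type*} [Group X] (z : ℕ → X) (hz : ∀ w ∈ KM, wval z w = 1) :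
    (gp z [[6], [8], [10], [12]]).relIndex (gp z [[0], [4], [6], [8], [10], [12]]) ≠ 0 ∧
    (gp z [[6], [8], [10], [12]]).relIndex (gp z [[0], [4], [6], [8], [10], [12]]) ≤ 512 :=
  tc_wrap [0, 2, 3, 4] hz [[0], [4], [6], [8], [10], [11], [12], [13]] TCTh7.bound _ _ (by decide +kernel)

theorem b8 {X : Type*} [Group X] (z : ℕ → X) (hz : ∀ w ∈ KM, wval z w = 1) :
    (gp z []).relIndex (gp z [[6], [8], [10], [12]]) ≠ 0 ∧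
    (gp z []).relIndex (gp z [[6], [8], [10], [12]]) ≤ 1512 :=
  tc_wrap [0, 2, 3, 4] hz [[6], [8], [10], [11], [12], [13]] TCTh8.bound _ _ (by decide +kernel)

theorem card0 {X : Type*} [Group X] (z : ℕ → X) (hz : ∀ w ∈ K0, wval z w = 1) :
    Nat.card (gp z [[0], [2], [4], [6], [8]]) ≠ 0 ∧ Nat.card (gp z [[0], [2], [4], [6], [8]]) ≤ 12096 :=
  (card_le_of_relIndex (gp_mono (by decide)) (b3 z hz)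
    (card_le_of_relIndex (gp_mono (by decide)) (b4 z hz)
    (card_gp_nil z)))

theorem card_le {X : Type*} [Group X] (z : ℕ → X) (hz : ∀ w ∈ K1, wval z w = 1) :
    Nat.card (gp z [[0], [2], [4], [6], [8], [10], [12]]) ≠ 0 ∧ Nat.card (gp z [[0], [2], [4], [6], [8], [10], [12]]) ≤ 634023936 :=
  (card_le_of_relIndex (gp_mono (by decide)) (b1 z hz)
    (card_le_of_relIndex (gp_mono (by decide)) (b2 z hz)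
    (card0 z (derive [] hz _ (by decide +kernel)))))

theorem cardD {X : Type*} [Group X] (z : ℕ → X) (hz : ∀ w ∈ KD, wval z w = 1) :
    Nat.card (gp z [[0], [2], [4], [6], [8], [14]]) ≠ 0 ∧ Nat.card (gp z [[0], [2], [4], [6], [8], [14]]) ≤ 8491392 :=
  (card_le_of_relIndex (gp_mono (by decide)) (b5 z hz)
    (card0 z (derive [] hz _ (by decide +kernel))))

theorem cardM {X : Type*} [Group X] (z : ℕ → X) (hz : ∀ w ∈ KM, wval z w = 1) :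
    Nat.card (gp z [[0], [4], [6], [8], [10], [12], [14]]) ≠ 0 ∧ Nat.card (gp z [[0], [4], [6], [8], [10], [12], [14]]) ≤ 92897280 :=
  (card_le_of_relIndex (gp_mono (by decide)) (b6 z hz)
    (card_le_of_relIndex (gp_mono (by decide)) (b7 z hz)
    (card_le_of_relIndex (gp_mono (by decide)) (b8 z hz)
    (card_gp_nil z))))

open ThM in
theorem hrelsThM : ∀ w ∈ relW rels, wval nets.perm w = 1 :=
  relW_one (wval_eq_of_relsOn (K := 16) hv (by norm_num) (((((((((((((((((rels0_0.trans rels0_1).trans rels0_2).trans rels0_3).trans rels0_4).trans rels0_5).trans rels0_6).trans rels0_7).trans rels0_8).trans rels0_9).trans rels0_10).trans rels0_11).trans rels0_12).trans rels0_13).trans rels0_14).trans rels0_15).append (((((((((((((((rels1_0.trans rels1_1).trans rels1_2).trans rels1_3).trans rels1_4).trans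 rels1_5).trans rels1_6).trans rels1_7).trans rels1_8).trans rels1_9).trans rels1_10).trans rels1_11).trans rels1_12).trans rels1_13).trans rels1_14).trans rels1_15)).append (((((((((((((((rels2_0.trans rels2_1).trans rels2_2).trans rels2_3).trans rels2_4).trans rels2_5).trans rels2_6).trans rels2_7).trans rels2_8).trans rels2_9).trans rels2_10).trans rels2_11).trans rels2_12).trans rels2_13).trans rels2_14).trans rels2_15)))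

open ThM in
theorem leThM (_ : Finite (gp nets.perm [[0], [4], [6], [8], [10], [12], [14]])) : 92897280 ≤ Nat.card (gp nets.perm [[0], [4], [6], [8], [10], [12], [14]]) := by
  rw [← fixer_nil (gp nets.perm _)]
  exact (DCE.le_card_fixerI hv [[0], [4], [6], [8], [10], [12], [14]] (mem_gp_of_lettersIn (by decide +kernel)) [] 0 [0, 1, 6, 2, 4, 6, 1, 3, 4, 2, 3, 6, 5, 4, 2, 6, 1, 3, 2, 4, 5, 6, 3, 4, 1] 0 61440 ch_0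
    (le_card_fixer hv [[6], [8], [10], [12]] (mem_gp_of_lettersIn (by decide +kernel)) [0] 1 [0, 1, 2, 3, 0, 2, 1, 3, 0, 2, 3, 1, 2, 3, 2, 0, 1] 1 1512 1512 ch_1
    (one_le_card_fixer _)))

open ThE in
theorem hrelsThE : ∀ w ∈ relW rels, wval nets.perm w = 1 :=
  relW_one (wval_eq_of_relsOn (K := 10) hv (by norm_num) rels0_0)

open ThE in
theorem leThE (_ : Finite (gp nets.perm [[0], [2], [4], [6], [8], [14]])) : 8491392 ≤ Nat.card (gp nets.perm [[0], [2], [4], [6], [8], [14]]) := by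
  rw [← fixer_nil (gp nets.perm _)]
  exact (le_card_fixer hv [[0], [2], [4], [6], [8], [14]] (mem_gp_of_lettersIn (by decide +kernel)) [] 0 [5, 1, 3, 5, 0, 4, 2, 3, 1, 5, 2, 4, 1, 3, 5, 0, 2, 4] 0 702 702 ch_0
    (le_card_fixer hv [[0], [2], [4], [6], [8]] (mem_gp_of_lettersIn (by decide +kernel)) [0] 1 [0, 1, 2, 4, 3, 1, 2, 4, 1, 3, 0, 2, 4, 3, 4, 1] 1 288 288 ch_1
    (le_card_fixer hv [[0, 2, 8, 4, 0, 2, 0], [4, 6, 4, 2, 8, 6, 4, 6, 8, 4, 6, 4]] (mem_gp_of_lettersIn (by decide +kernel)) [1, 0] 8 [0, 1, 0, 1, 0, 1, 0, 1, 1] 8 266 42 ch_2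
    (one_le_card_fixer _))))

theorem relsM {X : Type*} [Group X] (z : ℕ → X) (hz : ∀ w ∈ KM, wval z w = 1) :
    ∀ w ∈ RM, wval z w = 1 :=
  rels_of_model hz (derive [0, 2, 3, 4] hrelsThM _ (by decide +kernel)) (fun z => cardM z) leThM
    (by decide +kernel) (derive [0, 2, 3, 4] hrelsThM _ (by decide +kernel))

theorem relsD {X : Type*} [Group X] (z : ℕ → X) (hz : ∀ w ∈ KD, wval z w = 1) :
    ∀ w ∈ RD, wval z w = 1 :=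
  rels_of_model hz (derive [0, 1, 2, 3, 4] hrelsThE _ (by decide +kernel)) (fun z => cardD z) leThE
    (by decide +kernel) (derive [0, 1, 2, 3, 4] hrelsThE _ (by decide +kernel))

end Cfsg.Agent.Lib.ThTC
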