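import Cfsg.Agent.Lib.ThBase
import Cfsg.Agent.Lib.ThD
import Cfsg.Agent.Lib.ThTC
import Cfsg.Agent.Lib.RepTh

/-! The presented Thompson group: index of the subgroup `³D₄(2):3`, order and simplicity. -/

set_option autoImplicit false
set_option maxRecDepth 100000

namespace Cfsg.Agent.Lib.ThA

open Cfsg.Agent.Lib.PermNet Cfsg.Agent.Lib.Words Cfsg.Agent.Lib.PermGroup Cfsg.Agent.Lib.ThBase Cfsg.Agent.Lib.DCE Cfsg.Agent.Lib.PermModel

theorem hK1 : ∀ w ∈ ThTC.K1, wval y w = 1 := derive [] hK _ (by decide +kernel)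

theorem hX : ∀ w ∈ ThD.X, wval y w = 1 :=
  rels_of_model hK1 ThD.hK1 (ls := sing 7) (fun z => ThTC.card_le z) ThD.ok.le_card
    (by decide +kernel) ThD.hX

theorem hM : ∀ w ∈ ThTC.RM, wval y w = 1 :=
  ThTC.relsM y (derive [] (all_append hK hX) _ (by decide +kernel))

theorem hD : ∀ w ∈ ThTC.RD, wval y w = 1 := ThTC.relsD y (derive [] hK _ (by decide +kernel))

theorem hR : ∀ w ∈ ThD.RR, wval y w = 1 :=
  deriveP [0, 1, 2, 3, 4] (all_append (all_append hK hM) hD) _
    [[([14], 56)],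
  [([14], 58)],
  [([14], 60)],
  [([14], 68)],
  [([], 78)],
  [([], 80)],
  [([], 92)],
  [([15], 54)],
  [([], 82)],
  [([], 84)],
  [([], 86)],
  [([], 94)],
  [([], 96)],
  [([], 98)],
  [([], 100)],
  [([], 102)],
  [([], 104)],
  [([], 106)],
  [([], 108)],
  [([], 110)],
  [([], 112)],
  [([], 114)]] (by decide +kernel)

theorem htop : gp y (sing 8) = ⊤ := gp_top (by decide +kernel)

theorem hub : Nat.card (WW y ThD.nets 7) ≠ 0 ∧ Nat.card (WW y ThD.nets 7) ≤ 634023936 :=
  ThTC.card_le _ (rels_pair hK1 ThD.hK1)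

theorem exists_phi : ∃ φ : Spor.Th →* _, ∀ i < 8, φ (y i) = RepTh.f i :=
  exists_hom RepTh.f (derive [] RepTh.rels K (by decide +kernel))

noncomputable def phi := exists_phi.choose

theorem phi_wval (w : List ℕ) (hw : w.all (fun l => decide (l < 2 * 8)) = true) :
    phi (wval y w) = wval RepTh.f w := by
  rw [map_wval]; exact wval_congr exists_phi.choose_spec (by simpa using hw)

theorem main : (gp y (sing 7)).index = 143127000 ∧ Nat.card Spor.Th = 143127000 * 634023936 :=
  have := ThD.ok.final y hR htop hub phi (wval y RepTh.g) (q := 5)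
    (by norm_num) (by decide) (by decide) (by rw [phi_wval _ (by decide +kernel)]; exact RepTh.g_pow)
    (by rw [phi_wval _ (by decide +kernel)]; exact RepTh.g_ne)
  ⟨this.1, this.2.2.1⟩

theorem card_eq : Nat.card Spor.Th = 90745943887872000 := main.2

theorem simple : IsSimpleGroup Spor.Th := by
  have : Finite Spor.Th := Nat.finite_of_card_ne_zero (by rw [card_eq]; norm_num)
  obtain ⟨-, h1, h2, h3, -⟩ := ThD.ok.main y hR htop hub fun _ ht => by
    have e : gp y (sing 7) = ⊤ := by
      rw [eq_top_iff, ← htop]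
      refine gp_le.2 fun w hw => ?_
      obtain ⟨i, hi, rfl⟩ := List.mem_map.1 hw
      rw [wval_single]
      rcases Nat.lt_succ_iff_lt_or_eq.1 (List.mem_range.1 hi) with hi | rfl
      exacts [mem_sing y hi, ht]
    have := main.1
    rw [e, Subgroup.index_top] at this
    omega
  exact simple_of_kill (all_append hK hM) h1 h3 (q := 5) (by norm_num) (by rw [h2]; decide)
    [0, 1, 2, 3, 4] [[0, 8, 11, 6, 8, 14, 4, 11, 0, 8, 11, 6, 8, 14, 4, 11, 0, 8, 11, 6, 8, 14, 4, 11]] (sing 8) htop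
    (fun w hw => by
      rw [List.mem_singleton.1 hw, ← wval_rep]; exact hM _ (by decide +kernel))
    [([6], 7, [([], 93), ([6], 93), ([], 93), ([6], 93), ([], 93), ([6], 93), ([], 93), ([], 90)], 2, []),
    ([8], 3, [([], 94), ([8], 94), ([], 94), ([], 24)], 2, []),
    ([0], 1, [([0, 4], 94), ([0], 94), ([0, 4], 94), ([0], 94), ([], 20)], 0, []),
    ([2], 3, [([], 98), ([2], 98), ([], 98), ([], 10)], 2, []),
    ([4], 3, [([], 100), ([4], 100), ([], 100), ([], 14)], 2, []),
    ([10], 2, [([10, 10], 94), ([10], 94), ([], 36)], 7, [([], 28)]),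
    ([14], 2, [([14, 14], 98), ([14, 14], 102), ([], 54)], 3, [([14, 14, 14], 98), ([14, 14, 14], 102), ([14, 14, 14], 105), ([14, 14], 105), ([14], 105), ([], 73)]),
    ([12], 2, [([12], 107), ([], 106), ([], 68)], 3, [([], 40)])]
    (by decide +kernel)

end Cfsg.Agent.Lib.ThA
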