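import Cfsg.Agent.Lib.DCEDefs

set_option autoImplicit false
set_option maxRecDepth 100000

namespace Cfsg.Agent.Lib.ThD
open Cfsg.Agent.Lib.PermNet Cfsg.Agent.Lib.DCE

noncomputable def f0 : FT := (.node (nat_lit 16) (.node (nat_lit 8) (.node (nat_lit 4) (.node (nat_lit 2) (.node (nat_lit 1) (.leaf ⟨0, 0, false, [0], []⟩)
  (.leaf ⟨0, 0, false, [2], []⟩))
  (.node (nat_lit 3) (.leaf ⟨0, 0, false, [4], []⟩)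
  (.leaf ⟨0, 0, false, [6], []⟩)))
  (.node (nat_lit 6) (.node (nat_lit 5) (.leaf ⟨0, 0, false, [8], []⟩)
  (.leaf ⟨0, 0, false, [10], []⟩))
  (.node (nat_lit 7) (.leaf ⟨0, 0, false, [12], []⟩)
  (.leaf ⟨0, 0, false, [14], []⟩))))
  (.node (nat_lit 12) (.node (nat_lit 10) (.node (nat_lit 9) (.leaf ⟨0, 0, false, [16], []⟩)
  (.leaf ⟨0, 0, false, [18], []⟩))
  (.node (nat_lit 11) (.leaf ⟨0, 1, true, [], []⟩)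
  (.leaf ⟨1, 0, true, [], [4, 0]⟩)))
  (.node (nat_lit 14) (.node (nat_lit 13) (.leaf ⟨1, 1, false, [0], []⟩)
  (.leaf ⟨1, 1, false, [4], []⟩))
  (.node (nat_lit 15) (.leaf ⟨1, 1, false, [6, 20], []⟩)
  (.leaf ⟨1, 1, false, [13], []⟩)))))
  (.node (nat_lit 24) (.node (nat_lit 20) (.node (nat_lit 18) (.node (nat_lit 17) (.leaf ⟨1, 1, false, [2, 0, 18, 11, 20], []⟩)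
  (.leaf ⟨1, 1, false, [10, 13, 8, 11, 4, 6, 8, 10, 4, 6, 8, 4, 6, 4, 10, 8, 10, 10, 6, 8, 11, 22], []⟩))
  (.node (nat_lit 19) (.leaf ⟨1, 1, false, [10, 8, 11, 6, 20], []⟩)
  (.leaf ⟨1, 1, true, [10], [10]⟩)))
  (.node (nat_lit 22) (.node (nat_lit 21) (.leaf ⟨1, 1, true, [11], [4, 0, 11]⟩)
  (.leaf ⟨1, 1, true, [12, 10, 6], [10, 10, 4, 6, 8, 11, 4, 6, 8, 11, 4, 6, 8, 4, 6, 4, 8, 11, 8, 11, 6, 22]⟩))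
  (.node (nat_lit 23) (.leaf ⟨1, 2, true, [6], []⟩)
  (.leaf ⟨2, 1, true, [], [4, 0, 6]⟩))))
  (.node (nat_lit 28) (.node (nat_lit 26) (.node (nat_lit 25) (.leaf ⟨2, 2, false, [0], []⟩)
  (.leaf ⟨2, 2, false, [10, 13, 8, 11, 4, 6, 8, 10, 4, 6, 8, 4, 6, 4, 10, 8, 10, 10, 6, 8, 11, 22], []⟩))
  (.node (nat_lit 27) (.leaf ⟨2, 2, false, [12], []⟩)
  (.leaf ⟨2, 2, false, [11, 13, 4, 6, 8, 11, 4, 6, 8, 10, 4, 6, 8, 4, 6, 4, 10, 13, 8, 11, 6, 8, 10, 13], []⟩)))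
  (.node (nat_lit 30) (.node (nat_lit 29) (.leaf ⟨2, 2, false, [10, 6, 8, 11, 12, 4, 6, 8, 11, 4, 6, 8, 4, 6, 4, 11, 8, 11, 12, 6, 8, 11, 12], []⟩)
  (.leaf ⟨2, 2, false, [13, 4, 6, 8, 10, 4, 6, 8, 11, 4, 6, 8, 4, 6, 4, 6, 8, 11, 6, 8, 10, 6, 22], []⟩))
  (.node (nat_lit 31) (.leaf ⟨2, 2, false, [4, 6, 8, 11, 4, 6, 8, 4, 6, 4, 0, 6, 8, 11, 6, 21], []⟩)
  (.leaf ⟨2, 1, true, [10], [4, 6, 8, 11, 13, 4, 6, 8, 11, 4, 6, 8, 4, 6, 4, 8, 11, 13, 6, 8, 11, 20]⟩))))))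

noncomputable def f32 : FT := (.node (nat_lit 48) (.node (nat_lit 40) (.node (nat_lit 36) (.node (nat_lit 34) (.node (nat_lit 33) (.leaf ⟨1, 2, true, [16, 2], [10, 13, 4, 6, 8, 10, 4, 6, 8, 11, 4, 6, 8, 4, 6, 4, 12, 8, 11, 6, 8, 10, 6, 12]⟩)
  (.leaf ⟨2, 2, true, [12, 11], [6, 8, 10, 12, 4, 6, 8, 10, 4, 6, 8, 4, 6, 4, 8, 11, 12, 6, 8, 11, 24]⟩))
  (.node (nat_lit 35) (.leaf ⟨2, 2, true, [8, 10, 6], [4, 6, 8, 4, 6, 4, 0, 12, 11, 6, 8, 10, 6, 13]⟩)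
  (.leaf ⟨2, 2, true, [12, 8, 11, 8, 6], [13, 10, 8, 11, 4, 6, 8, 4, 6, 4, 13, 6, 8, 11, 6, 20]⟩)))
  (.node (nat_lit 38) (.node (nat_lit 37) (.leaf ⟨2, 2, false, [11, 8, 4, 6, 4, 10, 12, 8, 11], []⟩)
  (.leaf ⟨1, 2, true, [18, 8, 0, 18, 8, 6], [8, 19, 0, 2, 8, 10, 6, 8, 11, 4, 6, 8, 10, 4, 6, 8, 4, 6, 4, 12, 8, 10, 6, 8, 10, 23]⟩))
  (.node (nat_lit 39) (.leaf ⟨2, 1, true, [12, 19, 8, 19, 2], [8, 0, 2, 18, 18, 11, 6, 8, 11, 4, 6, 8, 11, 4, 6, 8, 4, 6, 4, 11, 8, 11, 25]⟩)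
  (.leaf ⟨1, 3, true, [14], []⟩))))
  (.node (nat_lit 44) (.node (nat_lit 42) (.node (nat_lit 41) (.leaf ⟨3, 1, true, [], [0, 18, 6]⟩)
  (.leaf ⟨3, 3, false, [2, 0, 18, 11, 20], []⟩))
  (.node (nat_lit 43) (.leaf ⟨3, 3, false, [10, 8, 11, 6, 20], []⟩)
  (.leaf ⟨3, 3, false, [4, 0, 10, 8, 11, 6, 20], []⟩)))
  (.node (nat_lit 46) (.node (nat_lit 45) (.leaf ⟨3, 3, false, [10, 8, 11], []⟩)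
  (.leaf ⟨3, 3, false, [11, 8, 10], []⟩))
  (.node (nat_lit 47) (.leaf ⟨3, 2, true, [10], [18, 18, 0, 18, 10, 10, 6, 8, 10, 4, 6, 8, 11, 4, 6, 8, 4, 6, 4, 13, 10, 8, 11, 6, 8, 10, 6]⟩)
  (.leaf ⟨2, 3, true, [12, 19, 8, 19, 15], [8, 4, 6, 4, 0, 10, 10, 6, 8, 10]⟩)))))
  (.node (nat_lit 56) (.node (nat_lit 52) (.node (nat_lit 50) (.node (nat_lit 49) (.leaf ⟨3, 3, true, [10, 10], [12, 10]⟩)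
  (.leaf ⟨3, 3, true, [11], [4, 0, 11, 12]⟩))
  (.node (nat_lit 51) (.leaf ⟨3, 3, true, [19, 19, 19, 15, 8, 10, 6], [12, 11, 8, 19, 0, 2, 8, 10, 6, 8, 10, 4, 6, 8, 4, 6, 4, 13, 10, 8, 11, 6, 8, 10, 6, 20]⟩)
  (.leaf ⟨3, 3, true, [19, 19, 19, 12, 8, 16], [8, 18, 8, 0, 19, 2, 8, 10, 4, 6, 8, 11, 4, 6, 8, 4, 6, 4, 0, 13, 10, 8, 11, 6, 8, 11, 23]⟩)))
  (.node (nat_lit 54) (.node (nat_lit 53) (.leaf ⟨3, 3, true, [19, 19, 19, 12, 14], [10, 10, 8, 19, 0, 2, 8, 10, 8, 10, 6, 8, 10, 4, 6, 8, 4, 6, 4, 0, 12, 8, 11, 6, 22]⟩)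
  (.leaf ⟨3, 3, true, [19, 19, 19, 14, 10], [10, 10, 8, 18, 0, 18, 10, 8, 10, 10, 6, 8, 11, 4, 6, 8, 4, 6, 4, 10, 8, 11, 6, 8, 11, 20]⟩))
  (.node (nat_lit 55) (.leaf ⟨3, 2, true, [19, 19, 19, 8, 16, 10, 8, 6], [8, 19, 0, 2, 4, 6, 8, 4, 6, 4, 0, 8, 11, 11, 6, 8, 11, 21]⟩)
  (.leaf ⟨2, 3, true, [19, 12, 0, 14, 8, 6], [10, 10, 8, 18, 0, 18, 10, 12, 8, 11, 4, 6, 8, 4, 6, 4, 0, 12, 10, 8, 10, 6, 24]⟩))))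
  (.node (nat_lit 60) (.node (nat_lit 58) (.node (nat_lit 57) (.leaf ⟨3, 1, true, [19, 19, 6, 18, 8, 10, 6], [8, 18, 8, 0, 19, 2, 8, 11, 12, 6, 8, 11, 4, 6, 8, 4, 6, 4, 8, 10, 10, 6, 8, 11, 13]⟩)
  (.leaf ⟨1, 3, true, [14, 18, 18, 10, 8, 18], [8, 19, 0, 2, 10, 6, 8, 10, 6, 8, 11, 4, 6, 8, 4, 6, 4, 8, 11, 8, 11, 6, 21]⟩))
  (.node (nat_lit 59) (.leaf ⟨3, 3, false, [18, 12, 2, 18, 8, 18, 18, 11, 8, 10, 6, 8, 10, 4, 6, 8, 4, 6, 4, 0, 12, 10, 8, 10, 6, 8, 10, 24], []⟩)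
  (.leaf ⟨3, 3, true, [19, 19, 6, 18, 10, 8, 6], [10, 8, 18, 0, 18, 11, 8, 11, 4, 6, 8, 4, 6, 4, 11, 8, 11, 6, 8, 11, 25]⟩)))
  (.node (nat_lit 62) (.node (nat_lit 61) (.leaf ⟨3, 3, true, [15, 19, 12, 19, 8, 19, 2], [0, 15, 18, 8, 19, 2, 6, 8, 10, 8, 10, 4, 6, 8, 4, 6, 4, 0, 10, 8, 10, 6, 8, 10, 6, 23]⟩)
  (.leaf ⟨3, 3, true, [19, 19, 19, 14, 10, 8, 6], [12, 11, 8, 19, 0, 2, 8, 10, 10, 6, 8, 11, 4, 6, 8, 4, 6, 4, 13, 11, 8, 10, 6, 8, 11, 22]⟩))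
  (.node (nat_lit 63) (.leaf ⟨3, 3, true, [6, 18, 10, 8, 0, 18], [10, 8, 19, 0, 2, 11, 11, 8, 10, 6, 8, 11, 4, 6, 8, 4, 6, 4, 12, 11, 8, 11, 20]⟩)
  (.leaf ⟨3, 3, true, [19, 14, 6, 18, 8, 18, 10], [12, 11, 8, 19, 0, 2, 13, 8, 11, 4, 6, 8, 10, 4, 6, 8, 4, 6, 4, 8, 11, 8, 11, 6, 24]⟩))))))

noncomputable def f64 : FT := (.node (nat_lit 80) (.node (nat_lit 72) (.node (nat_lit 68) (.node (nat_lit 66) (.node (nat_lit 65) (.leaf ⟨3, 3, true, [13, 6, 18, 8, 0, 18], [12, 18, 8, 0, 19, 2, 6, 8, 10, 6, 8, 11, 4, 6, 8, 4, 6, 4, 13, 10, 8, 11, 6, 8, 10, 6, 25]⟩)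
  (.leaf ⟨3, 3, true, [19, 19, 0, 14, 6], [15, 18, 8, 19, 2, 13, 10, 4, 6, 8, 11, 4, 6, 8, 4, 6, 4, 11, 8, 11, 6, 21]⟩))
  (.node (nat_lit 67) (.leaf ⟨3, 3, true, [19, 19, 6, 8, 18, 12, 10], [10, 8, 19, 0, 2, 8, 10, 6, 8, 10, 4, 6, 8, 4, 6, 4, 0, 12, 8, 11, 6, 8, 10, 6]⟩)
  (.leaf ⟨3, 3, true, [19, 19, 19, 8, 16, 10], [12, 18, 8, 0, 19, 2, 10, 6, 8, 11, 6, 8, 10, 4, 6, 8, 4, 6, 4, 0, 12, 6, 8, 10, 21]⟩)))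
  (.node (nat_lit 70) (.node (nat_lit 69) (.leaf ⟨3, 3, true, [19, 19, 6, 18, 8, 6], [2, 0, 18, 12, 11, 4, 6, 8, 10, 4, 6, 8, 4, 6, 4, 6, 8, 11, 6, 8, 10]⟩)
  (.leaf ⟨3, 3, true, [11, 11], [18, 2, 18, 8, 18, 18, 11, 8, 10, 6, 8, 10, 4, 6, 8, 4, 6, 4, 10, 8, 11, 22]⟩))
  (.node (nat_lit 71) (.leaf ⟨3, 3, false, [19, 0, 14, 6, 8, 18, 18, 11, 8, 10, 6, 8, 10, 4, 6, 8, 4, 6, 4, 8, 10, 21], []⟩)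
  (.leaf ⟨3, 3, true, [19, 19, 6, 8, 18, 10], [10, 8, 19, 0, 2, 13, 6, 8, 10, 4, 6, 8, 4, 6, 4, 6, 8, 11, 6, 8, 10, 21]⟩))))
  (.node (nat_lit 76) (.node (nat_lit 74) (.node (nat_lit 73) (.leaf ⟨3, 3, true, [19, 19, 19, 12, 8, 14, 6], [8, 10, 8, 19, 0, 2, 10, 8, 11, 13, 6, 8, 10, 4, 6, 8, 4, 6, 4, 6, 8, 10, 6, 8, 11, 6, 12]⟩)
  (.leaf ⟨1, 4, true, [6, 2], []⟩))
  (.node (nat_lit 75) (.leaf ⟨4, 1, true, [], [0, 18, 11]⟩)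
  (.leaf ⟨4, 4, false, [12], []⟩)))
  (.node (nat_lit 78) (.node (nat_lit 77) (.leaf ⟨4, 4, false, [10, 8, 10, 10, 4, 6, 8, 11, 4, 6, 8, 4, 6, 4, 11, 8, 11, 12, 6, 8, 11, 23], []⟩)
  (.leaf ⟨4, 4, false, [19, 19, 19, 2, 4, 6, 8, 11, 12, 4, 6, 8, 11, 4, 6, 8, 4, 6, 4, 11, 8, 11, 12, 6, 8, 11, 6, 12], []⟩))
  (.node (nat_lit 79) (.leaf ⟨4, 4, true, [10, 6], [10, 10, 4, 6, 8, 11, 4, 6, 8, 11, 4, 6, 8, 4, 6, 4, 8, 11, 8, 11, 6, 22]⟩)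
  (.leaf ⟨4, 3, true, [10, 8, 10, 6], [10, 6, 8, 19, 8, 0, 19, 2, 8, 11, 6, 8, 10, 4, 6, 8, 10, 4, 6, 8, 4, 6, 4, 8, 11, 13, 6, 8, 11, 6]⟩)))))
  (.node (nat_lit 88) (.node (nat_lit 84) (.node (nat_lit 82) (.node (nat_lit 81) (.leaf ⟨3, 4, true, [6, 18, 8, 18, 4, 14, 8, 10, 6], [10, 4, 6, 8, 11, 4, 6, 8, 11, 4, 6, 8, 4, 6, 4, 0, 10, 8, 11, 13, 6, 8, 10, 20]⟩)
  (.leaf ⟨1, 5, true, [16], []⟩))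
  (.node (nat_lit 83) (.leaf ⟨5, 1, true, [], [0, 18]⟩)
  (.leaf ⟨5, 5, false, [10, 8, 10, 10, 4, 6, 8, 11, 4, 6, 8, 4, 6, 4, 11, 8, 11, 12, 6, 8, 11, 23], []⟩)))
  (.node (nat_lit 86) (.node (nat_lit 85) (.leaf ⟨5, 5, false, [19, 19, 19, 2, 4, 6, 8, 11, 12, 4, 6, 8, 11, 4, 6, 8, 4, 6, 4, 11, 8, 11, 12, 6, 8, 11, 6, 12], []⟩)
  (.leaf ⟨5, 4, true, [10], [10]⟩))
  (.node (nat_lit 87) (.leaf ⟨4, 5, true, [11], [4, 0, 11]⟩)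
  (.leaf ⟨5, 5, true, [10, 10], [12, 10]⟩))))
  (.node (nat_lit 92) (.node (nat_lit 90) (.node (nat_lit 89) (.leaf ⟨5, 5, true, [11], [4, 0, 11, 12]⟩)
  (.leaf ⟨5, 3, true, [15, 8, 0, 18, 12, 10], [8, 10, 6, 8, 10, 4, 6, 8, 4, 6, 4, 11, 8, 11, 6, 8, 10, 6, 23]⟩))
  (.node (nat_lit 91) (.leaf ⟨3, 5, true, [12, 10, 8, 6], [10, 8, 19, 0, 2, 8, 11, 8, 11, 6, 8, 4, 6, 4, 12, 8, 10, 6, 8, 10, 12]⟩)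
  (.leaf ⟨5, 3, true, [19, 19, 6, 18, 8, 10, 6], [12, 6, 18, 8, 0, 18, 18, 11, 6, 8, 4, 6, 4, 6, 8, 10, 6, 8, 11, 13]⟩)))
  (.node (nat_lit 94) (.node (nat_lit 93) (.leaf ⟨3, 5, true, [12, 10, 8, 6, 18, 8, 19, 19, 2], [12, 6, 0, 18, 8, 18, 18, 11, 11, 8, 11, 6, 8, 11, 4, 6, 8, 4, 6, 4, 8, 11, 13, 6, 8, 10, 6, 12]⟩)
  (.leaf ⟨5, 5, true, [13, 15, 18, 8, 19, 2], [15, 8, 18, 18, 11, 6, 8, 11, 4, 6, 8, 11, 4, 6, 8, 4, 6, 4, 12, 11, 24]⟩))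
  (.node (nat_lit 95) (.leaf ⟨5, 5, true, [19, 19, 19, 14, 10, 8, 6], [12, 11, 8, 19, 0, 2, 10, 4, 6, 8, 11, 12, 4, 6, 8, 11, 4, 6, 8, 4, 6, 4, 11, 13, 6, 8, 10, 20]⟩)
  (.leaf ⟨5, 4, true, [6, 18, 12, 8, 0, 18], [6, 8, 10, 6, 8, 4, 6, 4, 10, 8, 10, 25]⟩))))))

noncomputable def f96 : FT := (.node (nat_lit 112) (.node (nat_lit 104) (.node (nat_lit 100) (.node (nat_lit 98) (.node (nat_lit 97) (.leaf ⟨4, 5, true, [12, 10, 8, 6], [10, 8, 19, 0, 2, 8, 11, 13, 4, 6, 8, 11, 4, 6, 8, 4, 6, 4, 0, 13, 10, 8, 11, 6, 8, 10, 6]⟩)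
  (.leaf ⟨5, 5, true, [19, 19, 6, 8, 11, 8, 18], [8, 10, 8, 19, 0, 2, 11, 13, 8, 10, 6, 8, 4, 6, 4, 6, 8, 11, 20]⟩))
  (.node (nat_lit 99) (.leaf ⟨5, 5, true, [14, 4, 0, 14, 8, 6], [8, 18, 8, 0, 19, 2, 11, 8, 10, 4, 6, 8, 10, 4, 6, 8, 4, 6, 4, 0, 6, 8, 11, 6, 8, 10, 24]⟩)
  (.leaf ⟨5, 4, true, [19, 19, 13, 19, 10, 8, 16], [8, 11, 8, 11, 6, 8, 4, 6, 4, 6, 8, 10, 6, 23]⟩)))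
  (.node (nat_lit 102) (.node (nat_lit 101) (.leaf ⟨4, 5, true, [13, 8, 10, 6], [10, 8, 19, 0, 2, 13, 6, 8, 11, 4, 6, 8, 4, 6, 4, 0, 11, 11, 8, 10, 21]⟩)
  (.leaf ⟨5, 5, true, [19, 19, 19, 12, 8, 16], [8, 11, 8, 11, 6, 8, 4, 6, 4, 6, 8, 10, 6, 25]⟩))
  (.node (nat_lit 103) (.leaf ⟨5, 5, true, [8, 10, 6], [10, 8, 19, 0, 2, 13, 6, 8, 11, 4, 6, 8, 4, 6, 4, 0, 11, 11, 8, 10, 22]⟩)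
  (.leaf ⟨5, 3, true, [19, 19, 19, 8, 15, 8, 6], [11, 8, 4, 6, 4, 13, 8, 11, 23]⟩))))
  (.node (nat_lit 108) (.node (nat_lit 106) (.node (nat_lit 105) (.leaf ⟨3, 5, true, [14, 10, 8, 16], [10, 8, 19, 0, 2, 13, 10, 4, 6, 8, 11, 4, 6, 8, 4, 6, 4, 10, 8, 10, 6, 8, 10, 6, 24]⟩)
  (.leaf ⟨5, 5, true, [10, 6], [10, 10, 4, 6, 8, 11, 4, 6, 8, 11, 4, 6, 8, 4, 6, 4, 8, 11, 8, 11, 6, 24]⟩))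
  (.node (nat_lit 107) (.leaf ⟨5, 4, true, [8, 10, 8, 10, 6], [10, 4, 6, 8, 10, 4, 6, 8, 10, 4, 6, 8, 4, 6, 4, 0, 12, 8, 10, 6, 24]⟩)
  (.leaf ⟨4, 5, true, [8, 10, 8, 6], [10, 10, 4, 6, 8, 11, 4, 6, 8, 11, 4, 6, 8, 4, 6, 4, 13, 10, 8, 11, 6, 8, 10, 6, 25]⟩)))
  (.node (nat_lit 110) (.node (nat_lit 109) (.leaf ⟨5, 5, false, [18, 8, 18, 10, 8, 18, 18, 11, 8, 10, 6, 8, 11, 4, 6, 8, 4, 6, 4, 0, 8, 11, 6, 8, 11, 25], []⟩)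
  (.leaf ⟨5, 3, true, [10, 13, 6, 8, 18, 8, 18], [15, 18, 12, 8, 19, 8, 19, 2, 11, 4, 6, 8, 4, 6, 4, 8, 11, 6, 8, 10, 24]⟩))
  (.node (nat_lit 111) (.leaf ⟨3, 5, true, [13, 18, 11, 8, 19, 8, 19, 2], [8, 6, 18, 12, 18, 8, 18, 18, 6, 8, 11, 8, 11, 4, 6, 8, 10, 4, 6, 8, 4, 6, 4, 8, 10, 8, 10, 24]⟩)
  (.leaf ⟨4, 4, true, [19, 15, 8, 19, 8, 0, 19, 8, 6, 2], [12, 8, 18, 8, 18, 18, 11, 4, 6, 8, 10, 4, 6, 8, 4, 6, 4, 12, 8, 10, 6, 8, 10, 23]⟩)))))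
  (.node (nat_lit 120) (.node (nat_lit 116) (.node (nat_lit 114) (.node (nat_lit 113) (.leaf ⟨4, 4, true, [19, 19, 6, 8, 19, 6, 2], [12, 8, 0, 18, 8, 18, 18, 11, 11, 8, 10, 4, 6, 8, 4, 6, 4, 8, 11, 21]⟩)
  (.leaf ⟨4, 4, false, [19, 19, 2, 4, 6, 4, 0, 6, 12], []⟩))
  (.node (nat_lit 115) (.leaf ⟨4, 4, false, [6, 8, 19, 6, 8, 18, 18, 11, 8, 11, 4, 6, 8, 4, 6, 4, 0, 10, 6, 8, 11, 6, 8, 10, 6], []⟩)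
  (.leaf ⟨5, 5, true, [18, 13, 15, 8, 19, 6, 8, 18], [8, 19, 8, 19, 8, 19, 2, 10, 6, 8, 4, 6, 4, 12, 8, 10, 6]⟩)))
  (.node (nat_lit 118) (.node (nat_lit 117) (.leaf ⟨5, 5, true, [18, 10, 8, 18, 8, 6, 18, 10], [19, 6, 8, 19, 8, 0, 19, 2, 8, 4, 6, 4, 0, 6, 8, 10, 8, 10, 6, 23]⟩)
  (.leaf ⟨3, 5, true, [19, 16, 14, 8, 19, 8, 19, 8, 16], [15, 18, 18, 8, 18, 18, 11, 8, 10, 6, 8, 4, 6, 4, 0, 11, 13, 6, 8, 11]⟩))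
  (.node (nat_lit 119) (.leaf ⟨5, 3, true, [19, 14, 10, 8, 19, 10, 8, 19, 2], [18, 8, 18, 8, 19, 8, 19, 2, 11, 13, 6, 8, 11, 4, 6, 8, 4, 6, 4, 0, 13, 11, 8, 11, 12]⟩)
  (.leaf ⟨5, 5, true, [12, 6, 18, 8, 19, 8, 0, 14, 6], [0, 19, 10, 10, 8, 19, 2, 13, 8, 10, 6, 8, 11, 4, 6, 8, 4, 6, 4, 8, 10, 6, 8, 11, 25]⟩))))
  (.node (nat_lit 124) (.node (nat_lit 122) (.node (nat_lit 121) (.leaf ⟨5, 5, true, [14, 18, 8, 18, 8, 4, 14, 6], [15, 18, 18, 18, 8, 19, 2, 8, 10, 8, 6, 4, 0, 11, 8, 11, 6, 8, 11, 13]⟩)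
  (.leaf ⟨5, 5, true, [8, 18, 10, 8, 18, 8, 18, 12, 10], [19, 10, 6, 8, 19, 8, 19, 2, 10, 13, 8, 10, 6, 8, 4, 6, 4, 8, 11, 8, 11, 21]⟩))
  (.node (nat_lit 123) (.leaf ⟨5, 5, true, [13, 0, 15, 18, 8, 0, 18], [19, 10, 6, 8, 19, 19, 2, 10, 8, 11, 6, 8, 4, 6, 4, 8, 11, 12, 6, 8, 11, 6, 23]⟩)
  (.leaf ⟨3, 5, true, [0, 2, 18, 8, 19, 6, 2], [8, 19, 12, 19, 8, 0, 19, 2, 6, 8, 11, 4, 6, 8, 4, 6, 4, 13, 10, 8, 11, 6, 8, 11, 22]⟩)))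
  (.node (nat_lit 126) (.node (nat_lit 125) (.leaf ⟨5, 3, true, [16, 8, 6, 18], [13, 16, 8, 19, 8, 19, 2, 10, 8, 11, 4, 6, 8, 10, 4, 6, 8, 4, 6, 4, 11, 13, 6, 8, 11, 6, 21]⟩)
  (.leaf ⟨5, 3, true, [6, 18, 13, 18, 8, 19, 8, 14, 6], [8, 6, 18, 8, 2, 18, 18, 10, 8, 10, 6, 4, 6, 8, 11, 4, 6, 8, 4, 6, 4, 11, 12, 6, 8, 11, 6, 24]⟩))
  (.node (nat_lit 127) (.leaf ⟨3, 5, true, [15, 8, 18, 8, 0, 19, 12, 16], [12, 18, 8, 18, 8, 18, 18, 12, 8, 11, 4, 6, 8, 10, 4, 6, 8, 4, 6, 4, 13, 10, 8, 11, 6, 8, 11, 25]⟩)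
  (.leaf ⟨3, 3, true, [12, 19, 8, 19, 10, 8, 16], [0, 19, 2, 8, 11, 8, 11, 4, 6, 8, 11, 4, 6, 8, 4, 6, 4, 13, 8, 11, 6, 8, 10, 21]⟩))))))

noncomputable def f128 : FT := (.node (nat_lit 144) (.node (nat_lit 136) (.node (nat_lit 132) (.node (nat_lit 130) (.node (nat_lit 129) (.leaf ⟨3, 3, true, [10, 8, 19, 10, 8, 19, 14, 8, 10, 6], [6, 18, 8, 19, 0, 2, 11, 6, 4, 6, 8, 11, 6, 8, 10, 4, 6, 8, 4, 6, 4, 0, 10, 8, 10, 6, 22]⟩)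
  (.leaf ⟨5, 5, true, [18, 12, 8, 19, 8, 16, 8, 19, 16], [0, 15, 18, 8, 2, 18, 18, 12, 11, 6, 8, 4, 6, 4, 0, 13, 8, 10, 21]⟩))
  (.node (nat_lit 131) (.leaf ⟨3, 3, true, [4, 6, 8, 18, 8, 18, 11], [8, 0, 18, 8, 18, 8, 19, 2, 11, 4, 6, 8, 10, 4, 6, 8, 4, 6, 4, 0, 10, 6, 8, 10, 6, 8, 11, 13]⟩)
  (.leaf ⟨1, 6, true, [14, 10, 6], []⟩)))
  (.node (nat_lit 134) (.node (nat_lit 133) (.leaf ⟨6, 1, true, [], [0, 18, 12, 10, 13]⟩)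
  (.leaf ⟨6, 6, false, [10, 8, 10, 10, 4, 6, 8, 11, 4, 6, 8, 4, 6, 4, 11, 8, 11, 12, 6, 8, 11, 23], []⟩))
  (.node (nat_lit 135) (.leaf ⟨6, 6, false, [19, 19, 19, 2, 4, 6, 8, 11, 12, 4, 6, 8, 11, 4, 6, 8, 4, 6, 4, 11, 8, 11, 12, 6, 8, 11, 6, 12], []⟩)
  (.leaf ⟨6, 5, true, [10, 10], [12, 10, 12]⟩))))
  (.node (nat_lit 140) (.node (nat_lit 138) (.node (nat_lit 137) (.leaf ⟨5, 6, true, [11, 11], [4, 0, 12, 11, 12]⟩)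
  (.leaf ⟨6, 6, true, [12, 10], [10]⟩))
  (.node (nat_lit 139) (.leaf ⟨6, 6, true, [11], [4, 0, 11, 13]⟩)
  (.leaf ⟨6, 5, true, [10], [10, 13]⟩)))
  (.node (nat_lit 142) (.node (nat_lit 141) (.leaf ⟨5, 6, true, [12, 11], [4, 0, 11]⟩)
  (.leaf ⟨6, 5, true, [11, 11], [4, 0, 12, 11, 13]⟩))
  (.node (nat_lit 143) (.leaf ⟨5, 6, true, [12, 10], [10, 12]⟩)
  (.leaf ⟨6, 4, true, [12, 11], [4, 0, 11, 13]⟩)))))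
  (.node (nat_lit 152) (.node (nat_lit 148) (.node (nat_lit 146) (.node (nat_lit 145) (.leaf ⟨4, 6, true, [12, 10], [10, 13]⟩)
  (.leaf ⟨6, 3, true, [15, 8, 18, 8, 19, 2], [11, 8, 19, 2, 10, 8, 11, 6, 8, 11, 4, 6, 8, 4, 6, 4, 12, 11, 6, 8, 10, 22]⟩))
  (.node (nat_lit 147) (.leaf ⟨3, 6, true, [6, 0, 18, 8, 18, 10, 8, 18], [12, 10, 8, 19, 0, 2, 6, 8, 11, 4, 6, 8, 10, 4, 6, 8, 4, 6, 4, 0, 11, 11, 6, 8, 11, 22]⟩)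
  (.leaf ⟨6, 2, true, [15, 8, 0, 18, 12, 10], [15, 0, 19, 10, 8, 19, 2, 13, 11, 6, 8, 10, 4, 6, 8, 10, 4, 6, 8, 4, 6, 4, 11, 13, 8, 10, 23]⟩)))
  (.node (nat_lit 150) (.node (nat_lit 149) (.leaf ⟨2, 6, true, [8, 18, 14, 8, 6, 18, 8, 18, 10], [15, 18, 8, 19, 2, 11, 4, 6, 8, 10, 4, 6, 8, 10, 4, 6, 8, 4, 6, 4, 13, 10, 8, 10, 6, 8, 10, 20]⟩)
  (.leaf ⟨6, 3, true, [19, 19, 6, 18, 8, 10, 6], [6, 8, 10, 8, 10, 4, 6, 8, 10, 4, 6, 8, 4, 6, 4, 0, 12, 11, 6, 8, 10, 6]⟩))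
  (.node (nat_lit 151) (.leaf ⟨3, 6, true, [13, 8, 10, 6], [10, 8, 19, 0, 2, 13, 10, 4, 6, 8, 11, 4, 6, 8, 4, 6, 4, 10, 8, 10, 6, 8, 10, 6, 22]⟩)
  (.leaf ⟨6, 5, true, [13, 15, 18, 8, 19, 2], [0, 15, 8, 18, 18, 10, 10, 6, 8, 11, 4, 6, 8, 4, 6, 4, 8, 10, 6, 8, 11, 6, 25]⟩))))
  (.node (nat_lit 156) (.node (nat_lit 154) (.node (nat_lit 153) (.leaf ⟨5, 6, true, [15, 18, 12, 8, 19, 2], [12, 0, 15, 8, 18, 18, 6, 8, 11, 8, 11, 4, 6, 8, 4, 6, 4, 0, 12, 8, 10, 6, 8, 11, 12]⟩)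
  (.leaf ⟨6, 6, true, [15, 12, 8, 0, 18], [10, 10, 8, 18, 0, 18, 11, 13, 8, 10, 6, 8, 4, 6, 4, 13, 11, 8, 10, 6, 8, 10, 24]⟩))
  (.node (nat_lit 155) (.leaf ⟨6, 6, true, [15, 8, 0, 18, 10], [10, 10, 8, 18, 0, 18, 11, 13, 8, 10, 6, 8, 4, 6, 4, 11, 8, 11, 6, 8, 11, 6, 21]⟩)
  (.leaf ⟨6, 5, true, [6, 18, 12, 8, 0, 18], [6, 8, 10, 6, 8, 4, 6, 4, 10, 8, 10, 20]⟩)))
  (.node (nat_lit 158) (.node (nat_lit 157) (.leaf ⟨5, 6, true, [10, 10, 8, 6], [12, 10, 8, 19, 0, 2, 8, 11, 13, 4, 6, 8, 11, 4, 6, 8, 4, 6, 4, 0, 13, 10, 8, 11, 6, 8, 10, 6]⟩)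
  (.leaf ⟨6, 4, true, [19, 19, 6, 18, 10, 8, 6], [12, 4, 6, 8, 10, 4, 6, 8, 11, 4, 6, 8, 4, 6, 4, 8, 11, 13]⟩))
  (.node (nat_lit 159) (.leaf ⟨4, 6, true, [14, 10, 8, 16], [10, 8, 19, 0, 2, 10, 8, 10, 6, 8, 10, 4, 6, 8, 4, 6, 4, 0, 10, 10, 6, 21]⟩)
  (.leaf ⟨6, 5, true, [19, 19, 6, 8, 11, 8, 18], [8, 10, 10, 6, 8, 10, 4, 6, 8, 4, 6, 4, 11, 8, 10, 6, 8, 11, 21]⟩))))))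

noncomputable def f160 : FT := (.node (nat_lit 176) (.node (nat_lit 168) (.node (nat_lit 164) (.node (nat_lit 162) (.node (nat_lit 161) (.leaf ⟨5, 6, true, [15, 8, 16, 10], [10, 10, 8, 19, 0, 2, 13, 10, 8, 10, 6, 8, 10, 4, 6, 8, 4, 6, 4, 8, 11, 8, 11, 22]⟩)
  (.leaf ⟨6, 6, true, [19, 19, 19, 8, 14, 10, 6], [11, 6, 8, 4, 6, 4, 0, 12, 10, 13]⟩))
  (.node (nat_lit 163) (.leaf ⟨6, 6, true, [13, 8, 10, 8, 6], [10, 8, 19, 0, 2, 8, 11, 8, 11, 6, 8, 10, 4, 6, 8, 4, 6, 4, 8, 11, 8, 11, 24]⟩)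
  (.leaf ⟨6, 5, true, [19, 19, 13, 19, 10, 8, 16], [12, 10, 8, 19, 0, 2, 6, 8, 11, 6, 4, 6, 8, 11, 4, 6, 8, 4, 6, 4, 10, 6, 8, 10, 6, 8, 11, 24]⟩)))
  (.node (nat_lit 166) (.node (nat_lit 165) (.leaf ⟨5, 6, true, [15, 0, 18, 10], [10, 10, 8, 18, 0, 18, 11, 6, 8, 10, 4, 6, 8, 11, 4, 6, 8, 4, 6, 4, 10, 6, 8, 11, 6, 8, 10, 6, 22]⟩)
  (.leaf ⟨6, 5, true, [19, 19, 19, 12, 8, 16], [8, 18, 8, 0, 19, 2, 8, 10, 6, 8, 11, 4, 6, 8, 4, 6, 4, 0, 12, 10, 8, 10, 6, 8, 10, 25]⟩))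
  (.node (nat_lit 167) (.leaf ⟨5, 6, true, [19, 19, 6, 8, 18, 12, 10], [11, 8, 19, 0, 2, 8, 10, 4, 6, 8, 10, 4, 6, 8, 4, 6, 4, 6, 8, 10, 24]⟩)
  (.leaf ⟨6, 6, true, [10, 6], [10, 10, 4, 6, 8, 11, 4, 6, 8, 11, 4, 6, 8, 4, 6, 4, 8, 11, 8, 11, 6, 24]⟩))))
  (.node (nat_lit 172) (.node (nat_lit 170) (.node (nat_lit 169) (.leaf ⟨6, 6, true, [8, 10, 6], [10, 10, 4, 6, 8, 11, 4, 6, 8, 11, 4, 6, 8, 4, 6, 4, 10, 8, 11, 11, 6, 8, 11, 25]⟩)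
  (.leaf ⟨6, 6, true, [16, 10, 8, 16], [10, 10, 4, 6, 8, 11, 4, 6, 8, 11, 4, 6, 8, 4, 6, 4, 11, 8, 11, 6, 8, 10, 12]⟩))
  (.node (nat_lit 171) (.leaf ⟨6, 6, true, [10, 10, 6], [10, 4, 6, 8, 10, 4, 6, 8, 10, 4, 6, 8, 4, 6, 4, 0, 11, 13, 6, 8, 11, 23]⟩)
  (.leaf ⟨6, 6, true, [12, 10, 6], [10, 10, 4, 6, 8, 11, 4, 6, 8, 11, 4, 6, 8, 4, 6, 4, 8, 11, 8, 11, 6, 22]⟩)))
  (.node (nat_lit 174) (.node (nat_lit 173) (.leaf ⟨6, 4, true, [8, 10, 8, 6], [10, 10, 4, 6, 8, 11, 4, 6, 8, 11, 4, 6, 8, 4, 6, 4, 13, 10, 8, 11, 6, 8, 10, 6, 20]⟩)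
  (.leaf ⟨4, 6, true, [11, 13, 8, 10, 6], [6, 8, 10, 6, 8, 11, 4, 6, 8, 11, 4, 6, 8, 4, 6, 4, 8, 10, 13, 6, 8, 10, 13]⟩))
  (.node (nat_lit 175) (.leaf ⟨6, 5, true, [13, 8, 10, 6], [10, 10, 4, 6, 8, 11, 4, 6, 8, 11, 4, 6, 8, 4, 6, 4, 10, 8, 11, 11, 6, 8, 11, 25]⟩)
  (.leaf ⟨5, 6, true, [16, 10, 8, 16], [10, 10, 4, 6, 8, 11, 4, 6, 8, 11, 4, 6, 8, 4, 6, 4, 11, 8, 11, 6, 8, 10, 13]⟩)))))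
  (.node (nat_lit 184) (.node (nat_lit 180) (.node (nat_lit 178) (.node (nat_lit 177) (.leaf ⟨6, 4, true, [12, 8, 10, 6], [10, 10, 4, 6, 8, 11, 4, 6, 8, 11, 4, 6, 8, 4, 6, 4, 10, 8, 11, 11, 6, 8, 11, 20]⟩)
  (.leaf ⟨4, 6, true, [15, 12, 8, 16], [6, 8, 10, 6, 8, 11, 4, 6, 8, 11, 4, 6, 8, 4, 6, 4, 12, 8, 11, 6, 8, 10, 6, 23]⟩))
  (.node (nat_lit 179) (.leaf ⟨6, 5, true, [10, 8, 6], [10, 10, 4, 6, 8, 11, 4, 6, 8, 11, 4, 6, 8, 4, 6, 4, 11, 6, 8, 11, 6, 8, 10, 20]⟩)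
  (.leaf ⟨5, 6, true, [16, 13, 10, 8, 16], [6, 8, 10, 6, 8, 11, 4, 6, 8, 11, 4, 6, 8, 4, 6, 4, 11, 11, 8, 10, 6, 8, 11, 23]⟩)))
  (.node (nat_lit 182) (.node (nat_lit 181) (.leaf ⟨6, 5, true, [8, 10, 8, 10, 6], [10, 4, 6, 8, 10, 4, 6, 8, 10, 4, 6, 8, 4, 6, 4, 0, 12, 8, 10, 6, 24]⟩)
  (.leaf ⟨5, 6, true, [8, 10, 8, 6], [10, 10, 4, 6, 8, 11, 4, 6, 8, 11, 4, 6, 8, 4, 6, 4, 13, 10, 8, 11, 6, 8, 10, 6, 25]⟩))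
  (.node (nat_lit 183) (.leaf ⟨6, 5, true, [15, 8, 16, 10], [6, 8, 10, 6, 8, 11, 4, 6, 8, 11, 4, 6, 8, 4, 6, 4, 8, 11, 6, 12]⟩)
  (.leaf ⟨5, 6, true, [11, 13, 8, 10, 6], [6, 8, 10, 6, 8, 11, 4, 6, 8, 11, 4, 6, 8, 4, 6, 4, 8, 10, 13, 6, 8, 10, 12]⟩))))
  (.node (nat_lit 188) (.node (nat_lit 186) (.node (nat_lit 185) (.leaf ⟨5, 6, true, [19, 12, 19, 11, 8, 19, 2], [14, 8, 18, 18, 11, 12, 4, 6, 8, 11, 4, 6, 8, 4, 6, 4, 8, 11, 13, 6, 8, 10, 22]⟩)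
  (.leaf ⟨6, 5, true, [18, 11, 8, 18, 8, 19, 2], [18, 12, 8, 18, 8, 18, 18, 8, 10, 8, 4, 6, 4, 0, 10, 6, 8, 11, 6, 8, 10, 6, 23]⟩))
  (.node (nat_lit 187) (.leaf ⟨6, 6, true, [14, 13, 8, 18, 8, 0, 18, 10], [19, 14, 8, 6, 18, 8, 19, 2, 12, 10, 4, 6, 8, 4, 6, 4, 10, 12, 8, 11, 6, 23]⟩)
  (.leaf ⟨6, 6, true, [19, 19, 16, 8, 19, 19, 10, 8, 16], [8, 0, 19, 2, 10, 8, 10, 10, 6, 8, 11, 4, 6, 8, 4, 6, 4, 10, 8, 10, 6, 8, 10, 13]⟩)))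
  (.node (nat_lit 190) (.node (nat_lit 189) (.leaf ⟨3, 6, true, [19, 6, 8, 18, 8, 18, 10, 10], [14, 8, 19, 10, 8, 19, 2, 13, 10, 6, 8, 10, 4, 6, 8, 10, 4, 6, 8, 4, 6, 4, 13, 11, 6, 8, 11, 12]⟩)
  (.leaf ⟨6, 3, true, [18, 18, 18, 8, 19, 19, 10, 8, 16], [12, 14, 8, 19, 0, 2, 13, 4, 6, 8, 10, 4, 6, 8, 4, 6, 4, 8, 11, 6, 8, 11, 6, 24]⟩))
  (.node (nat_lit 191) (.leaf ⟨5, 6, true, [18, 8, 18, 18, 6], [8, 0, 2, 18, 18, 12, 11, 4, 6, 8, 10, 4, 6, 8, 4, 6, 4, 0, 6, 20]⟩)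
  (.leaf ⟨6, 5, true, [18, 18, 8, 19, 14], [12, 0, 14, 8, 18, 18, 10, 13, 4, 6, 8, 10, 4, 6, 8, 4, 6, 4, 12, 6, 8, 10]⟩))))))

noncomputable def f192 : FT := (.node (nat_lit 208) (.node (nat_lit 200) (.node (nat_lit 196) (.node (nat_lit 194) (.node (nat_lit 193) (.leaf ⟨6, 6, true, [8, 2, 18, 8, 18, 10], [18, 0, 18, 10, 4, 6, 8, 10, 4, 6, 8, 10, 4, 6, 8, 4, 6, 4, 12, 8, 11, 23]⟩)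
  (.leaf ⟨6, 6, true, [19, 8, 19, 14, 10], [8, 19, 6, 8, 18, 18, 11, 4, 6, 8, 4, 6, 4, 10, 6]⟩))
  (.node (nat_lit 195) (.leaf ⟨6, 6, true, [19, 10, 8, 19, 14, 10], [8, 0, 2, 18, 18, 8, 10, 6, 8, 11, 4, 6, 8, 11, 4, 6, 8, 4, 6, 4, 10, 10, 6, 20]⟩)
  (.leaf ⟨6, 6, true, [13, 19, 8, 19, 14], [8, 0, 2, 18, 18, 11, 11, 8, 11, 4, 6, 8, 11, 4, 6, 8, 4, 6, 4, 11, 12, 6, 8, 11, 25]⟩)))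
  (.node (nat_lit 198) (.node (nat_lit 197) (.leaf ⟨6, 6, true, [19, 11, 8, 19, 14], [8, 2, 18, 18, 10, 8, 4, 6, 4, 0, 6, 8, 11, 6, 8, 10, 22]⟩)
  (.leaf ⟨6, 6, true, [12, 19, 8, 19, 12, 14], [8, 0, 2, 18, 18, 10, 6, 8, 11, 4, 6, 8, 4, 6, 4, 0, 8, 11, 12, 6, 8, 11, 24]⟩))
  (.node (nat_lit 199) (.leaf ⟨5, 6, true, [18, 18, 10, 8, 18, 8, 19, 2], [12, 0, 15, 8, 18, 18, 10, 10, 6, 8, 11, 4, 6, 8, 11, 4, 6, 8, 4, 6, 4, 13, 10, 8, 11, 6, 8, 10, 6, 24]⟩)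
  (.leaf ⟨6, 5, true, [14, 18, 18, 8, 18], [8, 6, 18, 8, 0, 18, 18, 4, 6, 8, 10, 10, 4, 6, 8, 11, 4, 6, 8, 4, 6, 4, 8, 10, 6, 8, 11, 23]⟩))))
  (.node (nat_lit 204) (.node (nat_lit 202) (.node (nat_lit 201) (.leaf ⟨5, 6, true, [14, 18, 8, 10, 6, 8, 18], [19, 0, 2, 10, 6, 8, 11, 6, 8, 10, 4, 6, 8, 4, 6, 4, 8, 11, 13, 6, 8, 11, 6, 23]⟩)
  (.leaf ⟨6, 5, true, [18, 0, 18, 10, 10], [12, 19, 8, 19, 2, 12, 10, 8, 10, 4, 6, 8, 4, 6, 4, 0, 8, 11, 11, 6, 8, 11, 13]⟩))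
  (.node (nat_lit 203) (.leaf ⟨6, 6, true, [19, 8, 0, 14, 8, 6], [18, 0, 18, 8, 11, 8, 11, 4, 6, 8, 11, 4, 6, 8, 4, 6, 4, 12, 11, 8, 10, 25]⟩)
  (.leaf ⟨6, 6, true, [19, 12, 0, 14, 8, 6], [18, 0, 18, 8, 10, 6, 8, 10, 4, 6, 8, 11, 4, 6, 8, 4, 6, 4, 11, 8, 10, 6, 8, 10, 20]⟩)))
  (.node (nat_lit 206) (.node (nat_lit 205) (.leaf ⟨6, 6, true, [19, 19, 8, 19, 12, 14], [0, 15, 18, 8, 19, 2, 13, 11, 6, 8, 10, 4, 6, 8, 10, 4, 6, 8, 4, 6, 4, 11, 8, 10, 6, 8, 11, 6, 25]⟩)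
  (.leaf ⟨6, 6, true, [19, 6, 8, 10, 8, 19, 2], [8, 2, 18, 8, 19, 8, 19, 2, 13, 10, 8, 11, 4, 6, 8, 10, 4, 6, 8, 4, 6, 4, 0, 12, 8, 10, 6, 8, 10, 24]⟩))
  (.node (nat_lit 207) (.leaf ⟨6, 3, true, [12, 0, 18, 8, 18, 12, 18, 8, 6], [8, 19, 0, 2, 11, 11, 6, 8, 4, 6, 4, 0, 10, 13, 8, 11, 6, 8, 10]⟩)
  (.leaf ⟨3, 6, true, [13, 11, 8, 19, 8, 19, 14], [19, 8, 6, 18, 8, 19, 2, 4, 6, 4, 6, 8, 11, 6, 8, 10, 4, 6, 8, 4, 6, 4, 13, 11, 6, 8, 10, 21]⟩)))))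
  (.node (nat_lit 216) (.node (nat_lit 212) (.node (nat_lit 210) (.node (nat_lit 209) (.leaf ⟨6, 6, true, [12, 18, 8, 18, 13, 11, 8, 18], [19, 10, 8, 19, 2, 4, 6, 8, 11, 13, 4, 6, 8, 10, 4, 6, 8, 4, 6, 4, 10, 6, 8, 11, 6, 8, 10, 24]⟩)
  (.leaf ⟨6, 6, true, [0, 14, 8, 18, 10, 8, 18], [0, 18, 8, 18, 18, 6, 8, 11, 13, 4, 6, 8, 11, 4, 6, 8, 4, 6, 4, 0, 11, 8, 11, 12, 6, 8, 11, 6, 22]⟩))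
  (.node (nat_lit 211) (.leaf ⟨6, 6, true, [18, 12, 18, 8, 19, 12, 8, 16], [0, 19, 11, 8, 19, 2, 8, 10, 4, 6, 8, 10, 4, 6, 8, 4, 6, 4, 0, 8, 10, 8, 10, 6, 8, 10, 6, 22]⟩)
  (.leaf ⟨6, 6, true, [13, 14, 8, 19, 6, 8, 19, 16], [18, 8, 18, 10, 8, 18, 18, 6, 8, 11, 6, 4, 6, 8, 11, 4, 6, 8, 4, 6, 4, 8, 10, 6, 8, 10, 12]⟩)))
  (.node (nat_lit 214) (.node (nat_lit 213) (.leaf ⟨6, 5, true, [12, 18, 8, 19, 12, 19, 2], [15, 18, 18, 18, 8, 19, 2, 12, 10, 8, 6, 4, 0, 12, 11, 6, 8, 10, 6, 20]⟩)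
  (.leaf ⟨5, 6, true, [6, 18, 8, 11, 8, 18, 8, 18], [18, 18, 8, 19, 2, 4, 6, 8, 11, 4, 6, 8, 4, 6, 4, 12, 10, 8, 10, 23]⟩))
  (.node (nat_lit 215) (.leaf ⟨6, 5, true, [12, 18, 8, 0, 19, 13, 19, 8, 16], [8, 10, 8, 19, 0, 2, 11, 8, 11, 4, 6, 8, 11, 4, 6, 8, 4, 6, 4, 0, 8, 10, 8, 10, 25]⟩)
  (.leaf ⟨5, 6, true, [8, 18, 8, 6, 0, 18], [0, 18, 8, 18, 18, 8, 11, 8, 11, 6, 8, 10, 4, 6, 8, 4, 6, 4, 11, 8, 10, 6, 8, 11, 25]⟩))))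
  (.node (nat_lit 220) (.node (nat_lit 218) (.node (nat_lit 217) (.leaf ⟨6, 4, true, [0, 18, 11, 8, 18, 8, 19, 12, 16], [18, 0, 18, 11, 11, 8, 10, 4, 6, 8, 4, 6, 4, 11, 8, 10, 6, 8, 10, 21]⟩)
  (.leaf ⟨4, 6, true, [13, 18, 8, 0, 19, 8, 16, 10], [0, 14, 6, 8, 18, 18, 11, 11, 8, 11, 6, 8, 11, 4, 6, 8, 4, 6, 4, 12, 11, 6, 8, 10, 6, 20]⟩))
  (.node (nat_lit 219) (.leaf ⟨6, 6, true, [18, 18, 8, 19, 8, 16], [18, 0, 18, 11, 4, 6, 8, 11, 4, 6, 8, 4, 6, 4, 11, 13, 6, 8, 10, 25]⟩)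
  (.leaf ⟨6, 6, true, [14, 8, 18, 18, 18, 8, 6], [18, 18, 18, 10, 6, 4, 6, 8, 11, 4, 6, 8, 4, 6, 4, 12, 8, 10, 6, 8, 11, 23]⟩)))
  (.node (nat_lit 222) (.node (nat_lit 221) (.leaf ⟨6, 5, true, [0, 18, 18, 8, 19, 16], [19, 0, 2, 11, 11, 8, 11, 4, 6, 8, 4, 6, 4, 10, 8, 10, 10, 6, 8, 11, 24]⟩)
  (.leaf ⟨5, 6, true, [12, 8, 16, 8, 6, 0, 18], [12, 0, 18, 8, 18, 18, 12, 11, 4, 6, 8, 10, 4, 6, 8, 4, 6, 4, 10, 8, 10, 6, 8, 11, 25]⟩))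
  (.node (nat_lit 223) (.leaf ⟨6, 6, true, [12, 18, 11, 8, 18, 8, 18], [12, 0, 19, 8, 19, 2, 10, 13, 8, 11, 6, 8, 10, 4, 6, 8, 4, 6, 4, 6, 8, 11, 6, 8, 10, 6, 21]⟩)
  (.leaf ⟨6, 6, true, [18, 2, 18, 8, 19, 16], [18, 18, 8, 18, 18, 12, 8, 11, 6, 8, 10, 4, 6, 8, 4, 6, 4, 6, 8, 10, 6, 8, 11, 6, 25]⟩))))))

noncomputable def f224 : FT := (.node (nat_lit 240) (.node (nat_lit 232) (.node (nat_lit 228) (.node (nat_lit 226) (.node (nat_lit 225) (.leaf ⟨6, 5, true, [0, 18, 8, 18, 12, 8, 6, 18], [18, 8, 18, 8, 19, 2, 4, 6, 8, 10, 8, 10, 4, 6, 8, 4, 6, 4, 0, 8, 11, 13, 6, 8, 11, 22]⟩)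
  (.leaf ⟨5, 6, true, [18, 14, 18, 18, 8, 6, 18, 10], [18, 18, 18, 12, 10, 8, 6, 4, 0, 8, 11, 11, 6, 8, 11, 22]⟩))
  (.node (nat_lit 227) (.leaf ⟨6, 4, true, [6, 8, 15, 19, 6, 8, 19, 6, 2], [8, 2, 18, 18, 11, 13, 8, 10, 4, 6, 8, 11, 4, 6, 8, 4, 6, 4, 12, 8, 10, 22]⟩)
  (.leaf ⟨4, 6, true, [13, 16, 8, 6, 0, 18, 8, 6], [8, 0, 19, 10, 8, 19, 2, 13, 11, 4, 6, 8, 11, 4, 6, 8, 4, 6, 4, 11, 13, 6, 8, 10, 6, 23]⟩)))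
  (.node (nat_lit 230) (.node (nat_lit 229) (.leaf ⟨6, 6, true, [0, 18, 13, 18, 8, 16, 8, 6, 18], [18, 18, 18, 11, 11, 8, 11, 4, 6, 8, 11, 4, 6, 8, 4, 6, 4, 8, 11, 6, 24]⟩)
  (.leaf ⟨6, 6, true, [14, 8, 18, 8, 10, 8, 18], [19, 10, 8, 19, 2, 10, 8, 11, 13, 6, 8, 10, 4, 6, 8, 4, 6, 4, 11, 11, 8, 11, 6, 8, 11, 12]⟩))
  (.node (nat_lit 231) (.leaf ⟨6, 6, true, [18, 12, 10, 8, 19, 14, 6], [18, 18, 0, 18, 13, 4, 6, 8, 11, 4, 6, 8, 4, 6, 4, 11, 8, 10, 6, 22]⟩)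
  (.leaf ⟨6, 6, true, [10, 8, 18, 8, 10, 8, 0, 18], [0, 19, 8, 19, 2, 11, 4, 6, 8, 10, 4, 6, 8, 4, 6, 4, 0, 13, 10, 8, 11, 6, 8, 10, 6]⟩))))
  (.node (nat_lit 236) (.node (nat_lit 234) (.node (nat_lit 233) (.leaf ⟨6, 5, true, [18, 18, 10, 10, 8, 19, 6, 2], [19, 0, 2, 12, 8, 11, 4, 6, 8, 4, 6, 4, 6, 8, 11, 8, 11, 21]⟩)
  (.leaf ⟨5, 6, true, [13, 10, 8, 19, 8, 10, 8, 19, 2], [8, 19, 6, 18, 8, 19, 2, 11, 8, 11, 6, 8, 10, 4, 6, 8, 4, 6, 4, 0, 11, 13, 8, 10, 6, 8, 11, 12]⟩))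
  (.node (nat_lit 235) (.leaf ⟨6, 5, true, [18, 12, 10, 8, 18, 8, 4, 14, 6], [19, 0, 2, 11, 8, 11, 12, 4, 6, 8, 11, 4, 6, 8, 4, 6, 4, 11, 12, 6, 8, 11, 6, 23]⟩)
  (.leaf ⟨5, 6, true, [8, 19, 8, 19, 19, 14], [19, 10, 10, 8, 19, 2, 10, 4, 6, 8, 11, 4, 6, 8, 4, 6, 4, 12, 10, 8, 10, 6, 23]⟩)))
  (.node (nat_lit 238) (.node (nat_lit 237) (.leaf ⟨6, 6, true, [0, 18, 18, 10, 10, 8, 19, 6, 2], [19, 10, 8, 19, 2, 12, 11, 6, 8, 10, 4, 6, 8, 4, 6, 4, 0, 11, 12, 8, 10, 6, 8, 11, 24]⟩)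
  (.leaf ⟨6, 6, true, [2, 19, 19, 13, 8, 19, 8, 16], [0, 18, 10, 10, 8, 18, 18, 12, 4, 6, 8, 10, 4, 6, 8, 4, 6, 4, 13, 8, 11, 6, 8, 10, 21]⟩))
  (.node (nat_lit 239) (.leaf ⟨6, 6, true, [12, 0, 18, 8, 18, 12, 8, 18], [19, 0, 2, 11, 12, 6, 8, 11, 4, 6, 8, 4, 6, 4, 0, 11, 6, 8, 11, 6, 12]⟩)
  (.leaf ⟨6, 6, true, [6, 18, 8, 0, 19, 8, 6, 2], [12, 0, 18, 8, 18, 18, 11, 8, 10, 6, 8, 11, 4, 6, 8, 4, 6, 4, 13, 10, 8, 11, 6, 8, 10, 21]⟩)))))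
  (.node (nat_lit 248) (.node (nat_lit 244) (.node (nat_lit 242) (.node (nat_lit 241) (.leaf ⟨6, 5, true, [13, 0, 18, 11, 8, 18, 8, 18], [19, 0, 2, 13, 10, 4, 6, 8, 11, 4, 6, 8, 4, 6, 4, 10, 12, 6, 8, 10, 20]⟩)
  (.leaf ⟨5, 6, true, [8, 19, 8, 19, 19, 14, 8, 6], [12, 8, 0, 19, 8, 19, 2, 10, 6, 4, 6, 8, 11, 4, 6, 8, 4, 6, 4, 8, 10, 6, 8, 10, 6]⟩))
  (.node (nat_lit 243) (.leaf ⟨6, 5, true, [0, 18, 12, 18, 8, 19, 12, 8, 16], [19, 0, 2, 13, 8, 11, 4, 6, 8, 4, 6, 4, 0, 11, 6, 8, 11, 6, 8, 10, 24]⟩)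
  (.leaf ⟨5, 6, true, [12, 8, 11, 8, 19, 8, 19, 14], [8, 0, 2, 18, 8, 0, 18, 18, 10, 13, 8, 11, 4, 6, 8, 4, 6, 4, 11, 11, 8, 10, 6, 8, 11, 12]⟩)))
  (.node (nat_lit 246) (.node (nat_lit 245) (.leaf ⟨6, 4, true, [18, 11, 8, 19, 19, 2], [18, 18, 0, 18, 13, 4, 6, 8, 11, 4, 6, 8, 4, 6, 4, 0, 10, 10, 6, 20]⟩)
  (.leaf ⟨4, 6, true, [8, 6, 18, 8, 0, 19, 6, 2], [19, 19, 2, 8, 4, 6, 4, 0, 13]⟩))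
  (.node (nat_lit 247) (.leaf ⟨6, 6, true, [0, 18, 18, 8, 19, 8, 16], [18, 18, 10, 8, 19, 2, 11, 6, 8, 10, 10, 4, 6, 8, 11, 4, 6, 8, 4, 6, 4, 11, 12, 8, 10, 6, 8, 11, 20]⟩)
  (.leaf ⟨6, 6, true, [0, 14, 4, 6, 8, 19, 6, 2], [0, 19, 12, 10, 8, 19, 2, 10, 10, 8, 4, 6, 4, 0, 10, 6, 8, 10, 6]⟩))))
  (.node (nat_lit 252) (.node (nat_lit 250) (.node (nat_lit 249) (.leaf ⟨6, 3, true, [18, 10, 12, 18, 8, 19, 8, 14, 6], [19, 0, 2, 12, 8, 11, 6, 8, 10, 4, 6, 8, 4, 6, 4, 0, 11, 13]⟩)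
  (.leaf ⟨3, 6, true, [8, 6, 18, 8, 0, 19, 6, 2], [19, 10, 8, 19, 2, 12, 8, 10, 4, 6, 8, 10, 4, 6, 8, 4, 6, 4, 6, 8, 10, 8, 10, 6, 22]⟩))
  (.node (nat_lit 251) (.leaf ⟨6, 5, true, [0, 18, 18, 13, 8, 19, 8, 16], [18, 18, 10, 8, 19, 2, 11, 8, 11, 4, 6, 8, 10, 4, 6, 8, 4, 6, 4, 0, 13, 10, 8, 11, 6, 8, 10]⟩)
  (.leaf ⟨5, 6, true, [15, 19, 19, 16, 8, 6, 18, 10], [0, 18, 10, 8, 18, 18, 11, 6, 8, 11, 13, 4, 6, 8, 10, 4, 6, 8, 4, 6, 4, 11, 11, 8, 11, 25]⟩)))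
  (.node (nat_lit 254) (.node (nat_lit 253) (.leaf ⟨6, 3, true, [18, 18, 12, 8, 19, 8, 16], [18, 0, 18, 8, 11, 6, 8, 11, 4, 6, 8, 10, 4, 6, 8, 4, 6, 4, 8, 10, 8, 10, 6, 12]⟩)
  (.leaf ⟨3, 6, true, [14, 8, 16, 8, 19, 19, 2], [18, 18, 18, 18, 8, 19, 2, 4, 6, 8, 10, 4, 6, 8, 4, 6, 4, 0, 8, 10, 6, 8, 10, 6]⟩))
  (.node (nat_lit 255) (.leaf ⟨6, 3, true, [12, 16, 8, 19, 8, 19, 2], [12, 15, 8, 18, 18, 11, 8, 10, 6, 8, 4, 6, 4, 0, 11, 8, 11, 6, 8, 11, 13]⟩)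
  (.leaf ⟨3, 6, true, [13, 8, 19, 8, 19, 14], [10, 8, 19, 14, 8, 19, 0, 2, 13, 8, 11, 6, 8, 4, 6, 4, 11, 11, 6, 13]⟩))))))

noncomputable def f256 : FT := (.node (nat_lit 272) (.node (nat_lit 264) (.node (nat_lit 260) (.node (nat_lit 258) (.node (nat_lit 257) (.leaf ⟨6, 3, true, [0, 19, 8, 19, 8, 19, 8, 14, 6], [8, 19, 0, 2, 11, 13, 6, 8, 11, 4, 6, 8, 10, 4, 6, 8, 4, 6, 4, 8, 10, 13, 6, 8, 10]⟩)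
  (.leaf ⟨3, 6, true, [8, 19, 12, 0, 14, 8, 6], [19, 6, 8, 19, 8, 0, 19, 2, 6, 8, 10, 4, 6, 8, 10, 4, 6, 8, 4, 6, 4, 8, 10, 6, 8, 10, 23]⟩))
  (.node (nat_lit 259) (.leaf ⟨6, 5, true, [8, 0, 14, 10, 8, 18, 8, 18], [10, 8, 18, 8, 18, 8, 19, 2, 4, 6, 8, 10, 4, 6, 8, 4, 6, 4, 11, 8, 11, 6, 8, 11, 6, 22]⟩)
  (.leaf ⟨5, 6, true, [2, 19, 6, 8, 19, 16], [8, 2, 18, 8, 19, 8, 19, 2, 10, 8, 10, 6, 8, 10, 4, 6, 8, 4, 6, 4, 11, 8, 10, 6, 8, 11, 6, 22]⟩)))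
  (.node (nat_lit 262) (.node (nat_lit 261) (.leaf ⟨6, 4, true, [18, 8, 0, 18, 10, 8, 6], [8, 18, 0, 18, 13, 11, 6, 8, 10, 4, 6, 8, 10, 4, 6, 8, 4, 6, 4, 11, 11, 8, 11, 20]⟩)
  (.leaf ⟨4, 6, true, [18, 12, 0, 18, 8, 6], [8, 18, 0, 18, 12, 10, 8, 6, 4, 8, 11, 13, 6, 8, 10, 6]⟩))
  (.node (nat_lit 263) (.leaf ⟨6, 4, true, [18, 18, 0, 18, 8, 10, 6], [18, 0, 18, 8, 4, 6, 4, 0, 13, 6, 8, 10, 13]⟩)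
  (.leaf ⟨4, 6, true, [12, 19, 8, 19, 15], [8, 0, 19, 6, 8, 18, 18, 10, 12, 8, 11, 4, 6, 8, 4, 6, 4, 0, 13, 10, 8, 11, 24]⟩))))
  (.node (nat_lit 268) (.node (nat_lit 266) (.node (nat_lit 265) (.leaf ⟨6, 5, true, [13, 8, 0, 19, 8, 16, 8, 19, 6, 2], [12, 15, 8, 18, 18, 11, 12, 8, 10, 6, 8, 4, 6, 4, 12, 10, 6, 8, 11]⟩)
  (.leaf ⟨5, 6, true, [6, 8, 19, 0, 14, 6], [10, 8, 19, 6, 18, 8, 19, 2, 12, 10, 8, 10, 6, 8, 4, 6, 4, 8, 11, 6, 8, 11, 6, 21]⟩))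
  (.node (nat_lit 267) (.leaf ⟨6, 5, true, [19, 2, 19, 8, 19, 8, 14, 8, 6], [15, 18, 8, 19, 2, 11, 8, 10, 6, 8, 11, 4, 6, 8, 4, 6, 4, 0, 10, 6, 8, 11, 6, 8, 10, 12]⟩)
  (.leaf ⟨5, 6, true, [4, 6, 8, 19, 8, 0, 14, 6], [8, 0, 15, 18, 8, 0, 18, 18, 11, 6, 8, 11, 13, 4, 6, 8, 10, 4, 6, 8, 4, 6, 4, 11, 8, 10, 6, 23]⟩)))
  (.node (nat_lit 270) (.node (nat_lit 269) (.leaf ⟨6, 5, true, [13, 0, 14, 8, 18, 8, 6, 18], [8, 18, 18, 10, 8, 19, 0, 2, 8, 10, 6, 8, 11, 4, 6, 8, 11, 4, 6, 8, 4, 6, 4, 0, 6, 8, 10, 8, 10, 12]⟩)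
  (.leaf ⟨5, 6, true, [15, 19, 19, 13, 8, 19, 8, 16], [12, 8, 6, 18, 8, 0, 18, 18, 4, 6, 8, 10, 4, 6, 8, 4, 6, 4, 11, 13, 8, 10, 22]⟩))
  (.node (nat_lit 271) (.leaf ⟨6, 3, true, [16, 8, 19, 8, 16, 10, 8, 19, 16], [8, 18, 8, 0, 19, 2, 13, 10, 8, 10, 4, 6, 8, 10, 4, 6, 8, 4, 6, 4, 11, 13, 6, 8, 11, 6, 20]⟩)
  (.leaf ⟨3, 6, true, [18, 8, 0, 19, 8, 16], [8, 2, 18, 8, 0, 18, 18, 13, 8, 10, 6, 8, 11, 4, 6, 8, 4, 6, 4, 8, 11, 11, 6, 8, 11, 13]⟩)))))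
  (.node (nat_lit 280) (.node (nat_lit 276) (.node (nat_lit 274) (.node (nat_lit 273) (.leaf ⟨6, 6, true, [19, 8, 0, 14, 6], [19, 10, 10, 8, 19, 2, 10, 4, 6, 8, 11, 6, 8, 10, 4, 6, 8, 4, 6, 4, 0, 13, 8, 11, 6, 22]⟩)
  (.leaf ⟨6, 6, true, [19, 14, 6, 18, 8, 19, 2], [8, 2, 18, 18, 12, 4, 6, 8, 10, 4, 6, 8, 11, 4, 6, 8, 4, 6, 4, 10, 8, 11, 13, 6, 8, 10, 20]⟩))
  (.node (nat_lit 275) (.leaf ⟨6, 5, true, [18, 18, 8, 10, 8, 19, 2], [2, 0, 18, 10, 13, 8, 10, 6, 8, 4, 6, 4, 0, 8, 11, 11, 6, 8, 11, 23]⟩)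
  (.leaf ⟨5, 6, true, [13, 8, 11, 8, 6], [10, 10, 8, 18, 0, 18, 8, 10, 8, 10, 4, 6, 8, 4, 6, 4, 12, 8, 10, 6, 8, 10, 23]⟩)))
  (.node (nat_lit 278) (.node (nat_lit 277) (.leaf ⟨6, 5, true, [13, 18, 10, 8, 0, 18], [10, 10, 6, 8, 11, 4, 6, 8, 4, 6, 4, 8, 11, 12, 6, 8, 11, 6, 13]⟩)
  (.leaf ⟨5, 6, true, [12, 14, 8, 16], [8, 10, 8, 19, 0, 2, 13, 4, 6, 8, 11, 4, 6, 8, 4, 6, 4, 13, 8, 10, 6, 8, 11, 12]⟩))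
  (.node (nat_lit 279) (.leaf ⟨6, 6, true, [8, 18, 18, 10, 8, 6], [19, 8, 15, 19, 10, 8, 19, 2, 13, 11, 8, 10, 4, 6, 8, 10, 4, 6, 8, 4, 6, 4, 10, 10, 20]⟩)
  (.leaf ⟨6, 6, true, [19, 13, 16, 8, 19, 8, 19, 14], [18, 8, 19, 6, 18, 8, 19, 2, 8, 10, 8, 10, 6, 8, 10, 4, 6, 8, 4, 6, 4, 0, 12, 11, 6, 20]⟩))))
  (.node (nat_lit 284) (.node (nat_lit 282) (.node (nat_lit 281) (.leaf ⟨6, 6, true, [18, 18, 12, 8, 19, 2], [0, 15, 8, 18, 18, 10, 10, 4, 6, 8, 11, 4, 6, 8, 4, 6, 4, 6, 8, 10, 20]⟩)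
  (.leaf ⟨6, 6, true, [6, 18, 8, 0, 18, 12, 10], [10, 8, 19, 0, 2, 13, 6, 8, 11, 4, 6, 8, 4, 6, 4, 0, 12, 11, 8, 10, 6, 8, 10, 21]⟩))
  (.node (nat_lit 283) (.leaf ⟨6, 5, true, [13, 19, 8, 19, 8, 19, 2], [19, 8, 19, 14, 8, 19, 0, 2, 11, 8, 4, 6, 4, 0, 10, 12, 8, 11, 6, 20]⟩)
  (.leaf ⟨5, 6, true, [8, 19, 19, 16, 8, 19, 6, 2], [6, 18, 12, 18, 8, 18, 18, 4, 6, 8, 11, 4, 6, 8, 10, 4, 6, 8, 4, 6, 4, 8, 10, 8, 10, 6, 8, 10, 6, 22]⟩)))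
  (.node (nat_lit 286) (.node (nat_lit 285) (.leaf ⟨6, 6, true, [15, 8, 11, 8, 6], [12, 8, 2, 18, 8, 0, 18, 18, 13, 11, 4, 6, 8, 11, 4, 6, 8, 4, 6, 4, 8, 10, 6, 8, 11, 6, 12]⟩)
  (.leaf ⟨6, 6, true, [12, 0, 18, 13, 8, 18, 8, 18, 10], [8, 19, 6, 8, 18, 18, 11, 8, 11, 12, 6, 8, 11, 4, 6, 8, 4, 6, 4, 8, 11, 20]⟩))
  (.node (nat_lit 287) (.leaf ⟨6, 6, true, [18, 8, 0, 18, 12, 10], [12, 11, 8, 19, 0, 2, 11, 8, 10, 6, 8, 4, 6, 4, 0, 13, 8, 11, 20]⟩)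
  (.leaf ⟨6, 6, true, [15, 8, 0, 18, 8, 6], [10, 10, 8, 18, 0, 18, 10, 10, 8, 6, 4, 13, 8, 10, 6, 21]⟩))))))

noncomputable def f288 : FT := (.node (nat_lit 304) (.node (nat_lit 296) (.node (nat_lit 292) (.node (nat_lit 290) (.node (nat_lit 289) (.leaf ⟨6, 5, true, [12, 18, 13, 18, 8, 19, 14, 6], [0, 19, 8, 19, 2, 4, 6, 8, 10, 4, 6, 8, 10, 4, 6, 8, 4, 6, 4, 0, 8, 10, 8, 10, 6, 13]⟩)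
  (.leaf ⟨5, 6, true, [15, 18, 8, 6, 18, 10, 8, 6], [8, 19, 8, 19, 2, 11, 8, 11, 6, 8, 11, 4, 6, 8, 4, 6, 4, 6, 8, 11, 6, 23]⟩))
  (.node (nat_lit 291) (.leaf ⟨6, 5, true, [8, 19, 13, 8, 10, 6, 8, 18], [19, 6, 8, 19, 8, 19, 2, 11, 13, 8, 10, 4, 6, 8, 4, 6, 4, 11, 8, 11, 20]⟩)
  (.leaf ⟨5, 6, true, [8, 6, 18, 18, 8, 11, 8, 6], [8, 19, 19, 14, 8, 19, 0, 2, 10, 8, 10, 6, 8, 10, 4, 6, 8, 4, 6, 4, 0, 6, 8, 11, 8, 11, 6, 21]⟩)))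
  (.node (nat_lit 294) (.node (nat_lit 293) (.leaf ⟨6, 6, true, [16, 8, 19, 10, 8, 19, 8, 14, 6], [14, 8, 6, 18, 8, 19, 2, 11, 8, 11, 6, 8, 10, 4, 6, 8, 4, 6, 4, 0, 8, 11, 13, 6, 8, 10, 20]⟩)
  (.leaf ⟨6, 6, true, [18, 18, 8, 19, 8, 14, 8, 6], [18, 8, 19, 8, 19, 2, 11, 11, 4, 6, 8, 4, 6, 4, 0, 13, 8, 11, 6, 8, 10, 20]⟩))
  (.node (nat_lit 295) (.leaf ⟨6, 6, true, [10, 6, 8, 18, 8, 19, 12, 19, 2], [18, 12, 2, 18, 8, 18, 18, 11, 6, 8, 10, 4, 6, 8, 4, 6, 4, 0, 8, 10, 8, 10, 6, 8, 10, 21]⟩)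
  (.leaf ⟨6, 6, true, [10, 6, 8, 19, 12, 19, 2], [15, 18, 8, 19, 10, 8, 19, 2, 4, 6, 8, 10, 4, 6, 8, 11, 4, 6, 8, 4, 6, 4, 0, 10, 8, 10, 6, 8, 11, 22]⟩))))
  (.node (nat_lit 300) (.node (nat_lit 298) (.node (nat_lit 297) (.leaf ⟨6, 6, true, [11, 8, 19, 19, 16, 8, 6, 18, 10], [12, 18, 8, 19, 6, 8, 18, 18, 6, 8, 10, 4, 6, 8, 10, 4, 6, 8, 4, 6, 4, 0, 10, 13, 8, 11, 6]⟩)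
  (.leaf ⟨6, 6, true, [16, 12, 8, 19, 6, 8, 6, 18, 10], [10, 8, 0, 18, 8, 18, 18, 11, 6, 8, 11, 4, 6, 8, 11, 4, 6, 8, 4, 6, 4, 11, 8, 10, 6, 8, 11, 6, 22]⟩))
  (.node (nat_lit 299) (.leaf ⟨6, 6, true, [18, 12, 8, 18, 8, 19, 2], [2, 0, 18, 13, 10, 6, 8, 10, 4, 6, 8, 10, 4, 6, 8, 4, 6, 4, 12, 10, 8, 10, 6]⟩)
  (.leaf ⟨6, 6, true, [15, 8, 16], [8, 10, 8, 19, 0, 2, 13, 8, 11, 6, 8, 10, 4, 6, 8, 4, 6, 4, 6, 8, 10, 6, 8, 11, 6, 21]⟩)))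
  (.node (nat_lit 302) (.node (nat_lit 301) (.leaf ⟨6, 6, true, [12, 16, 2], [6, 0, 18, 10, 8, 18, 18, 4, 6, 8, 11, 4, 6, 8, 10, 4, 6, 8, 4, 6, 4, 8, 11, 8, 11, 24]⟩)
  (.leaf ⟨6, 6, true, [8, 15, 0, 18], [19, 19, 19, 2, 6, 8, 11, 6, 8, 10, 4, 6, 8, 10, 4, 6, 8, 4, 6, 4, 10, 8, 11, 13, 6, 8, 10, 13]⟩))
  (.node (nat_lit 303) (.leaf ⟨6, 6, true, [19, 19, 8, 0, 19, 8, 16, 10], [0, 15, 18, 8, 19, 2, 4, 6, 8, 11, 12, 4, 6, 8, 11, 4, 6, 8, 4, 6, 4, 8, 10, 8, 10, 25]⟩)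
  (.leaf ⟨6, 6, true, [14, 8, 6, 18, 10, 8, 19, 2], [16, 8, 0, 19, 8, 0, 19, 2, 12, 10, 6, 8, 4, 6, 4, 11, 6, 8, 11, 6, 8, 10, 25]⟩)))))
  (.node (nat_lit 312) (.node (nat_lit 308) (.node (nat_lit 306) (.node (nat_lit 305) (.leaf ⟨6, 6, true, [11, 8, 18, 8, 6], [2, 18, 18, 11, 8, 11, 6, 8, 10, 4, 6, 8, 4, 6, 4, 12, 11, 8, 10, 24]⟩)
  (.leaf ⟨6, 6, true, [10, 8, 18, 12, 0, 18], [15, 18, 8, 2, 18, 18, 11, 8, 11, 12, 4, 6, 8, 11, 4, 6, 8, 4, 6, 4, 11, 13, 6, 8, 11, 6, 12]⟩))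
  (.node (nat_lit 307) (.leaf ⟨5, 6, true, [0, 19, 19, 8, 19, 12, 8, 16], [10, 8, 18, 10, 8, 18, 18, 8, 10, 6, 8, 11, 4, 6, 8, 10, 4, 6, 8, 4, 6, 4, 8, 11, 8, 11, 6, 8, 11, 24]⟩)
  (.leaf ⟨6, 5, true, [11, 8, 19, 12, 8, 19, 8, 16, 10], [2, 18, 8, 19, 6, 8, 18, 18, 4, 6, 8, 11, 4, 6, 8, 11, 4, 6, 8, 4, 6, 4, 8, 11, 8, 11, 6, 24]⟩)))
  (.node (nat_lit 310) (.node (nat_lit 309) (.leaf ⟨6, 5, true, [8, 18, 8, 18, 18, 10, 10, 8, 6], [12, 0, 19, 6, 8, 18, 18, 4, 6, 8, 11, 4, 6, 8, 10, 4, 6, 8, 4, 6, 4, 10, 12, 6, 8, 10]⟩)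
  (.leaf ⟨5, 6, true, [8, 19, 10, 8, 19, 8, 10, 8, 16], [0, 15, 12, 18, 8, 0, 18, 18, 8, 11, 8, 11, 6, 8, 10, 4, 6, 8, 4, 6, 4, 13, 11, 6, 8, 10, 24]⟩))
  (.node (nat_lit 311) (.leaf ⟨6, 5, true, [8, 14, 8, 19, 19, 2], [18, 14, 12, 8, 19, 8, 19, 2, 10, 4, 6, 8, 10, 4, 6, 8, 11, 4, 6, 8, 4, 6, 4, 11, 13, 8, 10, 24]⟩)
  (.leaf ⟨5, 6, true, [2, 18, 8, 19, 16], [8, 0, 19, 6, 8, 18, 18, 11, 8, 11, 6, 8, 4, 6, 4, 0, 8, 10, 12, 6, 8, 10, 22]⟩))))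
  (.node (nat_lit 316) (.node (nat_lit 314) (.node (nat_lit 313) (.leaf ⟨6, 6, true, [0, 18, 13, 10, 8, 18, 8, 18, 11], [18, 0, 18, 4, 6, 8, 11, 8, 11, 4, 6, 8, 10, 4, 6, 8, 4, 6, 4, 11, 12, 8, 10, 12]⟩)
  (.leaf ⟨6, 6, true, [16, 8, 0, 19, 8, 16, 10], [12, 19, 8, 19, 2, 8, 10, 12, 6, 8, 10, 4, 6, 8, 4, 6, 4, 13, 10, 8, 10, 13]⟩))
  (.node (nat_lit 315) (.leaf ⟨6, 5, true, [6, 8, 16, 8, 19, 8, 19, 15], [19, 13, 10, 8, 19, 8, 19, 2, 13, 8, 10, 4, 6, 8, 4, 6, 4, 13, 8, 11, 6, 24]⟩)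
  (.leaf ⟨5, 6, true, [11, 8, 19, 16], [6, 18, 18, 8, 19, 10, 8, 19, 2, 11, 4, 6, 8, 11, 4, 6, 8, 4, 6, 4, 0, 11, 6, 8, 10, 6, 24]⟩)))
  (.node (nat_lit 318) (.node (nat_lit 317) (.leaf ⟨3, 6, true, [10, 8, 19, 10, 8, 19, 8, 16, 10], [12, 11, 8, 0, 18, 8, 18, 18, 13, 8, 11, 4, 6, 8, 4, 6, 4, 0, 12, 11, 8, 10, 12]⟩)
  (.leaf ⟨6, 3, true, [0, 18, 10, 8, 18, 12, 8, 18], [12, 18, 8, 0, 18, 18, 12, 11, 6, 8, 10, 4, 6, 8, 4, 6, 4, 8, 10, 6, 8, 11, 22]⟩))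
  (.node (nat_lit 319) (.leaf ⟨6, 5, true, [6, 18, 8, 19, 19, 14, 10, 8, 6], [19, 0, 19, 10, 8, 19, 2, 13, 10, 8, 10, 4, 6, 8, 4, 6, 4, 8, 10, 10, 6, 8, 10, 13]⟩)
  (.leaf ⟨5, 6, true, [0, 2, 18, 8, 19, 16], [8, 19, 19, 0, 19, 8, 19, 2, 12, 4, 6, 8, 11, 4, 6, 8, 10, 4, 6, 8, 4, 6, 4, 13, 11, 6, 8, 11, 12]⟩))))))

noncomputable def f320 : FT := (.node (nat_lit 336) (.node (nat_lit 328) (.node (nat_lit 324) (.node (nat_lit 322) (.node (nat_lit 321) (.leaf ⟨6, 5, true, [8, 19, 8, 6, 18, 8, 19, 14, 6], [8, 15, 19, 8, 0, 19, 2, 8, 10, 6, 8, 11, 4, 6, 8, 4, 6, 4, 10, 10, 6, 8, 11, 12]⟩)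
  (.leaf ⟨5, 6, true, [8, 15, 18, 8, 18, 8, 6, 18], [19, 13, 16, 8, 19, 8, 19, 2, 10, 13, 4, 6, 8, 10, 4, 6, 8, 4, 6, 4, 20]⟩))
  (.node (nat_lit 323) (.leaf ⟨5, 6, true, [19, 12, 10, 8, 19, 2], [8, 0, 2, 18, 18, 10, 10, 4, 6, 8, 11, 4, 6, 8, 4, 6, 4, 6, 25]⟩)
  (.leaf ⟨6, 5, true, [18, 18, 8, 19, 2], [14, 8, 18, 18, 13, 8, 11, 6, 8, 4, 6, 4, 12, 10, 8, 10, 6, 8, 10]⟩)))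
  (.node (nat_lit 326) (.node (nat_lit 325) (.leaf ⟨6, 5, true, [0, 18, 13, 18, 8, 19, 14, 6], [19, 8, 19, 2, 10, 12, 8, 11, 4, 6, 8, 4, 6, 4, 8, 10, 23]⟩)
  (.leaf ⟨5, 6, true, [15, 18, 8, 10, 6, 8, 18], [12, 19, 8, 19, 2, 11, 8, 11, 4, 6, 8, 11, 4, 6, 8, 4, 6, 4, 0, 6, 8, 11, 6, 20]⟩))
  (.node (nat_lit 327) (.leaf ⟨6, 3, true, [19, 8, 15, 18, 8, 18, 8, 18], [0, 19, 10, 8, 19, 8, 19, 2, 8, 11, 8, 11, 4, 6, 8, 4, 6, 4, 0, 10, 6, 22]⟩)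
  (.leaf ⟨3, 6, true, [14, 0, 19, 8, 16, 8, 19, 12, 16], [12, 8, 0, 19, 8, 19, 2, 6, 8, 10, 8, 10, 4, 6, 8, 10, 4, 6, 8, 4, 6, 4, 0, 10, 12, 8, 11, 6, 20]⟩))))
  (.node (nat_lit 332) (.node (nat_lit 330) (.node (nat_lit 329) (.leaf ⟨6, 6, true, [19, 19, 19, 12, 10, 8, 19, 8, 6, 2], [8, 16, 8, 19, 8, 19, 2, 4, 6, 8, 11, 8, 11, 4, 6, 8, 4, 6, 4, 10, 8, 10, 10, 6, 8, 11, 23]⟩)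
  (.leaf ⟨6, 6, true, [19, 16, 8, 19, 19, 10, 8, 16], [6, 18, 18, 8, 19, 8, 19, 2, 4, 6, 4, 0, 8, 11, 6, 8, 10, 25]⟩))
  (.node (nat_lit 331) (.leaf ⟨5, 6, true, [15, 13, 18, 8, 18, 8, 19, 19, 2], [0, 19, 2, 10, 8, 10, 4, 6, 8, 4, 6, 4, 11, 11, 6, 25]⟩)
  (.leaf ⟨6, 5, true, [8, 18, 8, 10, 8, 18], [8, 18, 8, 19, 8, 19, 2, 12, 10, 4, 6, 8, 10, 4, 6, 8, 10, 4, 6, 8, 4, 6, 4, 8, 11, 13, 6, 8, 10, 6, 13]⟩)))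
  (.node (nat_lit 334) (.node (nat_lit 333) (.leaf ⟨6, 6, true, [19, 19, 12, 19, 8, 16], [18, 0, 18, 13, 11, 8, 11, 4, 6, 8, 4, 6, 4, 6, 8, 11, 6, 8, 10, 6, 22]⟩)
  (.leaf ⟨6, 6, true, [18, 10, 8, 18, 8, 19, 2], [14, 10, 8, 18, 18, 12, 10, 6, 8, 4, 6, 4, 0, 13, 6, 8, 10, 6, 23]⟩))
  (.node (nat_lit 335) (.leaf ⟨3, 6, true, [11, 8, 6], [19, 0, 2, 12, 10, 8, 10, 4, 6, 8, 10, 4, 6, 8, 4, 6, 4, 13, 10, 8, 11, 6, 8, 11, 24]⟩)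
  (.leaf ⟨6, 3, true, [12, 18, 8, 0, 18], [10, 8, 11, 6, 8, 4, 6, 4, 0, 8, 11, 8, 11, 6, 8, 11, 21]⟩)))))
  (.node (nat_lit 344) (.node (nat_lit 340) (.node (nat_lit 338) (.node (nat_lit 337) (.leaf ⟨5, 6, true, [19, 19, 19, 8, 6, 2], [18, 0, 18, 8, 11, 8, 11, 4, 6, 8, 4, 6, 4, 0, 8, 11, 8, 11, 6, 20]⟩)
  (.leaf ⟨6, 5, true, [18, 18, 8, 11, 8, 19, 2], [12, 0, 14, 8, 18, 18, 10, 6, 8, 10, 4, 6, 8, 11, 4, 6, 8, 4, 6, 4, 0, 13, 8, 10, 21]⟩))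
  (.node (nat_lit 339) (.leaf ⟨3, 6, true, [8, 14, 8, 16], [19, 0, 2, 4, 6, 8, 11, 8, 11, 4, 6, 8, 4, 6, 4, 0, 8, 11, 13, 6, 8, 10, 6, 25]⟩)
  (.leaf ⟨6, 3, true, [18, 0, 18, 8, 6], [8, 11, 6, 8, 11, 4, 6, 8, 4, 6, 4, 21]⟩)))
  (.node (nat_lit 342) (.node (nat_lit 341) (.leaf ⟨5, 6, true, [6, 18, 8, 0, 18, 8, 6], [12, 11, 8, 19, 0, 2, 11, 4, 6, 8, 10, 4, 6, 8, 4, 6, 4, 0, 11, 13, 8, 10, 23]⟩)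
  (.leaf ⟨6, 5, true, [14, 18, 18, 10, 8, 18], [10, 10, 8, 19, 0, 2, 13, 4, 6, 8, 11, 4, 6, 8, 4, 6, 4, 13, 8, 11, 6, 8, 10, 22]⟩))
  (.node (nat_lit 343) (.leaf ⟨6, 6, true, [19, 19, 19, 15, 8, 6], [18, 0, 18, 12, 8, 11, 6, 8, 10, 4, 6, 8, 4, 6, 4, 0, 6, 8, 10, 6, 8, 11, 6, 25]⟩)
  (.leaf ⟨6, 6, true, [18, 0, 18], [8, 18, 0, 18, 11, 6, 8, 10, 10, 4, 6, 8, 11, 4, 6, 8, 4, 6, 4, 13, 8, 11, 6, 8, 10, 21]⟩))))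
  (.node (nat_lit 348) (.node (nat_lit 346) (.node (nat_lit 345) (.leaf ⟨6, 6, true, [6, 8, 18, 18, 8, 6], [19, 2, 19, 8, 19, 2, 8, 10, 6, 8, 10, 4, 6, 8, 4, 6, 4, 8, 10, 8, 10, 6, 8, 10, 23]⟩)
  (.leaf ⟨6, 6, true, [0, 18, 18, 18, 8, 10, 6], [8, 0, 19, 8, 0, 19, 2, 8, 11, 8, 11, 4, 6, 8, 10, 4, 6, 8, 4, 6, 4, 13, 10, 8, 11, 6, 8, 10, 21]⟩))
  (.node (nat_lit 347) (.leaf ⟨6, 6, true, [10, 8, 19, 19, 15], [14, 18, 8, 18, 18, 10, 10, 4, 6, 8, 11, 4, 6, 8, 10, 4, 6, 8, 4, 6, 4, 10, 6, 8, 10, 6, 8, 11, 21]⟩)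
  (.leaf ⟨6, 6, true, [18, 18, 8, 10, 8, 18], [19, 0, 2, 12, 8, 11, 4, 6, 8, 4, 6, 4, 0, 11, 13, 8, 10, 6, 8, 11, 21]⟩)))
  (.node (nat_lit 350) (.node (nat_lit 349) (.leaf ⟨5, 6, true, [8, 18, 8, 6, 0, 18, 8, 6], [12, 8, 0, 19, 8, 19, 2, 10, 8, 10, 6, 4, 6, 8, 11, 4, 6, 8, 4, 6, 4, 8, 10]⟩)
  (.leaf ⟨6, 5, true, [18, 18, 12, 18, 8, 10, 6], [12, 10, 8, 19, 0, 2, 8, 10, 10, 4, 6, 8, 11, 4, 6, 8, 4, 6, 4, 10, 13, 8, 11, 6, 8, 10, 24]⟩))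
  (.node (nat_lit 351) (.leaf ⟨5, 6, true, [18, 8, 16, 8, 19, 12, 19, 2], [12, 8, 19, 6, 8, 18, 18, 11, 6, 8, 10, 10, 4, 6, 8, 11, 4, 6, 8, 4, 6, 4, 12, 11, 8, 10, 12]⟩)
  (.leaf ⟨6, 5, true, [6, 2], [18, 18, 0, 18, 13, 4, 6, 8, 11, 4, 6, 8, 4, 6, 4, 0, 13, 6, 8, 10, 25]⟩))))))

noncomputable def f352 : FT := (.node (nat_lit 368) (.node (nat_lit 360) (.node (nat_lit 356) (.node (nat_lit 354) (.node (nat_lit 353) (.leaf ⟨3, 6, true, [13, 19, 8, 19, 19, 14], [0, 14, 6, 8, 18, 18, 11, 6, 8, 10, 6, 4, 6, 8, 11, 4, 6, 8, 4, 6, 4, 6, 8, 10, 6, 8, 11, 24]⟩)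
  (.leaf ⟨6, 3, true, [18, 18, 18, 8, 10, 6], [12, 10, 8, 19, 0, 2, 8, 10, 8, 10, 4, 6, 8, 10, 4, 6, 8, 4, 6, 4, 0, 6, 23]⟩))
  (.node (nat_lit 355) (.leaf ⟨5, 6, true, [8, 6, 18, 8, 18, 8, 19, 16], [0, 18, 18, 18, 6, 8, 10, 8, 10, 4, 6, 8, 10, 4, 6, 8, 4, 6, 4, 11, 13, 8, 10, 6, 8, 11, 12]⟩)
  (.leaf ⟨6, 5, true, [0, 18, 18, 13, 10, 8, 18], [0, 18, 18, 10, 8, 19, 2, 6, 8, 11, 4, 6, 8, 4, 6, 4, 10, 8, 10, 6, 8, 10, 6, 24]⟩)))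
  (.node (nat_lit 358) (.node (nat_lit 357) (.leaf ⟨6, 6, true, [10, 8, 19, 6, 2], [19, 16, 8, 19, 19, 2, 8, 10, 6, 8, 10, 4, 6, 8, 4, 6, 4, 8, 10, 6, 8, 10, 6, 12]⟩)
  (.leaf ⟨6, 6, true, [0, 18, 18, 10, 8, 18], [0, 18, 18, 10, 8, 19, 2, 13, 8, 11, 4, 6, 8, 4, 6, 4, 0, 6, 24]⟩))
  (.node (nat_lit 359) (.leaf ⟨6, 6, true, [15, 19, 19, 13, 8, 19, 8, 16, 10], [18, 8, 16, 8, 19, 19, 2, 11, 8, 11, 6, 8, 10, 4, 6, 8, 4, 6, 4, 12, 11, 8, 10, 6, 8, 10, 20]⟩)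
  (.leaf ⟨6, 6, true, [19, 19, 16, 8, 6, 18, 8, 18], [0, 14, 12, 8, 18, 8, 18, 18, 13, 11, 6, 8, 11, 4, 6, 8, 4, 6, 4, 11, 6, 8, 10, 24]⟩))))
  (.node (nat_lit 364) (.node (nat_lit 362) (.node (nat_lit 361) (.leaf ⟨6, 6, true, [8, 15, 0, 19, 8, 19, 10, 8, 16], [16, 8, 19, 8, 19, 2, 8, 10, 8, 10, 4, 6, 8, 4, 6, 4, 11, 8, 11, 6, 8, 10, 13]⟩)
  (.leaf ⟨6, 6, true, [19, 19, 14, 10], [8, 0, 2, 18, 18, 8, 10, 6, 8, 4, 6, 4, 0, 13, 10, 8, 10, 6, 8, 10, 22]⟩))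
  (.node (nat_lit 363) (.leaf ⟨6, 6, true, [12, 19, 8, 10, 8, 19, 2], [8, 2, 18, 18, 6, 8, 11, 8, 11, 4, 6, 8, 4, 6, 4, 13, 8, 10, 6, 8, 11, 24]⟩)
  (.leaf ⟨6, 6, true, [14, 6, 8, 0, 18], [19, 0, 2, 4, 6, 8, 11, 4, 6, 8, 11, 4, 6, 8, 4, 6, 4, 8, 10, 8, 10, 6, 8, 10]⟩)))
  (.node (nat_lit 366) (.node (nat_lit 365) (.leaf ⟨6, 6, true, [14, 6, 18, 8, 19, 2], [0, 14, 8, 18, 18, 8, 10, 4, 6, 8, 10, 4, 6, 8, 4, 6, 4, 0, 10, 8, 11, 6, 8, 11, 6, 21]⟩)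
  (.leaf ⟨5, 6, true, [8, 14, 8, 0, 18], [8, 10, 8, 19, 0, 2, 12, 10, 8, 4, 6, 4, 13, 6, 8, 11, 6]⟩))
  (.node (nat_lit 367) (.leaf ⟨6, 5, true, [18, 12, 8, 0, 18], [12, 18, 8, 0, 19, 2, 12, 10, 6, 8, 4, 6, 4, 0, 13, 8, 11, 20]⟩)
  (.leaf ⟨6, 6, true, [19, 12, 8, 19, 2], [8, 0, 2, 18, 18, 10, 10, 4, 6, 8, 11, 4, 6, 8, 11, 4, 6, 8, 4, 6, 4, 6, 8, 11, 6, 8, 10, 6, 21]⟩)))))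
  (.node (nat_lit 376) (.node (nat_lit 372) (.node (nat_lit 370) (.node (nat_lit 369) (.leaf ⟨6, 6, true, [13, 19, 8, 0, 14, 6], [19, 0, 2, 4, 6, 8, 11, 4, 6, 8, 11, 4, 6, 8, 4, 6, 4, 8, 11, 13, 6, 8, 10, 13]⟩)
  (.leaf ⟨6, 6, true, [16, 8, 6, 0, 18, 8, 6], [8, 0, 19, 10, 8, 19, 2, 8, 11, 13, 4, 6, 8, 11, 4, 6, 8, 4, 6, 4, 11, 8, 11, 6, 8, 10, 6, 21]⟩))
  (.node (nat_lit 371) (.leaf ⟨6, 6, true, [4, 14, 6, 8, 18, 12, 8, 18], [18, 0, 18, 10, 13, 8, 10, 6, 8, 4, 6, 4, 0, 13, 8, 11, 23]⟩)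
  (.leaf ⟨6, 6, true, [18, 8, 6, 0, 18, 8, 6], [8, 19, 19, 2, 4, 6, 8, 11, 4, 6, 8, 4, 6, 4, 10, 8, 10, 6, 8, 10, 6, 25]⟩)))
  (.node (nat_lit 374) (.node (nat_lit 373) (.leaf ⟨6, 6, true, [18, 8, 18, 12, 10, 8, 18, 10], [19, 0, 2, 12, 10, 6, 8, 10, 4, 6, 8, 4, 6, 4, 11, 8, 11, 6, 8, 10, 25]⟩)
  (.leaf ⟨5, 6, true, [0, 19, 13, 6, 8, 6, 18, 8, 18], [18, 12, 2, 18, 8, 18, 18, 12, 10, 6, 8, 4, 6, 4, 0, 11, 8, 10, 6, 8, 10, 6]⟩))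
  (.node (nat_lit 375) (.leaf ⟨6, 5, true, [13, 18, 14, 8, 19, 8, 19, 15], [12, 0, 18, 8, 0, 18, 18, 11, 12, 8, 10, 4, 6, 8, 11, 4, 6, 8, 4, 6, 4, 10, 10, 6, 8, 10, 21]⟩)
  (.leaf ⟨6, 6, true, [2, 0, 18, 18, 8, 19, 8, 14, 6], [19, 14, 8, 18, 8, 18, 18, 11, 6, 8, 4, 6, 4, 8, 10, 20]⟩))))
  (.node (nat_lit 380) (.node (nat_lit 378) (.node (nat_lit 377) (.leaf ⟨6, 6, true, [6, 8, 19, 8, 14, 6], [12, 18, 8, 18, 8, 18, 18, 12, 6, 8, 10, 4, 6, 8, 10, 4, 6, 8, 4, 6, 4, 12, 10, 8, 10]⟩)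
  (.leaf ⟨6, 6, true, [19, 8, 6, 18, 8, 19, 8, 6, 2], [18, 8, 15, 18, 14, 8, 18, 18, 8, 10, 8, 10, 6, 8, 10, 4, 6, 8, 4, 6, 4, 0, 11, 8, 11]⟩))
  (.node (nat_lit 379) (.leaf ⟨6, 6, true, [14, 18, 8, 18, 8, 19, 0, 14, 6], [0, 19, 8, 19, 10, 10, 8, 19, 2, 11, 6, 8, 11, 4, 6, 8, 11, 4, 6, 8, 4, 6, 4, 0, 13, 6, 8, 11, 22]⟩)
  (.leaf ⟨6, 6, true, [6, 18, 8, 18, 18, 8, 11, 8, 6], [19, 12, 14, 8, 19, 0, 2, 13, 10, 8, 11, 6, 8, 10, 4, 6, 8, 4, 6, 4, 11, 6, 20]⟩)))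
  (.node (nat_lit 382) (.node (nat_lit 381) (.leaf ⟨6, 6, true, [0, 14, 18, 8, 16, 8, 19, 19, 2], [18, 10, 8, 19, 0, 2, 11, 4, 6, 8, 4, 6, 4, 10, 13, 8, 11, 6, 25]⟩)
  (.leaf ⟨6, 6, true, [15, 0, 18, 8, 6], [18, 14, 8, 19, 0, 2, 8, 10, 8, 4, 6, 4, 0, 11, 11, 6, 8, 11, 24]⟩))
  (.node (nat_lit 383) (.leaf ⟨6, 6, true, [18, 12, 0, 18, 8, 10, 6], [18, 0, 18, 10, 6, 8, 11, 4, 6, 8, 4, 6, 4, 12, 6, 8, 11, 23]⟩)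
  (.leaf ⟨5, 6, true, [0, 14, 8, 18, 8, 19, 8, 19, 2], [18, 11, 8, 18, 8, 19, 19, 2, 10, 8, 10, 4, 6, 8, 10, 4, 6, 8, 4, 6, 4, 0, 11, 6, 8, 10, 12]⟩))))))

noncomputable def f384 : FT := (.node (nat_lit 400) (.node (nat_lit 392) (.node (nat_lit 388) (.node (nat_lit 386) (.node (nat_lit 385) (.leaf ⟨6, 5, true, [19, 15, 8, 0, 19, 8, 19, 8, 6, 2], [15, 19, 8, 0, 19, 2, 12, 10, 8, 10, 6, 8, 4, 6, 4, 0, 10, 8, 11, 6, 8, 10]⟩)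
  (.leaf ⟨5, 6, true, [18, 11, 8, 19, 19, 12, 14], [19, 0, 19, 10, 8, 19, 2, 10, 10, 6, 8, 11, 4, 6, 8, 10, 4, 6, 8, 4, 6, 4, 0, 6, 8, 10, 8, 10, 20]⟩))
  (.node (nat_lit 387) (.leaf ⟨6, 5, true, [8, 11, 8, 0, 19, 6, 8, 19, 6, 2], [19, 11, 8, 19, 2, 12, 10, 4, 6, 8, 11, 4, 6, 8, 4, 6, 4, 8, 10, 10, 6, 8, 10, 12]⟩)
  (.leaf ⟨5, 6, true, [8, 19, 13, 8, 15, 19, 8, 19, 2], [11, 8, 19, 10, 8, 19, 2, 11, 6, 8, 10, 4, 6, 8, 10, 4, 6, 8, 4, 6, 4, 8, 10, 8, 10, 6, 8, 10]⟩)))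
  (.node (nat_lit 390) (.node (nat_lit 389) (.leaf ⟨6, 5, true, [0, 14, 8, 18, 8, 11, 8, 18], [6, 18, 10, 8, 19, 2, 11, 8, 11, 4, 6, 8, 4, 6, 4, 0, 12, 8, 10, 6]⟩)
  (.leaf ⟨6, 6, true, [12, 8, 6, 0, 18], [12, 6, 18, 8, 18, 18, 10, 4, 6, 8, 10, 6, 8, 11, 4, 6, 8, 4, 6, 4, 12, 11, 6, 24]⟩))
  (.node (nat_lit 391) (.leaf ⟨6, 6, true, [14, 8, 0, 18, 10], [19, 19, 6, 8, 19, 8, 19, 2, 10, 10, 6, 8, 11, 4, 6, 8, 10, 4, 6, 8, 4, 6, 4, 10, 10, 6, 8, 10]⟩)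
  (.leaf ⟨6, 6, true, [16, 2], [19, 19, 19, 2, 4, 6, 8, 11, 13, 4, 6, 8, 11, 4, 6, 8, 4, 6, 4, 0, 11, 11, 8, 10, 23]⟩))))
  (.node (nat_lit 396) (.node (nat_lit 394) (.node (nat_lit 393) (.leaf ⟨6, 6, true, [12, 11, 8, 10, 6], [12, 10, 8, 19, 0, 2, 10, 8, 6, 4, 13, 6, 8, 10, 6, 13]⟩)
  (.leaf ⟨6, 6, true, [18, 13, 10, 8, 0, 18], [11, 12, 6, 8, 11, 4, 6, 8, 4, 6, 4, 12, 8, 11, 12]⟩))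
  (.node (nat_lit 395) (.leaf ⟨6, 6, true, [13, 8, 14, 8, 0, 18], [8, 10, 8, 19, 0, 2, 10, 6, 8, 10, 4, 6, 8, 4, 6, 4, 0, 12, 8, 11, 20]⟩)
  (.leaf ⟨6, 6, true, [18, 10, 8, 0, 18], [12, 18, 8, 0, 19, 2, 11, 11, 4, 6, 8, 4, 6, 4, 0, 6, 22]⟩)))
  (.node (nat_lit 398) (.node (nat_lit 397) (.leaf ⟨6, 6, true, [19, 19, 12, 6, 8, 18], [18, 0, 18, 12, 8, 11, 4, 6, 8, 4, 6, 4, 8, 10, 10, 6, 8, 11]⟩)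
  (.leaf ⟨6, 6, true, [14, 18, 13, 18, 8, 18], [12, 11, 8, 19, 0, 2, 10, 13, 8, 11, 4, 6, 8, 10, 4, 6, 8, 4, 6, 4, 6, 8, 11, 6, 8, 10, 24]⟩))
  (.node (nat_lit 399) (.leaf ⟨6, 6, true, [6], [19, 19, 19, 2, 10, 4, 6, 8, 11, 12, 4, 6, 8, 11, 4, 6, 8, 4, 6, 4, 11, 8, 11, 6, 8, 10, 12]⟩)
  (.leaf ⟨6, 5, true, [8, 14, 0, 19, 19, 12, 8, 16], [13, 10, 4, 6, 8, 11, 4, 6, 8, 4, 6, 4, 13, 11, 6, 8, 11]⟩)))))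
  (.node (nat_lit 408) (.node (nat_lit 404) (.node (nat_lit 402) (.node (nat_lit 401) (.leaf ⟨5, 6, true, [11, 8, 10, 6], [12, 10, 8, 19, 19, 2, 12, 10, 8, 10, 4, 6, 8, 4, 6, 4, 12, 6, 8, 11, 6]⟩)
  (.leaf ⟨6, 4, true, [0, 18, 8, 18, 12, 18, 8, 6], [8, 19, 0, 2, 4, 10, 6, 8, 11, 6, 8, 10, 6, 20]⟩))
  (.node (nat_lit 403) (.leaf ⟨4, 6, true, [13, 10, 8, 19, 10, 8, 19, 2], [0, 14, 18, 8, 18, 18, 10, 10, 4, 6, 8, 4, 6, 4, 12, 8, 10]⟩)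
  (.leaf ⟨6, 6, true, [18, 13, 8, 18, 8, 4, 14, 6], [18, 0, 18, 8, 11, 8, 11, 4, 6, 8, 10, 4, 6, 8, 4, 6, 4, 12, 8, 11, 6, 22]⟩)))
  (.node (nat_lit 406) (.node (nat_lit 405) (.leaf ⟨6, 6, true, [12, 8, 11, 8, 19, 8, 19, 14], [8, 0, 2, 18, 8, 0, 18, 18, 6, 8, 11, 6, 8, 10, 4, 6, 8, 4, 6, 4, 0, 13, 10, 8, 11, 6, 8, 10, 6, 13]⟩)
  (.leaf ⟨6, 6, true, [11, 8, 11, 8, 19, 8, 19, 8, 6, 2], [16, 8, 19, 19, 2, 11, 13, 8, 10, 6, 8, 4, 6, 4, 12, 10, 21]⟩))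
  (.node (nat_lit 407) (.leaf ⟨6, 6, true, [15, 11, 8, 18, 8, 19, 12, 16], [8, 19, 19, 19, 8, 19, 2, 11, 8, 10, 4, 6, 8, 10, 4, 6, 8, 4, 6, 4, 0, 11, 13, 6, 8, 10, 6, 13]⟩)
  (.leaf ⟨6, 5, true, [8, 14, 0, 14, 18, 8, 19, 12, 16], [8, 2, 18, 18, 10, 4, 6, 8, 11, 6, 8, 10, 4, 6, 8, 4, 6, 4, 12, 8, 11, 13]⟩))))
  (.node (nat_lit 412) (.node (nat_lit 410) (.node (nat_lit 409) (.leaf ⟨5, 6, true, [6, 8, 19, 8, 19, 2], [12, 0, 19, 8, 0, 19, 2, 10, 6, 8, 11, 6, 8, 10, 4, 6, 8, 4, 6, 4, 0, 11, 8, 10, 6, 8, 10, 25]⟩)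
  (.leaf ⟨6, 4, true, [18, 12, 8, 18, 8, 6, 18], [18, 0, 18, 4, 6, 8, 11, 12, 4, 6, 8, 11, 4, 6, 8, 4, 6, 4, 11, 6, 8, 11, 6, 22]⟩))
  (.node (nat_lit 411) (.leaf ⟨4, 6, true, [13, 10, 6, 8, 19, 19, 15], [12, 8, 19, 6, 8, 18, 18, 13, 8, 10, 6, 8, 11, 4, 6, 8, 4, 6, 4, 8, 11, 8, 11, 6, 20]⟩)
  (.leaf ⟨6, 6, true, [18, 18, 8, 16, 8, 19, 12, 16], [19, 0, 2, 4, 6, 8, 11, 6, 4, 6, 8, 10, 4, 6, 8, 4, 6, 4, 12, 11, 13]⟩)))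
  (.node (nat_lit 414) (.node (nat_lit 413) (.leaf ⟨6, 6, true, [13, 10, 8, 19, 8, 10, 8, 19, 2], [8, 19, 6, 18, 8, 19, 2, 8, 10, 6, 8, 11, 4, 6, 8, 4, 6, 4, 11, 13, 6, 8, 10, 6, 23]⟩)
  (.leaf ⟨6, 3, true, [18, 12, 8, 2, 18, 8, 19, 19, 14], [6, 8, 19, 6, 8, 18, 18, 8, 10, 8, 10, 4, 6, 8, 10, 4, 6, 8, 4, 6, 4, 11, 11, 8, 11, 25]⟩))
  (.node (nat_lit 415) (.leaf ⟨3, 6, true, [8, 18, 4, 6, 8, 18, 8, 19, 6, 2], [0, 16, 8, 6, 18, 8, 19, 2, 8, 10, 6, 8, 4, 6, 4, 10, 10, 21]⟩)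
  (.leaf ⟨6, 6, true, [0, 18, 12, 8, 18, 8, 6, 18], [0, 18, 10, 10, 8, 18, 18, 4, 6, 8, 11, 12, 4, 6, 8, 11, 4, 6, 8, 4, 6, 4, 8, 11, 6, 8, 11, 22]⟩))))))

noncomputable def f416 : FT := (.node (nat_lit 432) (.node (nat_lit 424) (.node (nat_lit 420) (.node (nat_lit 418) (.node (nat_lit 417) (.leaf ⟨6, 6, true, [13, 14, 8, 18, 8, 18, 11], [0, 18, 10, 10, 8, 18, 18, 13, 4, 6, 8, 11, 4, 6, 8, 4, 6, 4, 6, 8, 11, 6, 8, 10, 6, 12]⟩)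
  (.leaf ⟨6, 6, true, [15, 12, 0, 18, 8, 18, 8, 4, 14, 6], [8, 2, 18, 18, 11, 13, 8, 10, 4, 6, 8, 11, 4, 6, 8, 4, 6, 4, 12, 8, 10, 6, 24]⟩))
  (.node (nat_lit 419) (.leaf ⟨6, 6, true, [16, 8, 16, 8, 19, 12, 19, 2], [19, 16, 8, 19, 6, 18, 8, 19, 2, 6, 8, 11, 13, 4, 6, 8, 11, 4, 6, 8, 4, 6, 4, 0, 11, 6, 21]⟩)
  (.leaf ⟨6, 5, true, [0, 18, 18, 8, 16, 8, 19, 12, 16], [19, 0, 2, 11, 4, 6, 8, 4, 6, 4, 0, 12, 8, 10, 6, 8, 10, 20]⟩)))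
  (.node (nat_lit 422) (.node (nat_lit 421) (.leaf ⟨5, 6, true, [12, 6, 8, 19, 8, 19, 2], [8, 19, 6, 18, 8, 19, 2, 8, 10, 4, 6, 8, 11, 4, 6, 8, 4, 6, 4, 0, 11, 13, 6, 8, 10, 6, 23]⟩)
  (.leaf ⟨6, 6, true, [18, 8, 18, 12, 18, 8, 6], [8, 19, 10, 8, 19, 2, 10, 8, 10, 6, 8, 11, 4, 6, 8, 10, 4, 6, 8, 4, 6, 4, 10, 8, 10, 6]⟩))
  (.node (nat_lit 423) (.leaf ⟨6, 6, true, [13, 14, 8, 19, 19, 15], [19, 12, 0, 19, 8, 19, 2, 11, 11, 6, 8, 11, 4, 6, 8, 4, 6, 4, 8, 10, 12, 6, 8, 10, 23]⟩)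
  (.leaf ⟨6, 5, true, [18, 8, 18, 12, 8, 18], [19, 0, 2, 13, 10, 8, 10, 4, 6, 8, 10, 4, 6, 8, 4, 6, 4, 11, 8, 10, 6, 8, 11, 25]⟩))))
  (.node (nat_lit 428) (.node (nat_lit 426) (.node (nat_lit 425) (.leaf ⟨5, 6, true, [18, 8, 6, 0, 18], [0, 18, 8, 18, 18, 13, 10, 8, 11, 4, 6, 8, 4, 6, 4, 10, 12, 8, 11, 6, 23]⟩)
  (.leaf ⟨6, 4, true, [8, 0, 14, 4, 6, 8, 19, 12, 19, 2], [18, 0, 18, 13, 10, 8, 11, 6, 8, 4, 6, 4, 12, 10, 6, 25]⟩))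
  (.node (nat_lit 427) (.leaf ⟨4, 6, true, [13, 10, 8, 19, 8, 10, 8, 19, 2], [19, 16, 8, 19, 6, 18, 8, 19, 2, 6, 8, 11, 4, 6, 8, 10, 4, 6, 8, 4, 6, 4, 0, 10, 12, 8, 11, 6, 22]⟩)
  (.leaf ⟨6, 3, true, [18, 13, 10, 8, 19, 6, 2], [16, 8, 0, 19, 8, 19, 2, 12, 8, 10, 6, 8, 10, 4, 6, 8, 4, 6, 4, 11, 8, 11, 12, 6, 8, 11, 12]⟩)))
  (.node (nat_lit 430) (.node (nat_lit 429) (.leaf ⟨3, 6, true, [8, 0, 19, 16, 8, 19, 8, 14, 6], [19, 16, 8, 19, 10, 8, 19, 2, 6, 8, 11, 8, 11, 4, 6, 8, 4, 6, 4, 10, 8, 11, 6, 8, 11, 12]⟩)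
  (.leaf ⟨6, 5, true, [0, 18, 13, 8, 18, 8, 4, 14, 6], [18, 0, 18, 8, 11, 13, 6, 8, 10, 4, 6, 8, 4, 6, 4, 0, 6, 8, 11, 6, 8, 10, 22]⟩))
  (.node (nat_lit 431) (.leaf ⟨5, 6, true, [12, 8, 18, 8, 0, 18], [0, 18, 8, 18, 18, 10, 8, 10, 4, 6, 8, 4, 6, 4, 11, 6, 8, 11, 23]⟩)
  (.leaf ⟨6, 3, true, [18, 8, 19, 12, 16], [0, 19, 8, 19, 8, 19, 2, 13, 11, 6, 8, 11, 4, 6, 8, 11, 4, 6, 8, 4, 6, 4, 13, 10, 8, 10, 23]⟩)))))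
  (.node (nat_lit 440) (.node (nat_lit 436) (.node (nat_lit 434) (.node (nat_lit 433) (.leaf ⟨3, 6, true, [8, 16, 8, 19, 8, 16, 10], [19, 8, 16, 8, 19, 8, 19, 2, 8, 10, 6, 8, 10, 4, 6, 8, 4, 6, 4, 0, 11, 8, 10, 6, 8, 11, 6, 24]⟩)
  (.leaf ⟨6, 6, true, [12, 8, 2, 18, 8, 18, 10], [18, 0, 18, 10, 8, 11, 6, 8, 4, 6, 4, 10, 6, 8, 11, 6, 8, 10, 6, 25]⟩))
  (.node (nat_lit 435) (.leaf ⟨6, 6, true, [18, 8, 18, 18, 6], [8, 0, 2, 18, 18, 11, 8, 10, 6, 8, 11, 4, 6, 8, 4, 6, 4, 10, 8, 10, 10, 6, 8, 11, 23]⟩)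
  (.leaf ⟨6, 6, true, [18, 4, 0, 14, 8, 10, 6], [19, 0, 2, 13, 10, 6, 8, 11, 4, 6, 8, 4, 6, 4, 11, 8, 11, 6, 8, 11]⟩)))
  (.node (nat_lit 438) (.node (nat_lit 437) (.leaf ⟨6, 6, true, [8, 0, 15, 18, 4, 14, 8, 6], [19, 0, 2, 6, 8, 11, 4, 6, 8, 4, 6, 4, 13, 10, 8, 11, 6, 8, 10, 12]⟩)
  (.leaf ⟨6, 6, true, [12, 18, 8, 18, 8, 19, 2], [19, 12, 8, 19, 8, 19, 2, 6, 8, 10, 4, 6, 8, 4, 6, 4, 0, 11, 8, 11, 6, 8, 10]⟩))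
  (.node (nat_lit 439) (.leaf ⟨6, 6, true, [19, 8, 10, 8, 19, 2], [8, 2, 18, 18, 10, 4, 6, 8, 10, 4, 6, 8, 11, 4, 6, 8, 4, 6, 4, 6, 8, 11, 8, 11, 6, 24]⟩)
  (.leaf ⟨6, 6, true, [14, 6, 18, 8, 19, 14], [12, 14, 8, 18, 18, 4, 6, 8, 11, 6, 8, 10, 4, 6, 8, 4, 6, 4, 12, 11, 8, 10, 20]⟩))))
  (.node (nat_lit 444) (.node (nat_lit 442) (.node (nat_lit 441) (.leaf ⟨6, 6, true, [19, 8, 15, 0, 19, 6, 8, 6, 18], [14, 18, 8, 0, 19, 8, 19, 2, 13, 11, 6, 8, 10, 4, 6, 8, 4, 6, 4, 10, 6, 20]⟩)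
  (.leaf ⟨6, 6, true, [13, 0, 15, 18, 8, 19, 6, 2], [10, 8, 0, 19, 19, 2, 8, 11, 13, 6, 8, 11, 4, 6, 8, 4, 6, 4, 13, 10, 8, 11, 6, 8, 11]⟩))
  (.node (nat_lit 443) (.leaf ⟨6, 6, true, [11, 8, 6], [8, 0, 18, 18, 18, 10, 4, 6, 8, 11, 4, 6, 8, 10, 4, 6, 8, 4, 6, 4, 8, 11, 8, 11, 22]⟩)
  (.leaf ⟨6, 6, true, [8, 0, 15, 18, 8, 18, 8, 6], [10, 8, 10, 6, 4, 6, 8, 11, 4, 6, 8, 4, 6, 4, 10, 6, 8, 11, 6, 8, 10, 6, 12]⟩)))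
  (.node (nat_lit 446) (.node (nat_lit 445) (.leaf ⟨6, 6, true, [10, 4, 6, 8, 6, 18], [18, 18, 10, 8, 19, 8, 19, 2, 11, 13, 8, 10, 4, 6, 8, 11, 4, 6, 8, 4, 6, 4, 11, 11, 8, 10, 12]⟩)
  (.leaf ⟨6, 6, true, [14, 8, 19, 6, 8, 6, 18], [19, 8, 2, 18, 8, 18, 18, 4, 6, 8, 4, 6, 4, 0, 10, 8, 11, 6, 20]⟩))
  (.node (nat_lit 447) (.leaf ⟨6, 6, true, [19, 19, 15], [18, 12, 8, 19, 6, 8, 18, 18, 8, 11, 13, 6, 8, 11, 4, 6, 8, 4, 6, 4, 0, 8, 11, 8, 11, 23]⟩)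
  (.leaf ⟨6, 6, true, [15, 19, 19, 19, 8, 14, 6], [19, 0, 2, 6, 8, 11, 4, 6, 8, 11, 4, 6, 8, 4, 6, 4, 11, 8, 10, 6, 8, 10, 6, 24]⟩))))))

noncomputable def f448 : FT := (.node (nat_lit 464) (.node (nat_lit 456) (.node (nat_lit 452) (.node (nat_lit 450) (.node (nat_lit 449) (.leaf ⟨6, 6, true, [16, 8, 19, 10, 6, 8, 6, 18], [11, 8, 6, 18, 8, 19, 2, 11, 8, 10, 6, 8, 11, 4, 6, 8, 4, 6, 4, 0, 6, 8, 10, 8, 10, 6]⟩)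
  (.leaf ⟨6, 6, true, [0, 15, 8, 18, 8, 19, 16], [8, 0, 18, 8, 18, 8, 19, 2, 10, 6, 8, 11, 4, 6, 8, 4, 6, 4, 13, 8, 10, 6, 8, 11, 12]⟩))
  (.node (nat_lit 451) (.leaf ⟨6, 6, true, [19, 0, 15, 8, 10, 6], [18, 8, 18, 18, 10, 6, 8, 11, 12, 4, 6, 8, 11, 4, 6, 8, 4, 6, 4, 6, 8, 11, 21]⟩)
  (.leaf ⟨6, 5, true, [18, 8, 19, 8, 0, 19, 14, 8, 6], [6, 18, 10, 8, 18, 18, 11, 11, 8, 11, 6, 8, 11, 4, 6, 8, 4, 6, 4, 8, 11, 6, 8, 11, 6, 20]⟩)))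
  (.node (nat_lit 454) (.node (nat_lit 453) (.leaf ⟨5, 6, true, [4, 6, 8, 19, 8, 19, 2], [15, 0, 19, 8, 19, 10, 8, 19, 2, 10, 8, 11, 4, 6, 8, 4, 6, 4, 0, 10, 6, 8, 10]⟩)
  (.leaf ⟨6, 6, true, [16, 13, 8, 19, 6, 8, 19, 8, 16], [12, 6, 18, 8, 18, 18, 13, 10, 8, 11, 4, 6, 8, 10, 4, 6, 8, 4, 6, 4, 0, 11, 8, 11, 22]⟩))
  (.node (nat_lit 455) (.leaf ⟨6, 6, true, [13, 10, 8, 19, 8, 19, 15], [18, 8, 15, 0, 19, 8, 19, 2, 10, 6, 8, 10, 4, 6, 8, 4, 6, 4, 0, 10, 12]⟩)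
  (.leaf ⟨6, 4, true, [14, 10, 8, 19, 8, 19, 8, 6, 2], [2, 19, 12, 19, 8, 19, 2, 6, 8, 10, 6, 8, 4, 6, 4, 0, 11, 8, 11, 12, 6, 8, 11, 6, 23]⟩))))
  (.node (nat_lit 460) (.node (nat_lit 458) (.node (nat_lit 457) (.leaf ⟨4, 6, true, [12, 8, 11, 8, 19, 8, 19, 14], [13, 14, 8, 0, 19, 8, 19, 2, 8, 11, 6, 8, 10, 4, 6, 8, 10, 4, 6, 8, 4, 6, 4, 11, 11, 8, 10, 21]⟩)
  (.leaf ⟨6, 5, true, [19, 13, 10, 8, 19, 8, 6, 2], [15, 19, 19, 8, 19, 2, 6, 4, 6, 8, 11, 6, 8, 10, 4, 6, 8, 4, 6, 4, 22]⟩))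
  (.node (nat_lit 459) (.leaf ⟨5, 6, true, [10, 8, 19, 10, 8, 19, 2], [16, 8, 0, 19, 8, 19, 2, 10, 6, 8, 11, 12, 4, 6, 8, 11, 4, 6, 8, 4, 6, 4, 8, 11, 6, 8, 11, 25]⟩)
  (.leaf ⟨6, 3, true, [12, 19, 8, 6, 18, 8, 19, 6, 2], [10, 8, 19, 2, 4, 6, 8, 10, 8, 10, 4, 6, 8, 4, 6, 4, 0, 8, 11, 8, 11, 13]⟩)))
  (.node (nat_lit 462) (.node (nat_lit 461) (.leaf ⟨3, 6, true, [12, 18, 8, 6, 18, 8, 6], [8, 19, 19, 12, 19, 8, 19, 2, 11, 11, 6, 8, 11, 4, 6, 8, 4, 6, 4, 13, 10, 8, 11, 6, 8, 10, 24]⟩)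
  (.leaf ⟨6, 6, true, [15, 11, 8, 19, 8, 19, 10, 8, 16], [15, 19, 19, 8, 19, 2, 4, 6, 8, 10, 6, 8, 11, 4, 6, 8, 4, 6, 4, 10, 6, 8, 10, 20]⟩))
  (.node (nat_lit 463) (.leaf ⟨6, 6, true, [18, 8, 0, 19, 8, 16, 10], [0, 19, 10, 8, 19, 8, 19, 2, 11, 6, 4, 6, 8, 10, 4, 6, 8, 4, 6, 4, 8, 11, 8, 11, 21]⟩)
  (.leaf ⟨6, 6, true, [12, 16, 8, 6, 18, 8, 18, 10], [18, 8, 19, 14, 8, 19, 0, 2, 12, 4, 6, 8, 10, 4, 6, 8, 10, 4, 6, 8, 4, 6, 4, 11, 6, 22]⟩)))))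
  (.node (nat_lit 472) (.node (nat_lit 468) (.node (nat_lit 466) (.node (nat_lit 465) (.leaf ⟨6, 6, true, [0, 14, 10, 8, 18, 8, 4, 14, 6], [15, 18, 8, 2, 18, 18, 6, 8, 10, 8, 10, 4, 6, 8, 4, 6, 4, 8, 10, 6, 8, 10, 6, 25]⟩)
  (.leaf ⟨6, 6, true, [18, 6], [19, 19, 0, 2, 11, 13, 8, 10, 6, 8, 11, 4, 6, 8, 4, 6, 4, 10, 13, 8, 11, 6, 8, 10, 12]⟩))
  (.node (nat_lit 467) (.leaf ⟨6, 6, true, [12, 18, 8, 0, 18, 10], [0, 14, 6, 8, 18, 18, 10, 13, 8, 11, 6, 8, 10, 4, 6, 8, 4, 6, 4, 10, 8, 10, 10, 6, 8, 11, 12]⟩)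
  (.leaf ⟨6, 6, true, [12, 19, 11, 8, 19, 2], [8, 2, 18, 18, 12, 10, 8, 10, 6, 8, 4, 6, 4, 8, 10, 8, 10, 6, 8, 10, 6, 20]⟩)))
  (.node (nat_lit 470) (.node (nat_lit 469) (.leaf ⟨6, 6, true, [0, 14, 10, 8, 6, 18, 8, 18], [19, 8, 15, 19, 10, 8, 19, 2, 12, 8, 11, 4, 6, 8, 4, 6, 4, 0, 12, 10, 8, 10, 6, 23]⟩)
  (.leaf ⟨6, 6, true, [18, 14, 8, 6, 18, 8, 19, 2], [0, 18, 18, 10, 8, 19, 2, 8, 10, 6, 8, 4, 6, 4, 11, 8, 10, 6, 8, 10, 12]⟩))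
  (.node (nat_lit 471) (.leaf ⟨6, 6, true, [8, 15, 13, 18, 8, 18, 8, 6], [8, 0, 19, 10, 8, 19, 2, 13, 6, 8, 11, 4, 6, 8, 10, 4, 6, 8, 4, 6, 4, 11, 6, 8, 11, 6, 8, 10, 22]⟩)
  (.leaf ⟨6, 6, true, [8, 0, 15, 12, 18, 8, 18], [18, 10, 8, 18, 18, 4, 6, 8, 11, 13, 4, 6, 8, 10, 4, 6, 8, 4, 6, 4, 8, 11, 8, 11, 6, 8, 10, 20]⟩))))
  (.node (nat_lit 476) (.node (nat_lit 474) (.node (nat_lit 473) (.leaf ⟨6, 6, true, [8, 0, 19, 6, 2], [6, 18, 8, 19, 8, 19, 2, 4, 6, 8, 10, 4, 6, 8, 4, 6, 4, 13, 8, 10, 6, 8, 11, 24]⟩)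
  (.leaf ⟨6, 6, true, [18, 18, 18, 10, 8, 6, 18, 8, 6], [19, 12, 0, 19, 8, 19, 2, 13, 10, 8, 11, 4, 6, 8, 4, 6, 4, 13, 8, 11, 6, 24]⟩))
  (.node (nat_lit 475) (.leaf ⟨6, 6, true, [0, 14, 6, 8, 18, 8, 18, 12, 10], [12, 0, 2, 18, 8, 0, 18, 18, 8, 10, 6, 4, 6, 8, 11, 4, 6, 8, 4, 6, 4, 6, 8, 10, 12]⟩)
  (.leaf ⟨6, 6, true, [0, 14, 4, 6, 8, 19, 8, 19, 2], [12, 10, 8, 19, 8, 19, 2, 12, 10, 6, 8, 4, 6, 4, 0, 11]⟩)))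
  (.node (nat_lit 478) (.node (nat_lit 477) (.leaf ⟨6, 6, true, [10, 8, 0, 19, 12, 19, 8, 6, 2], [19, 8, 15, 19, 10, 8, 19, 2, 12, 10, 8, 6, 4, 0, 8, 10, 8, 10, 6, 8, 10, 6, 23]⟩)
  (.leaf ⟨5, 6, true, [0, 19, 6, 8, 18, 8, 19, 8, 16], [8, 6, 18, 8, 19, 2, 4, 6, 8, 11, 4, 6, 8, 4, 6, 4, 0, 11, 13, 6, 8, 10, 24]⟩))
  (.node (nat_lit 479) (.leaf ⟨6, 5, true, [18, 14, 8, 18, 8, 18, 10], [18, 8, 6, 18, 8, 19, 0, 2, 10, 13, 6, 8, 10, 4, 6, 8, 4, 6, 4, 12, 11, 6, 8, 10, 6, 22]⟩)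
  (.leaf ⟨6, 6, true, [8, 0, 18, 8, 6], [0, 15, 8, 18, 18, 10, 6, 8, 10, 4, 6, 8, 10, 4, 6, 8, 4, 6, 4, 10, 8, 11, 6, 21]⟩))))))

noncomputable def f480 : FT := (.node (nat_lit 496) (.node (nat_lit 488) (.node (nat_lit 484) (.node (nat_lit 482) (.node (nat_lit 481) (.leaf ⟨6, 6, true, [10, 8, 18, 14, 8, 19, 19, 15], [18, 8, 15, 8, 19, 8, 19, 2, 8, 11, 6, 8, 4, 6, 4, 0, 11, 8, 10, 6, 8, 10, 20]⟩)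
  (.leaf ⟨6, 6, true, [0, 18, 12, 18, 8, 18, 8, 6], [8, 0, 14, 6, 8, 18, 18, 12, 10, 6, 8, 10, 4, 6, 8, 10, 4, 6, 8, 4, 6, 4, 10, 8, 11, 21]⟩))
  (.node (nat_lit 483) (.leaf ⟨6, 6, true, [19, 12, 19, 11, 8, 19, 8, 16], [8, 18, 8, 18, 8, 18, 18, 11, 4, 6, 8, 10, 4, 6, 8, 11, 4, 6, 8, 4, 6, 4, 10, 10, 6, 8, 10, 22]⟩)
  (.leaf ⟨6, 6, true, [15, 19, 8, 19, 8, 19, 14], [6, 18, 8, 19, 0, 2, 11, 8, 10, 4, 6, 8, 11, 4, 6, 8, 4, 6, 4, 11, 11, 6, 12]⟩)))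
  (.node (nat_lit 486) (.node (nat_lit 485) (.leaf ⟨6, 6, true, [8, 15, 18, 8, 18, 8, 18, 12, 10], [18, 14, 18, 18, 8, 19, 2, 13, 11, 4, 6, 8, 11, 4, 6, 8, 4, 6, 4, 10, 13, 8, 10, 6, 25]⟩)
  (.leaf ⟨6, 5, true, [14, 13, 8, 6, 18, 8, 19, 2], [12, 6, 18, 8, 18, 18, 8, 11, 6, 8, 11, 4, 6, 8, 11, 4, 6, 8, 4, 6, 4, 13, 6, 8, 10, 6, 21]⟩))
  (.node (nat_lit 487) (.leaf ⟨5, 6, true, [11, 11, 8, 19, 19, 14], [6, 18, 10, 8, 18, 18, 6, 4, 6, 8, 11, 4, 6, 8, 10, 4, 6, 8, 4, 6, 4, 13, 6, 8, 11, 6, 23]⟩)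
  (.leaf ⟨6, 6, true, [0, 19, 10, 8, 19, 8, 16, 10], [19, 10, 8, 19, 0, 2, 10, 10, 6, 8, 11, 4, 6, 8, 10, 4, 6, 8, 4, 6, 4, 11, 8, 10, 6, 8, 10, 6, 22]⟩))))
  (.node (nat_lit 492) (.node (nat_lit 490) (.node (nat_lit 489) (.leaf ⟨6, 6, true, [13, 6, 18, 8, 18, 10], [12, 10, 8, 19, 2, 8, 11, 13, 4, 6, 8, 10, 4, 6, 8, 4, 6, 4, 10, 6, 8, 11, 6, 8, 10, 6, 20]⟩)
  (.leaf ⟨6, 6, true, [15, 18, 18, 8, 18, 18, 14, 8, 16], [19, 19, 6, 8, 18, 18, 12, 11, 8, 6, 4, 0, 8, 11, 13, 6, 8, 11, 22]⟩))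
  (.node (nat_lit 491) (.leaf ⟨6, 6, true, [15, 11, 11, 8, 19, 8, 19, 2], [8, 11, 8, 0, 19, 8, 19, 2, 8, 4, 6, 4, 0, 10, 8, 10, 6, 8, 11, 25]⟩)
  (.leaf ⟨6, 6, true, [11, 8, 16, 8, 6, 18], [8, 15, 19, 8, 0, 19, 2, 11, 6, 8, 11, 4, 6, 8, 4, 6, 4, 0, 10, 6, 8, 11, 20]⟩)))
  (.node (nat_lit 494) (.node (nat_lit 493) (.leaf ⟨6, 6, true, [8, 0, 19, 6, 18, 10, 8, 6], [8, 15, 18, 8, 2, 18, 18, 8, 11, 13, 6, 8, 10, 4, 6, 8, 4, 6, 4, 13, 8, 10, 6, 24]⟩)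
  (.leaf ⟨5, 6, true, [18, 8, 18, 18, 10, 8, 6, 18], [18, 8, 15, 18, 8, 0, 18, 18, 12, 11, 4, 6, 8, 4, 6, 4, 0, 8, 10, 6, 8, 10, 6, 20]⟩))
  (.node (nat_lit 495) (.leaf ⟨6, 5, true, [2, 0, 18, 18, 12, 8, 6, 18], [6, 8, 6, 18, 8, 0, 18, 18, 8, 10, 8, 10, 4, 6, 8, 10, 4, 6, 8, 4, 6, 4, 0, 11, 13, 6, 8, 11, 21]⟩)
  (.leaf ⟨6, 6, true, [18, 12, 18, 8, 18], [12, 2, 18, 8, 0, 18, 18, 4, 6, 8, 11, 4, 6, 8, 4, 6, 4, 0, 6, 8, 11, 12]⟩)))))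
  (.node (nat_lit 504) (.node (nat_lit 500) (.node (nat_lit 498) (.node (nat_lit 497) (.leaf ⟨6, 6, true, [0, 18, 8, 18, 8, 6, 18, 10], [15, 19, 8, 6, 18, 8, 19, 2, 11, 8, 10, 4, 6, 8, 10, 4, 6, 8, 4, 6, 4, 0, 10, 6, 8, 11, 6, 8, 10, 6, 12]⟩)
  (.leaf ⟨5, 6, true, [13, 0, 15, 18, 8, 18, 8, 6, 18], [18, 11, 8, 19, 19, 2, 12, 10, 4, 6, 8, 10, 4, 6, 8, 10, 4, 6, 8, 4, 6, 4, 12, 8, 11, 6, 23]⟩))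
  (.node (nat_lit 499) (.leaf ⟨6, 5, true, [19, 13, 0, 19, 8, 19, 8, 16, 10], [6, 18, 14, 8, 18, 18, 11, 6, 4, 6, 8, 11, 6, 8, 10, 4, 6, 8, 4, 6, 4, 0, 10, 13, 8, 10, 13]⟩)
  (.leaf ⟨6, 6, true, [15, 8, 11, 8, 19, 19, 2], [8, 18, 8, 19, 0, 2, 8, 4, 6, 4, 8, 10, 6, 8, 10, 23]⟩)))
  (.node (nat_lit 502) (.node (nat_lit 501) (.leaf ⟨6, 6, true, [16, 8, 19, 13, 16, 8, 19, 8, 16], [19, 16, 8, 19, 19, 2, 11, 13, 6, 8, 10, 4, 6, 8, 4, 6, 4, 13, 10, 8, 11, 6, 8, 10, 6]⟩)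
  (.leaf ⟨6, 6, true, [6, 0, 18, 13, 8, 18, 8, 18, 10], [19, 16, 8, 19, 6, 18, 8, 19, 2, 10, 13, 8, 11, 6, 8, 4, 6, 4, 11, 8, 10, 6, 8, 10, 6, 25]⟩))
  (.node (nat_lit 503) (.leaf ⟨6, 6, true, [0, 19, 8, 16, 8, 6, 18, 10], [14, 8, 19, 19, 2, 4, 6, 8, 11, 4, 6, 8, 11, 4, 6, 8, 4, 6, 4, 12, 10, 21]⟩)
  (.leaf ⟨6, 6, true, [18, 18, 8, 6, 18, 8, 18, 10], [12, 14, 8, 19, 8, 19, 2, 10, 8, 11, 11, 6, 8, 11, 4, 6, 8, 4, 6, 4, 8, 10, 8, 10, 20]⟩))))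
  (.node (nat_lit 508) (.node (nat_lit 506) (.node (nat_lit 505) (.leaf ⟨6, 6, true, [8, 19, 10, 6, 8, 6, 18], [14, 18, 18, 8, 19, 2, 12, 8, 10, 6, 8, 11, 4, 6, 8, 4, 6, 4, 12, 8, 10, 13]⟩)
  (.leaf ⟨6, 6, true, [8, 15, 19, 6, 8, 19, 8, 6, 2], [19, 12, 8, 16, 8, 19, 19, 2, 11, 6, 4, 6, 8, 10, 4, 6, 8, 11, 4, 6, 8, 4, 6, 4, 13, 6, 8, 10, 6, 25]⟩))
  (.node (nat_lit 507) (.leaf ⟨6, 6, true, [0, 18, 18, 8, 19, 12, 16], [14, 0, 19, 11, 8, 19, 2, 13, 8, 10, 6, 8, 4, 6, 4, 0, 11, 12, 6, 8, 11, 13]⟩)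
  (.leaf ⟨6, 6, true, [18, 12, 18, 8, 19, 8, 14, 6], [19, 13, 16, 8, 19, 8, 19, 2, 12, 10, 8, 4, 6, 4, 0, 13, 10, 8, 11, 25]⟩)))
  (.node (nat_lit 510) (.node (nat_lit 509) (.leaf ⟨6, 6, true, [13, 16, 8, 19, 13, 8, 19, 10, 8, 16], [15, 8, 0, 19, 8, 19, 2, 11, 12, 6, 8, 11, 4, 6, 8, 4, 6, 4, 8, 11, 13, 6, 8, 11, 21]⟩)
  (.leaf ⟨6, 6, true, [12, 19, 8, 19, 19, 15], [8, 18, 8, 19, 0, 2, 6, 4, 6, 8, 11, 6, 8, 10, 4, 6, 8, 4, 6, 4, 11, 11, 8, 11, 6, 8, 11, 24]⟩))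
  (.node (nat_lit 511) (.leaf ⟨6, 6, true, [19, 6, 8, 19, 6, 8, 19, 14, 6], [6, 18, 10, 8, 18, 18, 11, 6, 8, 10, 13, 4, 6, 8, 10, 4, 6, 8, 4, 6, 4, 13, 8, 11, 21]⟩)
  (.leaf ⟨6, 6, true, [14, 8, 18, 12, 10, 8, 18, 10], [19, 16, 8, 19, 19, 2, 10, 10, 4, 6, 8, 4, 6, 4, 8, 10, 13, 6, 8, 10, 21]⟩))))))

noncomputable def f512 : FT := (.node (nat_lit 528) (.node (nat_lit 520) (.node (nat_lit 516) (.node (nat_lit 514) (.node (nat_lit 513) (.leaf ⟨6, 6, true, [10, 12, 8, 19, 6, 8, 19, 16], [13, 18, 8, 18, 8, 0, 18, 18, 11, 6, 8, 10, 6, 4, 6, 8, 11, 4, 6, 8, 4, 6, 4, 11, 8, 11, 6, 8, 10]⟩)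
  (.leaf ⟨6, 6, true, [14, 8, 6, 18, 13, 8, 19, 8, 16, 10], [18, 8, 2, 19, 8, 19, 2, 11, 13, 4, 6, 8, 11, 4, 6, 8, 10, 4, 6, 8, 4, 6, 4, 10, 13, 8, 11, 6, 25]⟩))
  (.node (nat_lit 515) (.leaf ⟨6, 6, true, [6, 8, 14, 6, 18, 8, 18], [11, 8, 18, 8, 0, 18, 18, 12, 11, 6, 8, 10, 4, 6, 8, 4, 6, 4, 10, 8, 10, 6, 8, 10, 24]⟩)
  (.leaf ⟨5, 6, true, [15, 0, 15, 18, 8, 18, 8, 18], [8, 10, 6, 8, 19, 19, 2, 8, 10, 6, 8, 11, 4, 6, 8, 4, 6, 4, 12, 6, 8, 10, 25]⟩)))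
  (.node (nat_lit 518) (.node (nat_lit 517) (.leaf ⟨6, 5, true, [18, 10, 8, 19, 10, 8, 16], [8, 18, 8, 18, 8, 19, 2, 4, 6, 8, 11, 6, 8, 10, 4, 6, 8, 4, 6, 4, 11, 11, 8, 10, 6, 8, 11, 13]⟩)
  (.leaf ⟨6, 5, true, [19, 12, 19, 8, 14, 6], [15, 18, 8, 19, 2, 8, 10, 4, 6, 8, 11, 4, 6, 8, 4, 6, 4, 0, 11, 12, 6, 8, 11, 6, 24]⟩))
  (.node (nat_lit 519) (.leaf ⟨5, 6, true, [18, 8, 16, 8, 19, 19, 14], [18, 12, 8, 19, 8, 0, 19, 2, 8, 11, 13, 4, 6, 8, 11, 4, 6, 8, 4, 6, 4, 0, 13, 11, 8, 11, 20]⟩)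
  (.leaf ⟨6, 6, true, [11, 8, 19, 19, 16, 8, 19, 14, 6], [19, 2, 12, 8, 10, 4, 6, 8, 4, 6, 4, 0, 12, 11, 23]⟩))))
  (.node (nat_lit 524) (.node (nat_lit 522) (.node (nat_lit 521) (.leaf ⟨6, 6, true, [12, 8, 18, 8, 18, 8, 6], [14, 8, 18, 18, 10, 8, 19, 2, 11, 13, 4, 6, 8, 11, 4, 6, 8, 4, 6, 4, 0, 13, 10, 8, 11, 6, 8, 11, 12]⟩)
  (.leaf ⟨6, 6, true, [0, 18, 13, 8, 18, 8, 18], [12, 18, 8, 0, 18, 18, 11, 11, 8, 11, 4, 6, 8, 4, 6, 4, 13, 11, 8, 10, 6, 8, 11, 20]⟩))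
  (.node (nat_lit 523) (.leaf ⟨6, 6, true, [19, 19, 6, 8, 0, 19, 8, 6, 2], [13, 16, 8, 19, 6, 18, 8, 19, 2, 10, 4, 6, 8, 11, 4, 6, 8, 11, 4, 6, 8, 4, 6, 4, 13, 11, 8, 11, 21]⟩)
  (.leaf ⟨6, 6, true, [12, 0, 19, 11, 8, 19, 8, 6, 2], [19, 8, 2, 19, 8, 19, 2, 4, 12, 8, 10, 6, 8, 11, 25]⟩)))
  (.node (nat_lit 526) (.node (nat_lit 525) (.leaf ⟨6, 6, true, [18, 8, 14, 18, 18, 8, 6, 18], [8, 16, 8, 19, 19, 2, 11, 11, 8, 11, 6, 8, 4, 6, 4, 10, 8, 11, 13, 6, 8, 10, 13]⟩)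
  (.leaf ⟨6, 6, true, [8, 18, 4, 6, 8, 18, 8, 18, 11], [19, 12, 8, 16, 8, 19, 19, 2, 4, 6, 8, 10, 4, 6, 8, 4, 6, 4, 0, 11, 13, 6, 8, 11, 20]⟩))
  (.node (nat_lit 527) (.leaf ⟨6, 6, true, [8, 19, 19, 16, 8, 19, 14, 6], [19, 12, 16, 8, 19, 19, 2, 8, 10, 4, 6, 8, 4, 6, 4, 11, 6, 8, 10, 24]⟩)
  (.leaf ⟨6, 6, true, [0, 19, 16, 13, 8, 19, 8, 14, 6], [8, 0, 18, 8, 18, 18, 4, 6, 8, 10, 6, 8, 11, 4, 6, 8, 4, 6, 4, 0, 8, 10, 6, 8, 10, 6, 21]⟩)))))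
  (.node (nat_lit 536) (.node (nat_lit 532) (.node (nat_lit 530) (.node (nat_lit 529) (.leaf ⟨6, 6, true, [10, 6, 8, 19, 8, 19, 12, 8, 16], [8, 0, 18, 18, 18, 4, 6, 8, 10, 12, 4, 6, 8, 10, 4, 6, 8, 4, 6, 4, 10, 10, 6, 8, 10, 12]⟩)
  (.leaf ⟨6, 6, true, [8, 19, 15, 19, 13, 8, 19, 8, 16, 10], [8, 19, 8, 19, 0, 2, 10, 4, 6, 8, 11, 6, 8, 10, 4, 6, 8, 4, 6, 4, 10, 8, 11, 6, 8, 11, 23]⟩))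
  (.node (nat_lit 531) (.leaf ⟨6, 6, true, [19, 6, 8, 6, 18, 8, 19, 2], [12, 19, 8, 19, 8, 0, 19, 2, 4, 6, 8, 11, 8, 11, 4, 6, 8, 4, 6, 4, 8, 11, 13, 6, 8, 10, 6]⟩)
  (.leaf ⟨6, 6, true, [19, 13, 19, 8, 16], [8, 19, 19, 2, 11, 8, 10, 4, 6, 8, 4, 6, 4, 8, 10, 6, 21]⟩)))
  (.node (nat_lit 534) (.node (nat_lit 533) (.leaf ⟨6, 6, true, [19, 19, 13, 16, 8, 6, 18, 8, 6], [6, 18, 8, 19, 10, 8, 19, 2, 12, 10, 8, 6, 4, 11, 11, 6, 22]⟩)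
  (.leaf ⟨6, 6, true, [6, 8, 6, 18, 8, 18], [13, 19, 8, 19, 8, 19, 2, 12, 10, 8, 10, 6, 8, 4, 6, 4, 0, 11, 11, 8, 11]⟩))
  (.node (nat_lit 535) (.leaf ⟨5, 6, true, [6, 8, 0, 19, 13, 19, 8, 16], [18, 8, 4, 6, 18, 8, 19, 2, 11, 8, 11, 4, 6, 8, 11, 4, 6, 8, 4, 6, 4, 11, 8, 11, 12, 6, 8, 11, 6, 24]⟩)
  (.leaf ⟨6, 5, true, [14, 8, 18, 8, 18, 10, 8, 18], [18, 8, 0, 18, 8, 18, 18, 8, 11, 12, 6, 8, 11, 4, 6, 8, 4, 6, 4, 8, 10, 6, 8, 10]⟩))))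
  (.node (nat_lit 540) (.node (nat_lit 538) (.node (nat_lit 537) (.leaf ⟨6, 6, true, [2, 18, 8, 18, 8, 19, 8, 6, 2], [8, 0, 19, 10, 8, 19, 2, 10, 6, 8, 11, 6, 8, 10, 4, 6, 8, 4, 6, 4, 0, 8, 11, 8, 11, 20]⟩)
  (.leaf ⟨6, 6, true, [13, 14, 8, 18, 8, 0, 19, 16], [8, 15, 18, 10, 8, 18, 18, 13, 8, 10, 4, 6, 8, 11, 4, 6, 8, 4, 6, 4, 13, 6, 8, 11, 6, 12]⟩))
  (.node (nat_lit 539) (.leaf ⟨6, 6, true, [0, 19, 12, 10, 8, 19, 8, 16, 10], [16, 8, 19, 8, 19, 8, 19, 2, 12, 10, 8, 6, 4, 11, 12, 8, 10, 6, 8, 11, 12]⟩)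
  (.leaf ⟨6, 6, true, [15, 12, 18, 8, 18, 8, 4, 14, 6], [6, 8, 4, 6, 18, 8, 19, 2, 8, 11, 12, 6, 8, 11, 4, 6, 8, 4, 6, 4, 0, 8, 11, 8, 11, 6, 8, 10, 24]⟩)))
  (.node (nat_lit 542) (.node (nat_lit 541) (.leaf ⟨6, 6, true, [8, 18, 18, 8, 19, 8, 16], [12, 2, 18, 8, 18, 18, 10, 10, 6, 8, 4, 6, 4, 0, 13, 11, 6, 8, 10, 21]⟩)
  (.leaf ⟨6, 6, true, [8, 18, 8, 14, 8, 19, 19, 14, 8, 6], [18, 13, 18, 8, 19, 8, 19, 2, 11, 8, 10, 6, 8, 4, 6, 4, 10, 13, 8, 11, 23]⟩))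
  (.node (nat_lit 543) (.leaf ⟨6, 6, true, [0, 14, 18, 8, 19, 8, 16], [12, 18, 8, 0, 19, 2, 8, 10, 8, 10, 4, 6, 8, 10, 4, 6, 8, 4, 6, 4, 0, 13, 10, 6, 8, 11, 23]⟩)
  (.leaf ⟨6, 6, true, [19, 19, 13, 19, 8, 16], [0, 18, 18, 8, 19, 2, 12, 11, 6, 8, 10, 4, 6, 8, 10, 4, 6, 8, 4, 6, 4, 13, 10, 8, 11, 6, 8, 10, 6, 22]⟩))))))

noncomputable def f544 : FT := (.node (nat_lit 560) (.node (nat_lit 552) (.node (nat_lit 548) (.node (nat_lit 546) (.node (nat_lit 545) (.leaf ⟨5, 6, true, [10, 10, 8, 18, 0, 18], [19, 8, 0, 19, 2, 11, 8, 11, 6, 4, 6, 8, 10, 4, 6, 8, 4, 6, 4, 12, 10, 8, 10]⟩)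
  (.leaf ⟨6, 5, true, [18, 18, 8, 0, 18, 8, 18, 12, 10], [6, 0, 18, 10, 8, 18, 18, 6, 8, 10, 8, 10, 4, 6, 8, 10, 4, 6, 8, 4, 6, 4, 8, 10, 8, 10, 24]⟩))
  (.node (nat_lit 547) (.leaf ⟨5, 6, true, [19, 8, 19, 19, 15, 8, 10, 6], [8, 15, 18, 8, 18, 18, 11, 8, 11, 6, 8, 10, 4, 6, 8, 4, 6, 4, 0, 8, 10, 8, 10, 23]⟩)
  (.leaf ⟨6, 5, true, [15, 0, 19, 10, 6, 8, 19, 8, 16], [6, 18, 10, 8, 18, 18, 8, 6, 4, 0, 11, 8, 10, 6, 8, 11, 24]⟩)))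
  (.node (nat_lit 550) (.node (nat_lit 549) (.leaf ⟨6, 6, true, [13, 0, 15, 18, 8, 0, 18], [0, 2, 18, 8, 0, 18, 18, 4, 6, 8, 10, 4, 6, 8, 11, 4, 6, 8, 4, 6, 4, 0, 10, 8, 11, 13]⟩)
  (.leaf ⟨6, 6, true, [19, 16, 8, 15, 18, 8, 18, 10, 10], [12, 19, 8, 19, 0, 2, 6, 8, 10, 8, 10, 4, 6, 8, 10, 4, 6, 8, 4, 6, 4, 12, 8, 11, 25]⟩))
  (.node (nat_lit 551) (.leaf ⟨6, 6, true, [16, 8, 14, 6, 8, 18, 8, 19, 6, 2], [10, 8, 19, 14, 8, 19, 0, 2, 8, 11, 8, 11, 6, 8, 4, 6, 4, 11, 8, 11, 12, 6, 8, 11, 23]⟩)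
  (.leaf ⟨6, 6, true, [11, 8, 19, 8, 19, 8, 14, 6], [8, 2, 19, 8, 19, 2, 12, 10, 8, 10, 4, 6, 8, 4, 6, 4, 12, 6, 8, 11, 6, 22]⟩))))
  (.node (nat_lit 556) (.node (nat_lit 554) (.node (nat_lit 553) (.leaf ⟨6, 6, true, [15, 8, 18, 8, 19, 19, 14, 8, 6], [12, 11, 8, 19, 0, 2, 12, 11, 6, 8, 10, 4, 6, 8, 4, 6, 4, 12, 10, 6, 8, 10, 12]⟩)
  (.leaf ⟨6, 6, true, [12, 19, 8, 19, 19, 15, 8, 10, 6], [10, 8, 19, 8, 19, 8, 19, 2, 12, 6, 8, 10, 4, 6, 8, 4, 6, 4, 0, 10, 13, 8, 11, 13]⟩))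
  (.node (nat_lit 555) (.leaf ⟨6, 4, true, [10, 10, 8, 19, 8, 19, 8, 6, 2], [12, 6, 0, 18, 8, 18, 18, 13, 10, 8, 11, 4, 6, 8, 10, 4, 6, 8, 4, 6, 4, 0, 8, 11, 13, 6, 8, 10, 13]⟩)
  (.leaf ⟨4, 6, true, [11, 13, 8, 19, 8, 19, 14], [12, 18, 8, 2, 18, 18, 11, 11, 8, 11, 4, 6, 8, 11, 4, 6, 8, 4, 6, 4, 11, 12, 6, 8, 11, 6, 22]⟩)))
  (.node (nat_lit 558) (.node (nat_lit 557) (.leaf ⟨6, 6, true, [13, 19, 8, 10, 8, 19, 2], [8, 2, 18, 18, 8, 10, 10, 4, 6, 8, 10, 4, 6, 8, 4, 6, 4, 11, 13, 8, 10, 12]⟩)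
  (.leaf ⟨6, 6, true, [19, 8, 11, 8, 19, 2], [8, 2, 18, 18, 11, 11, 4, 6, 8, 4, 6, 4, 11, 12, 6, 8, 11, 21]⟩))
  (.node (nat_lit 559) (.leaf ⟨6, 6, true, [19, 12, 19, 2], [8, 0, 2, 18, 18, 8, 10, 8, 10, 6, 8, 4, 6, 4, 11, 6, 8, 11, 6, 8, 10, 20]⟩)
  (.leaf ⟨6, 6, true, [19, 19, 14], [8, 0, 2, 18, 18, 13, 11, 6, 8, 11, 4, 6, 8, 4, 6, 4, 8, 11, 13, 6, 8, 10, 6, 12]⟩)))))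
  (.node (nat_lit 568) (.node (nat_lit 564) (.node (nat_lit 562) (.node (nat_lit 561) (.leaf ⟨6, 6, true, [19, 11, 8, 19, 2], [8, 2, 18, 18, 11, 8, 10, 4, 6, 8, 10, 4, 6, 8, 4, 6, 4, 8, 10, 8, 10, 6, 8, 10, 6, 13]⟩)
  (.leaf ⟨6, 6, true, [12, 19, 8, 19, 14, 10], [8, 2, 18, 18, 10, 6, 8, 10, 6, 8, 4, 6, 4, 8, 10, 13, 6, 8, 10, 22]⟩))
  (.node (nat_lit 563) (.leaf ⟨6, 4, true, [13, 0, 18, 8, 18, 8, 19, 19, 2], [18, 12, 2, 18, 8, 18, 18, 8, 11, 6, 4, 6, 8, 11, 4, 6, 8, 4, 6, 4, 13, 8, 10, 6, 8, 11, 20]⟩)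
  (.leaf ⟨4, 6, true, [14, 10, 8, 16, 8, 19, 19, 2], [14, 8, 0, 18, 10, 8, 18, 18, 12, 11, 8, 10, 4, 6, 8, 4, 6, 4, 11, 12, 6, 8, 11, 24]⟩)))
  (.node (nat_lit 566) (.node (nat_lit 565) (.leaf ⟨6, 4, true, [11, 8, 16, 8, 19, 12, 16], [8, 19, 0, 2, 8, 10, 8, 6, 4, 0, 8, 11, 6, 8, 11, 13]⟩)
  (.leaf ⟨4, 6, true, [18, 8, 6, 0, 18, 10, 8, 6], [10, 10, 8, 18, 18, 6, 8, 4, 6, 4, 10, 13, 6, 8, 10, 13]⟩))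
  (.node (nat_lit 567) (.leaf ⟨6, 6, true, [19, 12, 19, 8, 19, 15], [2, 18, 18, 12, 8, 11, 4, 6, 8, 10, 4, 6, 8, 4, 6, 4, 0, 12, 6, 8, 10, 25]⟩)
  (.leaf ⟨6, 6, true, [19, 0, 16, 10, 8, 6], [18, 18, 8, 19, 0, 2, 4, 10, 8, 11, 6, 8, 10, 24]⟩))))
  (.node (nat_lit 572) (.node (nat_lit 570) (.node (nat_lit 569) (.leaf ⟨5, 6, true, [0, 15, 13, 8, 18, 8, 19, 6, 2], [19, 0, 2, 11, 11, 8, 10, 6, 8, 11, 4, 6, 8, 4, 6, 4, 13, 11, 8, 10, 6, 8, 11, 20]⟩)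
  (.leaf ⟨6, 5, true, [10, 12, 18, 8, 0, 18], [18, 18, 18, 6, 8, 10, 4, 6, 8, 4, 6, 4, 8, 10, 6, 12]⟩))
  (.node (nat_lit 571) (.leaf ⟨6, 5, true, [14, 12, 8, 19, 6, 8, 6, 18, 10], [16, 8, 19, 6, 18, 8, 19, 2, 4, 6, 8, 10, 10, 4, 6, 8, 11, 4, 6, 8, 4, 6, 4, 8, 10, 8, 10, 24]⟩)
  (.leaf ⟨5, 6, true, [8, 0, 14, 8, 18, 18, 8, 6], [19, 15, 19, 8, 6, 18, 8, 19, 2, 13, 10, 8, 11, 6, 8, 10, 4, 6, 8, 4, 6, 4, 11, 24]⟩)))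
  (.node (nat_lit 574) (.node (nat_lit 573) (.leaf ⟨6, 6, true, [8, 15, 18, 10, 8, 18], [19, 0, 2, 6, 8, 10, 6, 8, 11, 4, 6, 8, 11, 4, 6, 8, 4, 6, 4, 11, 13, 8, 10, 23]⟩)
  (.leaf ⟨6, 6, true, [10, 12, 19, 8, 19, 2], [8, 19, 15, 19, 8, 19, 2, 8, 10, 8, 10, 4, 6, 8, 4, 6, 4, 8, 11, 6, 8, 11, 6, 23]⟩))
  (.node (nat_lit 575) (.leaf ⟨4, 6, true, [19, 0, 14, 8, 10, 6], [18, 0, 18, 12, 8, 11, 6, 8, 10, 4, 6, 8, 4, 6, 4, 8, 10, 10, 6, 8, 11, 20]⟩)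
  (.leaf ⟨6, 4, true, [18, 0, 18, 10], [19, 0, 2, 11, 4, 6, 8, 10, 4, 6, 8, 10, 4, 6, 8, 4, 6, 4, 10, 8, 11, 6, 25]⟩))))))

noncomputable def f576 : FT := (.node (nat_lit 592) (.node (nat_lit 584) (.node (nat_lit 580) (.node (nat_lit 578) (.node (nat_lit 577) (.leaf ⟨6, 6, true, [11, 8, 19, 6, 8, 19, 14, 6], [18, 18, 10, 8, 19, 0, 2, 8, 11, 13, 6, 8, 11, 4, 6, 8, 4, 6, 4, 12, 11, 8, 10, 21]⟩)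
  (.leaf ⟨6, 6, true, [15, 19, 19, 13, 8, 19, 8, 14, 6], [18, 18, 10, 8, 19, 0, 2, 8, 10, 4, 6, 8, 10, 4, 6, 8, 4, 6, 4, 6, 8, 11, 24]⟩))
  (.node (nat_lit 579) (.leaf ⟨6, 6, true, [0, 19, 15, 19, 13, 8, 19, 8, 16], [18, 12, 2, 18, 8, 18, 18, 6, 8, 11, 4, 6, 8, 10, 4, 6, 8, 4, 6, 4, 0, 8, 10, 6, 8, 10, 6, 12]⟩)
  (.leaf ⟨6, 6, true, [8, 18, 10, 10, 8, 0, 18], [19, 0, 19, 12, 10, 8, 19, 2, 10, 4, 6, 8, 11, 6, 4, 6, 8, 10, 4, 6, 8, 4, 6, 4, 12, 10, 8, 10, 6, 12]⟩)))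
  (.node (nat_lit 582) (.node (nat_lit 581) (.leaf ⟨6, 6, true, [8, 18, 2, 18, 8, 19, 10, 8, 16], [6, 18, 18, 8, 19, 2, 12, 4, 6, 8, 11, 4, 6, 8, 10, 4, 6, 8, 4, 6, 4, 8, 10, 10, 6, 8, 11, 13]⟩)
  (.leaf ⟨6, 6, true, [6, 8, 19, 0, 14, 6], [6, 8, 0, 19, 8, 19, 2, 4, 6, 8, 11, 13, 4, 6, 8, 11, 4, 6, 8, 4, 6, 4, 8, 11, 6, 8, 10, 6, 25]⟩))
  (.node (nat_lit 583) (.leaf ⟨6, 5, true, [19, 14, 6, 8, 19, 19, 15], [18, 8, 18, 8, 2, 18, 18, 6, 8, 11, 8, 11, 4, 6, 8, 4, 6, 4, 12, 8, 10, 24]⟩)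
  (.leaf ⟨5, 6, true, [12, 10, 8, 19, 14, 6], [19, 12, 0, 19, 8, 19, 2, 8, 11, 4, 6, 8, 4, 6, 4, 6, 8, 10, 8, 10, 20]⟩))))
  (.node (nat_lit 588) (.node (nat_lit 586) (.node (nat_lit 585) (.leaf ⟨6, 5, true, [8, 18, 18, 12, 8, 19, 8, 14, 6], [18, 12, 8, 19, 8, 19, 2, 10, 10, 4, 6, 8, 4, 6, 4, 0, 10, 12, 8, 11, 13]⟩)
  (.leaf ⟨5, 6, true, [12, 14, 8, 19, 0, 14, 6], [13, 18, 8, 19, 6, 8, 18, 18, 13, 10, 6, 8, 11, 4, 6, 8, 4, 6, 4, 8, 10, 12, 6, 8, 10, 24]⟩))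
  (.node (nat_lit 587) (.leaf ⟨6, 6, true, [8, 16, 10, 8, 19, 19, 14], [18, 8, 0, 19, 2, 12, 4, 6, 8, 10, 4, 6, 8, 4, 6, 4, 12, 8, 11, 6]⟩)
  (.leaf ⟨6, 6, true, [8, 18, 8, 18, 18, 10, 6], [12, 11, 8, 19, 8, 19, 2, 8, 10, 8, 10, 6, 8, 4, 6, 4, 6, 8, 11, 6, 25]⟩)))
  (.node (nat_lit 590) (.node (nat_lit 589) (.leaf ⟨6, 6, true, [0, 18, 12, 8, 6, 18, 8, 19, 16], [8, 0, 2, 18, 18, 11, 6, 8, 11, 13, 4, 6, 8, 10, 4, 6, 8, 4, 6, 4, 10, 6, 8, 10, 6, 8, 11, 13]⟩)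
  (.leaf ⟨6, 6, true, [8, 18, 13, 18, 8, 19, 14], [18, 8, 15, 0, 19, 8, 19, 2, 11, 12, 8, 10, 6, 8, 11, 4, 6, 8, 4, 6, 4, 13, 11, 6, 8, 11, 23]⟩))
  (.node (nat_lit 591) (.leaf ⟨6, 6, true, [19, 8, 19, 12, 0, 14, 8, 6], [15, 19, 19, 8, 19, 2, 12, 11, 4, 6, 8, 10, 4, 6, 8, 4, 6, 4, 6, 8, 11, 13]⟩)
  (.leaf ⟨6, 6, true, [6, 18, 8, 0, 19, 8, 14, 6], [18, 8, 19, 19, 19, 8, 19, 2, 10, 6, 8, 4, 6, 4, 0, 10, 8, 10, 6, 8, 10, 6, 13]⟩)))))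
  (.node (nat_lit 600) (.node (nat_lit 596) (.node (nat_lit 594) (.node (nat_lit 593) (.leaf ⟨6, 6, true, [12, 19, 8, 19, 15], [8, 19, 15, 19, 8, 19, 2, 11, 13, 6, 8, 11, 4, 6, 8, 10, 4, 6, 8, 4, 6, 4, 10, 8, 10, 6, 8, 11]⟩)
  (.leaf ⟨6, 6, true, [14, 18, 8, 19, 14, 6], [18, 0, 18, 11, 8, 10, 4, 6, 8, 11, 4, 6, 8, 4, 6, 4, 6, 8, 10, 6, 8, 11, 12]⟩))
  (.node (nat_lit 595) (.leaf ⟨6, 6, true, [0, 14, 6, 8, 18, 12, 8, 18], [19, 16, 8, 2, 19, 8, 19, 2, 13, 11, 8, 10, 6, 8, 11, 4, 6, 8, 4, 6, 4, 11, 11, 8, 10, 6, 8, 11, 24]⟩)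
  (.leaf ⟨6, 6, true, [15, 19, 19, 8, 19, 8, 16], [6, 8, 4, 6, 18, 8, 19, 2, 11, 8, 11, 12, 6, 8, 11, 4, 6, 8, 4, 6, 4, 0, 11, 6, 8, 11, 23]⟩)))
  (.node (nat_lit 598) (.node (nat_lit 597) (.leaf ⟨6, 3, true, [19, 19, 13, 11, 8, 19, 2], [18, 8, 19, 6, 8, 18, 18, 10, 13, 8, 10, 4, 6, 8, 4, 6, 4, 0, 11, 8, 10, 6]⟩)
  (.leaf ⟨3, 6, true, [18, 2, 18, 8, 18, 8, 18, 12, 10], [0, 18, 10, 10, 8, 18, 18, 6, 8, 10, 8, 10, 4, 6, 8, 10, 4, 6, 8, 4, 6, 4, 0, 8, 11, 8, 11, 6, 8, 11, 25]⟩))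
  (.node (nat_lit 599) (.leaf ⟨6, 6, true, [13, 19, 10, 8, 19, 2], [12, 19, 8, 6, 18, 8, 19, 2, 13, 10, 8, 10, 6, 8, 4, 6, 4, 10, 8, 11, 6, 8, 11, 20]⟩)
  (.leaf ⟨6, 6, true, [12, 15], [19, 19, 0, 2, 12, 4, 6, 8, 11, 4, 6, 8, 10, 4, 6, 8, 4, 6, 4, 6, 8, 10, 6, 25]⟩))))
  (.node (nat_lit 604) (.node (nat_lit 602) (.node (nat_lit 601) (.leaf ⟨6, 6, true, [11, 8, 19, 6, 8, 19, 8, 16], [2, 19, 8, 6, 18, 8, 19, 2, 10, 10, 6, 8, 11, 4, 6, 8, 10, 4, 6, 8, 4, 6, 4, 0, 8, 11, 8, 11, 6, 8, 11, 21]⟩)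
  (.leaf ⟨6, 6, true, [16, 8, 6, 18, 8, 16, 8, 19, 16], [13, 16, 8, 19, 6, 18, 8, 19, 2, 11, 6, 8, 10, 10, 4, 6, 8, 11, 4, 6, 8, 4, 6, 4, 13, 6, 8, 10, 23]⟩))
  (.node (nat_lit 603) (.leaf ⟨6, 3, true, [8, 19, 19, 8, 10, 8, 19, 8, 16], [18, 8, 15, 8, 19, 8, 19, 2, 8, 10, 10, 4, 6, 8, 11, 4, 6, 8, 4, 6, 4, 12, 10, 13]⟩)
  (.leaf ⟨3, 6, true, [12, 19, 8, 19, 8, 19, 8, 16, 10], [14, 8, 0, 18, 8, 18, 18, 4, 6, 8, 11, 4, 6, 8, 11, 4, 6, 8, 4, 6, 4, 8, 10, 8, 10, 6, 8, 10, 22]⟩)))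
  (.node (nat_lit 606) (.node (nat_lit 605) (.leaf ⟨6, 6, true, [11, 8, 16, 8, 6, 18, 10], [19, 0, 19, 12, 10, 8, 19, 2, 12, 11, 8, 6, 4, 13, 6, 8, 11, 6, 13]⟩)
  (.leaf ⟨6, 6, true, [0, 18, 10, 12, 18, 8, 19, 8, 16], [13, 19, 8, 16, 8, 19, 19, 2, 10, 4, 6, 8, 11, 4, 6, 8, 4, 6, 4, 0, 13, 10, 6, 8, 11, 21]⟩))
  (.node (nat_lit 607) (.leaf ⟨6, 6, true, [15, 8, 18, 8, 19, 19, 14, 10], [15, 0, 19, 8, 19, 2, 11, 13, 6, 8, 11, 4, 6, 8, 4, 6, 4, 13, 8, 11, 6, 8, 10, 13]⟩)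
  (.leaf ⟨6, 6, true, [15, 19, 19, 8, 19, 14, 10, 8, 6], [8, 6, 18, 10, 8, 19, 2, 11, 6, 8, 11, 6, 8, 10, 4, 6, 8, 4, 6, 4, 11, 8, 10, 6, 21]⟩))))))

noncomputable def f608 : FT := (.node (nat_lit 624) (.node (nat_lit 616) (.node (nat_lit 612) (.node (nat_lit 610) (.node (nat_lit 609) (.leaf ⟨6, 4, true, [8, 0, 15, 18, 18, 8, 10, 6], [8, 11, 8, 11, 6, 8, 10, 4, 6, 8, 4, 6, 4, 8, 11, 11, 6, 8, 11, 21]⟩)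
  (.leaf ⟨4, 6, true, [13, 8, 11, 8, 6], [19, 8, 19, 6, 8, 18, 18, 10, 10, 6, 8, 10, 4, 6, 8, 4, 6, 4, 11, 8, 11, 12, 6, 8, 11, 12]⟩))
  (.node (nat_lit 611) (.leaf ⟨6, 6, true, [19, 10, 10, 8, 19, 8, 19, 15], [19, 8, 16, 8, 19, 19, 2, 4, 6, 8, 10, 13, 4, 6, 8, 10, 4, 6, 8, 4, 6, 4, 10, 8, 11, 6, 22]⟩)
  (.leaf ⟨6, 6, true, [18, 8, 2, 18, 8, 19, 19, 2], [14, 0, 18, 18, 8, 19, 2, 10, 8, 10, 10, 4, 6, 8, 11, 4, 6, 8, 4, 6, 4, 13, 10, 6, 8, 11, 25]⟩)))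
  (.node (nat_lit 614) (.node (nat_lit 613) (.leaf ⟨6, 5, true, [6, 8, 0, 15, 18, 8, 18, 8, 6], [19, 2, 19, 8, 19, 2, 13, 8, 11, 6, 8, 10, 4, 6, 8, 10, 4, 6, 8, 4, 6, 4, 11, 6, 8, 10, 6, 20]⟩)
  (.leaf ⟨5, 6, true, [12, 14, 8, 19, 8, 19, 15], [18, 8, 0, 14, 6, 8, 18, 18, 6, 4, 0, 12, 11, 6, 24]⟩))
  (.node (nat_lit 615) (.leaf ⟨6, 6, true, [18, 14, 8, 18, 8, 4, 14, 6], [8, 18, 18, 18, 6, 8, 11, 8, 11, 4, 6, 8, 4, 6, 4, 0, 6, 22]⟩)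
  (.leaf ⟨6, 6, true, [15, 12, 8, 18, 8, 6, 18], [15, 8, 0, 15, 18, 8, 18, 18, 4, 6, 8, 11, 4, 6, 8, 10, 4, 6, 8, 4, 6, 4, 0, 11, 11, 13]⟩))))
  (.node (nat_lit 620) (.node (nat_lit 618) (.node (nat_lit 617) (.leaf ⟨6, 6, true, [19, 12, 16, 8, 19, 19, 2], [11, 8, 6, 18, 8, 19, 2, 11, 11, 8, 11, 6, 8, 11, 4, 6, 8, 4, 6, 4, 12, 11, 6, 20]⟩)
  (.leaf ⟨6, 6, true, [8, 4, 6, 18, 8, 19, 14, 8, 6], [2, 18, 8, 15, 19, 8, 19, 2, 12, 8, 10, 6, 8, 11, 4, 6, 8, 4, 6, 4, 12, 10, 6, 8, 10, 12]⟩))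
  (.node (nat_lit 619) (.leaf ⟨6, 6, true, [15, 13, 8, 18, 8, 18, 8, 18, 10], [8, 19, 6, 18, 8, 19, 2, 12, 11, 6, 8, 4, 6, 4, 0, 13, 10, 8, 11, 6, 8, 10]⟩)
  (.leaf ⟨6, 6, true, [15, 19, 6, 8, 18, 8, 4, 14, 6], [0, 14, 12, 8, 18, 8, 18, 18, 11, 11, 8, 11, 6, 8, 4, 6, 4, 10, 13, 8, 10, 25]⟩)))
  (.node (nat_lit 622) (.node (nat_lit 621) (.leaf ⟨6, 5, true, [6, 18, 12, 18, 8, 6, 18], [19, 8, 19, 0, 2, 10, 8, 10, 13, 4, 6, 8, 10, 4, 6, 8, 4, 6, 4, 11, 11, 8, 11, 6, 8, 11, 12]⟩)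
  (.leaf ⟨5, 6, true, [18, 12, 8, 19, 8, 19, 8, 16], [12, 10, 8, 19, 2, 8, 10, 6, 8, 10, 4, 6, 8, 4, 6, 4, 11, 11, 6, 8, 11, 23]⟩))
  (.node (nat_lit 623) (.leaf ⟨6, 6, true, [14, 8, 18, 12, 8, 18, 8, 18, 10], [15, 18, 8, 2, 18, 18, 4, 6, 8, 10, 4, 6, 8, 4, 6, 4, 8, 11, 13, 6, 8, 11, 6, 20]⟩)
  (.leaf ⟨6, 6, true, [18, 8, 19, 13, 19, 8, 15, 8, 6], [12, 14, 8, 19, 0, 2, 4, 6, 8, 10, 4, 6, 8, 10, 4, 6, 8, 4, 6, 4, 0, 11, 8, 11, 6, 24]⟩)))))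
  (.node (nat_lit 632) (.node (nat_lit 628) (.node (nat_lit 626) (.node (nat_lit 625) (.leaf ⟨6, 5, true, [6, 18, 12, 18, 8, 19, 8, 16, 10], [12, 0, 19, 8, 19, 2, 8, 10, 6, 8, 10, 4, 6, 8, 4, 6, 4, 10, 12, 8, 11, 6, 24]⟩)
  (.leaf ⟨5, 6, true, [18, 12, 8, 6, 18, 8, 19, 16], [18, 18, 10, 8, 19, 2, 10, 10, 6, 8, 10, 4, 6, 8, 4, 6, 4, 10, 13, 8, 11, 6, 24]⟩))
  (.node (nat_lit 627) (.leaf ⟨6, 5, true, [18, 8, 11, 8, 19, 6, 2], [8, 0, 18, 8, 18, 8, 19, 2, 12, 11, 8, 6, 4, 12, 10, 8, 10, 6, 22]⟩)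
  (.leaf ⟨5, 6, true, [18, 14, 18, 18, 8, 18, 8, 4, 14, 6], [19, 10, 8, 19, 8, 0, 19, 2, 11, 13, 8, 10, 4, 6, 8, 4, 6, 4, 10, 8, 10, 6, 8, 10, 22]⟩)))
  (.node (nat_lit 630) (.node (nat_lit 629) (.leaf ⟨6, 5, true, [6, 8, 18, 8, 10, 8, 18], [10, 8, 0, 19, 10, 8, 19, 2, 12, 6, 8, 10, 4, 6, 8, 10, 4, 6, 8, 4, 6, 4, 11, 8, 10, 6, 8, 10, 20]⟩)
  (.leaf ⟨5, 6, true, [10, 6, 8, 6, 0, 18, 8, 6], [8, 0, 14, 6, 8, 18, 18, 11, 8, 10, 6, 8, 10, 4, 6, 8, 4, 6, 4, 0, 13, 8, 11, 6, 8, 10, 24]⟩))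
  (.node (nat_lit 631) (.leaf ⟨6, 6, true, [11, 8, 19, 6, 8, 19, 8, 16, 10], [14, 12, 8, 18, 8, 18, 18, 12, 4, 6, 8, 11, 4, 6, 8, 10, 4, 6, 8, 4, 6, 4, 8, 10, 8, 10, 6, 8, 10, 6, 13]⟩)
  (.leaf ⟨6, 6, true, [19, 8, 19, 0, 16, 10, 8, 6], [12, 18, 8, 19, 8, 19, 2, 12, 6, 8, 11, 4, 6, 8, 10, 4, 6, 8, 4, 6, 4, 11, 11, 8, 10, 24]⟩))))
  (.node (nat_lit 636) (.node (nat_lit 634) (.node (nat_lit 633) (.leaf ⟨6, 5, true, [19, 16, 8, 19, 10, 8, 16], [12, 11, 8, 19, 8, 19, 2, 12, 4, 6, 8, 10, 4, 6, 8, 4, 6, 4, 0, 10, 13, 8, 11, 12]⟩)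
  (.leaf ⟨5, 6, true, [18, 18, 18, 12, 8, 18, 8, 18, 10], [2, 18, 8, 15, 19, 8, 19, 2, 10, 10, 6, 8, 11, 4, 6, 8, 10, 4, 6, 8, 4, 6, 4, 0, 8, 11, 13, 6, 8, 10, 6, 25]⟩))
  (.node (nat_lit 635) (.leaf ⟨6, 5, true, [12, 6, 18, 8, 6, 18], [8, 18, 10, 8, 19, 19, 2, 8, 11, 8, 11, 4, 6, 8, 4, 6, 4, 0, 8, 11, 8, 11, 6, 8, 10, 23]⟩)
  (.leaf ⟨5, 6, true, [8, 6, 18, 8, 18, 14, 8, 0, 18], [8, 15, 8, 19, 8, 19, 2, 11, 8, 10, 4, 6, 8, 10, 4, 6, 8, 4, 6, 4, 13, 6, 8, 10, 6, 13]⟩)))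
  (.node (nat_lit 638) (.node (nat_lit 637) (.leaf ⟨6, 5, true, [6, 8, 15, 18, 8, 18, 8, 6], [0, 19, 12, 8, 19, 8, 0, 19, 2, 8, 11, 4, 6, 8, 4, 6, 4, 11, 11, 8, 11, 22]⟩)
  (.leaf ⟨5, 6, true, [0, 19, 13, 16, 8, 6, 18], [19, 8, 19, 10, 10, 8, 19, 2, 8, 10, 8, 10, 4, 6, 8, 10, 4, 6, 8, 4, 6, 4, 0, 12, 10, 8, 10, 6, 8, 10]⟩))
  (.node (nat_lit 639) (.leaf ⟨6, 5, true, [14, 18, 8, 6, 18, 8, 18, 12, 10], [0, 14, 6, 8, 18, 18, 11, 11, 8, 11, 4, 6, 8, 11, 4, 6, 8, 4, 6, 4, 10, 10, 6, 8, 10, 22]⟩)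
  (.leaf ⟨5, 6, true, [2, 18, 8, 16, 8, 6, 18], [19, 19, 14, 8, 19, 0, 2, 10, 8, 10, 6, 4, 6, 8, 11, 4, 6, 8, 4, 6, 4, 8, 10, 12, 6, 8, 10, 23]⟩))))))

noncomputable def f640 : FT := (.node (nat_lit 656) (.node (nat_lit 648) (.node (nat_lit 644) (.node (nat_lit 642) (.node (nat_lit 641) (.leaf ⟨6, 6, true, [8, 6, 18, 8, 2, 18, 8, 18, 10], [19, 8, 15, 19, 10, 8, 19, 2, 8, 11, 4, 6, 8, 4, 6, 4, 11, 13, 8, 10, 12]⟩)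
  (.leaf ⟨6, 6, true, [8, 18, 4, 14, 8, 6], [14, 12, 8, 18, 8, 18, 18, 10, 8, 11, 13, 4, 6, 8, 10, 4, 6, 8, 4, 6, 4, 10, 8, 10, 6, 8, 10]⟩))
  (.node (nat_lit 643) (.leaf ⟨6, 6, true, [18, 12, 18, 8, 6, 18, 8, 19, 2], [8, 19, 12, 19, 8, 0, 19, 2, 8, 11, 13, 4, 6, 8, 11, 4, 6, 8, 4, 6, 4, 11, 11, 6, 21]⟩)
  (.leaf ⟨6, 6, true, [19, 8, 19, 8, 19, 8, 6, 2], [13, 11, 8, 19, 8, 19, 2, 8, 11, 6, 8, 4, 6, 4, 11, 12, 6, 8, 11, 6, 24]⟩)))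
  (.node (nat_lit 646) (.node (nat_lit 645) (.leaf ⟨6, 5, true, [0, 2, 18, 8, 0, 18, 8, 4, 14, 6], [6, 18, 18, 8, 18, 8, 19, 2, 8, 10, 12, 4, 6, 8, 10, 4, 6, 8, 4, 6, 4, 10, 8, 10, 10, 6, 8, 11, 21]⟩)
  (.leaf ⟨5, 6, true, [15, 13, 19, 6, 8, 18, 8, 18, 11], [15, 19, 8, 6, 18, 8, 19, 2, 4, 6, 8, 10, 6, 8, 11, 4, 6, 8, 4, 6, 4, 8, 10, 8, 10, 6, 8, 10, 6, 21]⟩))
  (.node (nat_lit 647) (.leaf ⟨6, 6, true, [14, 8, 18, 8, 15, 18, 8, 18, 10], [13, 16, 8, 0, 19, 8, 19, 2, 10, 13, 8, 11, 6, 8, 4, 6, 4, 0, 13, 6, 8, 11, 6, 21]⟩)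
  (.leaf ⟨6, 6, true, [18, 0, 14, 8, 18, 4, 14, 8, 6], [8, 19, 6, 8, 18, 18, 8, 4, 6, 4, 8, 10, 10, 6, 8, 11, 20]⟩))))
  (.node (nat_lit 652) (.node (nat_lit 650) (.node (nat_lit 649) (.leaf ⟨6, 6, true, [19, 14, 8, 6, 18, 8, 19, 16], [6, 8, 18, 8, 0, 18, 18, 8, 11, 13, 4, 6, 8, 10, 4, 6, 8, 4, 6, 4, 12, 10, 8, 10, 6, 8, 10, 20]⟩)
  (.leaf ⟨6, 6, true, [10, 8, 18, 14, 8, 18, 8, 18], [12, 0, 19, 8, 19, 2, 10, 13, 4, 6, 8, 10, 4, 6, 8, 4, 6, 4, 8, 10, 6, 8, 10, 6]⟩))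
  (.node (nat_lit 651) (.leaf ⟨6, 6, true, [8, 11, 8, 19, 8, 19, 8, 6, 2], [0, 18, 8, 18, 18, 8, 10, 8, 10, 4, 6, 8, 4, 6, 4, 11, 8, 10, 6, 8, 10, 6, 23]⟩)
  (.leaf ⟨6, 6, true, [13, 18, 8, 18, 8, 18, 10, 10], [0, 18, 18, 18, 11, 12, 8, 10, 4, 6, 8, 11, 4, 6, 8, 4, 6, 4, 12, 6, 8, 11, 6, 24]⟩)))
  (.node (nat_lit 654) (.node (nat_lit 653) (.leaf ⟨6, 5, true, [15, 13, 8, 18, 8, 18, 10], [19, 13, 10, 8, 19, 8, 19, 2, 8, 11, 8, 11, 6, 8, 4, 6, 4, 10, 6, 8, 10, 6, 23]⟩)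
  (.leaf ⟨5, 6, true, [8, 14, 8, 19, 8, 19, 8, 16], [19, 0, 14, 6, 8, 18, 18, 10, 6, 8, 10, 4, 6, 8, 4, 6, 4, 0, 10, 8, 10, 6, 8, 11, 24]⟩))
  (.node (nat_lit 655) (.leaf ⟨6, 6, true, [16, 8, 14, 6, 8, 0, 18], [12, 14, 8, 6, 18, 8, 19, 2, 13, 10, 8, 11, 4, 6, 8, 11, 4, 6, 8, 4, 6, 4, 12, 10, 8, 10, 21]⟩)
  (.leaf ⟨6, 6, true, [8, 10, 8, 6, 18, 8, 6, 18], [14, 12, 8, 0, 19, 8, 19, 2, 13, 8, 11, 4, 6, 8, 4, 6, 4, 11, 11, 6, 22]⟩)))))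
  (.node (nat_lit 664) (.node (nat_lit 660) (.node (nat_lit 658) (.node (nat_lit 657) (.leaf ⟨6, 5, true, [12, 19, 8, 19, 6, 8, 19, 14, 6], [13, 14, 8, 19, 8, 19, 2, 10, 12, 6, 8, 10, 4, 6, 8, 11, 4, 6, 8, 4, 6, 4, 8, 11, 6, 8, 10, 6, 12]⟩)
  (.leaf ⟨5, 6, true, [8, 19, 13, 16, 8, 19, 14, 8, 6], [6, 8, 0, 19, 8, 0, 19, 2, 6, 8, 11, 8, 11, 4, 6, 8, 4, 6, 4, 0, 10, 8, 11, 6, 13]⟩))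
  (.node (nat_lit 659) (.leaf ⟨6, 5, true, [8, 15, 19, 8, 19, 10, 8, 16], [0, 14, 8, 6, 18, 8, 19, 2, 8, 10, 6, 8, 4, 6, 4, 0, 10, 6, 13]⟩)
  (.leaf ⟨5, 6, true, [8, 14, 0, 18, 18, 8, 19, 14, 8, 6], [12, 8, 18, 8, 19, 19, 2, 6, 4, 6, 8, 10, 4, 6, 8, 4, 6, 4, 11, 12, 8, 10, 6, 8, 11]⟩)))
  (.node (nat_lit 662) (.node (nat_lit 661) (.leaf ⟨6, 6, true, [2, 18, 8, 19, 19, 12, 14], [18, 0, 19, 8, 19, 8, 19, 2, 12, 4, 6, 8, 11, 4, 6, 8, 10, 4, 6, 8, 4, 6, 4, 13, 8, 11, 6, 8, 10, 20]⟩)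
  (.leaf ⟨6, 6, true, [18, 18, 8, 10, 8, 6, 18], [12, 19, 8, 16, 8, 19, 19, 2, 4, 6, 8, 10, 4, 6, 8, 10, 4, 6, 8, 4, 6, 4, 12, 8, 11, 6]⟩))
  (.node (nat_lit 663) (.leaf ⟨6, 5, true, [11, 13, 8, 0, 18, 8, 18, 8, 18], [15, 0, 18, 8, 18, 18, 10, 4, 6, 8, 10, 4, 6, 8, 4, 6, 4, 0, 6, 8, 11, 8, 11, 6, 22]⟩)
  (.leaf ⟨5, 6, true, [0, 15, 18, 8, 19, 14, 10, 8, 6], [14, 18, 12, 18, 8, 18, 18, 11, 6, 4, 6, 8, 10, 4, 6, 8, 4, 6, 4, 10, 8, 11, 6, 8, 11, 22]⟩))))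
  (.node (nat_lit 668) (.node (nat_lit 666) (.node (nat_lit 665) (.leaf ⟨6, 6, true, [8, 16, 8, 19, 8, 19, 8, 6, 2], [12, 2, 18, 8, 0, 18, 18, 4, 6, 8, 10, 8, 10, 4, 6, 8, 4, 6, 4, 6, 25]⟩)
  (.leaf ⟨6, 6, true, [0, 18, 18, 8, 19, 8, 14, 8, 6], [8, 0, 14, 6, 8, 18, 18, 13, 8, 10, 4, 6, 8, 4, 6, 4, 0, 12, 8, 10, 6, 24]⟩))
  (.node (nat_lit 667) (.leaf ⟨6, 6, true, [19, 19, 11, 8, 19, 14, 8, 6], [19, 0, 19, 10, 8, 19, 2, 4, 6, 4, 6, 8, 11, 6, 8, 10, 4, 6, 8, 4, 6, 4, 11, 11, 8, 10, 22]⟩)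
  (.leaf ⟨6, 6, true, [19, 14, 8, 19, 8, 19, 2], [16, 14, 8, 19, 10, 8, 19, 2, 4, 6, 8, 10, 6, 8, 11, 4, 6, 8, 4, 6, 4, 0, 8, 10, 8, 10, 22]⟩)))
  (.node (nat_lit 670) (.node (nat_lit 669) (.leaf ⟨6, 6, true, [16, 12, 10, 8, 19, 8, 19, 8, 16], [13, 14, 8, 18, 8, 18, 18, 11, 12, 6, 8, 11, 4, 6, 8, 4, 6, 4, 0, 12, 6, 8, 10, 6, 12]⟩)
  (.leaf ⟨6, 6, true, [11, 8, 19, 12, 8, 19, 8, 16], [10, 8, 18, 14, 8, 19, 19, 2, 10, 13, 8, 11, 4, 6, 8, 10, 4, 6, 8, 4, 6, 4, 10, 8, 11, 6, 20]⟩))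
  (.node (nat_lit 671) (.leaf ⟨6, 5, true, [13, 18, 14, 8, 18, 8, 19, 16], [0, 14, 8, 18, 18, 12, 11, 8, 4, 6, 4, 0, 8, 11, 6, 8, 10, 20]⟩)
  (.leaf ⟨5, 6, true, [8, 19, 0, 16, 10, 8, 6], [0, 2, 18, 8, 0, 18, 18, 10, 4, 6, 8, 10, 4, 6, 8, 10, 4, 6, 8, 4, 6, 4, 0, 6, 8, 11, 6, 24]⟩))))))

noncomputable def f672 : FT := (.node (nat_lit 688) (.node (nat_lit 680) (.node (nat_lit 676) (.node (nat_lit 674) (.node (nat_lit 673) (.leaf ⟨6, 6, true, [19, 15, 19, 12, 8, 0, 19, 8, 16], [19, 0, 2, 11, 6, 8, 11, 4, 6, 8, 4, 6, 4, 0, 10, 6, 8, 11, 22]⟩)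
  (.leaf ⟨6, 6, true, [10, 8, 18, 12, 8, 0, 18], [18, 18, 8, 18, 18, 12, 11, 8, 6, 4, 11, 11]⟩))
  (.node (nat_lit 675) (.leaf ⟨6, 3, true, [8, 19, 10, 8, 16, 8, 19, 19, 2], [10, 8, 18, 14, 8, 19, 19, 2, 13, 11, 6, 8, 11, 4, 6, 8, 11, 4, 6, 8, 4, 6, 4, 11, 13, 6, 8, 10, 24]⟩)
  (.leaf ⟨3, 6, true, [18, 8, 15, 8, 18, 8, 18, 11], [8, 15, 8, 19, 8, 19, 2, 6, 8, 10, 8, 10, 4, 6, 8, 10, 4, 6, 8, 4, 6, 4, 0, 20]⟩)))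
  (.node (nat_lit 678) (.node (nat_lit 677) (.leaf ⟨6, 6, true, [12, 18, 13, 8, 0, 18, 8, 18], [19, 19, 19, 8, 19, 2, 8, 11, 6, 8, 4, 6, 4, 11, 8, 11, 6, 12]⟩)
  (.leaf ⟨6, 6, true, [15, 19, 12, 8, 19, 8, 6, 2], [19, 8, 14, 6, 8, 18, 18, 8, 11, 13, 6, 8, 10, 4, 6, 8, 4, 6, 4, 12, 8, 10, 6, 13]⟩))
  (.node (nat_lit 679) (.leaf ⟨6, 5, true, [15, 18, 8, 6, 18, 8, 18], [14, 8, 19, 14, 8, 19, 0, 2, 12, 8, 11, 6, 8, 10, 4, 6, 8, 4, 6, 4, 0, 11, 8, 10, 21]⟩)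
  (.leaf ⟨5, 6, true, [0, 18, 11, 8, 18, 18, 10, 8, 6], [8, 16, 8, 19, 19, 2, 6, 4, 6, 8, 10, 6, 8, 11, 4, 6, 8, 4, 6, 4, 11, 11, 8, 10, 6, 8, 11, 25]⟩))))
  (.node (nat_lit 684) (.node (nat_lit 682) (.node (nat_lit 681) (.leaf ⟨6, 5, true, [14, 8, 18, 8, 2, 18, 8, 18, 12, 10], [19, 8, 15, 0, 19, 8, 19, 2, 6, 8, 10, 10, 4, 6, 8, 10, 4, 6, 8, 4, 6, 4, 11, 13, 6, 8, 10, 6, 25]⟩)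
  (.leaf ⟨5, 6, true, [16, 12, 0, 19, 8, 19, 8, 6, 2], [6, 8, 19, 8, 19, 2, 6, 8, 10, 10, 4, 6, 8, 10, 4, 6, 8, 4, 6, 4, 6, 21]⟩))
  (.node (nat_lit 683) (.leaf ⟨6, 5, true, [6, 8, 18, 8, 18, 12, 10], [18, 8, 18, 8, 0, 18, 18, 12, 4, 6, 8, 11, 4, 6, 8, 4, 6, 4, 10, 12, 8, 11, 22]⟩)
  (.leaf ⟨5, 6, true, [8, 19, 16, 10, 8, 6, 18, 8, 6], [12, 0, 19, 6, 8, 18, 18, 13, 10, 8, 10, 6, 8, 10, 4, 6, 8, 4, 6, 4, 12, 8, 10, 6, 8, 10, 22]⟩)))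
  (.node (nat_lit 686) (.node (nat_lit 685) (.leaf ⟨6, 5, true, [19, 15, 19, 6, 8, 19, 8, 6, 2], [14, 8, 19, 6, 18, 8, 19, 2, 11, 6, 8, 11, 4, 6, 8, 10, 4, 6, 8, 4, 6, 4, 0, 10, 6, 8, 11, 24]⟩)
  (.leaf ⟨5, 6, true, [8, 10, 6, 8, 19, 6, 8, 19, 6, 2], [0, 18, 10, 10, 8, 18, 18, 10, 8, 11, 6, 8, 11, 4, 6, 8, 4, 6, 4, 0, 11, 11, 8, 11, 13]⟩))
  (.node (nat_lit 687) (.leaf ⟨6, 5, true, [8, 19, 19, 13, 16, 8, 6, 18, 10], [13, 10, 8, 0, 19, 8, 19, 2, 12, 4, 6, 8, 10, 4, 6, 8, 4, 6, 4, 12, 6, 8, 10, 6, 22]⟩)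
  (.leaf ⟨5, 6, true, [14, 8, 19, 8, 10, 6, 8, 18], [15, 8, 0, 19, 8, 19, 2, 11, 8, 11, 4, 6, 8, 11, 4, 6, 8, 4, 6, 4, 10, 8, 10]⟩)))))
  (.node (nat_lit 696) (.node (nat_lit 692) (.node (nat_lit 690) (.node (nat_lit 689) (.leaf ⟨6, 6, true, [0, 18, 8, 18, 8, 6, 18, 8, 6], [8, 19, 2, 6, 8, 11, 13, 4, 6, 8, 10, 4, 6, 8, 4, 6, 4, 12, 8, 11, 6, 8, 10, 12]⟩)
  (.leaf ⟨6, 6, true, [0, 18, 12, 10, 8, 18, 8, 18], [13, 16, 8, 19, 6, 18, 8, 19, 2, 11, 8, 10, 4, 6, 8, 10, 4, 6, 8, 4, 6, 4, 10, 6, 8, 11, 6, 8, 10, 6, 21]⟩))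
  (.node (nat_lit 691) (.leaf ⟨3, 6, true, [19, 19, 19, 8, 19, 12, 14], [18, 14, 12, 8, 19, 8, 19, 2, 12, 10, 8, 10, 4, 6, 8, 10, 4, 6, 8, 4, 6, 4, 6, 8, 10, 6, 8, 11, 23]⟩)
  (.leaf ⟨6, 3, true, [15, 19, 12, 19, 6, 8, 6, 18], [15, 18, 18, 18, 8, 19, 2, 8, 10, 6, 4, 6, 8, 11, 4, 6, 8, 4, 6, 4, 13, 8, 10, 13]⟩)))
  (.node (nat_lit 694) (.node (nat_lit 693) (.leaf ⟨6, 5, true, [15, 8, 18, 8, 19, 19, 12, 14], [13, 18, 8, 18, 8, 19, 19, 2, 13, 10, 4, 6, 8, 10, 4, 6, 8, 10, 4, 6, 8, 4, 6, 4, 13, 10, 8, 11, 6, 8, 10, 23]⟩)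
  (.leaf ⟨5, 6, true, [18, 14, 8, 18, 8, 18, 10, 8, 6], [0, 18, 18, 14, 8, 18, 18, 10, 8, 11, 6, 8, 4, 6, 4, 0, 8, 10, 6, 8, 10, 22]⟩))
  (.node (nat_lit 695) (.leaf ⟨6, 6, true, [13, 16, 8, 19, 6, 8, 18], [19, 0, 19, 12, 10, 8, 19, 2, 8, 11, 13, 4, 6, 8, 11, 4, 6, 8, 4, 6, 4, 6, 8, 11, 6, 25]⟩)
  (.leaf ⟨6, 6, true, [13, 0, 18, 8, 18, 8, 18, 10, 10], [18, 18, 8, 19, 2, 11, 13, 6, 8, 11, 4, 6, 8, 4, 6, 4, 0, 6, 8, 10, 6, 23]⟩))))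
  (.node (nat_lit 700) (.node (nat_lit 698) (.node (nat_lit 697) (.leaf ⟨6, 6, true, [4, 14, 6, 8, 6, 18, 8, 18], [12, 11, 8, 19, 2, 4, 6, 8, 10, 4, 6, 8, 11, 4, 6, 8, 4, 6, 4, 0, 13, 10, 8, 11, 22]⟩)
  (.leaf ⟨6, 6, true, [12, 8, 0, 15, 8, 18, 8, 18], [19, 8, 15, 18, 8, 18, 18, 11, 11, 8, 11, 4, 6, 8, 11, 4, 6, 8, 4, 6, 4, 13, 11, 6, 8, 11]⟩))
  (.node (nat_lit 699) (.leaf ⟨6, 6, true, [18, 18, 13, 18, 8, 19, 8, 19, 14], [10, 8, 19, 10, 8, 19, 2, 12, 10, 8, 10, 6, 8, 10, 4, 6, 8, 4, 6, 4, 8, 11, 8, 11, 6, 8, 11, 23]⟩)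
  (.leaf ⟨6, 6, true, [10, 8, 6, 18, 8, 19, 16], [10, 8, 19, 8, 19, 2, 6, 8, 10, 8, 10, 4, 6, 8, 10, 4, 6, 8, 4, 6, 4, 8, 10, 6, 8, 11, 6, 22]⟩)))
  (.node (nat_lit 702) (.node (nat_lit 701) (.leaf ⟨6, 6, true, [15, 19, 10, 8, 19, 8, 0, 14, 6], [8, 10, 8, 19, 0, 2, 12, 11, 8, 11, 4, 6, 8, 4, 6, 4, 12, 11, 6, 8, 10, 6, 25]⟩)
  (.leaf ⟨6, 6, true, [16, 13, 14, 8, 19, 19, 15], [0, 14, 8, 18, 18, 10, 6, 8, 4, 6, 4, 0, 12, 8, 11, 6, 8, 10, 6, 25]⟩))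
  (.node (nat_lit 703) (.leaf ⟨6, 6, true, [10, 8, 18, 18, 18, 10, 8, 6], [0, 15, 18, 8, 0, 18, 18, 13, 10, 8, 10, 6, 8, 10, 4, 6, 8, 4, 6, 4, 13, 10, 8, 10, 24]⟩)
  (.leaf ⟨6, 6, true, [6, 18, 10, 8, 18, 8, 18, 11], [16, 10, 8, 19, 0, 2, 4, 6, 8, 10, 8, 10, 4, 6, 8, 4, 6, 4, 0, 11, 6, 8, 11, 6, 8, 10]⟩))))))

noncomputable def f704 : FT := (.node (nat_lit 720) (.node (nat_lit 712) (.node (nat_lit 708) (.node (nat_lit 706) (.node (nat_lit 705) (.leaf ⟨6, 5, true, [8, 0, 2, 18, 8, 18, 4, 14, 8, 6], [18, 8, 19, 2, 13, 8, 10, 4, 6, 8, 4, 6, 4, 0, 6, 8, 11, 6, 8, 10, 24]⟩)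
  (.leaf ⟨5, 6, true, [8, 19, 8, 19, 8, 16, 10, 8, 6], [12, 8, 0, 18, 8, 18, 18, 6, 8, 11, 6, 8, 10, 4, 6, 8, 4, 6, 4, 6, 21]⟩))
  (.node (nat_lit 707) (.leaf ⟨6, 6, true, [19, 8, 19, 14, 6, 8, 18, 8, 18], [18, 18, 8, 0, 18, 18, 10, 4, 6, 8, 11, 4, 6, 8, 10, 4, 6, 8, 4, 6, 4, 13, 6, 8, 11, 6, 22]⟩)
  (.leaf ⟨6, 6, true, [19, 14, 10, 8, 19, 8, 19, 2], [13, 19, 8, 19, 8, 0, 19, 2, 4, 6, 8, 10, 4, 6, 8, 4, 6, 4, 0, 11, 13, 8, 10, 6, 8, 11, 23]⟩)))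
  (.node (nat_lit 710) (.node (nat_lit 709) (.leaf ⟨6, 5, true, [19, 6, 8, 6, 18, 8, 18, 10, 10], [8, 19, 8, 0, 19, 2, 12, 11, 6, 8, 10, 4, 6, 8, 4, 6, 4, 0, 11, 13, 6, 8, 11, 20]⟩)
  (.leaf ⟨5, 6, true, [11, 8, 18, 8, 18, 8, 18, 10], [13, 19, 8, 19, 8, 0, 19, 2, 10, 8, 10, 4, 6, 8, 10, 4, 6, 8, 4, 6, 4, 0, 10, 10, 6, 12]⟩))
  (.node (nat_lit 711) (.leaf ⟨6, 3, true, [0, 19, 19, 8, 10, 8, 19, 8, 16], [10, 8, 0, 19, 8, 19, 2, 12, 8, 11, 4, 6, 8, 4, 6, 4, 0, 10, 8, 11, 24]⟩)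
  (.leaf ⟨3, 6, true, [19, 15, 19, 10, 8, 19, 8, 6, 2], [14, 6, 8, 19, 8, 19, 2, 6, 8, 4, 6, 4, 6, 8, 11, 6, 8, 10, 6]⟩))))
  (.node (nat_lit 716) (.node (nat_lit 714) (.node (nat_lit 713) (.leaf ⟨6, 3, true, [2, 18, 8, 16, 8, 6, 0, 18], [0, 18, 18, 8, 10, 6, 8, 4, 6, 4, 0, 10, 10, 6, 8, 11, 13]⟩)
  (.leaf ⟨3, 6, true, [10, 12, 18, 8, 19, 6, 8, 18, 10], [10, 12, 8, 19, 8, 0, 19, 2, 12, 6, 8, 11, 4, 6, 8, 10, 4, 6, 8, 4, 6, 4, 0, 13, 11, 6, 8, 11, 24]⟩))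
  (.node (nat_lit 715) (.leaf ⟨6, 6, true, [18, 2, 18, 8, 19, 8, 0, 14, 6], [18, 8, 19, 14, 8, 19, 0, 2, 6, 8, 11, 13, 4, 6, 8, 11, 4, 6, 8, 4, 6, 4, 0, 13, 10, 8, 10, 20]⟩)
  (.leaf ⟨6, 6, true, [12, 19, 8, 19, 6, 8, 6, 18], [0, 15, 12, 18, 8, 18, 18, 10, 8, 10, 4, 6, 8, 10, 4, 6, 8, 4, 6, 4, 8, 10, 6, 8, 11, 12]⟩)))
  (.node (nat_lit 718) (.node (nat_lit 717) (.leaf ⟨6, 6, true, [18, 8, 15, 0, 19, 6, 8, 6, 18], [15, 12, 18, 8, 18, 18, 11, 12, 8, 10, 6, 8, 11, 4, 6, 8, 4, 6, 4, 10, 13, 8, 10, 6, 25]⟩)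
  (.leaf ⟨6, 6, true, [12, 8, 18, 8, 15, 18, 18, 8, 6], [8, 0, 18, 8, 18, 18, 12, 11, 4, 6, 8, 10, 4, 6, 8, 4, 6, 4, 0, 12, 11, 6, 8, 10, 12]⟩))
  (.node (nat_lit 719) (.leaf ⟨6, 3, true, [16, 8, 19, 8, 10, 8, 19, 2], [0, 14, 8, 18, 0, 18, 8, 11, 12, 6, 8, 11, 4, 6, 8, 4, 6, 4, 0, 8, 11, 6]⟩)
  (.leaf ⟨3, 6, true, [0, 19, 16, 8, 16, 8, 19, 19, 2], [0, 19, 8, 0, 19, 8, 19, 2, 11, 4, 6, 8, 4, 6, 4, 0, 12, 8, 10]⟩)))))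
  (.node (nat_lit 728) (.node (nat_lit 724) (.node (nat_lit 722) (.node (nat_lit 721) (.leaf ⟨6, 6, true, [15, 13, 0, 18, 8, 18, 8, 18, 11], [12, 11, 8, 0, 19, 8, 19, 2, 6, 4, 6, 8, 10, 6, 8, 11, 4, 6, 8, 4, 6, 4, 0, 11, 6, 8, 11, 6, 24]⟩)
  (.leaf ⟨6, 6, true, [13, 19, 8, 16, 8, 19, 19, 2], [12, 18, 6, 8, 19, 8, 19, 2, 8, 10, 6, 8, 11, 4, 6, 8, 11, 4, 6, 8, 4, 6, 4, 0, 11, 8, 11, 12, 6, 8, 11, 22]⟩))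
  (.node (nat_lit 723) (.leaf ⟨6, 6, true, [12, 6, 8, 19, 8, 19, 8, 16, 10], [19, 10, 6, 8, 19, 19, 2, 13, 4, 6, 8, 11, 4, 6, 8, 4, 6, 4, 11, 8, 10, 6, 8, 10, 6, 13]⟩)
  (.leaf ⟨6, 6, true, [19, 6, 8, 18, 8, 6, 18, 8, 6], [18, 8, 2, 19, 8, 19, 2, 8, 10, 8, 10, 4, 6, 8, 4, 6, 4, 0, 13, 6, 8, 10, 22]⟩)))
  (.node (nat_lit 726) (.node (nat_lit 725) (.leaf ⟨6, 6, true, [16, 8, 15, 18, 8, 19, 19, 14], [19, 19, 8, 6, 18, 8, 19, 2, 10, 4, 6, 8, 11, 4, 6, 8, 11, 4, 6, 8, 4, 6, 4, 8, 11, 13, 6, 8, 10, 6, 23]⟩)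
  (.leaf ⟨6, 6, true, [0, 18, 18, 8, 18, 10], [0, 18, 18, 14, 8, 18, 18, 13, 10, 6, 8, 10, 4, 6, 8, 10, 4, 6, 8, 4, 6, 4, 8, 11, 6, 8, 11, 24]⟩))
  (.node (nat_lit 727) (.leaf ⟨6, 5, true, [14, 13, 6, 8, 19, 8, 19, 8, 16], [16, 8, 6, 18, 8, 0, 18, 18, 8, 10, 12, 6, 8, 10, 4, 6, 8, 4, 6, 4, 11, 8, 11, 6, 25]⟩)
  (.leaf ⟨5, 6, true, [14, 18, 18, 8, 6, 18, 8, 18], [11, 8, 18, 14, 8, 18, 18, 6, 8, 10, 13, 4, 6, 8, 10, 4, 6, 8, 4, 6, 4, 10, 10, 8, 11, 25]⟩))))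
  (.node (nat_lit 732) (.node (nat_lit 730) (.node (nat_lit 729) (.leaf ⟨6, 5, true, [0, 15, 8, 18, 12, 18, 8, 6], [0, 18, 18, 10, 8, 19, 2, 10, 6, 8, 11, 4, 6, 8, 10, 4, 6, 8, 4, 6, 4, 0, 6, 8, 11, 6, 13]⟩)
  (.leaf ⟨5, 6, true, [8, 19, 13, 8, 16, 8, 19, 19, 14], [8, 0, 14, 18, 18, 8, 19, 2, 11, 6, 8, 11, 4, 6, 8, 4, 6, 4, 0, 11, 13, 6, 8, 10, 12]⟩))
  (.node (nat_lit 731) (.leaf ⟨6, 6, true, [18, 8, 19, 8, 0, 14, 6], [6, 18, 18, 8, 18, 18, 11, 11, 8, 11, 4, 6, 8, 4, 6, 4, 10, 13, 8, 10]⟩)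
  (.leaf ⟨6, 6, true, [0, 18, 8, 6, 18, 8, 19, 19, 2], [4, 6, 18, 8, 19, 8, 19, 2, 11, 8, 11, 6, 8, 4, 6, 4, 0, 8, 11, 8, 11, 6, 23]⟩)))
  (.node (nat_lit 734) (.node (nat_lit 733) (.leaf ⟨6, 5, true, [12, 8, 18, 8, 18, 8, 19, 12, 16], [12, 19, 8, 19, 0, 2, 11, 8, 6, 4, 13, 6, 8, 11]⟩)
  (.leaf ⟨5, 6, true, [0, 18, 13, 18, 8, 6, 18, 10], [16, 8, 6, 18, 8, 19, 2, 10, 8, 11, 6, 8, 10, 4, 6, 8, 4, 6, 4, 0, 6, 8, 10, 6, 8, 11, 6, 20]⟩))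
  (.node (nat_lit 735) (.leaf ⟨6, 6, true, [0, 19, 8, 16, 8, 6, 0, 18], [19, 10, 8, 6, 18, 8, 19, 2, 6, 4, 6, 8, 10, 4, 6, 8, 4, 6, 4, 11, 8, 10, 6, 8, 10, 6, 21]⟩)
  (.leaf ⟨6, 6, true, [0, 18, 10, 8, 18, 8, 18, 12, 10], [13, 16, 8, 19, 8, 0, 19, 2, 10, 6, 8, 10, 4, 6, 8, 4, 6, 4, 11, 13, 8, 10, 20]⟩))))))

noncomputable def f736 : FT := (.node (nat_lit 752) (.node (nat_lit 744) (.node (nat_lit 740) (.node (nat_lit 738) (.node (nat_lit 737) (.leaf ⟨6, 6, true, [13, 15, 18, 8, 6, 0, 18], [8, 15, 0, 19, 8, 19, 2, 13, 10, 8, 10, 6, 8, 10, 4, 6, 8, 4, 6, 4, 10, 12, 6, 8, 10, 13]⟩)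
  (.leaf ⟨6, 6, true, [8, 0, 16, 8, 6, 18, 8, 6], [14, 18, 8, 18, 18, 6, 8, 11, 4, 6, 8, 10, 4, 6, 8, 4, 6, 4, 0, 13, 10, 8, 11, 6, 8, 10, 12]⟩))
  (.node (nat_lit 739) (.leaf ⟨6, 6, true, [19, 12, 19, 13, 8, 19, 8, 16], [0, 2, 18, 18, 13, 11, 6, 8, 11, 4, 6, 8, 11, 4, 6, 8, 4, 6, 4, 11, 12, 8, 10, 22]⟩)
  (.leaf ⟨6, 6, true, [18, 8, 15, 8, 19, 19, 14], [16, 10, 8, 19, 0, 2, 6, 8, 10, 10, 4, 6, 8, 10, 4, 6, 8, 4, 6, 4, 6, 8, 10, 8, 10, 25]⟩)))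
  (.node (nat_lit 742) (.node (nat_lit 741) (.leaf ⟨6, 6, true, [8, 19, 6, 8, 6, 18, 10, 8, 18], [18, 12, 8, 19, 8, 0, 19, 2, 13, 8, 11, 6, 8, 10, 4, 6, 8, 10, 4, 6, 8, 4, 6, 4, 10, 13, 8, 11, 20]⟩)
  (.leaf ⟨6, 6, true, [18, 18, 8, 19, 8, 19, 10, 8, 16], [14, 18, 8, 0, 18, 18, 12, 11, 8, 4, 6, 4, 0, 11, 8, 10, 6, 8, 10, 25]⟩))
  (.node (nat_lit 743) (.leaf ⟨6, 6, true, [13, 15, 18, 8, 19, 19, 14], [6, 18, 8, 18, 18, 8, 11, 8, 11, 4, 6, 8, 11, 4, 6, 8, 4, 6, 4, 13, 10, 8, 10, 24]⟩)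
  (.leaf ⟨6, 6, true, [8, 19, 8, 0, 14, 6], [19, 19, 8, 0, 19, 2, 11, 8, 10, 4, 6, 8, 10, 4, 6, 8, 4, 6, 4, 0, 11, 8, 11, 12, 6, 8, 11, 6, 22]⟩))))
  (.node (nat_lit 748) (.node (nat_lit 746) (.node (nat_lit 745) (.leaf ⟨6, 5, true, [12, 15, 8, 10, 6], [8, 0, 18, 8, 18, 8, 19, 2, 10, 4, 6, 8, 10, 6, 8, 11, 4, 6, 8, 4, 6, 4, 10, 13, 8, 10, 13]⟩)
  (.leaf ⟨5, 6, true, [18, 13, 8, 0, 15, 18, 8, 18], [0, 2, 18, 8, 0, 18, 18, 10, 6, 8, 11, 12, 4, 6, 8, 11, 4, 6, 8, 4, 6, 4, 13, 11, 6, 8, 11, 13]⟩))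
  (.node (nat_lit 747) (.leaf ⟨6, 5, true, [18, 18, 18, 8, 18, 10, 8, 19, 16], [6, 18, 14, 8, 19, 19, 2, 8, 10, 10, 4, 6, 8, 11, 4, 6, 8, 4, 6, 4, 11, 6, 8, 10, 13]⟩)
  (.leaf ⟨5, 6, true, [14, 18, 11, 8, 18, 12, 18, 8, 6], [18, 18, 10, 8, 19, 2, 11, 6, 8, 10, 4, 6, 8, 11, 4, 6, 8, 4, 6, 4, 11, 8, 11]⟩)))
  (.node (nat_lit 750) (.node (nat_lit 749) (.leaf ⟨6, 5, true, [12, 0, 18], [2, 8, 11, 6, 4, 6, 8, 10, 4, 6, 8, 4, 6, 4, 8, 10, 13, 6, 8, 10, 25]⟩)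
  (.leaf ⟨5, 6, true, [8, 0, 19, 19, 8, 14, 6], [0, 18, 8, 18, 18, 10, 4, 6, 8, 11, 6, 4, 6, 8, 10, 4, 6, 8, 4, 6, 4, 8, 11, 11, 6, 8, 11, 24]⟩))
  (.node (nat_lit 751) (.leaf ⟨6, 6, true, [13, 0, 14, 8, 18, 10, 8, 0, 18], [0, 18, 10, 10, 8, 18, 18, 12, 11, 6, 8, 4, 6, 4, 10, 8, 11, 6, 8, 10]⟩)
  (.leaf ⟨6, 6, true, [19, 19, 8, 6, 0, 18, 8, 10, 6], [19, 8, 0, 19, 8, 19, 2, 6, 8, 4, 6, 4, 0, 11, 11, 8, 10, 23]⟩)))))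
  (.node (nat_lit 760) (.node (nat_lit 756) (.node (nat_lit 754) (.node (nat_lit 753) (.leaf ⟨6, 5, true, [12, 8, 6, 18, 8, 6, 18, 8, 6], [18, 18, 8, 19, 2, 6, 8, 10, 13, 4, 6, 8, 10, 4, 6, 8, 4, 6, 4, 11, 13, 8, 10, 6, 8, 11, 21]⟩)
  (.leaf ⟨5, 6, true, [8, 0, 15, 18, 10, 8, 19, 6, 2], [18, 18, 10, 10, 8, 18, 18, 13, 8, 11, 4, 6, 8, 4, 6, 4, 0, 8, 10, 6, 8, 11, 6, 25]⟩))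
  (.node (nat_lit 755) (.leaf ⟨6, 6, true, [8, 18, 12, 8, 18, 8, 19, 19, 15], [12, 6, 18, 8, 19, 8, 19, 2, 10, 8, 10, 4, 6, 8, 4, 6, 4, 8, 10, 20]⟩)
  (.leaf ⟨6, 6, true, [8, 10, 6, 8, 19, 12, 16], [19, 8, 15, 8, 19, 8, 19, 2, 10, 8, 11, 6, 8, 11, 4, 6, 8, 4, 6, 4, 10, 10, 8, 11, 12]⟩)))
  (.node (nat_lit 758) (.node (nat_lit 757) (.leaf ⟨6, 5, true, [12, 16, 8, 19, 8, 16, 10], [18, 14, 8, 19, 0, 2, 10, 13, 8, 10, 6, 8, 4, 6, 4, 10, 8, 10, 6, 8, 10, 6, 24]⟩)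
  (.leaf ⟨5, 6, true, [10, 10, 6, 8, 19, 19, 14], [8, 0, 14, 6, 8, 18, 18, 13, 10, 6, 8, 11, 4, 6, 8, 4, 6, 4, 11, 11, 8, 10, 22]⟩))
  (.node (nat_lit 759) (.leaf ⟨6, 6, true, [12, 11, 8, 19, 14], [2, 0, 18, 8, 18, 18, 6, 8, 10, 4, 6, 8, 11, 4, 6, 8, 4, 6, 4, 6, 8, 10, 8, 10, 12]⟩)
  (.leaf ⟨6, 6, true, [18, 13, 8, 19, 8, 14, 6], [15, 12, 0, 19, 8, 19, 8, 19, 2, 11, 8, 11, 4, 6, 8, 4, 6, 4, 0, 8, 11, 13, 6, 8, 10, 13]⟩))))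
  (.node (nat_lit 764) (.node (nat_lit 762) (.node (nat_lit 761) (.leaf ⟨6, 6, true, [14, 12, 8, 18, 8, 18], [8, 15, 18, 8, 18, 18, 10, 4, 6, 8, 11, 6, 8, 10, 4, 6, 8, 4, 6, 4, 0, 12, 6, 8, 11, 20]⟩)
  (.leaf ⟨6, 6, true, [19, 19, 6, 8, 6, 18, 8, 19, 2], [2, 18, 8, 19, 6, 8, 18, 18, 6, 4, 0, 8, 11, 21]⟩))
  (.node (nat_lit 763) (.leaf ⟨6, 6, true, [12, 18, 8, 15, 18, 8, 18], [15, 18, 0, 14, 8, 18, 18, 10, 8, 11, 6, 4, 6, 8, 11, 4, 6, 8, 4, 6, 4, 10, 10, 23]⟩)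
  (.leaf ⟨6, 6, true, [18, 18, 18, 8, 18, 8, 19, 16], [13, 0, 19, 8, 19, 8, 19, 2, 10, 6, 8, 10, 4, 6, 8, 4, 6, 4, 8, 10, 8, 10, 6, 8, 10, 6, 23]⟩)))
  (.node (nat_lit 766) (.node (nat_lit 765) (.leaf ⟨6, 5, true, [10, 12, 8, 19, 8, 19, 8, 16, 10], [12, 19, 8, 19, 8, 0, 19, 2, 10, 10, 6, 8, 10, 4, 6, 8, 11, 4, 6, 8, 4, 6, 4, 8, 10, 8, 10, 12]⟩)
  (.leaf ⟨5, 6, true, [19, 8, 19, 8, 19, 14], [13, 19, 8, 19, 6, 8, 18, 18, 13, 10, 8, 10, 6, 8, 10, 4, 6, 8, 4, 6, 4, 13, 10, 8, 11, 6, 8, 10, 12]⟩))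
  (.node (nat_lit 767) (.leaf ⟨6, 6, true, [10, 8, 19, 6, 8, 18, 10, 10], [8, 19, 2, 10, 10, 8, 4, 6, 4, 11, 11, 8, 10, 6, 8, 11, 25]⟩)
  (.leaf ⟨6, 6, true, [10, 8, 19, 8, 16, 10, 8, 6], [8, 18, 8, 2, 19, 8, 19, 2, 12, 10, 8, 10, 6, 8, 4, 6, 4, 0, 11, 11, 8, 10, 20]⟩))))))

noncomputable def f768 : FT := (.node (nat_lit 784) (.node (nat_lit 776) (.node (nat_lit 772) (.node (nat_lit 770) (.node (nat_lit 769) (.leaf ⟨6, 6, true, [8, 18, 14, 8, 19, 19, 2], [0, 18, 11, 13, 4, 6, 8, 11, 4, 6, 8, 4, 6, 4, 12, 10, 6, 12]⟩)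
  (.leaf ⟨6, 6, true, [15, 12, 19, 6, 8, 18, 8, 19, 16], [8, 19, 0, 2, 11, 8, 4, 6, 4, 12, 8, 10, 6, 25]⟩))
  (.node (nat_lit 771) (.leaf ⟨6, 6, true, [15, 11, 8, 19, 19, 16, 8, 6, 18], [12, 8, 18, 8, 18, 18, 11, 8, 10, 6, 8, 10, 4, 6, 8, 4, 6, 4, 10, 10, 6, 8, 11, 21]⟩)
  (.leaf ⟨6, 6, true, [6, 18, 10, 8, 19, 2], [15, 19, 19, 19, 8, 19, 2, 11, 6, 4, 6, 8, 11, 6, 8, 10, 4, 6, 8, 4, 6, 4, 10, 10, 6, 22]⟩)))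
  (.node (nat_lit 774) (.node (nat_lit 773) (.leaf ⟨6, 6, true, [8, 0, 15, 8, 6, 18, 8, 18], [12, 18, 8, 0, 18, 18, 4, 6, 8, 10, 6, 8, 11, 4, 6, 8, 4, 6, 4, 10, 6, 8, 11, 6, 8, 10]⟩)
  (.leaf ⟨6, 6, true, [12, 2, 18, 8, 18, 8, 6, 18], [15, 19, 8, 6, 18, 8, 19, 2, 8, 10, 6, 8, 4, 6, 4, 0, 10, 10, 6, 8, 11, 24]⟩))
  (.node (nat_lit 775) (.leaf ⟨6, 6, true, [6, 18, 8, 19, 8, 14, 8, 6], [13, 14, 8, 18, 8, 18, 18, 12, 11, 4, 6, 8, 10, 4, 6, 8, 4, 6, 4, 0, 11, 13, 6, 8, 10, 24]⟩)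
  (.leaf ⟨6, 6, true, [18, 0, 19, 13, 19, 8, 19, 8, 6, 2], [19, 12, 10, 8, 19, 2, 10, 10, 6, 8, 11, 4, 6, 8, 4, 6, 4, 12, 11, 6, 23]⟩))))
  (.node (nat_lit 780) (.node (nat_lit 778) (.node (nat_lit 777) (.leaf ⟨6, 6, true, [18, 18, 8, 19, 8, 14, 6], [18, 10, 8, 19, 2, 6, 8, 10, 13, 4, 6, 8, 10, 4, 6, 8, 4, 6, 4, 12, 10, 6, 8, 11, 23]⟩)
  (.leaf ⟨6, 4, true, [19, 19, 19, 12, 8, 19, 8, 16], [18, 12, 18, 8, 18, 18, 8, 10, 8, 10, 6, 8, 4, 6, 4, 11, 6, 8, 10, 6, 20]⟩))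
  (.node (nat_lit 779) (.leaf ⟨4, 6, true, [0, 19, 12, 10, 8, 19, 8, 14, 6], [0, 18, 8, 18, 18, 10, 8, 19, 2, 4, 6, 8, 4, 6, 4, 0, 11, 11, 8, 11, 22]⟩)
  (.leaf ⟨6, 6, true, [14, 12, 8, 19, 8, 19, 8, 16, 10], [19, 19, 12, 10, 8, 19, 2, 6, 4, 6, 8, 10, 6, 8, 11, 4, 6, 8, 4, 6, 4, 11, 13, 8, 10, 6, 8, 11, 21]⟩)))
  (.node (nat_lit 782) (.node (nat_lit 781) (.leaf ⟨6, 6, true, [8, 14, 8, 6, 18, 8, 19, 8, 19, 14], [18, 12, 18, 8, 18, 18, 8, 11, 8, 11, 4, 6, 8, 4, 6, 4, 0, 11, 12]⟩)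
  (.leaf ⟨6, 5, true, [16, 13, 8, 0, 19, 8, 19, 8, 14, 6], [19, 15, 8, 6, 18, 8, 19, 2, 11, 13, 8, 10, 4, 6, 8, 4, 6, 4, 8, 10, 10, 6, 8, 11, 21]⟩))
  (.node (nat_lit 783) (.leaf ⟨5, 6, true, [0, 15, 18, 13, 8, 19, 8, 14, 6], [14, 6, 0, 18, 8, 18, 18, 11, 6, 8, 11, 4, 6, 8, 4, 6, 4, 0, 13, 10, 8, 10, 21]⟩)
  (.leaf ⟨6, 5, true, [19, 10, 10, 8, 19, 8, 19, 14], [6, 18, 11, 8, 19, 8, 19, 2, 6, 8, 10, 6, 8, 11, 4, 6, 8, 10, 4, 6, 8, 4, 6, 4, 8, 11, 12, 6, 8, 11, 20]⟩)))))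
  (.node (nat_lit 792) (.node (nat_lit 788) (.node (nat_lit 786) (.node (nat_lit 785) (.leaf ⟨5, 6, true, [8, 0, 2, 18, 12, 8, 6, 18], [8, 19, 19, 2, 10, 8, 10, 6, 4, 6, 8, 11, 4, 6, 8, 4, 6, 4, 11, 11, 8, 10, 6, 8, 11, 23]⟩)
  (.leaf ⟨6, 5, true, [19, 19, 15, 19, 10, 8, 19, 8, 16], [8, 18, 18, 8, 19, 8, 19, 2, 11, 4, 6, 8, 10, 4, 6, 8, 4, 6, 4, 11, 6, 8, 10, 20]⟩))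
  (.node (nat_lit 787) (.leaf ⟨5, 6, true, [0, 14, 12, 8, 18, 8, 18, 10], [19, 12, 8, 16, 8, 19, 19, 2, 13, 8, 11, 6, 8, 10, 4, 6, 8, 4, 6, 4, 10, 8, 10, 6, 12]⟩)
  (.leaf ⟨6, 5, true, [15, 11, 8, 16, 8, 6, 18, 8, 18], [14, 0, 14, 8, 18, 18, 6, 8, 11, 4, 6, 8, 4, 6, 4, 0, 10, 6, 8, 10, 6, 8, 11, 20]⟩)))
  (.node (nat_lit 790) (.node (nat_lit 789) (.leaf ⟨5, 6, true, [14, 12, 8, 18, 8, 18, 10], [8, 18, 8, 19, 8, 19, 2, 10, 4, 6, 8, 4, 6, 4, 0, 12, 8, 10, 6, 8, 10, 20]⟩)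
  (.leaf ⟨6, 6, true, [13, 15, 18, 8, 18, 8, 18, 12, 10], [6, 0, 18, 10, 8, 18, 18, 12, 6, 8, 11, 4, 6, 8, 4, 6, 4, 11, 13, 6, 8, 11, 6, 13]⟩))
  (.node (nat_lit 791) (.leaf ⟨6, 6, true, [16, 8, 15, 8, 19, 8, 19, 15], [15, 11, 8, 19, 8, 0, 19, 2, 8, 10, 6, 8, 11, 4, 6, 8, 10, 4, 6, 8, 4, 6, 4, 11, 8, 10, 6, 8, 10, 23]⟩)
  (.leaf ⟨6, 6, true, [12, 2, 18, 8, 16, 8, 19, 19, 2], [6, 18, 8, 18, 18, 10, 10, 6, 8, 4, 6, 4, 11, 8, 11, 6, 8, 11, 6, 25]⟩))))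
  (.node (nat_lit 796) (.node (nat_lit 794) (.node (nat_lit 793) (.leaf ⟨6, 6, true, [6, 18, 14, 8, 19, 19, 14], [19, 8, 15, 19, 8, 19, 2, 11, 4, 6, 8, 10, 4, 6, 8, 4, 6, 4, 0, 6, 8, 11, 6]⟩)
  (.leaf ⟨6, 6, true, [2, 18, 8, 19, 8, 19, 2], [15, 18, 8, 19, 2, 8, 11, 8, 11, 6, 8, 11, 4, 6, 8, 4, 6, 4, 10, 8, 11, 13]⟩))
  (.node (nat_lit 795) (.leaf ⟨6, 6, true, [12, 8, 19, 8, 19, 19, 2], [16, 8, 0, 19, 10, 8, 19, 2, 8, 11, 4, 6, 8, 4, 6, 4, 0, 11, 6, 8, 10, 6]⟩)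
  (.leaf ⟨6, 5, true, [2, 18, 12, 8, 18, 8, 19, 12, 19, 2], [15, 8, 18, 8, 19, 19, 2, 12, 8, 11, 6, 8, 10, 4, 6, 8, 4, 6, 4, 10, 13, 6, 8, 10, 20]⟩)))
  (.node (nat_lit 798) (.node (nat_lit 797) (.leaf ⟨5, 6, true, [12, 14, 8, 18, 8, 4, 14, 6], [19, 8, 14, 6, 8, 18, 18, 12, 4, 6, 8, 11, 4, 6, 8, 10, 4, 6, 8, 4, 6, 4, 8, 11, 8, 11, 6, 12]⟩)
  (.leaf ⟨6, 5, true, [6, 8, 15, 19, 8, 19, 14], [8, 18, 8, 19, 8, 0, 19, 2, 13, 10, 8, 11, 6, 8, 10, 4, 6, 8, 4, 6, 4, 12, 8, 10, 6, 12]⟩))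
  (.node (nat_lit 799) (.leaf ⟨5, 6, true, [12, 0, 15, 8, 18, 8, 19, 16], [10, 12, 8, 19, 8, 19, 2, 6, 8, 11, 13, 4, 6, 8, 11, 4, 6, 8, 4, 6, 4, 0, 11, 6, 8, 11, 6, 13]⟩)
  (.leaf ⟨6, 6, true, [8, 16, 8, 16, 8, 19, 16], [0, 19, 8, 19, 10, 8, 19, 2, 13, 11, 8, 10, 6, 8, 10, 4, 6, 8, 4, 6, 4, 10, 8, 11, 6, 8, 11, 13]⟩))))))

noncomputable def f800 : FT := (.node (nat_lit 816) (.node (nat_lit 808) (.node (nat_lit 804) (.node (nat_lit 802) (.node (nat_lit 801) (.leaf ⟨6, 6, true, [13, 8, 0, 15, 18, 8, 6, 18], [18, 8, 18, 18, 10, 4, 6, 8, 11, 12, 4, 6, 8, 11, 4, 6, 8, 4, 6, 4, 10, 13, 8, 10]⟩)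
  (.leaf ⟨6, 5, true, [13, 18, 8, 6, 18, 8, 6], [19, 19, 2, 13, 10, 8, 11, 6, 8, 4, 6, 4, 11, 11, 8, 10, 6, 8, 11, 22]⟩))
  (.node (nat_lit 803) (.leaf ⟨5, 6, true, [14, 18, 11, 8, 19, 12, 19, 2], [19, 19, 0, 19, 8, 19, 2, 6, 8, 11, 8, 11, 4, 6, 8, 10, 4, 6, 8, 4, 6, 4, 10, 8, 11, 6, 8, 10, 13]⟩)
  (.leaf ⟨4, 6, true, [6, 8, 0, 15, 18, 12, 8, 18], [18, 8, 15, 0, 19, 8, 19, 2, 10, 8, 10, 4, 6, 8, 4, 6, 4, 0, 13, 11, 8, 11, 22]⟩)))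
  (.node (nat_lit 806) (.node (nat_lit 805) (.leaf ⟨6, 4, true, [18, 8, 15, 18, 8, 6, 18, 10], [19, 12, 8, 19, 8, 19, 2, 11, 4, 6, 8, 11, 4, 6, 8, 11, 4, 6, 8, 4, 6, 4, 11, 8, 11, 6, 8, 11, 25]⟩)
  (.leaf ⟨6, 5, true, [15, 18, 18, 12, 8, 19, 8, 16], [0, 18, 18, 18, 11, 6, 8, 10, 4, 6, 8, 4, 6, 4, 0, 13, 11, 8, 10, 6, 8, 10, 20]⟩))
  (.node (nat_lit 807) (.leaf ⟨5, 6, true, [19, 19, 16, 8, 19, 8, 6, 2], [19, 19, 8, 19, 2, 11, 12, 8, 10, 6, 8, 4, 6, 4, 8, 10, 6, 8, 10, 6, 21]⟩)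
  (.leaf ⟨6, 6, true, [12, 18, 8, 19, 19, 14, 8, 6], [12, 8, 6, 18, 8, 0, 18, 18, 8, 10, 6, 8, 4, 6, 4, 11, 8, 10, 6, 8, 11, 25]⟩))))
  (.node (nat_lit 812) (.node (nat_lit 810) (.node (nat_lit 809) (.leaf ⟨6, 6, true, [19, 16, 8, 19, 8, 19, 14, 8, 6], [18, 14, 8, 19, 19, 2, 6, 8, 10, 8, 10, 4, 6, 8, 10, 4, 6, 8, 4, 6, 4, 0, 8, 10, 10, 6, 8, 10, 22]⟩)
  (.leaf ⟨6, 6, true, [8, 4, 14, 6, 8, 18, 8, 18, 11], [12, 10, 8, 18, 8, 18, 18, 11, 11, 8, 10, 6, 8, 4, 6, 4, 8, 11, 13, 6, 8, 11, 6, 25]⟩))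
  (.node (nat_lit 811) (.leaf ⟨6, 6, true, [18, 12, 18, 8, 14, 4, 6, 8, 18], [19, 19, 8, 6, 18, 8, 19, 2, 13, 10, 6, 8, 11, 4, 6, 8, 4, 6, 4, 10, 10, 8, 11, 21]⟩)
  (.leaf ⟨6, 6, true, [13, 10, 8, 19, 6, 8, 19, 16], [8, 19, 14, 8, 19, 0, 2, 6, 8, 10, 6, 8, 11, 4, 6, 8, 10, 4, 6, 8, 4, 6, 4, 11, 8, 11, 12, 6, 8, 11, 6, 13]⟩)))
  (.node (nat_lit 814) (.node (nat_lit 813) (.leaf ⟨6, 6, true, [18, 18, 8, 19, 8, 19, 8, 6, 2], [8, 15, 19, 8, 0, 19, 2, 12, 11, 6, 8, 4, 6, 4, 8, 11, 11, 6, 8, 11, 20]⟩)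
  (.leaf ⟨6, 6, true, [10, 8, 18, 18, 8, 18, 10], [8, 2, 18, 18, 6, 8, 10, 8, 10, 4, 6, 8, 10, 4, 6, 8, 4, 6, 4, 0, 10, 8, 11, 6, 8, 10, 12]⟩))
  (.node (nat_lit 815) (.leaf ⟨6, 6, true, [10, 8, 18, 0, 18, 10], [2, 19, 8, 6, 18, 8, 19, 2, 6, 8, 11, 6, 4, 6, 8, 11, 4, 6, 8, 4, 6, 4, 8, 11, 13, 6, 8, 11, 6, 13]⟩)
  (.leaf ⟨5, 6, true, [13, 10, 8, 18, 8, 18, 8, 18, 11], [6, 8, 4, 6, 18, 8, 19, 2, 11, 6, 8, 11, 6, 4, 6, 8, 11, 4, 6, 8, 4, 6, 4, 8, 11, 6, 8, 10, 6, 24]⟩)))))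
  (.node (nat_lit 824) (.node (nat_lit 820) (.node (nat_lit 818) (.node (nat_lit 817) (.leaf ⟨6, 5, true, [15, 8, 6, 18, 8, 19, 19, 15], [14, 18, 18, 8, 19, 8, 19, 2, 10, 4, 6, 8, 10, 4, 6, 8, 10, 4, 6, 8, 4, 6, 4, 0, 10, 13, 8, 10, 6, 12]⟩)
  (.leaf ⟨6, 5, true, [12, 11, 8, 19, 12, 8, 19, 2], [15, 12, 18, 8, 18, 18, 8, 11, 12, 4, 6, 8, 11, 4, 6, 8, 4, 6, 4, 11, 8, 10, 24]⟩))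
  (.node (nat_lit 819) (.leaf ⟨5, 6, true, [18, 8, 15, 12, 18, 8, 18, 10], [12, 0, 14, 8, 18, 18, 6, 8, 11, 8, 11, 4, 6, 8, 4, 6, 4, 0, 11, 6, 8, 11, 24]⟩)
  (.leaf ⟨6, 5, true, [0, 18, 18, 12, 8, 19, 8, 14, 6], [19, 8, 0, 19, 8, 19, 2, 4, 6, 8, 10, 4, 6, 8, 10, 4, 6, 8, 4, 6, 4, 0, 11, 11, 21]⟩)))
  (.node (nat_lit 822) (.node (nat_lit 821) (.leaf ⟨5, 6, true, [19, 19, 19, 8, 10, 6, 8, 19, 16], [6, 8, 19, 8, 0, 19, 2, 6, 8, 11, 6, 8, 10, 4, 6, 8, 10, 4, 6, 8, 4, 6, 4, 13, 10, 8, 11, 6, 8, 10, 20]⟩)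
  (.leaf ⟨6, 6, true, [18, 11, 8, 19, 12, 19, 2], [19, 8, 19, 6, 18, 8, 19, 2, 13, 4, 6, 8, 10, 4, 6, 8, 11, 4, 6, 8, 4, 6, 4, 11, 12, 8, 10, 6, 8, 11, 20]⟩))
  (.node (nat_lit 823) (.leaf ⟨6, 6, true, [13, 18, 14, 18, 8, 19, 8, 16], [0, 19, 6, 8, 18, 18, 8, 11, 4, 6, 8, 4, 6, 4, 13, 10, 8, 11, 6, 8, 10, 6, 24]⟩)
  (.leaf ⟨6, 5, true, [11, 8, 16, 8, 6, 18, 8, 18, 10], [13, 16, 8, 19, 6, 18, 8, 19, 2, 13, 11, 8, 10, 6, 8, 11, 4, 6, 8, 4, 6, 4, 8, 10, 6, 12]⟩))))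
  (.node (nat_lit 828) (.node (nat_lit 826) (.node (nat_lit 825) (.leaf ⟨5, 6, true, [6, 18, 10, 8, 19, 19, 14], [8, 19, 10, 8, 19, 2, 10, 8, 10, 6, 8, 4, 6, 4, 0, 10, 6, 8, 10, 6, 23]⟩)
  (.leaf ⟨6, 5, true, [18, 14, 8, 6, 18, 12, 8, 18], [15, 8, 19, 10, 8, 19, 2, 11, 13, 4, 6, 8, 11, 4, 6, 8, 4, 6, 4, 0, 11, 13, 6, 8, 10, 6, 25]⟩))
  (.node (nat_lit 827) (.leaf ⟨5, 6, true, [6, 18, 12, 18, 8, 19, 8, 16, 10], [14, 18, 11, 8, 19, 8, 19, 2, 6, 8, 11, 4, 6, 8, 11, 4, 6, 8, 4, 6, 4, 0, 8, 11, 6, 8, 11, 13]⟩)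
  (.leaf ⟨6, 5, true, [15, 8, 19, 12, 8, 19, 8, 16, 10], [12, 19, 8, 14, 6, 8, 18, 18, 6, 8, 4, 6, 4, 12, 10, 6, 23]⟩)))
  (.node (nat_lit 830) (.node (nat_lit 829) (.leaf ⟨5, 6, true, [18, 8, 14, 12, 4, 6, 8, 18], [12, 8, 0, 19, 8, 19, 2, 8, 10, 4, 6, 8, 10, 4, 6, 8, 4, 6, 4, 11, 11, 6, 21]⟩)
  (.leaf ⟨6, 6, true, [6, 8, 0, 18, 12, 8, 18], [10, 12, 8, 18, 8, 18, 18, 8, 10, 6, 8, 11, 4, 6, 8, 10, 4, 6, 8, 4, 6, 4, 11, 11, 6, 12]⟩))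
  (.node (nat_lit 831) (.leaf ⟨6, 6, true, [8, 14, 6, 18, 8, 19, 16], [13, 16, 8, 19, 6, 8, 18, 18, 11, 6, 8, 10, 4, 6, 8, 4, 6, 4, 0, 24]⟩)
  (.leaf ⟨6, 5, true, [8, 10, 10, 8, 19, 8, 6, 2], [2, 18, 8, 19, 8, 19, 2, 6, 8, 11, 6, 8, 10, 4, 6, 8, 10, 4, 6, 8, 4, 6, 4, 8, 11, 13, 6, 8, 10, 6, 25]⟩))))))

noncomputable def f832 : FT := (.node (nat_lit 848) (.node (nat_lit 840) (.node (nat_lit 836) (.node (nat_lit 834) (.node (nat_lit 833) (.leaf ⟨5, 6, true, [18, 8, 11, 8, 19, 8, 19, 2], [8, 18, 12, 18, 8, 0, 18, 18, 13, 10, 6, 8, 11, 4, 6, 8, 4, 6, 4, 10, 12, 8, 11, 24]⟩)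
  (.leaf ⟨6, 4, true, [12, 6, 18, 8, 6, 18, 8, 6], [0, 19, 11, 8, 19, 2, 13, 6, 8, 10, 4, 6, 8, 11, 4, 6, 8, 4, 6, 4, 13, 11, 8, 11, 21]⟩))
  (.node (nat_lit 835) (.leaf ⟨4, 6, true, [10, 8, 19, 12, 8, 19, 8, 16, 10], [18, 8, 18, 10, 8, 18, 18, 12, 11, 8, 11, 6, 8, 4, 6, 4, 13, 8, 10, 6, 8, 11, 12]⟩)
  (.leaf ⟨6, 5, true, [8, 16, 8, 0, 19, 8, 6, 2], [19, 8, 6, 18, 8, 19, 2, 6, 8, 11, 4, 6, 8, 10, 4, 6, 8, 4, 6, 4, 0, 11, 8, 10, 6, 8, 10, 21]⟩)))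
  (.node (nat_lit 838) (.node (nat_lit 837) (.leaf ⟨5, 6, true, [12, 8, 18, 13, 8, 18, 8, 18], [6, 18, 18, 8, 19, 2, 6, 8, 11, 6, 8, 10, 4, 6, 8, 10, 4, 6, 8, 4, 6, 4, 13, 10, 8, 10, 25]⟩)
  (.leaf ⟨6, 6, true, [19, 19, 11, 8, 19, 14, 10, 8, 6], [12, 16, 8, 6, 18, 8, 19, 2, 8, 11, 4, 6, 8, 4, 6, 4, 12, 10, 8, 10, 6, 12]⟩))
  (.node (nat_lit 839) (.leaf ⟨6, 6, true, [8, 0, 19, 14, 8, 6], [14, 0, 19, 8, 19, 2, 4, 6, 8, 10, 4, 6, 8, 4, 6, 4, 0, 11, 8, 11, 6, 8, 10, 20]⟩)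
  (.leaf ⟨6, 5, true, [12, 18, 8, 2, 18, 8, 18, 10, 10], [19, 12, 10, 8, 19, 2, 11, 6, 8, 10, 6, 4, 6, 8, 11, 4, 6, 8, 4, 6, 4, 10, 6, 8, 11, 6, 8, 10, 22]⟩))))
  (.node (nat_lit 844) (.node (nat_lit 842) (.node (nat_lit 841) (.leaf ⟨5, 6, true, [19, 12, 19, 8, 19, 6, 8, 6, 18], [8, 18, 8, 6, 18, 8, 19, 2, 10, 10, 6, 8, 4, 6, 4, 0, 11, 24]⟩)
  (.leaf ⟨6, 6, true, [12, 8, 19, 6, 8, 19, 8, 16], [19, 14, 8, 18, 8, 18, 18, 8, 11, 6, 8, 11, 4, 6, 8, 4, 6, 4, 10, 13, 8, 10, 21]⟩))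
  (.node (nat_lit 843) (.leaf ⟨6, 6, true, [18, 12, 14, 8, 6, 18, 8, 18], [18, 12, 8, 18, 8, 0, 18, 18, 8, 10, 6, 8, 4, 6, 4, 0, 8, 11, 12, 6, 8, 11]⟩)
  (.leaf ⟨6, 6, true, [19, 19, 16, 10, 8, 19, 8, 14, 6], [11, 11, 8, 19, 8, 19, 2, 13, 8, 10, 6, 8, 4, 6, 4, 0, 11, 12, 8, 10, 21]⟩)))
  (.node (nat_lit 846) (.node (nat_lit 845) (.leaf ⟨6, 6, true, [8, 2, 18, 8, 19, 8, 19, 14], [10, 8, 0, 19, 8, 19, 2, 10, 13, 8, 10, 6, 8, 4, 6, 4, 0, 10, 10, 12]⟩)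
  (.leaf ⟨6, 6, true, [15, 8, 18, 18, 8, 19, 8, 16, 10], [18, 2, 18, 8, 19, 10, 8, 19, 2, 13, 8, 11, 4, 6, 8, 4, 6, 4, 0, 11]⟩))
  (.node (nat_lit 847) (.leaf ⟨6, 6, true, [13, 6, 18, 8, 18], [12, 0, 14, 8, 18, 8, 18, 18, 11, 8, 11, 4, 6, 8, 11, 4, 6, 8, 4, 6, 4, 11, 11, 6, 8, 11, 20]⟩)
  (.leaf ⟨6, 6, true, [18, 13, 8, 18, 8, 18], [8, 18, 8, 6, 18, 8, 19, 2, 12, 11, 6, 8, 10, 4, 6, 8, 4, 6, 4, 13, 10, 8, 11, 6, 8, 10, 21]⟩)))))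
  (.node (nat_lit 856) (.node (nat_lit 852) (.node (nat_lit 850) (.node (nat_lit 849) (.leaf ⟨6, 6, true, [16, 13, 8, 19, 6, 8, 6, 18, 10], [12, 19, 8, 19, 8, 0, 19, 2, 12, 10, 6, 8, 4, 6, 4, 12, 11, 8, 11, 21]⟩)
  (.leaf ⟨6, 5, true, [18, 8, 10, 8, 19, 2], [19, 12, 19, 8, 19, 2, 6, 8, 10, 6, 8, 11, 4, 6, 8, 11, 4, 6, 8, 4, 6, 4, 11, 8, 10, 6, 8, 10, 23]⟩))
  (.node (nat_lit 851) (.leaf ⟨5, 6, true, [14, 8, 18, 8, 2, 18, 8, 19, 19, 2], [15, 0, 15, 18, 8, 0, 18, 18, 12, 11, 6, 8, 4, 6, 4, 0, 6, 23]⟩)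
  (.leaf ⟨6, 5, true, [0, 19, 10, 6, 8, 18, 8, 19, 16], [19, 19, 6, 8, 18, 18, 6, 8, 10, 4, 6, 8, 4, 6, 4, 6, 8, 11, 8, 11, 6, 22]⟩)))
  (.node (nat_lit 854) (.node (nat_lit 853) (.leaf ⟨5, 6, true, [12, 14, 8, 19, 12, 8, 19, 8, 16], [18, 11, 8, 0, 19, 8, 19, 2, 11, 11, 8, 11, 6, 8, 4, 6, 4, 8, 11, 6, 8, 11, 6]⟩)
  (.leaf ⟨6, 5, true, [10, 6, 8, 6, 18, 8, 18], [19, 12, 19, 8, 0, 19, 2, 11, 13, 6, 8, 10, 4, 6, 8, 4, 6, 4, 0, 11, 11, 8, 11, 6, 8, 11]⟩))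
  (.node (nat_lit 855) (.leaf ⟨5, 6, true, [15, 8, 18, 8, 19, 6, 8, 18, 10], [8, 0, 18, 10, 8, 18, 18, 8, 11, 13, 6, 8, 11, 4, 6, 8, 4, 6, 4, 0, 11, 8, 10, 6, 8, 11, 6, 12]⟩)
  (.leaf ⟨6, 5, true, [0, 19, 12, 8, 19, 8, 19, 15], [8, 18, 8, 19, 8, 0, 19, 2, 13, 11, 6, 8, 11, 4, 6, 8, 11, 4, 6, 8, 4, 6, 4, 10, 8, 10, 10, 6, 8, 11, 25]⟩))))
  (.node (nat_lit 860) (.node (nat_lit 858) (.node (nat_lit 857) (.leaf ⟨5, 6, true, [19, 8, 19, 8, 15, 19, 8, 19, 14], [18, 18, 10, 10, 8, 18, 18, 12, 10, 4, 6, 8, 10, 4, 6, 8, 4, 6, 4, 10, 13, 8, 10, 6, 23]⟩)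
  (.leaf ⟨6, 6, true, [2, 18, 8, 14, 18, 18, 10, 8, 6], [14, 0, 18, 18, 8, 19, 2, 6, 8, 10, 6, 8, 11, 4, 6, 8, 4, 6, 4, 11, 13, 8, 10, 22]⟩))
  (.node (nat_lit 859) (.leaf ⟨6, 6, true, [19, 8, 15, 18, 8, 18, 8, 4, 14, 6], [13, 19, 8, 16, 8, 19, 19, 2, 13, 11, 8, 10, 4, 6, 8, 10, 4, 6, 8, 4, 6, 4, 6, 8, 11, 24]⟩)
  (.leaf ⟨6, 6, true, [0, 14, 18, 8, 18], [12, 0, 19, 8, 19, 8, 19, 2, 8, 6, 4, 6, 8, 11, 8, 11, 22]⟩)))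
  (.node (nat_lit 862) (.node (nat_lit 861) (.leaf ⟨6, 6, true, [15, 19, 6, 8, 18, 8, 19, 12, 19, 2], [19, 2, 19, 8, 19, 2, 6, 8, 10, 10, 4, 6, 8, 11, 4, 6, 8, 4, 6, 4, 10, 8, 11, 21]⟩)
  (.leaf ⟨6, 5, true, [13, 18, 8, 15, 19, 8, 19, 2], [18, 2, 18, 8, 19, 8, 19, 2, 4, 6, 8, 10, 10, 4, 6, 8, 11, 4, 6, 8, 4, 6, 4, 11, 13, 8, 10, 6, 8, 11, 22]⟩))
  (.node (nat_lit 863) (.leaf ⟨5, 6, true, [8, 16, 8, 6, 18, 8, 18, 10, 10], [10, 8, 18, 0, 18, 11, 6, 8, 10, 4, 6, 8, 11, 4, 6, 8, 4, 6, 4, 12, 6, 8, 11, 20]⟩)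
  (.leaf ⟨6, 6, true, [12, 0, 19, 8, 16, 8, 19, 14, 6], [8, 15, 18, 14, 8, 18, 18, 13, 8, 11, 6, 8, 10, 4, 6, 8, 4, 6, 4, 10, 6, 8, 10, 13]⟩))))))

noncomputable def f864 : FT := (.node (nat_lit 880) (.node (nat_lit 872) (.node (nat_lit 868) (.node (nat_lit 866) (.node (nat_lit 865) (.leaf ⟨6, 5, true, [19, 12, 14, 8, 19, 8, 19, 2], [0, 18, 18, 4, 6, 8, 11, 6, 4, 6, 8, 10, 4, 6, 8, 4, 6, 4, 6, 8, 10, 8, 10, 6, 23]⟩)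
  (.leaf ⟨5, 6, true, [8, 18, 10, 8, 19, 6, 8, 18], [4, 6, 18, 8, 19, 2, 11, 6, 4, 6, 8, 11, 6, 8, 10, 4, 6, 8, 4, 6, 4, 0, 8, 11, 8, 11, 6, 25]⟩))
  (.node (nat_lit 867) (.leaf ⟨6, 5, true, [15, 8, 0, 19, 8, 19, 12, 8, 14, 6], [19, 12, 8, 16, 8, 19, 19, 2, 10, 6, 8, 11, 4, 6, 8, 11, 4, 6, 8, 4, 6, 4, 0, 11, 13, 8, 10, 23]⟩)
  (.leaf ⟨5, 6, true, [15, 8, 18, 13, 14, 8, 18, 8, 18], [15, 0, 18, 8, 18, 18, 8, 11, 12, 6, 8, 11, 4, 6, 8, 4, 6, 4, 0, 8, 10, 8, 10, 13]⟩)))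
  (.node (nat_lit 870) (.node (nat_lit 869) (.leaf ⟨6, 6, true, [8, 18, 10, 8, 19, 19, 14, 8, 6], [8, 19, 19, 2, 8, 10, 13, 6, 8, 10, 4, 6, 8, 4, 6, 4, 11, 11, 6, 23]⟩)
  (.leaf ⟨6, 6, true, [0, 15, 8, 18, 8, 0, 19, 12, 16], [19, 19, 8, 19, 8, 19, 2, 10, 8, 10, 4, 6, 8, 11, 4, 6, 8, 4, 6, 4, 11, 8, 10, 23]⟩))
  (.node (nat_lit 871) (.leaf ⟨6, 5, true, [18, 18, 18, 12, 8, 18, 8, 18], [16, 8, 6, 18, 8, 19, 2, 10, 10, 8, 11, 6, 8, 4, 6, 4, 6, 8, 11, 6, 8, 10, 12]⟩)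
  (.leaf ⟨5, 6, true, [13, 0, 15, 8, 18, 8, 18, 12, 10], [11, 8, 19, 15, 19, 8, 19, 2, 8, 6, 4, 0, 6, 20]⟩))))
  (.node (nat_lit 876) (.node (nat_lit 874) (.node (nat_lit 873) (.leaf ⟨6, 6, true, [19, 13, 19, 10, 8, 19, 8, 6, 2], [18, 8, 19, 14, 8, 19, 0, 2, 4, 6, 8, 10, 4, 6, 8, 11, 4, 6, 8, 4, 6, 4, 0, 11, 11, 8, 11, 6, 8, 11, 13]⟩)
  (.leaf ⟨6, 6, true, [13, 8, 18, 14, 8, 18, 8, 18], [8, 19, 8, 19, 6, 8, 18, 18, 11, 8, 10, 4, 6, 8, 11, 4, 6, 8, 4, 6, 4, 0, 12, 11, 6, 8, 10, 22]⟩))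
  (.node (nat_lit 875) (.leaf ⟨6, 6, true, [13, 14, 8, 18, 8, 15, 18, 18, 8, 6], [12, 0, 19, 8, 0, 19, 8, 19, 2, 10, 8, 4, 6, 4, 0, 13, 11, 8, 10, 6, 8, 10]⟩)
  (.leaf ⟨6, 6, true, [16, 8, 19, 8, 19, 8, 14, 10, 6], [13, 16, 8, 19, 8, 0, 19, 2, 6, 8, 4, 6, 4, 6, 8, 11, 6, 8, 10, 24]⟩)))
  (.node (nat_lit 878) (.node (nat_lit 877) (.leaf ⟨6, 6, true, [8, 19, 8, 19, 13, 16, 8, 6, 18], [18, 8, 0, 19, 8, 19, 2, 10, 8, 10, 6, 4, 6, 8, 11, 4, 6, 8, 4, 6, 4, 12, 10, 8, 10, 23]⟩)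
  (.leaf ⟨6, 6, true, [6, 0, 18, 8, 18, 8, 18], [12, 14, 8, 18, 8, 18, 18, 4, 6, 8, 10, 6, 4, 6, 8, 11, 4, 6, 8, 4, 6, 4, 11, 11, 20]⟩))
  (.node (nat_lit 879) (.leaf ⟨6, 6, true, [8, 2, 19, 6, 8, 18, 8, 18], [8, 4, 6, 18, 8, 19, 2, 4, 6, 8, 11, 8, 11, 4, 6, 8, 10, 4, 6, 8, 4, 6, 4, 8, 11]⟩)
  (.leaf ⟨6, 6, true, [13, 19, 8, 19, 6, 8, 6, 18, 10], [10, 8, 0, 18, 10, 8, 18, 18, 12, 11, 4, 6, 8, 4, 6, 4, 12, 11, 8, 11, 21]⟩)))))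
  (.node (nat_lit 888) (.node (nat_lit 884) (.node (nat_lit 882) (.node (nat_lit 881) (.leaf ⟨6, 6, true, [18, 18, 10, 8, 19, 8, 16], [18, 14, 8, 19, 10, 8, 19, 2, 8, 11, 6, 8, 10, 4, 6, 8, 4, 6, 4, 0, 6, 8, 11, 6, 8, 10, 6]⟩)
  (.leaf ⟨6, 6, true, [18, 18, 8, 19, 8, 19, 12, 14], [14, 18, 8, 18, 18, 10, 10, 6, 8, 11, 4, 6, 8, 11, 4, 6, 8, 4, 6, 4, 8, 10, 8, 10, 6, 8, 10, 6, 22]⟩))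
  (.node (nat_lit 883) (.leaf ⟨6, 6, true, [12, 8, 18, 8, 19, 19, 2], [12, 0, 19, 8, 19, 8, 19, 2, 4, 6, 8, 10, 4, 6, 8, 10, 4, 6, 8, 4, 6, 4, 0, 8, 10, 10, 6, 8, 11, 25]⟩)
  (.leaf ⟨6, 6, true, [19, 10, 8, 19, 12, 6, 8, 6, 18], [10, 8, 6, 18, 8, 19, 2, 12, 10, 6, 8, 11, 4, 6, 8, 4, 6, 4, 13, 8, 10, 6, 23]⟩)))
  (.node (nat_lit 886) (.node (nat_lit 885) (.leaf ⟨6, 6, true, [12, 8, 0, 19, 6, 8, 19, 19, 14], [12, 2, 18, 8, 19, 8, 19, 2, 8, 10, 8, 4, 6, 4, 10, 8, 11, 6, 8, 11, 6, 22]⟩)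
  (.leaf ⟨6, 6, true, [2, 18, 12, 8, 18, 8, 18, 10], [19, 8, 15, 8, 19, 8, 19, 2, 11, 13, 6, 8, 10, 4, 6, 8, 4, 6, 4, 0, 8, 11, 13, 6, 8, 10, 25]⟩))
  (.node (nat_lit 887) (.leaf ⟨6, 5, true, [15, 13, 18, 10, 8, 18, 8, 18, 10], [10, 8, 19, 19, 2, 6, 8, 10, 8, 10, 4, 6, 8, 4, 6, 4, 13, 8, 11, 6, 8, 10, 23]⟩)
  (.leaf ⟨5, 6, true, [15, 8, 19, 6, 8, 19, 14, 6], [12, 0, 19, 8, 19, 8, 0, 19, 2, 10, 8, 10, 4, 6, 8, 4, 6, 4, 13, 11, 8, 10, 6, 8, 11, 13]⟩))))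
  (.node (nat_lit 892) (.node (nat_lit 890) (.node (nat_lit 889) (.leaf ⟨6, 5, true, [2, 18, 8, 6, 18, 8, 18, 12, 10], [8, 0, 15, 18, 8, 0, 18, 18, 8, 10, 4, 6, 8, 4, 6, 4, 0, 10, 6]⟩)
  (.leaf ⟨5, 6, true, [18, 13, 8, 18, 14, 8, 0, 18], [0, 19, 8, 19, 0, 2, 11, 6, 8, 10, 10, 4, 6, 8, 11, 4, 6, 8, 4, 6, 4, 8, 11, 6, 8, 10, 12]⟩))
  (.node (nat_lit 891) (.leaf ⟨6, 5, true, [15, 8, 18, 18, 8, 6, 18, 8, 6], [18, 8, 6, 18, 8, 19, 0, 2, 10, 6, 8, 4, 6, 4, 11, 6, 8, 10, 6, 24]⟩)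
  (.leaf ⟨5, 6, true, [12, 11, 8, 19, 12, 19, 8, 16], [18, 8, 19, 8, 19, 2, 6, 8, 10, 4, 6, 8, 10, 4, 6, 8, 4, 6, 4, 0, 10, 8, 11, 25]⟩)))
  (.node (nat_lit 894) (.node (nat_lit 893) (.leaf ⟨6, 6, true, [13, 19, 10, 8, 19, 8, 6, 2], [15, 19, 19, 8, 19, 2, 11, 12, 6, 8, 11, 4, 6, 8, 4, 6, 4, 10, 13, 8, 11]⟩)
  (.leaf ⟨6, 6, true, [18, 8, 6, 18, 12, 8, 19, 2], [10, 12, 8, 19, 8, 0, 19, 2, 10, 8, 11, 4, 6, 8, 4, 6, 4, 0, 6, 8, 11, 25]⟩))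
  (.node (nat_lit 895) (.leaf ⟨6, 5, true, [8, 0, 15, 8, 18, 8, 0, 19, 6, 2], [4, 6, 18, 8, 19, 2, 12, 10, 8, 6, 4, 0, 11, 12, 6, 8, 11]⟩)
  (.leaf ⟨5, 6, true, [14, 13, 8, 19, 8, 19, 2], [8, 15, 18, 8, 0, 18, 18, 12, 8, 11, 6, 8, 10, 4, 6, 8, 4, 6, 4, 12, 8, 10, 6, 8, 11, 24]⟩))))))

noncomputable def f896 : FT := (.node (nat_lit 912) (.node (nat_lit 904) (.node (nat_lit 900) (.node (nat_lit 898) (.node (nat_lit 897) (.leaf ⟨6, 6, true, [15, 8, 18, 18, 8, 19, 14, 8, 6], [12, 15, 8, 19, 8, 0, 19, 2, 12, 8, 11, 4, 6, 8, 4, 6, 4, 10, 6]⟩)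
  (.leaf ⟨6, 6, true, [6, 18, 8, 18, 10, 8, 6], [19, 12, 0, 19, 8, 19, 2, 12, 10, 6, 8, 4, 6, 4, 0, 13, 10, 8, 11, 6, 8, 10, 6, 22]⟩))
  (.node (nat_lit 899) (.leaf ⟨6, 6, true, [15, 8, 6, 18, 12, 8, 19, 8, 14, 6], [14, 18, 8, 0, 19, 8, 19, 2, 12, 10, 8, 10, 6, 8, 4, 6, 4, 0, 10, 6, 8, 10, 6, 8, 11, 13]⟩)
  (.leaf ⟨6, 6, true, [19, 8, 10, 6, 8, 19, 6, 2], [18, 8, 19, 2, 11, 8, 11, 12, 4, 6, 8, 11, 4, 6, 8, 4, 6, 4, 11, 6, 8, 10, 12]⟩)))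
  (.node (nat_lit 902) (.node (nat_lit 901) (.leaf ⟨6, 5, true, [0, 19, 16, 8, 19, 8, 6, 2], [15, 0, 15, 18, 8, 19, 2, 11, 11, 4, 6, 8, 4, 6, 4, 0, 11, 13, 6, 8, 11, 12]⟩)
  (.leaf ⟨5, 6, true, [8, 11, 8, 18, 8, 6, 18], [0, 15, 18, 8, 18, 18, 10, 8, 11, 4, 6, 8, 11, 4, 6, 8, 4, 6, 4, 0, 11, 13, 6, 8, 10, 6, 25]⟩))
  (.node (nat_lit 903) (.leaf ⟨6, 6, true, [12, 16, 8, 19, 16], [12, 14, 8, 19, 0, 2, 6, 8, 11, 4, 6, 8, 11, 4, 6, 8, 4, 6, 4, 0, 6, 8, 11, 8, 11]⟩)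
  (.leaf ⟨6, 6, true, [0, 19, 10, 8, 19, 8, 14, 8, 6], [0, 19, 12, 8, 19, 8, 0, 19, 2, 13, 10, 8, 10, 4, 6, 8, 10, 4, 6, 8, 4, 6, 4, 10, 8, 11, 13, 6, 8, 10, 25]⟩))))
  (.node (nat_lit 908) (.node (nat_lit 906) (.node (nat_lit 905) (.leaf ⟨6, 5, true, [12, 0, 19, 13, 8, 19, 8, 14, 6], [8, 18, 10, 8, 19, 19, 2, 10, 4, 6, 8, 10, 4, 6, 8, 4, 6, 4, 0, 11, 8, 11, 6, 8, 10, 6, 13]⟩)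
  (.leaf ⟨5, 6, true, [2, 18, 8, 19, 19, 14, 10], [11, 8, 18, 8, 0, 18, 18, 12, 11, 6, 8, 10, 4, 6, 8, 4, 6, 4, 0, 11, 13, 8, 10, 23]⟩))
  (.node (nat_lit 907) (.leaf ⟨6, 6, true, [12, 0, 19, 8, 6, 18, 10, 8, 6], [13, 18, 8, 19, 6, 8, 18, 18, 11, 6, 8, 10, 4, 6, 8, 4, 6, 4, 11, 8, 11, 24]⟩)
  (.leaf ⟨6, 6, true, [6, 18, 13, 8, 19, 10, 8, 16], [11, 8, 0, 18, 8, 18, 18, 8, 11, 13, 4, 6, 8, 11, 4, 6, 8, 4, 6, 4, 0, 11, 6, 8, 10, 20]⟩)))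
  (.node (nat_lit 910) (.node (nat_lit 909) (.leaf ⟨6, 6, true, [18, 18, 8, 18, 10], [14, 10, 8, 19, 19, 2, 11, 6, 8, 11, 4, 6, 8, 4, 6, 4, 11, 13, 6, 8, 10, 20]⟩)
  (.leaf ⟨6, 6, true, [19, 12, 19, 8, 16, 10], [8, 15, 18, 14, 8, 18, 18, 11, 6, 8, 11, 4, 6, 8, 10, 4, 6, 8, 4, 6, 4, 0, 10, 8, 11, 6, 8, 10, 21]⟩))
  (.node (nat_lit 911) (.leaf ⟨6, 5, true, [19, 8, 16, 10, 8, 19, 19, 14], [12, 0, 14, 8, 18, 8, 18, 18, 12, 6, 8, 11, 4, 6, 8, 4, 6, 4, 0, 8, 11, 6, 8, 11, 21]⟩)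
  (.leaf ⟨5, 6, true, [14, 13, 8, 18, 10, 8, 18], [0, 14, 8, 18, 0, 18, 11, 4, 6, 8, 11, 4, 6, 8, 11, 4, 6, 8, 4, 6, 4, 8, 10, 10, 6, 8, 11, 25]⟩)))))
  (.node (nat_lit 920) (.node (nat_lit 916) (.node (nat_lit 914) (.node (nat_lit 913) (.leaf ⟨6, 6, true, [19, 19, 6, 8, 18, 8, 19, 14, 6], [0, 19, 12, 19, 8, 0, 19, 2, 12, 10, 6, 8, 10, 4, 6, 8, 10, 4, 6, 8, 4, 6, 4, 8, 11, 24]⟩)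
  (.leaf ⟨6, 6, true, [0, 15, 18, 12, 8, 0, 19, 8, 16], [6, 8, 4, 6, 18, 8, 19, 2, 6, 8, 11, 6, 8, 10, 4, 6, 8, 4, 6, 4, 10, 8, 11, 6, 8, 11, 6, 13]⟩))
  (.node (nat_lit 915) (.leaf ⟨6, 6, true, [18, 18, 18, 8, 18, 18, 10, 10, 8, 6], [16, 8, 2, 19, 8, 19, 2, 8, 10, 6, 8, 4, 6, 4, 10, 6, 8, 10, 6, 8, 11, 20]⟩)
  (.leaf ⟨6, 6, true, [12, 16, 8, 19, 0, 14, 8, 6], [0, 14, 8, 18, 18, 10, 8, 19, 2, 13, 8, 11, 6, 8, 4, 6, 4, 13, 6, 8, 10, 6, 20]⟩)))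
  (.node (nat_lit 918) (.node (nat_lit 917) (.leaf ⟨6, 6, true, [0, 19, 13, 16, 8, 19, 6, 2], [14, 8, 18, 14, 8, 18, 18, 6, 8, 10, 6, 8, 11, 4, 6, 8, 10, 4, 6, 8, 4, 6, 4, 8, 10, 8, 10, 6, 8, 10, 6, 24]⟩)
  (.leaf ⟨6, 6, true, [8, 18, 13, 18, 8, 19, 8, 14, 6], [14, 6, 18, 8, 0, 18, 18, 13, 10, 8, 11, 6, 8, 11, 4, 6, 8, 4, 6, 4, 11, 11, 6, 20]⟩))
  (.node (nat_lit 919) (.leaf ⟨6, 6, true, [19, 16, 8, 19, 12, 16], [10, 8, 19, 19, 2, 6, 8, 11, 8, 11, 4, 6, 8, 4, 6, 4, 11, 11, 6, 21]⟩)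
  (.leaf ⟨6, 6, true, [6, 8, 0, 18, 12, 18, 8, 6], [19, 19, 8, 6, 18, 8, 19, 2, 10, 8, 11, 4, 6, 8, 10, 4, 6, 8, 4, 6, 4, 0, 11, 13, 6, 8, 11, 6, 22]⟩))))
  (.node (nat_lit 924) (.node (nat_lit 922) (.node (nat_lit 921) (.leaf ⟨6, 6, true, [19, 10, 8, 19, 8, 19, 14], [6, 8, 18, 8, 19, 8, 19, 2, 11, 8, 11, 6, 4, 6, 8, 10, 4, 6, 8, 4, 6, 4, 12, 8, 11, 6, 8, 10, 25]⟩)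
  (.leaf ⟨6, 6, true, [12, 11, 8, 18, 12, 8, 18], [14, 18, 18, 8, 19, 2, 12, 6, 8, 11, 4, 6, 8, 4, 6, 4, 11, 8, 11, 6, 8, 11, 6, 21]⟩))
  (.node (nat_lit 923) (.leaf ⟨6, 5, true, [18, 2, 18, 8, 18, 8, 18, 12, 10], [19, 12, 8, 19, 8, 19, 2, 10, 13, 8, 10, 6, 8, 4, 6, 4, 12, 10, 8, 10, 25]⟩)
  (.leaf ⟨5, 6, true, [15, 18, 13, 8, 6, 18, 8, 18], [8, 18, 14, 18, 18, 8, 18, 18, 11, 4, 6, 8, 10, 4, 6, 8, 10, 4, 6, 8, 4, 6, 4, 8, 10, 13, 6, 8, 10, 25]⟩)))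
  (.node (nat_lit 926) (.node (nat_lit 925) (.leaf ⟨6, 5, true, [19, 19, 19, 8, 19, 10, 8, 16], [19, 10, 6, 8, 19, 8, 19, 2, 10, 6, 8, 11, 4, 6, 8, 10, 4, 6, 8, 4, 6, 4, 0, 10, 8, 11, 6, 8, 10, 6, 21]⟩)
  (.leaf ⟨5, 6, true, [18, 18, 12, 8, 0, 18, 8, 18], [18, 10, 8, 19, 2, 11, 6, 4, 6, 8, 11, 6, 8, 10, 4, 6, 8, 4, 6, 4, 10, 6, 8, 11, 25]⟩))
  (.node (nat_lit 927) (.leaf ⟨6, 6, true, [18, 14, 18, 18, 8, 19, 6, 2], [19, 19, 0, 2, 13, 10, 8, 10, 4, 6, 8, 4, 6, 4, 10, 6, 8, 11, 6, 8, 10, 6]⟩)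
  (.leaf ⟨6, 6, true, [13, 18, 8, 0, 19, 14, 8, 6], [18, 18, 10, 8, 19, 8, 19, 2, 8, 10, 4, 6, 8, 4, 6, 4, 0, 8, 11, 8, 11, 6, 8, 10, 12]⟩))))))

noncomputable def f928 : FT := (.node (nat_lit 944) (.node (nat_lit 936) (.node (nat_lit 932) (.node (nat_lit 930) (.node (nat_lit 929) (.leaf ⟨6, 5, true, [13, 16, 8, 0, 19, 6, 2], [13, 19, 8, 19, 8, 19, 2, 6, 4, 6, 8, 11, 6, 8, 10, 4, 6, 8, 4, 6, 4, 10, 6, 8, 11, 6, 8, 10, 12]⟩)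
  (.leaf ⟨5, 6, true, [0, 15, 8, 6, 18, 8, 18, 10], [18, 14, 18, 8, 18, 18, 12, 10, 6, 8, 10, 4, 6, 8, 4, 6, 4, 12, 10, 8, 10, 6, 8, 10, 23]⟩))
  (.node (nat_lit 931) (.leaf ⟨6, 6, true, [14, 8, 18, 8, 6, 18, 8, 6], [8, 18, 8, 19, 19, 2, 11, 6, 8, 11, 6, 8, 10, 4, 6, 8, 4, 6, 4, 12, 11, 20]⟩)
  (.leaf ⟨6, 6, true, [19, 12, 8, 16, 8, 6, 18, 8, 18, 10], [12, 19, 8, 2, 19, 8, 19, 2, 6, 8, 11, 6, 4, 6, 8, 11, 4, 6, 8, 4, 6, 4, 12, 11, 8, 10]⟩)))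
  (.node (nat_lit 934) (.node (nat_lit 933) (.leaf ⟨6, 6, true, [15, 19, 8, 0, 19, 8, 14, 6], [18, 13, 8, 11, 6, 8, 4, 6, 4, 8, 11, 12, 6, 8, 11, 6, 21]⟩)
  (.leaf ⟨6, 6, true, [12, 8, 18, 8, 0, 18, 8, 18, 11], [18, 18, 18, 18, 8, 19, 2, 12, 8, 10, 4, 6, 8, 4, 6, 4, 12, 6, 8, 10, 24]⟩))
  (.node (nat_lit 935) (.leaf ⟨6, 6, true, [0, 2, 18, 8, 18, 10, 8, 19, 19, 2], [8, 16, 8, 0, 19, 8, 19, 2, 10, 13, 8, 10, 6, 8, 4, 6, 4, 11, 6, 8, 11, 6, 8, 10, 22]⟩)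
  (.leaf ⟨6, 6, true, [8, 18, 8, 18, 8, 10, 8, 19, 16], [13, 18, 8, 19, 8, 19, 2, 4, 6, 8, 10, 10, 4, 6, 8, 11, 4, 6, 8, 4, 6, 4, 10, 6, 8, 10, 6, 8, 11, 12]⟩))))
  (.node (nat_lit 940) (.node (nat_lit 938) (.node (nat_lit 937) (.leaf ⟨6, 6, true, [18, 8, 19, 13, 16, 8, 19, 8, 16], [8, 18, 8, 18, 8, 18, 18, 10, 6, 8, 10, 6, 8, 4, 6, 4, 0, 13, 11, 8, 11, 13]⟩)
  (.leaf ⟨6, 6, true, [14, 12, 0, 19, 8, 10, 6, 8, 18], [19, 6, 18, 8, 19, 2, 11, 6, 8, 10, 10, 4, 6, 8, 11, 4, 6, 8, 4, 6, 4, 8, 11, 6, 20]⟩))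
  (.node (nat_lit 939) (.leaf ⟨6, 6, true, [2, 18, 8, 10, 6, 8, 18], [12, 10, 8, 19, 0, 2, 6, 8, 10, 4, 6, 8, 10, 4, 6, 8, 4, 6, 4, 0, 8, 11, 6, 8, 11, 23]⟩)
  (.leaf ⟨6, 6, true, [16, 14, 10, 8, 19, 19, 14], [2, 18, 8, 15, 19, 8, 19, 2, 13, 10, 8, 11, 6, 8, 10, 4, 6, 8, 4, 6, 4, 10, 6, 22]⟩)))
  (.node (nat_lit 942) (.node (nat_lit 941) (.leaf ⟨6, 6, true, [18, 13, 8, 0, 18, 8, 18, 10], [13, 19, 8, 19, 8, 0, 19, 2, 6, 8, 10, 6, 8, 11, 4, 6, 8, 4, 6, 4, 8, 11, 12, 6, 8, 11, 24]⟩)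
  (.leaf ⟨6, 6, true, [8, 18, 13, 18, 8, 6, 18, 8, 6], [16, 8, 19, 6, 18, 8, 19, 2, 6, 8, 4, 6, 4, 13, 11, 8, 10, 6, 8, 11, 21]⟩))
  (.node (nat_lit 943) (.leaf ⟨6, 5, true, [13, 10, 8, 6, 18, 8, 19, 6, 2], [8, 0, 2, 18, 8, 0, 18, 18, 4, 6, 8, 11, 12, 4, 6, 8, 11, 4, 6, 8, 4, 6, 4, 10, 6, 8, 10, 6, 25]⟩)
  (.leaf ⟨5, 6, true, [19, 6, 8, 10, 6, 8, 18], [6, 8, 19, 6, 8, 18, 18, 12, 11, 8, 6, 4, 0, 13, 10, 8, 11, 6, 8, 10, 6]⟩)))))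
  (.node (nat_lit 952) (.node (nat_lit 948) (.node (nat_lit 946) (.node (nat_lit 945) (.leaf ⟨6, 6, true, [14, 10, 8, 18, 8, 18], [15, 8, 19, 0, 2, 12, 11, 8, 10, 6, 8, 10, 4, 6, 8, 4, 6, 4, 6, 8, 10, 6, 8, 11, 21]⟩)
  (.leaf ⟨6, 6, true, [8, 15, 18, 8, 15, 18, 8, 19, 19, 2], [12, 0, 19, 6, 8, 18, 18, 13, 8, 11, 6, 8, 4, 6, 4, 10, 6, 8, 11, 6, 8, 10, 6, 22]⟩))
  (.node (nat_lit 947) (.leaf ⟨6, 6, true, [13, 14, 8, 19, 8, 16, 8, 19, 6, 2], [18, 0, 14, 8, 18, 18, 10, 10, 6, 8, 11, 4, 6, 8, 11, 4, 6, 8, 4, 6, 4, 11, 8, 11, 12, 6, 8, 11, 6, 22]⟩)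
  (.leaf ⟨6, 6, true, [12, 11, 8, 6, 18, 8, 18, 10], [6, 8, 18, 18, 8, 19, 8, 19, 2, 13, 11, 4, 6, 8, 10, 4, 6, 8, 4, 6, 4, 6, 8, 11, 6, 24]⟩)))
  (.node (nat_lit 950) (.node (nat_lit 949) (.leaf ⟨6, 6, true, [12, 19, 6, 8, 19, 8, 19, 2], [18, 8, 18, 18, 10, 8, 19, 2, 13, 10, 8, 11, 4, 6, 8, 10, 4, 6, 8, 4, 6, 4, 0, 10, 8, 10, 6, 8, 10, 6, 22]⟩)
  (.leaf ⟨6, 6, true, [14, 18, 8, 19, 19, 15, 8, 10, 6], [18, 18, 18, 8, 18, 18, 11, 6, 8, 11, 4, 6, 8, 11, 4, 6, 8, 4, 6, 4, 10, 6, 8, 11, 6, 8, 10, 24]⟩))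
  (.node (nat_lit 951) (.leaf ⟨6, 6, true, [14, 0, 19, 19, 8, 16], [14, 6, 18, 8, 0, 18, 18, 4, 10, 13, 8, 10, 6, 22]⟩)
  (.leaf ⟨6, 6, true, [6, 8, 19, 14, 6, 8, 19, 8, 19, 2], [13, 18, 8, 19, 10, 8, 19, 2, 4, 6, 4, 6, 8, 10, 6, 8, 11, 4, 6, 8, 4, 6, 4, 13, 6, 8, 11, 6, 23]⟩))))
  (.node (nat_lit 956) (.node (nat_lit 954) (.node (nat_lit 953) (.leaf ⟨6, 5, true, [0, 19, 6, 8, 18, 12, 8, 6, 18], [10, 8, 19, 14, 8, 19, 0, 2, 10, 13, 8, 10, 6, 8, 4, 6, 4, 0, 11, 8, 11, 6, 25]⟩)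
  (.leaf ⟨5, 6, true, [15, 12, 19, 6, 8, 18, 8, 18, 10], [15, 19, 10, 8, 19, 2, 6, 4, 0, 8, 11, 6, 8, 11, 6]⟩))
  (.node (nat_lit 955) (.leaf ⟨6, 5, true, [2, 19, 19, 8, 19, 8, 14, 10, 6], [19, 13, 19, 8, 19, 8, 19, 2, 8, 11, 13, 6, 8, 11, 4, 6, 8, 4, 6, 4, 11, 8, 11, 12, 6, 8, 11, 6, 22]⟩)
  (.leaf ⟨5, 6, true, [15, 0, 18, 12, 18, 8, 19, 8, 6, 2], [0, 18, 11, 8, 11, 4, 6, 8, 11, 4, 6, 8, 4, 6, 4, 0, 10, 10, 6, 8, 10, 22]⟩)))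
  (.node (nat_lit 958) (.node (nat_lit 957) (.leaf ⟨6, 6, true, [19, 8, 10, 6, 8, 19, 12, 19, 2], [18, 18, 8, 6, 18, 8, 19, 2, 12, 11, 8, 6, 4, 10, 13, 8, 10, 6, 24]⟩)
  (.leaf ⟨6, 6, true, [13, 15, 19, 8, 19, 12, 8, 16], [0, 15, 18, 8, 18, 18, 10, 6, 8, 11, 4, 6, 8, 10, 4, 6, 8, 4, 6, 4, 0, 13, 6, 8, 10, 24]⟩))
  (.node (nat_lit 959) (.leaf ⟨6, 3, true, [6, 8, 18, 13, 8, 19, 8, 19, 2], [0, 19, 2, 19, 8, 19, 2, 11, 6, 8, 11, 6, 4, 6, 8, 11, 4, 6, 8, 4, 6, 4, 8, 11, 6, 8, 11, 13]⟩)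
  (.leaf ⟨3, 6, true, [13, 19, 8, 16, 10], [14, 8, 19, 10, 8, 19, 2, 12, 8, 10, 6, 8, 4, 6, 4, 0, 8, 11, 6, 8, 10, 22]⟩))))))

noncomputable def f960 : FT := (.node (nat_lit 976) (.node (nat_lit 968) (.node (nat_lit 964) (.node (nat_lit 962) (.node (nat_lit 961) (.leaf ⟨6, 6, true, [6, 8, 18, 18, 8, 19, 8, 19, 2], [0, 18, 8, 18, 18, 10, 8, 19, 2, 13, 10, 8, 11, 4, 6, 8, 10, 4, 6, 8, 4, 6, 4, 0, 11, 11, 8, 10, 13]⟩)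
  (.leaf ⟨6, 6, true, [12, 16, 8, 19, 10, 6, 8, 6, 18], [15, 19, 8, 19, 8, 0, 19, 2, 10, 8, 4, 6, 4, 0, 10, 8, 10, 6, 8, 11, 24]⟩))
  (.node (nat_lit 963) (.leaf ⟨6, 6, true, [13, 8, 18, 8, 0, 18, 8, 18, 10], [14, 6, 0, 18, 8, 18, 18, 6, 8, 11, 8, 11, 4, 6, 8, 4, 6, 4, 12, 10, 6, 20]⟩)
  (.leaf ⟨6, 6, true, [8, 18, 10, 8, 19, 19, 8, 15, 8, 6], [10, 8, 0, 19, 19, 2, 10, 8, 4, 6, 4, 12, 10, 8, 10, 6, 8, 10, 12]⟩)))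
  (.node (nat_lit 966) (.node (nat_lit 965) (.leaf ⟨6, 6, true, [8, 19, 8, 6, 18, 8, 19, 6, 2], [8, 19, 6, 8, 19, 19, 2, 10, 8, 11, 4, 6, 8, 4, 6, 4, 10, 6, 8, 10, 6, 24]⟩)
  (.leaf ⟨6, 6, true, [19, 19, 8, 0, 19, 8, 16], [12, 18, 8, 0, 18, 18, 10, 8, 11, 4, 6, 8, 11, 4, 6, 8, 4, 6, 4, 8, 11, 13, 6, 8, 11, 6, 13]⟩))
  (.node (nat_lit 967) (.leaf ⟨6, 6, true, [8, 18, 8, 18, 8, 19, 14], [12, 8, 2, 18, 8, 18, 18, 11, 8, 11, 6, 4, 6, 8, 10, 4, 6, 8, 4, 6, 4, 11, 11, 8, 10, 6, 8, 11, 22]⟩)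
  (.leaf ⟨6, 6, true, [6, 0, 18, 8, 6], [18, 14, 18, 18, 8, 19, 2, 10, 8, 10, 10, 6, 8, 11, 4, 6, 8, 4, 6, 4, 12, 11, 6, 8, 10, 22]⟩))))
  (.node (nat_lit 972) (.node (nat_lit 970) (.node (nat_lit 969) (.leaf ⟨6, 6, true, [19, 8, 19, 16, 8, 11, 8, 6], [18, 8, 18, 8, 0, 18, 18, 6, 8, 11, 8, 11, 4, 6, 8, 4, 6, 4, 0, 13, 6, 8, 10, 6, 21]⟩)
  (.leaf ⟨6, 6, true, [19, 14, 8, 6, 18, 8, 19, 19, 14], [11, 8, 19, 15, 19, 8, 19, 2, 4, 6, 8, 11, 13, 4, 6, 8, 11, 4, 6, 8, 4, 6, 4, 8, 10, 10, 6, 8, 11, 20]⟩))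
  (.node (nat_lit 971) (.leaf ⟨6, 6, true, [8, 18, 18, 13, 18, 8, 6, 18, 10], [18, 18, 12, 8, 19, 8, 19, 2, 10, 6, 8, 10, 6, 8, 4, 6, 4, 0, 8, 10, 6, 8, 11, 6, 25]⟩)
  (.leaf ⟨6, 6, true, [16, 8, 19, 15, 19, 8, 19, 8, 16], [8, 18, 0, 14, 8, 18, 18, 6, 8, 10, 8, 10, 4, 6, 8, 4, 6, 4, 0, 8, 11, 8, 11, 6, 8, 11, 21]⟩)))
  (.node (nat_lit 974) (.node (nat_lit 973) (.leaf ⟨6, 5, true, [8, 15, 19, 12, 6, 8, 6, 18], [8, 6, 18, 8, 2, 18, 18, 10, 8, 10, 6, 8, 4, 6, 4, 13, 11, 8, 11, 13]⟩)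
  (.leaf ⟨5, 6, true, [0, 19, 6, 8, 15, 8, 19, 8, 19, 2], [13, 19, 8, 16, 8, 19, 19, 2, 11, 13, 6, 8, 10, 4, 6, 8, 4, 6, 4, 0, 8, 10, 10, 6, 8, 10, 24]⟩))
  (.node (nat_lit 975) (.leaf ⟨6, 6, true, [0, 19, 8, 6, 18, 10, 8, 6], [19, 15, 19, 8, 6, 18, 8, 19, 2, 6, 4, 6, 8, 10, 4, 6, 8, 4, 6, 4, 12, 8, 10, 6]⟩)
  (.leaf ⟨6, 6, true, [18, 10, 8, 18, 8, 19, 19, 14], [8, 18, 8, 18, 8, 19, 2, 6, 8, 10, 6, 8, 11, 4, 6, 8, 10, 4, 6, 8, 4, 6, 4, 13, 10, 8, 10, 23]⟩)))))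
  (.node (nat_lit 984) (.node (nat_lit 980) (.node (nat_lit 978) (.node (nat_lit 977) (.leaf ⟨6, 5, true, [13, 6, 18, 8, 18, 8, 18], [0, 15, 18, 10, 8, 18, 18, 11, 4, 6, 8, 10, 4, 6, 8, 11, 4, 6, 8, 4, 6, 4, 10, 6]⟩)
  (.leaf ⟨5, 6, true, [14, 0, 19, 19, 8, 19, 8, 16], [0, 16, 8, 6, 18, 8, 19, 2, 6, 8, 11, 6, 8, 10, 4, 6, 8, 4, 6, 4, 10, 13, 8, 10, 6, 13]⟩))
  (.node (nat_lit 979) (.leaf ⟨6, 6, true, [10, 8, 19, 6, 8, 19, 14, 6], [19, 12, 8, 19, 8, 19, 2, 11, 6, 8, 10, 10, 4, 6, 8, 11, 4, 6, 8, 4, 6, 4, 12, 8, 11, 6, 21]⟩)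
  (.leaf ⟨6, 6, true, [8, 19, 6, 8, 10, 6, 8, 18], [0, 14, 8, 18, 18, 10, 8, 19, 2, 12, 8, 11, 6, 8, 10, 4, 6, 8, 4, 6, 4, 0, 11, 12, 6, 8, 11]⟩)))
  (.node (nat_lit 982) (.node (nat_lit 981) (.leaf ⟨6, 6, true, [19, 15, 8, 6], [19, 19, 8, 19, 2, 13, 6, 8, 10, 4, 6, 8, 4, 6, 4, 0, 11, 13, 8, 10, 6, 8, 11, 24]⟩)
  (.leaf ⟨6, 6, true, [8, 18, 18, 8, 18], [19, 8, 6, 18, 10, 8, 19, 2, 11, 8, 10, 6, 8, 11, 4, 6, 8, 4, 6, 4, 0, 8, 11, 13, 6, 8, 11, 22]⟩))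
  (.node (nat_lit 983) (.leaf ⟨6, 6, true, [8, 0, 19, 8, 19, 8, 19, 15], [19, 2, 12, 10, 8, 6, 4, 0, 10, 8, 10, 6, 8, 10, 6, 24]⟩)
  (.leaf ⟨6, 6, true, [10, 8, 6, 18, 8, 19, 8, 19, 2], [0, 2, 11, 13, 6, 8, 11, 4, 6, 8, 10, 4, 6, 8, 4, 6, 4, 8, 10, 8, 10, 6, 12]⟩))))
  (.node (nat_lit 988) (.node (nat_lit 986) (.node (nat_lit 985) (.leaf ⟨6, 6, true, [16, 8, 19, 19, 14, 8, 6], [15, 8, 6, 18, 8, 19, 2, 12, 11, 8, 11, 4, 6, 8, 4, 6, 4, 8, 10, 6, 8, 11, 6, 20]⟩)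
  (.leaf ⟨6, 6, true, [14, 8, 0, 19, 19, 8, 16], [19, 8, 15, 18, 8, 18, 18, 10, 10, 6, 8, 10, 4, 6, 8, 4, 6, 4, 6, 8, 10, 22]⟩))
  (.node (nat_lit 987) (.leaf ⟨6, 5, true, [8, 19, 19, 19, 8, 10, 8, 19, 2], [8, 0, 19, 10, 8, 19, 2, 11, 6, 8, 4, 6, 4, 0, 13, 8, 10, 6, 8, 11, 24]⟩)
  (.leaf ⟨5, 6, true, [0, 19, 16, 10, 8, 19, 8, 6, 2], [2, 18, 8, 19, 8, 0, 19, 2, 4, 6, 4, 0, 10, 10, 6, 8, 10, 25]⟩)))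
  (.node (nat_lit 990) (.node (nat_lit 989) (.leaf ⟨6, 3, true, [14, 18, 11, 8, 18, 8, 19, 16], [12, 8, 0, 18, 8, 18, 18, 10, 10, 4, 6, 8, 11, 4, 6, 8, 10, 4, 6, 8, 4, 6, 4, 11, 11, 8, 10, 6, 8, 11, 22]⟩)
  (.leaf ⟨3, 6, true, [13, 8, 0, 15, 18, 8, 19, 8, 19, 2], [12, 0, 19, 8, 19, 2, 6, 8, 10, 8, 10, 4, 6, 8, 10, 4, 6, 8, 4, 6, 4, 8, 10, 6, 8, 10, 6, 21]⟩))
  (.node (nat_lit 991) (.leaf ⟨6, 5, true, [4, 14, 10, 6, 8, 19, 8, 19, 2], [2, 18, 8, 0, 18, 18, 12, 6, 8, 10, 4, 6, 8, 11, 4, 6, 8, 4, 6, 4, 12, 10, 25]⟩)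
  (.leaf ⟨5, 6, true, [12, 16, 8, 19, 6, 18, 8, 6], [0, 19, 8, 19, 10, 8, 19, 2, 12, 4, 6, 8, 10, 4, 6, 8, 11, 4, 6, 8, 4, 6, 4, 10, 8, 11, 6, 8, 11, 6, 20]⟩))))))

noncomputable def f992 : FT := (.node (nat_lit 1008) (.node (nat_lit 1000) (.node (nat_lit 996) (.node (nat_lit 994) (.node (nat_lit 993) (.leaf ⟨6, 6, true, [18, 0, 15, 8, 6, 18, 8, 19, 6, 2], [8, 15, 18, 8, 0, 18, 18, 4, 6, 8, 10, 4, 6, 8, 4, 6, 4, 10, 10, 6, 13]⟩)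
  (.leaf ⟨6, 6, true, [18, 13, 18, 8, 19, 8, 19, 15], [0, 18, 8, 18, 8, 19, 2, 10, 8, 10, 10, 6, 8, 11, 4, 6, 8, 4, 6, 4, 10, 8, 11, 11, 6, 8, 11, 22]⟩))
  (.node (nat_lit 995) (.leaf ⟨6, 6, true, [0, 14, 8, 18, 10, 8, 19, 6, 2], [19, 0, 19, 10, 8, 19, 2, 6, 8, 11, 6, 8, 10, 4, 6, 8, 4, 6, 4, 8, 11, 6, 8, 10, 12]⟩)
  (.leaf ⟨6, 6, true, [19, 19, 8, 6, 18, 8, 19, 16], [8, 14, 4, 6, 8, 18, 18, 11, 12, 6, 8, 11, 4, 6, 8, 4, 6, 4, 13, 11, 8, 10, 6, 8, 11, 22]⟩)))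
  (.node (nat_lit 998) (.node (nat_lit 997) (.leaf ⟨6, 6, true, [2, 18, 8, 19, 8, 14, 6], [10, 10, 8, 19, 0, 2, 11, 6, 8, 11, 4, 6, 8, 4, 6, 4, 0, 11, 13, 8, 10, 6, 8, 11, 21]⟩)
  (.leaf ⟨6, 6, true, [8, 18, 8, 0, 19, 16], [14, 6, 8, 0, 19, 8, 19, 2, 6, 8, 11, 8, 11, 4, 6, 8, 11, 4, 6, 8, 4, 6, 4, 13, 10, 8, 11, 6, 8, 10, 6]⟩))
  (.node (nat_lit 999) (.leaf ⟨6, 6, true, [12, 10, 6, 8, 19, 6, 8, 6, 18], [10, 8, 6, 18, 8, 19, 2, 8, 10, 4, 6, 8, 4, 6, 4, 0, 8, 11, 13, 6, 8, 11, 6, 21]⟩)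
  (.leaf ⟨6, 6, true, [18, 18, 18, 8, 6, 18], [12, 0, 2, 18, 8, 0, 18, 18, 11, 8, 11, 6, 8, 4, 6, 4, 0, 12, 6, 8, 10, 24]⟩))))
  (.node (nat_lit 1004) (.node (nat_lit 1002) (.node (nat_lit 1001) (.leaf ⟨6, 6, true, [8, 18, 8, 15, 19, 6, 8, 6, 18], [8, 18, 8, 6, 18, 8, 19, 2, 6, 8, 10, 4, 6, 8, 10, 4, 6, 8, 4, 6, 4, 13, 8, 11, 6, 8, 10, 22]⟩)
  (.leaf ⟨6, 6, true, [18, 13, 18, 11, 8, 18, 8, 18], [19, 6, 8, 18, 18, 8, 10, 13, 6, 8, 10, 4, 6, 8, 4, 6, 4, 13, 8, 11, 6, 8, 10, 22]⟩))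
  (.node (nat_lit 1003) (.leaf ⟨6, 6, true, [15, 19, 14, 8, 19, 8, 19, 8, 6, 2], [16, 12, 0, 19, 8, 19, 2, 4, 6, 8, 11, 13, 4, 6, 8, 10, 4, 6, 8, 4, 6, 4, 8, 11, 8, 11, 6, 20]⟩)
  (.leaf ⟨6, 6, true, [18, 12, 4, 6, 8, 6, 18], [8, 18, 14, 18, 18, 8, 18, 18, 10, 4, 6, 8, 11, 6, 8, 10, 4, 6, 8, 4, 6, 4, 12, 8, 10, 20]⟩)))
  (.node (nat_lit 1006) (.node (nat_lit 1005) (.leaf ⟨6, 6, true, [12, 0, 16, 8, 6, 18, 8, 6], [8, 16, 8, 19, 8, 19, 2, 4, 6, 4, 0, 12, 11, 20]⟩)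
  (.leaf ⟨6, 6, true, [6, 8, 6, 0, 18, 8, 6], [19, 8, 19, 8, 19, 8, 19, 2, 11, 8, 11, 6, 8, 4, 6, 4, 0, 13, 11, 8, 11, 25]⟩))
  (.node (nat_lit 1007) (.leaf ⟨6, 6, true, [14, 13, 8, 19, 8, 19, 14, 8, 6], [16, 8, 0, 19, 8, 19, 2, 8, 11, 8, 11, 4, 6, 8, 10, 4, 6, 8, 4, 6, 4, 8, 10, 6, 8, 11, 6, 22]⟩)
  (.leaf ⟨6, 6, true, [0, 18, 8, 18, 18, 12, 10, 8, 6], [6, 8, 0, 18, 18, 13, 11, 6, 8, 10, 4, 6, 8, 4, 6, 4, 6, 8, 11, 6, 8, 10, 6, 12]⟩)))))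
  (.node (nat_lit 1016) (.node (nat_lit 1012) (.node (nat_lit 1010) (.node (nat_lit 1009) (.leaf ⟨3, 6, true, [8, 18, 12, 8, 18, 8, 18, 12, 10], [13, 14, 8, 18, 8, 18, 18, 10, 8, 11, 4, 6, 8, 4, 6, 4, 12, 8, 11, 23]⟩)
  (.leaf ⟨6, 3, true, [2, 19, 12, 19, 8, 19, 8, 16], [0, 14, 6, 18, 8, 0, 18, 18, 10, 10, 8, 4, 6, 4, 11, 13, 8, 10, 6, 8, 11, 23]⟩))
  (.node (nat_lit 1011) (.leaf ⟨6, 6, true, [19, 8, 16, 8, 19, 8, 6, 2], [6, 8, 19, 8, 19, 2, 11, 8, 10, 4, 6, 8, 11, 4, 6, 8, 4, 6, 4, 10, 8, 10, 6, 8, 10, 6]⟩)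
  (.leaf ⟨6, 6, true, [0, 19, 8, 19, 10, 8, 19, 8, 6, 2], [14, 8, 19, 19, 2, 11, 8, 11, 4, 6, 8, 11, 4, 6, 8, 4, 6, 4, 0, 12, 11, 6, 23]⟩)))
  (.node (nat_lit 1014) (.node (nat_lit 1013) (.leaf ⟨6, 6, true, [14, 18, 8, 18, 8, 19, 8, 16], [19, 2, 19, 8, 19, 2, 11, 6, 8, 10, 4, 6, 8, 4, 6, 4, 13, 6, 8, 10, 20]⟩)
  (.leaf ⟨6, 6, true, [18, 8, 15, 19, 6, 8, 19, 16], [10, 8, 19, 8, 19, 2, 12, 11, 8, 11, 6, 8, 4, 6, 4, 8, 10, 13, 6, 8, 10, 23]⟩))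
  (.node (nat_lit 1015) (.leaf ⟨6, 6, true, [6, 18, 8, 19, 8, 0, 19, 8, 6, 2], [2, 19, 12, 19, 8, 19, 2, 11, 13, 6, 8, 11, 4, 6, 8, 10, 4, 6, 8, 4, 6, 4, 12, 8, 11, 6]⟩)
  (.leaf ⟨6, 6, true, [10, 10, 10, 8, 19, 8, 19, 2], [12, 18, 8, 19, 8, 0, 19, 2, 12, 11, 4, 6, 8, 10, 4, 6, 8, 4, 6, 4, 10, 6, 8, 11, 24]⟩))))
  (.node (nat_lit 1020) (.node (nat_lit 1018) (.node (nat_lit 1017) (.leaf ⟨6, 6, true, [10, 12, 19, 8, 0, 19, 8, 6, 2], [10, 12, 8, 18, 8, 18, 18, 6, 8, 11, 4, 6, 8, 10, 4, 6, 8, 4, 6, 4, 0, 12, 10, 6, 8, 10, 20]⟩)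
  (.leaf ⟨6, 6, true, [6, 8, 18, 8, 6, 18, 8, 18, 11], [18, 8, 0, 19, 10, 8, 19, 2, 6, 8, 11, 13, 4, 6, 8, 11, 4, 6, 8, 4, 6, 4, 11, 13, 8, 10, 6, 8, 11, 21]⟩))
  (.node (nat_lit 1019) (.leaf ⟨6, 5, true, [19, 14, 6, 8, 18, 8, 18], [16, 8, 19, 8, 0, 19, 2, 6, 8, 11, 8, 11, 4, 6, 8, 4, 6, 4, 0, 10, 8, 10, 10, 6, 8, 11, 20]⟩)
  (.leaf ⟨5, 6, true, [19, 16, 13, 8, 6, 18, 8, 18], [13, 18, 8, 19, 8, 0, 19, 2, 10, 6, 8, 11, 6, 8, 10, 4, 6, 8, 4, 6, 4, 0, 10, 6, 8, 11, 6, 8, 10, 6]⟩)))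
  (.node (nat_lit 1022) (.node (nat_lit 1021) (.leaf ⟨6, 6, true, [19, 6, 8, 0, 15, 18, 8, 18], [13, 0, 19, 8, 19, 8, 19, 2, 6, 8, 4, 6, 4, 0, 11, 13, 6, 8, 11, 20]⟩)
  (.leaf ⟨6, 6, true, [19, 12, 0, 19, 11, 8, 19, 8, 6, 2], [14, 6, 8, 18, 8, 19, 19, 2, 10, 8, 10, 6, 8, 11, 4, 6, 8, 4, 6, 4, 12, 11, 8, 10, 12]⟩))
  (.node (nat_lit 1023) (.leaf ⟨6, 6, true, [13, 11, 8, 6, 18, 8, 6, 18], [12, 8, 18, 8, 18, 18, 6, 8, 4, 6, 4, 13, 10, 8, 11, 6, 8, 10, 6, 13]⟩)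
  (.leaf ⟨6, 6, true, [13, 15, 8, 18, 8, 6, 18, 8, 18, 10], [18, 14, 8, 19, 8, 19, 2, 8, 10, 8, 4, 6, 4, 12, 11, 6, 12]⟩))))))

noncomputable def f1024 : FT := (.node (nat_lit 1040) (.node (nat_lit 1032) (.node (nat_lit 1028) (.node (nat_lit 1026) (.node (nat_lit 1025) (.leaf ⟨6, 6, true, [0, 19, 8, 19, 8, 19, 15], [12, 10, 8, 19, 19, 2, 10, 4, 6, 8, 11, 12, 4, 6, 8, 11, 4, 6, 8, 4, 6, 4, 8, 11, 8, 11, 6, 8, 11, 20]⟩)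
  (.leaf ⟨6, 6, true, [0, 19, 8, 6, 18, 8, 19, 14, 6], [12, 0, 18, 8, 18, 18, 11, 6, 8, 10, 13, 4, 6, 8, 10, 4, 6, 8, 4, 6, 4, 11, 11, 8, 10, 13]⟩))
  (.node (nat_lit 1027) (.leaf ⟨6, 6, true, [14, 8, 0, 15, 18, 8, 18, 10, 10], [14, 18, 18, 10, 8, 18, 18, 11, 6, 8, 10, 13, 4, 6, 8, 10, 4, 6, 8, 4, 6, 4, 11, 8, 10, 13]⟩)
  (.leaf ⟨6, 6, true, [12, 19, 8, 0, 19, 8, 19, 8, 6, 2], [18, 14, 10, 8, 19, 19, 2, 10, 6, 8, 10, 6, 8, 4, 6, 4, 0, 11, 8, 10, 6, 8, 11, 6, 13]⟩)))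
  (.node (nat_lit 1030) (.node (nat_lit 1029) (.leaf ⟨6, 6, true, [12, 18, 13, 18, 8, 6, 18], [18, 8, 6, 18, 8, 19, 0, 2, 12, 11, 8, 4, 6, 4, 0, 10, 13, 8, 10, 24]⟩)
  (.leaf ⟨6, 6, true, [0, 14, 6, 8, 18, 8, 19, 19, 15], [2, 19, 8, 6, 18, 8, 19, 2, 10, 13, 4, 6, 8, 10, 4, 6, 8, 4, 6, 4, 10, 8, 10, 6, 8, 10, 6, 20]⟩))
  (.node (nat_lit 1031) (.leaf ⟨6, 6, true, [13, 8, 18, 8, 18, 8, 18, 11], [15, 18, 8, 18, 18, 12, 10, 4, 6, 8, 4, 6, 4, 0, 11, 8, 11, 12, 6, 8, 11, 6, 22]⟩)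
  (.leaf ⟨6, 6, true, [0, 15, 18, 8, 18, 4, 14, 8, 6], [14, 6, 18, 8, 0, 18, 18, 11, 6, 8, 10, 13, 4, 6, 8, 10, 4, 6, 8, 4, 6, 4, 12, 8, 10, 12]⟩))))
  (.node (nat_lit 1036) (.node (nat_lit 1034) (.node (nat_lit 1033) (.leaf ⟨6, 6, true, [15, 8, 0, 15, 18, 8, 18, 10, 10], [0, 16, 8, 6, 18, 8, 19, 2, 13, 10, 8, 10, 4, 6, 8, 4, 6, 4, 10, 10, 6, 8, 10, 23]⟩)
  (.leaf ⟨6, 6, true, [10, 8, 19, 8, 16, 8, 19, 19, 2], [15, 19, 8, 6, 18, 8, 19, 2, 8, 11, 6, 8, 11, 4, 6, 8, 11, 4, 6, 8, 4, 6, 4, 0, 8, 10, 6, 8, 10, 22]⟩))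
  (.node (nat_lit 1035) (.leaf ⟨6, 6, true, [18, 0, 14, 8, 18, 10, 8, 19, 6, 2], [13, 14, 8, 0, 19, 8, 19, 2, 8, 10, 8, 10, 4, 6, 8, 10, 4, 6, 8, 4, 6, 4, 10, 8, 11, 11, 6, 8, 11, 21]⟩)
  (.leaf ⟨6, 6, true, [6, 8, 18, 12, 18, 8, 6], [8, 2, 18, 8, 18, 18, 6, 8, 11, 6, 4, 6, 8, 10, 4, 6, 8, 4, 6, 4, 13, 8, 11, 6, 8, 10, 12]⟩)))
  (.node (nat_lit 1038) (.node (nat_lit 1037) (.leaf ⟨6, 6, true, [12, 16, 8, 6, 18, 12, 8, 18], [6, 18, 10, 8, 19, 0, 2, 11, 6, 8, 11, 4, 6, 8, 11, 4, 6, 8, 4, 6, 4, 11, 11, 8, 11, 6, 8, 11, 23]⟩)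
  (.leaf ⟨6, 6, true, [19, 0, 16, 8, 6, 18, 8, 19, 6, 2], [16, 12, 0, 19, 8, 19, 2, 11, 11, 8, 11, 6, 8, 11, 4, 6, 8, 4, 6, 4, 10, 8, 11, 6, 8, 10, 24]⟩))
  (.node (nat_lit 1039) (.leaf ⟨6, 6, true, [12, 0, 19, 8, 16, 8, 19, 19, 14], [14, 8, 0, 18, 10, 8, 18, 18, 8, 11, 13, 4, 6, 8, 11, 4, 6, 8, 4, 6, 4, 13, 8, 11, 13]⟩)
  (.leaf ⟨6, 6, true, [18, 8, 18, 4, 14, 8, 10, 6], [12, 19, 8, 16, 8, 19, 19, 2, 4, 6, 8, 10, 4, 6, 8, 10, 4, 6, 8, 4, 6, 4, 0, 12, 8, 10, 6, 8, 10, 21]⟩)))))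
  (.node (nat_lit 1048) (.node (nat_lit 1044) (.node (nat_lit 1042) (.node (nat_lit 1041) (.leaf ⟨6, 6, true, [14, 18, 18, 8, 18, 8, 6, 18, 10], [19, 6, 18, 8, 19, 8, 19, 2, 4, 6, 4, 6, 8, 10, 6, 8, 11, 4, 6, 8, 4, 6, 4, 12, 10, 6, 8, 10, 24]⟩)
  (.leaf ⟨6, 6, true, [18, 18, 12, 8, 18], [14, 8, 0, 18, 8, 18, 18, 10, 8, 11, 4, 6, 8, 4, 6, 4, 0, 13, 10, 8, 11, 6, 8, 10, 6, 24]⟩))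
  (.node (nat_lit 1043) (.leaf ⟨6, 6, true, [18, 12, 0, 14, 8, 18, 8, 18], [15, 8, 18, 8, 19, 8, 19, 2, 4, 6, 8, 11, 6, 8, 10, 4, 6, 8, 4, 6, 4, 0, 12, 11, 6, 8, 10, 6]⟩)
  (.leaf ⟨6, 6, true, [14, 0, 18, 18, 8, 19, 14, 10, 8, 6], [0, 19, 12, 10, 8, 19, 2, 10, 8, 10, 4, 6, 8, 10, 4, 6, 8, 4, 6, 4, 10, 23]⟩)))
  (.node (nat_lit 1046) (.node (nat_lit 1045) (.leaf ⟨3, 6, true, [18, 10, 8, 0, 19, 8, 19, 8, 14, 6], [19, 6, 8, 19, 19, 2, 11, 12, 8, 10, 6, 8, 4, 6, 4, 11, 24]⟩)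
  (.leaf ⟨6, 3, true, [11, 12, 8, 6, 18, 8, 19, 16], [13, 19, 10, 8, 19, 8, 19, 2, 8, 11, 6, 4, 6, 8, 11, 4, 6, 8, 4, 6, 4, 11, 8, 11, 6, 8, 11, 23]⟩))
  (.node (nat_lit 1047) (.leaf ⟨6, 6, true, [14, 12, 0, 19, 8, 19, 8, 6, 2], [6, 8, 16, 8, 19, 19, 2, 8, 11, 6, 4, 6, 8, 10, 4, 6, 8, 4, 6, 4, 11, 8, 10, 6, 25]⟩)
  (.leaf ⟨6, 6, true, [12, 18, 8, 19, 8, 19, 2], [6, 8, 19, 8, 19, 2, 8, 11, 8, 11, 4, 6, 8, 4, 6, 4, 10, 10, 6, 8, 11, 25]⟩))))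
  (.node (nat_lit 1052) (.node (nat_lit 1050) (.node (nat_lit 1049) (.leaf ⟨6, 6, true, [8, 18, 13, 8, 18, 8, 18, 10], [8, 15, 19, 8, 0, 19, 2, 8, 10, 6, 8, 10, 4, 6, 8, 4, 6, 4, 0, 10, 12, 8, 11, 6]⟩)
  (.leaf ⟨6, 6, true, [19, 19, 13, 8, 19, 8, 16, 10], [15, 12, 0, 19, 8, 19, 2, 11, 6, 8, 10, 4, 6, 8, 4, 6, 4, 0, 8, 10, 21]⟩))
  (.node (nat_lit 1051) (.leaf ⟨6, 6, true, [16, 10, 12, 8, 19, 6, 8, 6, 18], [18, 8, 19, 19, 2, 12, 8, 10, 4, 6, 8, 11, 4, 6, 8, 4, 6, 4, 13, 10, 8, 10, 6, 8, 10, 22]⟩)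
  (.leaf ⟨6, 6, true, [14, 10, 8, 19, 8, 19, 12, 8, 16], [15, 8, 18, 8, 18, 8, 19, 2, 10, 6, 8, 10, 4, 6, 8, 10, 4, 6, 8, 4, 6, 4, 0, 11, 8, 10, 6, 12]⟩)))
  (.node (nat_lit 1054) (.node (nat_lit 1053) (.leaf ⟨6, 6, true, [19, 0, 19, 8, 16, 8, 19, 19, 14], [0, 15, 18, 8, 18, 18, 10, 8, 10, 6, 8, 4, 6, 4, 0, 13, 10, 8, 11, 13]⟩)
  (.leaf ⟨6, 6, true, [2, 18, 8, 15, 8, 19, 6, 8, 18], [8, 0, 14, 18, 18, 8, 19, 2, 11, 6, 8, 11, 4, 6, 8, 10, 4, 6, 8, 4, 6, 4, 0, 10, 13, 8, 11, 13]⟩))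
  (.node (nat_lit 1055) (.leaf ⟨6, 6, true, [8, 19, 13, 8, 16, 8, 19, 6, 2], [19, 2, 19, 8, 19, 2, 10, 8, 10, 4, 6, 8, 4, 6, 4, 11, 6, 8, 11, 6, 22]⟩)
  (.leaf ⟨6, 6, true, [8, 16, 8, 0, 15, 18, 8, 19, 16], [19, 8, 19, 8, 19, 8, 19, 2, 12, 11, 8, 10, 4, 6, 8, 10, 4, 6, 8, 4, 6, 4, 11, 13, 6, 8, 10, 13]⟩))))))

noncomputable def f1056 : FT := (.node (nat_lit 1072) (.node (nat_lit 1064) (.node (nat_lit 1060) (.node (nat_lit 1058) (.node (nat_lit 1057) (.leaf ⟨6, 6, true, [6, 18, 8, 6, 0, 18], [8, 16, 8, 6, 18, 8, 19, 2, 12, 10, 6, 8, 4, 6, 4, 0, 10, 8, 10, 10, 6, 8, 11]⟩)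
  (.leaf ⟨6, 6, true, [6, 8, 6, 18, 8, 19, 2], [12, 6, 0, 18, 8, 18, 18, 11, 13, 8, 10, 6, 8, 11, 4, 6, 8, 4, 6, 4, 11, 12, 6, 8, 11, 6]⟩))
  (.node (nat_lit 1059) (.leaf ⟨6, 6, true, [18, 14, 18, 13, 18, 8, 6, 18], [10, 8, 19, 0, 2, 13, 11, 6, 8, 11, 4, 6, 8, 11, 4, 6, 8, 4, 6, 4, 13, 8, 11, 24]⟩)
  (.leaf ⟨6, 6, true, [8, 11, 8, 19, 19, 2], [12, 0, 14, 8, 18, 8, 18, 18, 6, 8, 11, 4, 6, 8, 11, 4, 6, 8, 4, 6, 4, 12, 10, 24]⟩)))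
  (.node (nat_lit 1062) (.node (nat_lit 1061) (.leaf ⟨6, 6, true, [15, 13, 18, 8, 18, 8, 18, 12, 10], [12, 10, 8, 18, 8, 18, 18, 8, 11, 13, 6, 8, 10, 4, 6, 8, 4, 6, 4, 6, 8, 11, 6, 20]⟩)
  (.leaf ⟨6, 6, true, [18, 8, 18, 8, 4, 14, 8, 6], [19, 12, 10, 8, 19, 8, 19, 2, 13, 11, 4, 6, 8, 10, 4, 6, 8, 10, 4, 6, 8, 4, 6, 4, 11, 6, 8, 11, 6]⟩))
  (.node (nat_lit 1063) (.leaf ⟨6, 5, true, [6, 18, 8, 18, 18, 8, 6], [14, 18, 12, 18, 8, 18, 18, 13, 8, 10, 6, 8, 4, 6, 4, 10, 12, 6, 8, 10, 22]⟩)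
  (.leaf ⟨5, 6, true, [15, 8, 19, 19, 2], [12, 8, 19, 6, 8, 18, 18, 12, 6, 8, 11, 4, 6, 8, 10, 4, 6, 8, 4, 6, 4, 11, 11, 8, 11, 6, 8, 11, 20]⟩))))
  (.node (nat_lit 1068) (.node (nat_lit 1066) (.node (nat_lit 1065) (.leaf ⟨6, 6, true, [19, 8, 0, 19, 12, 8, 14, 6], [15, 11, 8, 0, 19, 8, 19, 2, 13, 10, 8, 11, 6, 8, 11, 4, 6, 8, 4, 6, 4, 10, 8, 10, 6, 8, 11, 20]⟩)
  (.leaf ⟨6, 6, true, [8, 19, 8, 16, 8, 19, 19, 14], [14, 18, 8, 18, 18, 12, 8, 10, 4, 6, 8, 11, 4, 6, 8, 4, 6, 4, 12, 8, 10, 6, 8, 10, 13]⟩))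
  (.node (nat_lit 1067) (.leaf ⟨6, 6, true, [13, 0, 19, 6, 8, 6, 18, 10], [19, 16, 8, 19, 10, 8, 19, 2, 8, 10, 4, 6, 8, 11, 4, 6, 8, 4, 6, 4, 0, 6, 8, 11, 22]⟩)
  (.leaf ⟨6, 6, true, [0, 19, 12, 8, 16], [6, 18, 8, 19, 2, 12, 11, 6, 8, 10, 4, 6, 8, 10, 4, 6, 8, 4, 6, 4, 10, 8, 11, 11, 6, 8, 11, 13]⟩)))
  (.node (nat_lit 1070) (.node (nat_lit 1069) (.leaf ⟨6, 6, true, [13, 18, 8, 15, 18, 8, 6, 18], [18, 18, 18, 8, 18, 18, 8, 11, 6, 8, 10, 4, 6, 8, 4, 6, 4, 10, 13, 8, 11, 6, 25]⟩)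
  (.leaf ⟨6, 6, true, [12, 0, 18, 8, 6, 18, 8, 6], [8, 18, 18, 18, 8, 18, 18, 8, 11, 12, 4, 6, 8, 11, 4, 6, 8, 4, 6, 4, 12, 10, 8, 10, 21]⟩))
  (.node (nat_lit 1071) (.leaf ⟨6, 6, true, [12, 16, 8, 19, 19, 15], [14, 8, 19, 8, 0, 19, 2, 10, 8, 6, 4, 6, 8, 11, 8, 11, 6]⟩)
  (.leaf ⟨6, 6, true, [6, 18, 13, 8, 19, 8, 19, 2], [6, 8, 18, 18, 8, 19, 8, 19, 2, 11, 8, 10, 4, 6, 8, 4, 6, 4, 0, 8, 10, 10, 6, 8, 11, 22]⟩)))))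
  (.node (nat_lit 1080) (.node (nat_lit 1076) (.node (nat_lit 1074) (.node (nat_lit 1073) (.leaf ⟨6, 5, true, [18, 8, 14, 18, 18, 8, 19, 14, 6], [19, 0, 19, 12, 10, 8, 19, 2, 11, 8, 11, 4, 6, 8, 4, 6, 4, 6, 8, 11, 6, 8, 10, 6, 13]⟩)
  (.leaf ⟨5, 6, true, [14, 10, 6, 8, 19, 19, 14], [0, 19, 15, 19, 8, 19, 2, 13, 11, 8, 11, 6, 8, 4, 6, 4, 10, 8, 10, 6, 8, 10, 25]⟩))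
  (.node (nat_lit 1075) (.leaf ⟨6, 5, true, [18, 13, 15, 18, 8, 18, 10, 8, 18], [19, 19, 0, 2, 6, 8, 11, 6, 4, 6, 8, 10, 4, 6, 8, 4, 6, 4, 11, 11, 25]⟩)
  (.leaf ⟨5, 6, true, [12, 8, 19, 8, 19, 19, 2], [19, 12, 19, 8, 0, 19, 2, 10, 6, 8, 11, 12, 4, 6, 8, 11, 4, 6, 8, 4, 6, 4, 10, 8, 11, 6, 8, 11, 6, 22]⟩)))
  (.node (nat_lit 1078) (.node (nat_lit 1077) (.leaf ⟨6, 5, true, [12, 0, 15, 8, 18, 8, 6, 0, 18], [11, 8, 19, 19, 2, 10, 8, 11, 6, 8, 4, 6, 4, 0, 8, 10, 6, 8, 10, 22]⟩)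
  (.leaf ⟨5, 6, true, [0, 19, 13, 11, 8, 19, 8, 14, 6], [15, 8, 0, 19, 8, 19, 2, 8, 11, 4, 6, 8, 10, 4, 6, 8, 4, 6, 4, 11, 13, 6, 8, 11]⟩))
  (.node (nat_lit 1079) (.leaf ⟨6, 6, true, [19, 12, 16], [8, 0, 19, 2, 10, 4, 6, 8, 11, 4, 6, 8, 4, 6, 4, 11, 13, 6, 8, 10, 6, 21]⟩)
  (.leaf ⟨6, 6, true, [6, 8, 6, 18, 8, 6, 18, 8, 6], [19, 2, 4, 6, 8, 4, 6, 4, 0, 12, 10, 6]⟩))))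
  (.node (nat_lit 1084) (.node (nat_lit 1082) (.node (nat_lit 1081) (.leaf ⟨6, 6, true, [15, 11, 8, 19, 8, 19, 12, 8, 16], [18, 8, 15, 0, 19, 8, 19, 2, 6, 8, 10, 6, 4, 6, 8, 11, 4, 6, 8, 4, 6, 4, 11, 13, 8, 10, 6, 8, 11, 24]⟩)
  (.leaf ⟨6, 6, true, [8, 14, 10, 8, 19, 19, 2], [15, 8, 18, 8, 0, 18, 18, 10, 13, 8, 10, 4, 6, 8, 4, 6, 4, 12, 11, 8, 11, 20]⟩))
  (.node (nat_lit 1083) (.leaf ⟨6, 6, true, [8, 0, 19, 6, 8, 16, 8, 19, 16], [8, 0, 18, 8, 18, 8, 19, 2, 12, 11, 6, 8, 10, 4, 6, 8, 10, 4, 6, 8, 4, 6, 4, 12, 6, 8, 10, 6, 22]⟩)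
  (.leaf ⟨6, 6, true, [19, 6, 8, 18, 18, 10, 8, 6, 18], [12, 14, 8, 6, 18, 8, 19, 2, 13, 6, 8, 10, 4, 6, 8, 11, 4, 6, 8, 4, 6, 4, 10, 8, 11, 11, 6, 8, 11, 21]⟩)))
  (.node (nat_lit 1086) (.node (nat_lit 1085) (.leaf ⟨6, 6, true, [18, 8, 18, 8, 6, 18, 10], [15, 18, 12, 8, 19, 8, 19, 2, 11, 11, 4, 6, 8, 4, 6, 4, 0, 10, 6, 8, 11, 6, 8, 10, 6, 12]⟩)
  (.leaf ⟨6, 6, true, [2, 18, 8, 18, 12, 18, 8, 6], [12, 19, 8, 14, 6, 8, 18, 18, 12, 8, 11, 4, 6, 8, 4, 6, 4, 0, 11, 8, 10, 6, 8, 10, 6, 12]⟩))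
  (.node (nat_lit 1087) (.leaf ⟨6, 6, true, [13, 16, 8, 6, 18, 8, 6], [6, 8, 16, 8, 19, 19, 2, 6, 8, 10, 10, 4, 6, 8, 10, 4, 6, 8, 4, 6, 4, 12, 11, 6, 22]⟩)
  (.leaf ⟨6, 6, true, [19, 19, 19, 8, 10, 8, 19, 2], [6, 18, 18, 8, 18, 8, 19, 2, 4, 6, 8, 10, 6, 4, 6, 8, 11, 4, 6, 8, 4, 6, 4, 8, 11, 12, 6, 8, 11, 23]⟩))))))

noncomputable def f1088 : FT := (.node (nat_lit 1104) (.node (nat_lit 1096) (.node (nat_lit 1092) (.node (nat_lit 1090) (.node (nat_lit 1089) (.leaf ⟨6, 6, true, [14, 12, 8, 19, 8, 0, 14, 6], [19, 19, 19, 8, 19, 2, 8, 11, 4, 6, 8, 11, 4, 6, 8, 4, 6, 4, 8, 11, 11, 6, 8, 11, 20]⟩)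
  (.leaf ⟨6, 6, true, [15, 18, 8, 0, 18, 8, 6], [13, 19, 8, 0, 19, 8, 19, 2, 11, 6, 4, 6, 8, 11, 4, 6, 8, 4, 6, 4, 11, 12, 6, 8, 11, 6, 13]⟩))
  (.node (nat_lit 1091) (.leaf ⟨6, 6, true, [8, 0, 18, 18, 8, 11, 8, 18], [19, 8, 15, 19, 8, 0, 19, 2, 11, 8, 10, 6, 8, 10, 4, 6, 8, 4, 6, 4, 0, 8, 10, 6, 8, 11, 24]⟩)
  (.leaf ⟨6, 6, true, [19, 16, 13, 8, 6, 18, 8, 18], [15, 18, 18, 18, 8, 19, 2, 10, 4, 6, 8, 11, 6, 8, 10, 4, 6, 8, 4, 6, 4, 0, 13, 11, 8, 10, 6, 8, 10, 24]⟩)))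
  (.node (nat_lit 1094) (.node (nat_lit 1093) (.leaf ⟨6, 6, true, [2, 18, 18, 8, 19, 14, 8, 6], [8, 18, 8, 18, 8, 18, 18, 8, 10, 4, 6, 8, 11, 4, 6, 8, 4, 6, 4, 11, 6, 8, 11, 6, 8, 10, 23]⟩)
  (.leaf ⟨6, 6, true, [18, 4, 6, 8, 19, 14, 6], [18, 8, 18, 18, 8, 11, 6, 8, 11, 4, 6, 8, 10, 4, 6, 8, 4, 6, 4, 11, 11, 8, 10, 24]⟩))
  (.node (nat_lit 1095) (.leaf ⟨6, 6, true, [8, 19, 19, 19, 11, 8, 19, 14, 8, 6], [14, 8, 0, 19, 10, 8, 19, 2, 8, 10, 4, 6, 8, 11, 4, 6, 8, 4, 6, 4, 0, 11, 11, 8, 10, 22]⟩)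
  (.leaf ⟨6, 6, true, [19, 19, 12, 8, 16, 8, 19, 19, 14], [14, 8, 18, 14, 8, 18, 18, 11, 8, 10, 4, 6, 8, 10, 4, 6, 8, 4, 6, 4, 8, 10, 6, 13]⟩))))
  (.node (nat_lit 1100) (.node (nat_lit 1098) (.node (nat_lit 1097) (.leaf ⟨6, 6, true, [18, 18, 18, 8, 19, 6, 2], [19, 12, 10, 8, 19, 8, 19, 2, 11, 11, 6, 8, 4, 6, 4, 12, 6, 8, 11, 6, 23]⟩)
  (.leaf ⟨6, 6, true, [13, 15, 8, 0, 19, 6, 8, 6, 18], [14, 0, 19, 11, 8, 19, 2, 4, 6, 4, 0, 10, 6, 8, 11, 6]⟩))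
  (.node (nat_lit 1099) (.leaf ⟨6, 6, true, [18, 12, 8, 19, 8, 19, 8, 16], [6, 8, 0, 19, 8, 19, 2, 12, 8, 11, 4, 6, 8, 10, 4, 6, 8, 4, 6, 4, 10, 8, 11, 6, 8, 11, 6, 25]⟩)
  (.leaf ⟨6, 6, true, [6, 18, 8, 6, 18, 8, 18, 10], [19, 8, 14, 6, 8, 18, 18, 10, 4, 6, 8, 11, 6, 8, 10, 4, 6, 8, 4, 6, 4, 11, 13, 8, 10, 6, 8, 11, 13]⟩)))
  (.node (nat_lit 1102) (.node (nat_lit 1101) (.leaf ⟨6, 6, true, [18, 14, 10, 8, 18, 10, 8, 18], [8, 14, 4, 6, 8, 18, 18, 6, 8, 10, 6, 8, 4, 6, 4, 11, 8, 10, 6, 8, 11, 23]⟩)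
  (.leaf ⟨6, 6, true, [18, 8, 18, 8, 2, 18, 8, 18], [15, 8, 19, 0, 2, 6, 8, 10, 13, 4, 6, 8, 10, 4, 6, 8, 4, 6, 4, 12, 6, 8, 10, 6, 13]⟩))
  (.node (nat_lit 1103) (.leaf ⟨6, 6, true, [18, 8, 0, 18, 12, 18, 8, 6], [18, 8, 18, 14, 8, 19, 19, 2, 10, 8, 10, 10, 6, 8, 11, 4, 6, 8, 4, 6, 4, 10, 8, 11, 6, 8, 10, 6, 23]⟩)
  (.leaf ⟨6, 6, true, [15, 12, 8, 19, 8, 19, 15], [18, 8, 18, 8, 19, 19, 2, 4, 6, 8, 10, 10, 4, 6, 8, 10, 4, 6, 8, 4, 6, 4, 10, 6, 8, 10, 6, 8, 11, 13]⟩)))))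
  (.node (nat_lit 1112) (.node (nat_lit 1108) (.node (nat_lit 1106) (.node (nat_lit 1105) (.leaf ⟨6, 6, true, [13, 10, 8, 19, 6, 8, 6, 18], [10, 8, 18, 8, 18, 18, 12, 11, 8, 11, 6, 8, 4, 6, 4, 10, 13, 8, 10, 6, 20]⟩)
  (.leaf ⟨6, 6, true, [18, 8, 15, 18, 12, 18, 8, 19, 6, 2], [10, 10, 8, 19, 19, 2, 13, 4, 6, 8, 11, 4, 6, 8, 10, 4, 6, 8, 4, 6, 4, 12, 11, 6, 8, 10, 6, 24]⟩))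
  (.node (nat_lit 1107) (.leaf ⟨6, 6, true, [13, 14, 4, 6, 8, 19, 8, 19, 2], [8, 14, 4, 6, 8, 18, 18, 13, 11, 4, 6, 8, 10, 4, 6, 8, 4, 6, 4, 10, 8, 11, 6, 8, 10, 21]⟩)
  (.leaf ⟨6, 6, true, [19, 15, 12, 19, 8, 19, 8, 16], [8, 19, 6, 8, 0, 18, 18, 4, 6, 8, 10, 4, 6, 8, 10, 4, 6, 8, 4, 6, 4, 0, 10, 8, 11, 6, 8, 10, 25]⟩)))
  (.node (nat_lit 1110) (.node (nat_lit 1109) (.leaf ⟨6, 6, true, [19, 19, 8, 15, 19, 8, 19, 2], [18, 18, 10, 8, 19, 8, 19, 2, 11, 6, 8, 11, 4, 6, 8, 4, 6, 4, 0, 10, 13, 8, 11, 6, 25]⟩)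
  (.leaf ⟨6, 6, true, [18, 13, 8, 18, 8, 19, 19, 14], [18, 18, 8, 18, 8, 19, 2, 8, 10, 8, 10, 6, 8, 4, 6, 4, 12, 11, 22]⟩))
  (.node (nat_lit 1111) (.leaf ⟨6, 5, true, [15, 0, 19, 10, 8, 19, 10, 8, 16], [12, 11, 8, 19, 2, 10, 8, 11, 6, 8, 10, 4, 6, 8, 4, 6, 4, 0, 6, 8, 11, 8, 11]⟩)
  (.leaf ⟨5, 6, true, [19, 8, 16, 8, 0, 19, 6, 2], [18, 8, 18, 10, 8, 19, 19, 2, 8, 10, 13, 4, 6, 8, 10, 4, 6, 8, 4, 6, 4, 8, 11, 13, 6, 8, 11, 6, 21]⟩))))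
  (.node (nat_lit 1116) (.node (nat_lit 1114) (.node (nat_lit 1113) (.leaf ⟨6, 6, true, [15, 8, 18, 8, 19, 19, 10, 8, 16], [8, 0, 19, 12, 19, 8, 0, 19, 2, 6, 8, 10, 4, 6, 8, 4, 6, 4, 8, 11, 20]⟩)
  (.leaf ⟨6, 6, true, [15, 18, 12, 18, 8, 18, 8, 18, 10], [2, 18, 8, 19, 6, 18, 8, 19, 2, 13, 11, 8, 10, 4, 6, 8, 10, 4, 6, 8, 4, 6, 4, 8, 10, 8, 10, 6, 20]⟩))
  (.node (nat_lit 1115) (.leaf ⟨6, 6, true, [12, 6, 18, 8, 19, 16], [6, 0, 18, 8, 18, 18, 11, 8, 11, 6, 8, 10, 4, 6, 8, 4, 6, 4, 0, 12, 10, 8, 10, 6, 8, 10, 13]⟩)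
  (.leaf ⟨6, 6, true, [8, 19, 8, 19, 19, 2], [12, 14, 8, 6, 18, 8, 19, 2, 8, 6, 4, 11, 11, 25]⟩)))
  (.node (nat_lit 1118) (.node (nat_lit 1117) (.leaf ⟨6, 5, true, [8, 15, 18, 8, 18, 8, 18], [15, 0, 15, 18, 8, 0, 18, 18, 10, 12, 4, 6, 8, 10, 4, 6, 8, 4, 6, 4, 12, 8, 10, 6, 8, 10, 24]⟩)
  (.leaf ⟨5, 6, true, [19, 6, 8, 18, 8, 18, 12, 10], [8, 14, 6, 8, 18, 18, 13, 6, 8, 11, 4, 6, 8, 10, 4, 6, 8, 4, 6, 4, 11, 12, 8, 10, 24]⟩))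
  (.node (nat_lit 1119) (.leaf ⟨6, 5, true, [12, 11, 8, 19, 8, 19, 12, 8, 16], [18, 14, 10, 8, 18, 18, 13, 8, 11, 6, 8, 4, 6, 4, 10, 12]⟩)
  (.leaf ⟨5, 6, true, [18, 10, 10, 8, 19, 16], [18, 13, 18, 8, 19, 8, 19, 2, 11, 4, 6, 8, 11, 4, 6, 8, 4, 6, 4, 8, 11, 13, 6, 8, 11, 20]⟩))))))

noncomputable def f1120 : FT := (.node (nat_lit 1136) (.node (nat_lit 1128) (.node (nat_lit 1124) (.node (nat_lit 1122) (.node (nat_lit 1121) (.leaf ⟨6, 5, true, [10, 6, 8, 16, 8, 19, 12, 19, 2], [14, 8, 6, 18, 8, 19, 2, 13, 10, 6, 8, 11, 4, 6, 8, 4, 6, 4, 10, 13, 8, 11, 6, 23]⟩)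
  (.leaf ⟨5, 6, true, [12, 8, 19, 6, 8, 19, 19, 2], [12, 18, 8, 19, 8, 19, 2, 8, 4, 6, 4, 0, 10, 8, 11, 6, 8, 10, 6, 13]⟩))
  (.node (nat_lit 1123) (.leaf ⟨6, 6, true, [13, 14, 0, 14, 18, 8, 19, 8, 16], [11, 8, 0, 19, 10, 8, 19, 2, 12, 8, 11, 4, 6, 8, 10, 4, 6, 8, 4, 6, 4, 10, 6, 8, 11, 6, 8, 10, 24]⟩)
  (.leaf ⟨6, 6, true, [8, 2, 18, 8, 18, 8, 19, 19, 15], [15, 8, 19, 8, 19, 2, 6, 8, 4, 6, 4, 0, 11, 12, 6, 8, 11, 6, 21]⟩)))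
  (.node (nat_lit 1126) (.node (nat_lit 1125) (.leaf ⟨6, 6, true, [12, 0, 19, 8, 10, 6, 8, 18], [11, 8, 19, 10, 8, 19, 2, 10, 8, 11, 6, 8, 11, 4, 6, 8, 4, 6, 4, 12, 10, 6, 8, 11, 21]⟩)
  (.leaf ⟨6, 6, true, [12, 18, 8, 19, 8, 16], [18, 8, 19, 10, 8, 19, 2, 6, 8, 10, 4, 6, 8, 11, 4, 6, 8, 4, 6, 4, 0, 11, 8, 10, 6, 8, 11, 22]⟩))
  (.node (nat_lit 1127) (.leaf ⟨6, 6, true, [10, 6, 8, 18, 8, 19, 8, 19, 2], [0, 19, 15, 19, 8, 19, 2, 11, 6, 8, 11, 4, 6, 8, 10, 4, 6, 8, 4, 6, 4, 0, 13, 10, 8, 11, 6, 8, 11, 13]⟩)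
  (.leaf ⟨6, 6, true, [18, 8, 18, 8, 18, 4, 14, 8, 6], [19, 0, 19, 11, 8, 19, 2, 8, 10, 6, 8, 11, 4, 6, 8, 4, 6, 4, 10, 6, 22]⟩))))
  (.node (nat_lit 1132) (.node (nat_lit 1130) (.node (nat_lit 1129) (.leaf ⟨6, 6, true, [12, 8, 19, 2], [18, 8, 18, 10, 8, 18, 18, 11, 8, 10, 4, 6, 8, 11, 4, 6, 8, 4, 6, 4, 0, 13, 10, 8, 11, 6, 8, 10, 24]⟩)
  (.leaf ⟨6, 6, true, [19, 13, 0, 19, 8, 19, 8, 16], [11, 8, 0, 19, 10, 8, 19, 2, 8, 10, 8, 10, 6, 8, 10, 4, 6, 8, 4, 6, 4, 8, 10, 6, 8, 10, 6, 13]⟩))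
  (.node (nat_lit 1131) (.leaf ⟨5, 6, true, [12, 0, 19, 8, 6, 18, 10, 8, 6], [0, 19, 12, 19, 8, 0, 19, 2, 10, 6, 8, 11, 4, 6, 8, 4, 6, 4, 6, 8, 11, 8, 11]⟩)
  (.leaf ⟨6, 5, true, [6, 8, 0, 19, 13, 19, 8, 14, 6], [15, 18, 8, 19, 10, 8, 19, 2, 13, 11, 4, 6, 8, 10, 4, 6, 8, 4, 6, 4, 20]⟩)))
  (.node (nat_lit 1134) (.node (nat_lit 1133) (.leaf ⟨6, 6, true, [6, 8, 18, 14, 8, 19, 19, 2], [8, 18, 8, 2, 18, 18, 12, 8, 10, 6, 8, 10, 4, 6, 8, 4, 6, 4, 11, 6, 8, 11, 12]⟩)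
  (.leaf ⟨6, 6, true, [15, 18, 8, 18, 8, 19, 16], [12, 6, 18, 8, 18, 18, 10, 6, 4, 6, 8, 11, 4, 6, 8, 4, 6, 4, 12, 10, 21]⟩))
  (.node (nat_lit 1135) (.leaf ⟨6, 6, true, [15, 18, 18, 8, 19, 10, 8, 16], [6, 18, 8, 19, 2, 8, 10, 8, 6, 4, 8, 11, 13]⟩)
  (.leaf ⟨6, 6, true, [13, 11, 8, 18], [0, 19, 15, 19, 10, 8, 19, 2, 10, 6, 8, 10, 4, 6, 8, 10, 4, 6, 8, 4, 6, 4, 0, 6, 8, 10, 8, 10, 6, 12]⟩)))))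
  (.node (nat_lit 1144) (.node (nat_lit 1140) (.node (nat_lit 1138) (.node (nat_lit 1137) (.leaf ⟨6, 6, true, [18, 18, 8, 15, 18, 8, 6, 18, 10], [8, 18, 6, 8, 19, 8, 19, 2, 8, 6, 4, 0, 12, 10, 8, 10, 20]⟩)
  (.leaf ⟨6, 6, true, [18, 12, 8, 18, 8, 19, 14, 6], [0, 14, 10, 8, 18, 0, 18, 10, 10, 4, 6, 8, 11, 4, 6, 8, 10, 4, 6, 8, 4, 6, 4, 6, 8, 11, 6, 23]⟩))
  (.node (nat_lit 1139) (.leaf ⟨6, 5, true, [19, 6, 8, 18, 12, 10], [12, 6, 8, 18, 8, 0, 18, 18, 11, 12, 4, 6, 8, 11, 4, 6, 8, 4, 6, 4, 6, 8, 10, 8, 10, 13]⟩)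
  (.leaf ⟨5, 6, true, [8, 19, 13, 10, 8, 19, 8, 6, 2], [0, 19, 8, 0, 19, 2, 11, 8, 11, 4, 6, 8, 4, 6, 4, 0, 11, 13, 6, 8, 10, 20]⟩)))
  (.node (nat_lit 1142) (.node (nat_lit 1141) (.leaf ⟨6, 6, true, [14, 10, 8, 18, 10, 8, 18], [0, 14, 6, 8, 18, 18, 6, 8, 10, 4, 6, 8, 10, 4, 6, 8, 4, 6, 4, 6, 8, 11, 8, 11, 24]⟩)
  (.leaf ⟨6, 6, true, [19, 10, 8, 19, 8, 19, 8, 16], [19, 10, 8, 19, 8, 19, 2, 8, 10, 8, 10, 6, 8, 4, 6, 4, 0, 12, 6, 8, 10, 12]⟩))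
  (.node (nat_lit 1143) (.leaf ⟨6, 5, true, [18, 11, 8, 6, 18, 8, 19, 16], [15, 12, 8, 19, 8, 19, 2, 11, 8, 10, 4, 6, 8, 10, 4, 6, 8, 4, 6, 4, 0, 11, 8, 11, 24]⟩)
  (.leaf ⟨5, 6, true, [6, 18, 8, 19, 8, 16], [15, 18, 14, 8, 19, 19, 2, 8, 11, 13, 4, 6, 8, 11, 4, 6, 8, 4, 6, 4, 13, 10, 6, 8, 11, 13]⟩))))
  (.node (nat_lit 1148) (.node (nat_lit 1146) (.node (nat_lit 1145) (.leaf ⟨6, 4, true, [0, 14, 18, 13, 8, 19, 8, 19, 2], [14, 18, 11, 8, 19, 8, 19, 2, 12, 10, 6, 8, 11, 4, 6, 8, 4, 6, 4, 11, 13, 8, 10, 6, 8, 11, 13]⟩)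
  (.leaf ⟨4, 6, true, [0, 18, 18, 8, 18, 8, 19, 12, 16], [19, 6, 18, 8, 19, 2, 10, 4, 6, 8, 11, 4, 6, 8, 11, 4, 6, 8, 4, 6, 4, 0, 11, 8, 10, 6, 8, 10, 22]⟩))
  (.node (nat_lit 1147) (.leaf ⟨6, 6, true, [19, 19, 10, 6, 8, 19, 8, 6, 2], [0, 19, 12, 8, 19, 8, 19, 2, 11, 8, 11, 4, 6, 8, 4, 6, 4, 0, 8, 10, 6, 21]⟩)
  (.leaf ⟨6, 6, true, [18, 8, 19, 6, 8, 19, 8, 6, 2], [8, 19, 12, 19, 8, 0, 19, 2, 13, 11, 6, 8, 11, 4, 6, 8, 11, 4, 6, 8, 4, 6, 4, 12, 11, 6, 8, 10]⟩)))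
  (.node (nat_lit 1150) (.node (nat_lit 1149) (.leaf ⟨6, 5, true, [11, 12, 8, 19, 8, 0, 19, 8, 16], [12, 18, 8, 18, 8, 18, 18, 6, 4, 6, 8, 10, 6, 8, 11, 4, 6, 8, 4, 6, 4, 0, 13, 6, 8, 10]⟩)
  (.leaf ⟨5, 6, true, [6, 8, 15, 19, 6, 18, 8, 6], [12, 0, 19, 8, 19, 2, 12, 8, 10, 6, 8, 4, 6, 4, 0, 11, 13, 6, 8, 10, 25]⟩))
  (.node (nat_lit 1151) (.leaf ⟨6, 6, true, [18, 14, 8, 19, 12, 19, 2], [8, 14, 4, 6, 8, 18, 18, 11, 4, 6, 8, 11, 4, 6, 8, 4, 6, 4, 0, 13, 8, 11, 6, 24]⟩)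
  (.leaf ⟨6, 6, true, [19, 19, 19, 13, 8, 19, 8, 14, 6], [0, 14, 10, 8, 18, 18, 10, 6, 8, 10, 4, 6, 8, 11, 4, 6, 8, 4, 6, 4, 0, 8, 11, 13, 6, 8, 10, 6]⟩))))))

noncomputable def f1152 : FT := (.node (nat_lit 1168) (.node (nat_lit 1160) (.node (nat_lit 1156) (.node (nat_lit 1154) (.node (nat_lit 1153) (.leaf ⟨6, 6, true, [8, 10, 8, 18, 0, 18], [12, 11, 8, 19, 8, 0, 19, 2, 4, 6, 8, 11, 8, 11, 4, 6, 8, 4, 6, 4, 13, 11, 6, 8, 10, 23]⟩)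
  (.leaf ⟨6, 6, true, [12, 0, 2, 18, 8, 19, 19, 15], [0, 2, 18, 18, 11, 8, 11, 6, 8, 10, 4, 6, 8, 4, 6, 4, 13, 10, 8, 10, 6, 8, 10, 25]⟩))
  (.node (nat_lit 1155) (.leaf ⟨6, 6, true, [19, 19, 13, 16, 8, 19, 6, 2], [18, 18, 6, 8, 4, 6, 4, 0, 8, 11, 6, 13]⟩)
  (.leaf ⟨6, 6, true, [0, 19, 12, 16], [12, 2, 18, 8, 19, 8, 19, 2, 10, 10, 6, 8, 10, 4, 6, 8, 4, 6, 4, 10, 6, 8, 11, 6, 8, 10, 6, 21]⟩)))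
  (.node (nat_lit 1158) (.node (nat_lit 1157) (.leaf ⟨6, 6, true, [12, 0, 19, 6, 8, 19, 8, 16], [19, 8, 0, 19, 10, 8, 19, 2, 10, 8, 11, 6, 8, 11, 4, 6, 8, 4, 6, 4, 0, 8, 11, 13, 6, 8, 10, 6, 21]⟩)
  (.leaf ⟨6, 6, true, [10, 8, 19, 8, 19, 8, 14, 8, 6], [10, 10, 8, 19, 2, 4, 6, 8, 11, 6, 8, 10, 4, 6, 8, 4, 6, 4, 0, 13, 10, 8, 11, 13]⟩))
  (.node (nat_lit 1159) (.leaf ⟨6, 6, true, [13, 6, 18, 8, 19, 14, 8, 6], [8, 2, 19, 8, 19, 2, 13, 10, 8, 11, 6, 8, 10, 4, 6, 8, 4, 6, 4, 10, 13, 8, 11, 20]⟩)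
  (.leaf ⟨6, 6, true, [8, 14, 18, 18, 8, 19, 14, 6], [19, 13, 19, 8, 19, 8, 19, 2, 12, 6, 8, 10, 4, 6, 8, 4, 6, 4, 0, 13, 8, 10, 6, 8, 11]⟩))))
  (.node (nat_lit 1164) (.node (nat_lit 1162) (.node (nat_lit 1161) (.leaf ⟨6, 6, true, [19, 19, 12, 19, 8, 19, 8, 14, 6], [8, 18, 8, 18, 18, 10, 13, 8, 11, 4, 6, 8, 4, 6, 4, 11, 24]⟩)
  (.leaf ⟨6, 6, true, [10, 4, 6, 8, 19, 8, 14, 6], [6, 18, 8, 2, 18, 18, 10, 6, 8, 11, 12, 4, 6, 8, 11, 4, 6, 8, 4, 6, 4, 13, 8, 10, 20]⟩))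
  (.node (nat_lit 1163) (.leaf ⟨6, 6, true, [12, 19, 6, 8, 19, 16], [16, 8, 19, 6, 8, 18, 18, 10, 6, 8, 10, 4, 6, 8, 4, 6, 4, 8, 10, 8, 10, 6, 8, 10, 6, 12]⟩)
  (.leaf ⟨6, 6, true, [0, 19, 6, 8, 18, 18, 14, 8, 16], [13, 0, 19, 8, 19, 8, 19, 2, 10, 4, 6, 8, 4, 6, 4, 0, 12, 10, 8, 10, 6, 8, 10, 20]⟩)))
  (.node (nat_lit 1166) (.node (nat_lit 1165) (.leaf ⟨5, 6, true, [18, 12, 8, 2, 18, 8, 19, 19, 2], [14, 10, 8, 18, 8, 18, 18, 12, 10, 6, 8, 11, 4, 6, 8, 4, 6, 4, 11, 12, 6, 8, 11, 22]⟩)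
  (.leaf ⟨6, 5, true, [6, 8, 18, 18, 12, 18, 8, 6, 18], [18, 2, 18, 8, 19, 10, 8, 19, 2, 12, 10, 6, 8, 10, 4, 6, 8, 10, 4, 6, 8, 4, 6, 4, 12, 11, 6, 8, 10, 25]⟩))
  (.node (nat_lit 1167) (.leaf ⟨6, 6, true, [6, 18, 4, 6, 8, 6, 18, 10], [16, 8, 19, 10, 8, 19, 2, 10, 8, 4, 6, 4, 0, 10, 8, 11, 6, 8, 10, 21]⟩)
  (.leaf ⟨6, 6, true, [12, 16, 8, 19, 19, 2], [0, 15, 18, 8, 0, 18, 18, 10, 13, 4, 6, 8, 10, 4, 6, 8, 4, 6, 4, 6, 8, 10, 6, 8, 11, 13]⟩)))))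
  (.node (nat_lit 1176) (.node (nat_lit 1172) (.node (nat_lit 1170) (.node (nat_lit 1169) (.leaf ⟨6, 6, true, [18, 12, 18, 8, 18, 18, 10, 8, 6], [8, 19, 10, 8, 19, 2, 12, 4, 6, 8, 10, 4, 6, 8, 11, 4, 6, 8, 4, 6, 4, 8, 10, 8, 10, 12]⟩)
  (.leaf ⟨6, 6, true, [8, 19, 8, 15, 19, 8, 19, 14, 10], [10, 12, 8, 19, 8, 0, 19, 2, 11, 13, 6, 8, 10, 4, 6, 8, 4, 6, 4, 0, 13, 10, 8, 11, 6, 8, 10, 6, 13]⟩))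
  (.node (nat_lit 1171) (.leaf ⟨6, 6, true, [14, 0, 18, 18, 8, 15, 18, 8, 18], [12, 19, 8, 19, 8, 0, 19, 2, 10, 13, 8, 10, 6, 8, 4, 6, 4, 25]⟩)
  (.leaf ⟨6, 6, true, [8, 19, 19, 13, 19, 8, 19, 2], [0, 15, 12, 18, 8, 0, 18, 18, 11, 4, 6, 8, 11, 4, 6, 8, 4, 6, 4, 0, 11, 11, 8, 11, 6, 8, 11, 24]⟩)))
  (.node (nat_lit 1174) (.node (nat_lit 1173) (.leaf ⟨6, 6, true, [8, 0, 15, 18, 8, 18, 8, 18, 10], [8, 11, 8, 19, 8, 19, 2, 12, 10, 6, 8, 4, 6, 4, 13, 11, 8, 11, 20]⟩)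
  (.leaf ⟨6, 6, true, [8, 14, 6, 8, 6, 18, 8, 18, 10], [18, 2, 18, 8, 19, 10, 8, 19, 2, 10, 4, 6, 8, 11, 4, 6, 8, 10, 4, 6, 8, 4, 6, 4, 10, 13, 8, 11, 22]⟩))
  (.node (nat_lit 1175) (.leaf ⟨6, 6, true, [18, 0, 15, 8, 18, 12, 8, 6, 18], [8, 18, 14, 8, 18, 18, 11, 6, 8, 10, 4, 6, 8, 4, 6, 4, 0, 8, 11, 11, 6, 8, 11, 23]⟩)
  (.leaf ⟨6, 6, true, [8, 15, 8, 19, 6, 8, 6, 18], [15, 0, 19, 8, 19, 2, 11, 11, 4, 6, 8, 4, 6, 4, 0, 13, 8, 10, 13]⟩))))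
  (.node (nat_lit 1180) (.node (nat_lit 1178) (.node (nat_lit 1177) (.leaf ⟨6, 6, true, [6, 18, 12, 8, 19, 8, 19, 14, 8, 6], [18, 18, 8, 18, 18, 10, 8, 11, 4, 6, 8, 10, 4, 6, 8, 4, 6, 4, 0, 11, 8, 11, 12]⟩)
  (.leaf ⟨6, 6, true, [12, 19, 8, 16, 8, 19, 12, 19, 2], [0, 19, 11, 8, 19, 2, 13, 10, 8, 11, 6, 8, 4, 6, 4, 13, 11, 6, 8, 10, 25]⟩))
  (.node (nat_lit 1179) (.leaf ⟨6, 6, true, [15, 18, 8, 18, 8, 19, 8, 19, 14], [18, 14, 18, 18, 8, 19, 2, 10, 6, 8, 10, 6, 8, 11, 4, 6, 8, 4, 6, 4, 10, 12, 8, 11, 6, 13]⟩)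
  (.leaf ⟨6, 6, true, [18, 14, 8, 19, 19, 15], [18, 18, 11, 8, 19, 8, 19, 2, 10, 10, 4, 6, 8, 11, 4, 6, 8, 11, 4, 6, 8, 4, 6, 4, 13, 8, 11, 6, 8, 10, 12]⟩)))
  (.node (nat_lit 1182) (.node (nat_lit 1181) (.leaf ⟨6, 6, true, [15, 11, 8, 19, 8, 19, 8, 16], [12, 15, 8, 19, 0, 2, 10, 12, 4, 6, 8, 10, 4, 6, 8, 4, 6, 4, 10, 8, 11, 6]⟩)
  (.leaf ⟨6, 6, true, [8, 18, 18, 12, 18, 8, 6, 18], [19, 8, 19, 8, 0, 19, 2, 13, 11, 4, 6, 8, 11, 4, 6, 8, 4, 6, 4, 11, 11, 8, 10, 6, 8, 11, 25]⟩))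
  (.node (nat_lit 1183) (.leaf ⟨6, 6, true, [19, 16, 10, 8, 6, 18, 8, 18, 10], [11, 8, 0, 19, 10, 8, 19, 2, 11, 11, 8, 11, 6, 8, 11, 4, 6, 8, 4, 6, 4, 8, 11, 22]⟩)
  (.leaf ⟨6, 6, true, [6, 18, 12, 8, 19, 8, 14, 6], [12, 8, 2, 18, 8, 0, 18, 18, 11, 12, 4, 6, 8, 11, 4, 6, 8, 4, 6, 4, 11, 6, 8, 11, 6, 21]⟩))))))

noncomputable def f1184 : FT := (.node (nat_lit 1200) (.node (nat_lit 1192) (.node (nat_lit 1188) (.node (nat_lit 1186) (.node (nat_lit 1185) (.leaf ⟨6, 5, true, [11, 13, 8, 19, 8, 19, 8, 16], [12, 8, 0, 19, 8, 19, 2, 11, 6, 4, 6, 8, 11, 6, 8, 10, 4, 6, 8, 4, 6, 4, 13, 10, 8, 10, 6, 8, 10, 12]⟩)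
  (.leaf ⟨5, 6, true, [14, 8, 18, 10, 8, 19, 16], [12, 8, 0, 18, 8, 18, 18, 10, 8, 4, 6, 4, 10, 8, 11, 25]⟩))
  (.node (nat_lit 1187) (.leaf ⟨6, 6, true, [8, 18, 8, 2, 18, 8, 19, 12, 16], [18, 10, 8, 19, 8, 19, 2, 12, 10, 8, 10, 4, 6, 8, 10, 4, 6, 8, 4, 6, 4, 13, 6, 8, 11, 6, 25]⟩)
  (.leaf ⟨6, 6, true, [18, 8, 6, 18, 8, 18, 11], [15, 19, 19, 19, 8, 19, 2, 6, 4, 11, 6, 8, 11, 6, 8, 10, 25]⟩)))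
  (.node (nat_lit 1190) (.node (nat_lit 1189) (.leaf ⟨6, 6, true, [0, 19, 10, 12, 8, 19, 8, 19, 2], [8, 10, 6, 8, 19, 19, 2, 12, 11, 6, 8, 10, 4, 6, 8, 4, 6, 4, 0, 11, 12, 8, 10, 20]⟩)
  (.leaf ⟨6, 6, true, [15, 18, 8, 2, 18, 8, 18], [8, 19, 19, 12, 19, 8, 19, 2, 6, 4, 6, 8, 10, 6, 8, 11, 4, 6, 8, 4, 6, 4, 10, 8, 11, 6, 8, 11, 12]⟩))
  (.node (nat_lit 1191) (.leaf ⟨6, 6, true, [18, 18, 10, 8, 18, 8, 18, 10], [19, 8, 15, 19, 10, 8, 19, 2, 6, 8, 10, 6, 8, 4, 6, 4, 0, 12, 8, 10, 25]⟩)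
  (.leaf ⟨6, 6, true, [12, 19, 8, 6, 18, 8, 19, 16], [11, 8, 18, 8, 19, 19, 2, 8, 10, 8, 10, 4, 6, 8, 10, 4, 6, 8, 4, 6, 4, 0, 12, 10, 6, 8, 11, 21]⟩))))
  (.node (nat_lit 1196) (.node (nat_lit 1194) (.node (nat_lit 1193) (.leaf ⟨6, 6, true, [10, 8, 19, 8, 16, 8, 19, 12, 19, 2], [12, 18, 8, 19, 8, 19, 2, 11, 4, 6, 8, 10, 4, 6, 8, 4, 6, 4, 13, 10, 8, 10, 6, 8, 10, 22]⟩)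
  (.leaf ⟨6, 6, true, [19, 12, 19, 8, 19, 12, 8, 14, 6], [18, 10, 8, 18, 18, 10, 8, 4, 6, 4, 0, 10, 6, 8, 11, 25]⟩))
  (.node (nat_lit 1195) (.leaf ⟨6, 6, true, [6, 18, 18, 12, 8, 18, 8, 18, 10], [10, 6, 8, 19, 19, 2, 8, 11, 4, 6, 8, 11, 4, 6, 8, 4, 6, 4, 10, 8, 11, 13, 6, 8, 10, 12]⟩)
  (.leaf ⟨6, 6, true, [6, 18, 8, 19, 8, 19, 15], [8, 18, 8, 19, 8, 19, 2, 10, 6, 8, 11, 4, 6, 8, 10, 4, 6, 8, 4, 6, 4, 6, 8, 11, 6, 8, 10, 20]⟩)))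
  (.node (nat_lit 1198) (.node (nat_lit 1197) (.leaf ⟨6, 6, true, [6, 18, 14, 8, 18, 8, 18, 8, 18], [12, 10, 8, 19, 19, 2, 8, 10, 8, 6, 4, 13, 10, 8, 11, 6, 8, 11]⟩)
  (.leaf ⟨6, 6, true, [18, 10, 8, 6, 0, 18, 8, 6], [12, 18, 8, 0, 18, 18, 10, 8, 11, 6, 8, 4, 6, 4, 0, 10, 8, 11, 6, 8, 10, 13]⟩))
  (.node (nat_lit 1199) (.leaf ⟨6, 6, true, [19, 12, 16, 8, 6, 18, 8, 18, 10], [12, 0, 14, 8, 18, 18, 6, 8, 11, 8, 11, 4, 6, 8, 11, 4, 6, 8, 4, 6, 4, 11, 6, 8, 11, 21]⟩)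
  (.leaf ⟨6, 6, true, [6, 8, 11, 8, 19, 16], [0, 19, 8, 0, 19, 8, 19, 2, 6, 8, 11, 12, 4, 6, 8, 11, 4, 6, 8, 4, 6, 4, 8, 11, 6, 8, 11, 6, 24]⟩)))))
  (.node (nat_lit 1208) (.node (nat_lit 1204) (.node (nat_lit 1202) (.node (nat_lit 1201) (.leaf ⟨6, 6, true, [18, 8, 18, 4, 6, 8, 6, 18, 10], [13, 0, 19, 8, 19, 8, 0, 19, 2, 6, 8, 11, 6, 4, 6, 8, 10, 4, 6, 8, 4, 6, 4, 11, 11, 8, 10, 6, 8, 11, 12]⟩)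
  (.leaf ⟨6, 4, true, [2, 18, 8, 6, 18, 8, 19, 19, 15], [18, 12, 2, 18, 8, 18, 18, 10, 6, 8, 11, 4, 6, 8, 11, 4, 6, 8, 4, 6, 4, 0, 10, 10, 6, 8, 10, 24]⟩))
  (.node (nat_lit 1203) (.leaf ⟨4, 6, true, [18, 8, 6, 18, 8, 19, 2], [19, 8, 0, 19, 8, 0, 19, 2, 6, 8, 10, 6, 8, 4, 6, 4, 0, 13, 10, 8, 11, 6, 8, 11, 12]⟩)
  (.leaf ⟨6, 6, true, [0, 15, 12, 18, 8, 19, 19, 14], [8, 0, 18, 10, 8, 18, 18, 6, 8, 10, 8, 10, 4, 6, 8, 10, 4, 6, 8, 4, 6, 4, 0, 11, 12, 6, 8, 11, 20]⟩)))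
  (.node (nat_lit 1206) (.node (nat_lit 1205) (.leaf ⟨6, 6, true, [13, 19, 8, 19, 8, 19, 15], [14, 8, 19, 19, 19, 8, 19, 2, 11, 4, 6, 8, 10, 4, 6, 8, 4, 6, 4, 11, 8, 11, 12, 6, 8, 11, 22]⟩)
  (.leaf ⟨6, 6, true, [6, 8, 15, 8, 19, 19, 2], [8, 18, 18, 10, 8, 19, 2, 6, 8, 10, 6, 8, 11, 4, 6, 8, 10, 4, 6, 8, 4, 6, 4, 10, 6, 8, 10, 6, 8, 11, 20]⟩))
  (.node (nat_lit 1207) (.leaf ⟨6, 6, true, [0, 14, 18, 13, 8, 0, 18, 8, 18], [19, 10, 8, 19, 0, 2, 8, 10, 8, 10, 4, 6, 8, 10, 4, 6, 8, 4, 6, 4, 0, 8, 11, 6, 8, 11, 13]⟩)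
  (.leaf ⟨6, 6, true, [15, 19, 8, 19, 8, 14, 10, 6], [8, 11, 8, 19, 8, 0, 19, 2, 10, 12, 8, 11, 4, 6, 8, 4, 6, 4, 10, 6, 8, 11, 6, 8, 10, 6, 25]⟩))))
  (.node (nat_lit 1212) (.node (nat_lit 1210) (.node (nat_lit 1209) (.leaf ⟨6, 6, true, [12, 16, 8, 19, 0, 14, 6], [8, 18, 18, 10, 8, 19, 2, 10, 4, 6, 8, 10, 4, 6, 8, 4, 6, 4, 0, 8, 11, 13, 6, 8, 11, 22]⟩)
  (.leaf ⟨6, 6, true, [8, 19, 19, 10, 6, 8, 19, 6, 2], [14, 8, 19, 8, 0, 19, 2, 10, 12, 6, 8, 10, 4, 6, 8, 4, 6, 4, 11, 8, 10, 6, 8, 10, 6, 23]⟩))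
  (.node (nat_lit 1211) (.leaf ⟨6, 6, true, [6, 8, 18, 18, 12, 10, 8, 6, 18], [16, 8, 0, 19, 8, 0, 19, 2, 13, 10, 8, 11, 4, 6, 8, 11, 4, 6, 8, 4, 6, 4, 11, 6, 8, 10, 6, 24]⟩)
  (.leaf ⟨6, 6, true, [13, 15, 18, 8, 19, 8, 19, 2], [8, 19, 12, 19, 8, 0, 19, 2, 12, 11, 8, 4, 6, 4, 6, 8, 10, 8, 10]⟩)))
  (.node (nat_lit 1214) (.node (nat_lit 1213) (.leaf ⟨6, 6, true, [0, 15, 0, 18, 8, 18, 8, 18], [2, 18, 8, 0, 18, 18, 11, 8, 11, 4, 6, 8, 11, 4, 6, 8, 4, 6, 4, 13, 8, 11, 6, 22]⟩)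
  (.leaf ⟨6, 5, true, [19, 6, 8, 18, 14, 8, 0, 18], [8, 0, 18, 8, 0, 18, 18, 11, 11, 8, 11, 4, 6, 8, 11, 4, 6, 8, 4, 6, 4, 6, 8, 10, 6, 8, 11, 6, 22]⟩))
  (.node (nat_lit 1215) (.leaf ⟨5, 6, true, [8, 18, 14, 8, 18, 8, 19, 8, 16], [8, 18, 8, 18, 8, 19, 2, 8, 11, 12, 6, 8, 11, 4, 6, 8, 4, 6, 4, 0, 8, 10, 6, 21]⟩)
  (.leaf ⟨6, 6, true, [0, 19, 11, 8, 19, 8, 16, 10], [12, 14, 8, 18, 8, 18, 18, 12, 8, 10, 6, 8, 10, 4, 6, 8, 4, 6, 4, 10, 13, 8, 11, 6, 8, 10, 12]⟩))))))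

noncomputable def f1216 : FT := (.node (nat_lit 1232) (.node (nat_lit 1224) (.node (nat_lit 1220) (.node (nat_lit 1218) (.node (nat_lit 1217) (.leaf ⟨6, 6, true, [19, 16, 8, 6, 18, 10, 8, 6], [18, 18, 10, 8, 19, 8, 19, 2, 10, 8, 10, 6, 8, 11, 4, 6, 8, 10, 4, 6, 8, 4, 6, 4, 11, 8, 10, 6, 8, 11, 6, 13]⟩)
  (.leaf ⟨6, 5, true, [12, 14, 8, 19, 8, 19, 8, 16], [19, 12, 10, 8, 19, 2, 8, 6, 4, 6, 8, 10, 6]⟩))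
  (.node (nat_lit 1219) (.leaf ⟨5, 6, true, [0, 18, 13, 18, 8, 6, 18, 8, 6], [8, 0, 19, 19, 14, 8, 19, 0, 2, 8, 10, 8, 10, 4, 6, 8, 4, 6, 4, 13, 11, 6, 8, 10, 20]⟩)
  (.leaf ⟨6, 6, true, [6, 0, 18, 8, 18, 4, 14, 8, 10, 6], [0, 15, 8, 18, 8, 0, 18, 18, 4, 10, 13, 8, 11, 6, 24]⟩)))
  (.node (nat_lit 1222) (.node (nat_lit 1221) (.leaf ⟨6, 6, true, [19, 10, 8, 19, 12, 8, 19, 2], [14, 8, 19, 8, 0, 19, 2, 8, 10, 6, 8, 11, 4, 6, 8, 11, 4, 6, 8, 4, 6, 4, 10, 12, 6, 8, 10, 12]⟩)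
  (.leaf ⟨6, 6, true, [8, 14, 0, 19, 8, 19, 8, 16], [11, 8, 6, 18, 8, 19, 2, 10, 6, 8, 11, 6, 4, 6, 8, 10, 4, 6, 8, 4, 6, 4, 6, 8, 10, 6, 12]⟩))
  (.node (nat_lit 1223) (.leaf ⟨6, 6, true, [12, 0, 2, 18, 8, 19, 8, 6, 2], [14, 18, 8, 19, 6, 18, 8, 19, 2, 6, 8, 10, 8, 10, 4, 6, 8, 10, 4, 6, 8, 4, 6, 4, 10, 8, 10, 6, 8, 10, 23]⟩)
  (.leaf ⟨6, 6, true, [12, 14, 8, 18, 8, 19, 6, 2], [12, 19, 8, 19, 0, 2, 10, 8, 10, 6, 8, 10, 4, 6, 8, 4, 6, 4, 0, 8, 10, 6, 8, 11, 20]⟩))))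
  (.node (nat_lit 1228) (.node (nat_lit 1226) (.node (nat_lit 1225) (.leaf ⟨6, 6, true, [2, 19, 19, 8, 16, 8, 6, 18, 10], [12, 11, 8, 19, 8, 0, 19, 2, 6, 8, 11, 8, 11, 4, 6, 8, 11, 4, 6, 8, 4, 6, 4, 12, 11, 8, 11, 25]⟩)
  (.leaf ⟨6, 6, true, [6, 0, 18, 8, 6, 18, 10, 8, 6], [0, 2, 18, 18, 6, 8, 11, 13, 4, 6, 8, 10, 4, 6, 8, 4, 6, 4, 11, 6, 20]⟩))
  (.node (nat_lit 1227) (.leaf ⟨6, 6, true, [15, 12, 19, 8, 19, 8, 19, 2], [8, 0, 19, 6, 8, 18, 18, 11, 6, 8, 4, 6, 4, 8, 11, 8, 11, 6, 8, 10]⟩)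
  (.leaf ⟨6, 6, true, [12, 19, 6, 8, 18, 8, 18, 10], [16, 8, 19, 8, 0, 19, 2, 8, 10, 10, 6, 8, 10, 4, 6, 8, 4, 6, 4, 8, 11, 12, 6, 8, 11, 12]⟩)))
  (.node (nat_lit 1230) (.node (nat_lit 1229) (.leaf ⟨6, 6, true, [0, 14, 8, 18, 8, 10, 8, 0, 18], [14, 8, 19, 10, 8, 19, 2, 4, 6, 8, 10, 13, 4, 6, 8, 10, 4, 6, 8, 4, 6, 4, 11, 8, 10, 23]⟩)
  (.leaf ⟨6, 6, true, [18, 18, 11, 8, 18, 18, 14, 8, 16], [18, 8, 0, 19, 8, 19, 2, 4, 6, 8, 10, 8, 10, 4, 6, 8, 4, 6, 4, 13, 11, 6, 8, 11, 24]⟩))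
  (.node (nat_lit 1231) (.leaf ⟨6, 6, true, [4, 6, 8, 18, 8, 18, 10, 10], [16, 14, 8, 19, 10, 8, 19, 2, 13, 11, 6, 8, 11, 4, 6, 8, 4, 6, 4, 10, 10, 6, 24]⟩)
  (.leaf ⟨6, 6, true, [13, 10, 6, 8, 18, 8, 18], [18, 18, 13, 11, 8, 10, 6, 8, 10, 4, 6, 8, 4, 6, 4, 10, 6, 8, 11, 6, 8, 10, 6, 21]⟩)))))
  (.node (nat_lit 1240) (.node (nat_lit 1236) (.node (nat_lit 1234) (.node (nat_lit 1233) (.leaf ⟨6, 6, true, [18, 8, 6, 18, 12, 8, 19, 8, 16], [12, 8, 18, 8, 18, 18, 11, 13, 4, 6, 8, 11, 4, 6, 8, 4, 6, 4, 0, 11, 25]⟩)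
  (.leaf ⟨6, 6, true, [0, 19, 6, 8, 6, 18, 12, 8, 18], [14, 10, 8, 18, 8, 18, 18, 4, 6, 8, 11, 4, 6, 8, 11, 4, 6, 8, 4, 6, 4, 0, 13, 8, 11, 21]⟩))
  (.node (nat_lit 1235) (.leaf ⟨6, 6, true, [2, 0, 18, 8, 18, 8, 18, 12, 10], [19, 14, 8, 6, 18, 8, 19, 2, 10, 6, 8, 10, 4, 6, 8, 4, 6, 4, 0, 12, 8, 11, 6, 12]⟩)
  (.leaf ⟨6, 6, true, [2, 18, 8, 18, 8, 18, 10, 8, 6], [6, 18, 18, 8, 18, 8, 19, 2, 8, 11, 6, 8, 10, 4, 6, 8, 4, 6, 4, 10, 8, 10, 6]⟩)))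
  (.node (nat_lit 1238) (.node (nat_lit 1237) (.leaf ⟨6, 6, true, [13, 8, 18, 8, 18, 10, 8, 18], [18, 11, 8, 19, 8, 19, 2, 8, 11, 6, 8, 11, 4, 6, 8, 4, 6, 4, 0, 10, 10, 6, 8, 10, 24]⟩)
  (.leaf ⟨6, 6, true, [12, 8, 6, 18, 8, 18, 12, 8, 18], [8, 16, 8, 0, 19, 8, 0, 19, 2, 6, 8, 10, 4, 6, 8, 4, 6, 4, 11, 11, 8, 11, 6, 8, 11, 23]⟩))
  (.node (nat_lit 1239) (.leaf ⟨6, 6, true, [8, 6, 18, 12, 18, 8, 19, 14, 6], [8, 19, 14, 8, 19, 0, 2, 8, 11, 13, 6, 8, 10, 4, 6, 8, 4, 6, 4, 10, 6, 8, 10, 6, 8, 11, 23]⟩)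
  (.leaf ⟨6, 6, true, [19, 8, 19, 14, 8, 6], [0, 19, 8, 0, 19, 8, 19, 2, 10, 6, 8, 11, 6, 4, 6, 8, 10, 4, 6, 8, 4, 6, 4, 11, 11, 8, 11, 24]⟩))))
  (.node (nat_lit 1244) (.node (nat_lit 1242) (.node (nat_lit 1241) (.leaf ⟨6, 6, true, [16, 8, 19, 13, 8, 19, 8, 14, 6], [12, 19, 8, 2, 19, 8, 19, 2, 12, 6, 8, 11, 4, 6, 8, 10, 4, 6, 8, 4, 6, 4, 0, 13, 11, 6, 8, 11, 21]⟩)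
  (.leaf ⟨6, 6, true, [19, 19, 16, 8, 11, 8, 19, 16], [19, 19, 10, 8, 6, 18, 8, 19, 2, 12, 10, 8, 4, 6, 4, 11, 8, 10, 6, 13]⟩))
  (.node (nat_lit 1243) (.leaf ⟨6, 6, true, [8, 15, 18, 8, 19, 19, 15], [8, 0, 15, 18, 8, 0, 18, 18, 11, 4, 6, 8, 11, 4, 6, 8, 4, 6, 4, 11, 11]⟩)
  (.leaf ⟨6, 6, true, [18, 8, 19, 8, 19, 12, 14], [8, 15, 19, 8, 0, 19, 2, 10, 10, 6, 8, 11, 4, 6, 8, 10, 4, 6, 8, 4, 6, 4, 0, 11, 8, 11, 6, 8, 10]⟩)))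
  (.node (nat_lit 1246) (.node (nat_lit 1245) (.leaf ⟨6, 6, true, [18, 12, 14, 8, 18, 8, 18], [8, 19, 19, 12, 19, 8, 19, 2, 10, 8, 10, 4, 6, 8, 4, 6, 4, 0, 6, 8, 10, 6, 8, 11, 6, 23]⟩)
  (.leaf ⟨6, 6, true, [19, 8, 19, 8, 0, 14, 6], [6, 8, 19, 8, 19, 2, 11, 8, 10, 6, 8, 10, 4, 6, 8, 4, 6, 4, 13, 6, 8, 10, 23]⟩))
  (.node (nat_lit 1247) (.leaf ⟨6, 6, true, [12, 11, 8, 18, 8, 18, 8, 18, 10], [16, 12, 0, 19, 8, 19, 2, 13, 10, 8, 11, 4, 6, 8, 10, 4, 6, 8, 4, 6, 4, 0, 6, 8, 11, 13]⟩)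
  (.leaf ⟨6, 6, true, [8, 6, 0, 18, 8, 10, 6], [12, 18, 8, 0, 18, 18, 6, 8, 4, 6, 4, 11, 13, 6, 8, 10, 6, 24]⟩))))))

noncomputable def f1248 : FT := (.node (nat_lit 1264) (.node (nat_lit 1256) (.node (nat_lit 1252) (.node (nat_lit 1250) (.node (nat_lit 1249) (.leaf ⟨6, 6, true, [13, 11, 8, 18, 8, 18, 8, 18, 10], [15, 8, 19, 10, 8, 19, 2, 12, 10, 8, 4, 6, 4, 0, 13, 10, 8, 11, 25]⟩)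
  (.leaf ⟨6, 5, true, [15, 12, 0, 19, 8, 19, 8, 16], [0, 19, 12, 19, 8, 19, 2, 13, 8, 10, 4, 6, 8, 11, 4, 6, 8, 4, 6, 4, 6, 8, 10, 6, 8, 11, 20]⟩))
  (.node (nat_lit 1251) (.leaf ⟨5, 6, true, [16, 10, 8, 19, 8, 19, 8, 6, 2], [8, 11, 8, 19, 8, 0, 19, 2, 8, 11, 4, 6, 8, 4, 6, 4, 12, 8, 11, 6, 8, 10, 25]⟩)
  (.leaf ⟨6, 6, true, [11, 8, 18, 8, 19, 8, 6, 2], [19, 12, 16, 8, 19, 8, 19, 2, 13, 11, 4, 6, 8, 10, 4, 6, 8, 4, 6, 4, 10, 8, 10, 10, 6, 8, 11, 13]⟩)))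
  (.node (nat_lit 1254) (.node (nat_lit 1253) (.leaf ⟨6, 6, true, [0, 19, 16, 10, 8, 19, 8, 16], [19, 12, 19, 8, 19, 2, 10, 8, 10, 6, 8, 11, 4, 6, 8, 4, 6, 4, 10, 8, 10, 6, 8, 11, 25]⟩)
  (.leaf ⟨6, 6, true, [15, 18, 10, 8, 18, 8, 18, 8, 18], [18, 8, 4, 6, 18, 8, 19, 2, 11, 4, 6, 8, 4, 6, 4, 11, 13, 6, 8, 11, 6, 22]⟩))
  (.node (nat_lit 1255) (.leaf ⟨6, 6, true, [13, 18, 8, 15, 18, 18, 8, 10, 6], [16, 10, 8, 19, 0, 2, 13, 10, 8, 10, 4, 6, 8, 4, 6, 4, 10, 12, 8, 11, 13]⟩)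
  (.leaf ⟨6, 6, true, [15, 8, 19, 10, 6, 8, 6, 18], [15, 0, 19, 8, 19, 8, 19, 2, 4, 6, 8, 11, 4, 6, 8, 10, 4, 6, 8, 4, 6, 4, 12, 11, 20]⟩))))
  (.node (nat_lit 1260) (.node (nat_lit 1258) (.node (nat_lit 1257) (.leaf ⟨6, 6, true, [16, 8, 0, 15, 12, 8, 18, 8, 18], [16, 10, 8, 19, 0, 2, 8, 10, 6, 8, 4, 6, 4, 0, 10, 12, 6, 8, 10]⟩)
  (.leaf ⟨6, 6, true, [18, 12, 8, 6, 18], [10, 12, 8, 18, 8, 18, 18, 6, 8, 11, 8, 11, 4, 6, 8, 4, 6, 4, 8, 10, 8, 10, 6, 21]⟩))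
  (.node (nat_lit 1259) (.leaf ⟨6, 6, true, [16, 10, 8, 19, 8, 19, 8, 14, 6], [19, 19, 2, 8, 11, 8, 11, 4, 6, 8, 10, 4, 6, 8, 4, 6, 4, 11, 8, 11, 6, 8, 10, 6, 25]⟩)
  (.leaf ⟨6, 6, true, [0, 18, 18, 8, 18, 8, 19, 6, 2], [12, 0, 19, 8, 0, 19, 2, 4, 6, 8, 11, 6, 8, 10, 4, 6, 8, 4, 6, 4, 10, 13, 6, 8, 10, 12]⟩)))
  (.node (nat_lit 1262) (.node (nat_lit 1261) (.leaf ⟨6, 6, true, [14, 8, 19, 13, 8, 19, 10, 8, 16], [8, 16, 8, 6, 18, 8, 19, 2, 10, 8, 11, 4, 6, 8, 11, 4, 6, 8, 4, 6, 4, 0, 13, 11, 8, 10, 6, 8, 11, 13]⟩)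
  (.leaf ⟨6, 6, true, [8, 0, 18, 18, 8, 18], [19, 13, 10, 8, 19, 8, 19, 2, 13, 10, 4, 6, 8, 10, 4, 6, 8, 10, 4, 6, 8, 4, 6, 4, 13, 8, 11, 23]⟩))
  (.node (nat_lit 1263) (.leaf ⟨6, 6, true, [8, 14, 18, 18, 13, 8, 19, 8, 14, 6], [8, 18, 12, 18, 8, 0, 18, 18, 10, 10, 8, 6, 4, 0, 8, 10, 13, 6, 8, 10, 24]⟩)
  (.leaf ⟨6, 6, true, [18, 8, 18, 8, 18, 18, 8, 6], [19, 8, 15, 19, 10, 8, 19, 2, 13, 11, 8, 10, 4, 6, 8, 10, 4, 6, 8, 4, 6, 4, 8, 10, 6, 8, 11, 12]⟩)))))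
  (.node (nat_lit 1272) (.node (nat_lit 1268) (.node (nat_lit 1266) (.node (nat_lit 1265) (.leaf ⟨6, 6, true, [14, 10, 8, 18, 18, 8, 19, 8, 16], [15, 18, 18, 8, 18, 18, 10, 8, 11, 6, 8, 11, 4, 6, 8, 4, 6, 4, 6]⟩)
  (.leaf ⟨6, 6, true, [8, 0, 18, 18, 8, 18, 8, 19, 16], [15, 19, 8, 19, 8, 0, 19, 2, 10, 8, 6, 4, 10, 8, 10, 6, 8, 10]⟩))
  (.node (nat_lit 1267) (.leaf ⟨6, 6, true, [6, 0, 18, 10], [19, 8, 6, 18, 8, 19, 2, 11, 11, 6, 8, 4, 6, 4, 0, 11, 8, 10, 24]⟩)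
  (.leaf ⟨6, 6, true, [16, 8, 19, 10, 8, 19, 12, 8, 16], [16, 8, 15, 19, 8, 19, 2, 10, 13, 8, 10, 6, 8, 4, 6, 4, 8, 11, 6, 8, 10, 6, 25]⟩)))
  (.node (nat_lit 1270) (.node (nat_lit 1269) (.leaf ⟨6, 6, true, [13, 8, 0, 15, 18, 8, 0, 18], [13, 14, 8, 0, 19, 8, 19, 2, 6, 8, 10, 4, 6, 8, 10, 4, 6, 8, 4, 6, 4, 0, 10, 6, 8, 11, 6, 8, 10, 24]⟩)
  (.leaf ⟨6, 6, true, [13, 6, 18, 8, 15, 18, 8, 19, 6, 2], [8, 18, 14, 8, 18, 18, 8, 10, 4, 6, 8, 10, 4, 6, 8, 4, 6, 4, 8, 11, 13, 6, 8, 11, 23]⟩))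
  (.node (nat_lit 1271) (.leaf ⟨6, 6, true, [14, 8, 18, 8, 18, 4, 14, 8, 6], [8, 19, 19, 14, 8, 19, 0, 2, 12, 11, 8, 4, 6, 4, 12, 8, 11, 6]⟩)
  (.leaf ⟨6, 6, true, [8, 18, 8, 15, 12, 18, 8, 18], [15, 0, 19, 8, 19, 2, 6, 8, 11, 8, 11, 4, 6, 8, 4, 6, 4, 12, 8, 10, 24]⟩))))
  (.node (nat_lit 1276) (.node (nat_lit 1274) (.node (nat_lit 1273) (.leaf ⟨6, 6, true, [13, 15, 19, 6, 8, 19, 6, 2], [8, 18, 8, 2, 18, 18, 11, 8, 10, 6, 8, 11, 4, 6, 8, 4, 6, 4, 11, 8, 11, 6, 8, 11, 6, 22]⟩)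
  (.leaf ⟨6, 6, true, [0, 19, 8, 16, 12, 8, 6, 0, 18], [0, 14, 4, 6, 18, 8, 19, 2, 4, 6, 8, 11, 4, 6, 8, 11, 4, 6, 8, 4, 6, 4, 12, 11, 8, 10, 24]⟩))
  (.node (nat_lit 1275) (.leaf ⟨6, 6, true, [14, 18, 13, 18, 8, 19, 8, 6, 2], [18, 8, 19, 19, 2, 12, 11, 8, 10, 6, 8, 4, 6, 4, 11, 12, 6, 8, 11, 6, 21]⟩)
  (.leaf ⟨6, 6, true, [0, 18, 18, 12, 8, 6, 18, 8, 18], [8, 14, 0, 19, 11, 8, 19, 2, 12, 11, 8, 6, 4, 12, 10, 23]⟩)))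
  (.node (nat_lit 1278) (.node (nat_lit 1277) (.leaf ⟨6, 6, true, [12, 18, 8, 19, 8, 16, 10], [8, 6, 18, 8, 0, 18, 18, 6, 8, 10, 4, 6, 8, 4, 6, 4, 11, 11, 8, 10, 6, 8, 11, 22]⟩)
  (.leaf ⟨6, 6, true, [13, 14, 8, 6, 18, 8, 18, 10], [8, 18, 10, 8, 19, 19, 2, 11, 11, 8, 10, 4, 6, 8, 4, 6, 4, 8, 11, 8, 11, 13]⟩))
  (.node (nat_lit 1279) (.leaf ⟨6, 6, true, [0, 18, 4, 6, 8, 6, 18, 8, 6], [18, 10, 8, 19, 0, 2, 11, 8, 10, 4, 6, 8, 10, 4, 6, 8, 4, 6, 4, 11, 8, 11, 6, 8, 10, 25]⟩)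
  (.leaf ⟨6, 6, true, [19, 2, 19, 12, 8, 19, 8, 16], [19, 6, 8, 19, 19, 2, 12, 11, 6, 8, 10, 4, 6, 8, 10, 4, 6, 8, 4, 6, 4, 10, 8, 10, 10, 6, 8, 11, 12]⟩))))))

noncomputable def f1280 : FT := (.node (nat_lit 1296) (.node (nat_lit 1288) (.node (nat_lit 1284) (.node (nat_lit 1282) (.node (nat_lit 1281) (.leaf ⟨6, 6, true, [10, 12, 4, 6, 8, 18, 8, 18], [14, 10, 8, 18, 18, 12, 10, 4, 6, 8, 10, 4, 6, 8, 4, 6, 4, 11, 11, 24]⟩)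
  (.leaf ⟨6, 6, true, [18, 8, 15, 8, 19, 8, 19, 15], [0, 15, 12, 18, 8, 18, 18, 10, 8, 10, 4, 6, 8, 10, 4, 6, 8, 4, 6, 4, 11, 12, 8, 10, 20]⟩))
  (.node (nat_lit 1283) (.leaf ⟨6, 6, true, [14, 8, 18, 10, 12, 8, 18, 8, 18, 10], [10, 8, 19, 0, 2, 8, 10, 8, 4, 6, 4, 8, 10, 10, 6, 8, 11, 21]⟩)
  (.leaf ⟨6, 6, true, [6, 18, 8, 0, 19, 14, 6], [8, 6, 18, 10, 8, 19, 2, 4, 6, 8, 11, 4, 6, 8, 11, 4, 6, 8, 4, 6, 4, 11, 13, 6, 8, 11, 6, 21]⟩)))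
  (.node (nat_lit 1286) (.node (nat_lit 1285) (.leaf ⟨6, 6, true, [11, 8, 18, 8, 19, 16], [0, 15, 8, 18, 18, 6, 8, 11, 6, 4, 6, 8, 10, 4, 6, 8, 4, 6, 4, 11, 8, 11, 6, 8, 10, 21]⟩)
  (.leaf ⟨6, 6, true, [10, 8, 18, 18, 18, 10, 6], [0, 19, 8, 19, 0, 2, 6, 8, 10, 6, 8, 11, 4, 6, 8, 4, 6, 4, 0, 10, 8, 11, 6, 8, 11, 20]⟩))
  (.node (nat_lit 1287) (.leaf ⟨6, 6, true, [15, 18, 10, 8, 18, 8, 18, 12, 10], [8, 19, 0, 2, 8, 11, 6, 8, 11, 4, 6, 8, 11, 4, 6, 8, 4, 6, 4, 0, 12, 8, 11, 6, 21]⟩)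
  (.leaf ⟨6, 6, true, [10, 10, 6, 8, 19, 19, 14], [13, 10, 8, 19, 8, 19, 2, 13, 8, 10, 6, 8, 11, 4, 6, 8, 4, 6, 4, 8, 11, 12, 6, 8, 11, 25]⟩))))
  (.node (nat_lit 1292) (.node (nat_lit 1290) (.node (nat_lit 1289) (.leaf ⟨6, 6, true, [2, 18, 8, 6, 18, 10], [10, 10, 8, 18, 0, 18, 12, 10, 8, 4, 6, 4, 0, 12, 10, 6, 20]⟩)
  (.leaf ⟨6, 6, true, [12, 10, 8, 19, 0, 14, 6], [11, 11, 8, 19, 8, 0, 19, 2, 11, 6, 8, 11, 4, 6, 8, 10, 4, 6, 8, 4, 6, 4, 0, 10, 10, 6, 21]⟩))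
  (.node (nat_lit 1291) (.leaf ⟨6, 6, true, [0, 15, 12, 18, 8, 19, 19, 14, 8, 6], [8, 10, 8, 19, 2, 10, 12, 6, 8, 10, 4, 6, 8, 11, 4, 6, 8, 4, 6, 4, 12, 11, 8, 10]⟩)
  (.leaf ⟨6, 6, true, [0, 18, 18, 10, 8, 19, 16], [19, 10, 10, 8, 19, 2, 13, 11, 6, 8, 11, 4, 6, 8, 11, 4, 6, 8, 4, 6, 4, 12, 8, 11, 6, 22]⟩)))
  (.node (nat_lit 1294) (.node (nat_lit 1293) (.leaf ⟨6, 6, true, [18, 8, 0, 15, 18, 8, 6, 18], [8, 19, 8, 19, 6, 8, 18, 18, 6, 8, 10, 12, 4, 6, 8, 10, 4, 6, 8, 4, 6, 4, 13, 10, 8, 11, 12]⟩)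
  (.leaf ⟨6, 6, true, [0, 19, 8, 19, 8, 15, 19, 8, 19, 2], [10, 12, 8, 19, 8, 19, 2, 6, 4, 6, 8, 10, 4, 6, 8, 4, 6, 4, 10, 6, 8, 11, 6, 8, 10, 6, 21]⟩))
  (.node (nat_lit 1295) (.leaf ⟨6, 6, true, [18, 8, 15, 19, 6, 8, 6, 18], [8, 0, 19, 8, 0, 19, 2, 13, 6, 8, 10, 4, 6, 8, 11, 4, 6, 8, 4, 6, 4, 11, 11, 6, 8, 11, 20]⟩)
  (.leaf ⟨6, 6, true, [4, 6, 18, 13, 8, 19, 8, 16], [15, 8, 19, 10, 8, 19, 2, 12, 11, 6, 8, 10, 4, 6, 8, 4, 6, 4, 10, 10, 8, 11, 20]⟩)))))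
  (.node (nat_lit 1304) (.node (nat_lit 1300) (.node (nat_lit 1298) (.node (nat_lit 1297) (.leaf ⟨6, 6, true, [13, 11, 8, 18, 8, 0, 18], [12, 19, 8, 16, 8, 19, 19, 2, 8, 11, 13, 4, 6, 8, 11, 4, 6, 8, 4, 6, 4, 0, 13, 6, 8, 10, 20]⟩)
  (.leaf ⟨6, 6, true, [12, 18, 8, 19, 2], [18, 8, 0, 19, 2, 8, 10, 13, 6, 8, 10, 4, 6, 8, 4, 6, 4, 11, 8, 11, 12, 6, 8, 11, 12]⟩))
  (.node (nat_lit 1299) (.leaf ⟨6, 6, true, [15, 8, 18, 12, 8, 6, 0, 18], [15, 12, 0, 19, 8, 19, 8, 19, 2, 6, 4, 6, 8, 11, 4, 6, 8, 4, 6, 4, 11, 6, 8, 11, 6, 24]⟩)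
  (.leaf ⟨6, 6, true, [13, 19, 8, 19, 8, 19, 8, 14, 6], [16, 8, 19, 19, 2, 11, 6, 4, 6, 8, 10, 4, 6, 8, 11, 4, 6, 8, 4, 6, 4, 12, 6, 8, 11, 6, 20]⟩)))
  (.node (nat_lit 1302) (.node (nat_lit 1301) (.leaf ⟨6, 6, true, [13, 18, 8, 2, 18, 8, 19, 6, 2], [19, 8, 14, 6, 8, 18, 18, 10, 4, 6, 8, 10, 4, 6, 8, 4, 6, 4, 6, 8, 10, 20]⟩)
  (.leaf ⟨6, 6, true, [0, 19, 19, 8, 16, 8, 6, 18], [16, 8, 19, 19, 2, 8, 10, 8, 10, 6, 8, 4, 6, 4, 13, 8, 10, 6, 13]⟩))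
  (.node (nat_lit 1303) (.leaf ⟨6, 6, true, [18, 8, 16, 8, 19, 12, 6, 8, 18], [18, 8, 18, 14, 8, 19, 19, 2, 13, 8, 11, 6, 8, 4, 6, 4, 11, 8, 11, 25]⟩)
  (.leaf ⟨6, 6, true, [15, 13, 8, 6, 18, 8, 18], [0, 15, 18, 8, 18, 18, 12, 10, 8, 10, 6, 8, 4, 6, 4, 11, 11, 8, 10]⟩))))
  (.node (nat_lit 1308) (.node (nat_lit 1306) (.node (nat_lit 1305) (.leaf ⟨6, 5, true, [2, 18, 8, 18, 12, 8, 18], [19, 8, 0, 19, 10, 8, 19, 2, 11, 8, 11, 6, 8, 10, 4, 6, 8, 4, 6, 4, 8, 10, 12, 6, 8, 10, 20]⟩)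
  (.leaf ⟨5, 6, true, [0, 15, 13, 8, 18, 8, 18, 10], [12, 18, 8, 18, 8, 18, 18, 13, 11, 4, 6, 8, 10, 4, 6, 8, 4, 6, 4, 8, 11, 6, 8, 10, 6, 23]⟩))
  (.node (nat_lit 1307) (.leaf ⟨6, 6, true, [15, 18, 18, 8, 18, 8, 19, 14, 6], [0, 18, 8, 6, 18, 8, 19, 2, 12, 11, 8, 4, 6, 4, 0, 6, 8, 10, 8, 10, 21]⟩)
  (.leaf ⟨6, 6, true, [18, 10, 8, 18, 8, 18, 10, 10], [10, 8, 18, 18, 10, 8, 11, 4, 6, 8, 11, 4, 6, 8, 4, 6, 4, 0, 8, 11, 12, 6, 8, 11, 6, 20]⟩)))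
  (.node (nat_lit 1310) (.node (nat_lit 1309) (.leaf ⟨6, 6, true, [0, 16, 8, 6, 18, 8, 6, 18, 10], [8, 0, 14, 6, 8, 18, 18, 12, 10, 6, 8, 10, 4, 6, 8, 4, 6, 4, 10, 6, 8, 10, 6, 12]⟩)
  (.leaf ⟨6, 6, true, [15, 12, 18, 8, 18, 8, 18, 8, 18], [0, 14, 8, 18, 18, 10, 8, 19, 2, 10, 6, 8, 11, 4, 6, 8, 10, 4, 6, 8, 4, 6, 4, 0, 12, 6, 8, 10, 6, 24]⟩))
  (.node (nat_lit 1311) (.leaf ⟨6, 6, true, [0, 14, 12, 18, 8, 18], [18, 18, 8, 19, 8, 19, 2, 13, 11, 4, 6, 8, 10, 4, 6, 8, 4, 6, 4, 11, 11, 6, 8, 11, 13]⟩)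
  (.leaf ⟨6, 6, true, [6, 18, 18, 8, 18, 12, 18, 8, 6], [12, 18, 8, 19, 19, 2, 10, 6, 8, 4, 6, 4, 0, 8, 11, 8, 11, 6, 21]⟩))))))

noncomputable def f1312 : FT := (.node (nat_lit 1328) (.node (nat_lit 1320) (.node (nat_lit 1316) (.node (nat_lit 1314) (.node (nat_lit 1313) (.leaf ⟨6, 6, true, [11, 8, 18, 8, 18, 8, 18, 10, 10], [6, 8, 18, 8, 19, 19, 2, 10, 8, 11, 4, 6, 8, 11, 4, 6, 8, 4, 6, 4, 11, 13, 6, 8, 10, 6, 24]⟩)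
  (.leaf ⟨6, 6, true, [8, 6, 18, 8, 19, 8, 19, 2], [10, 12, 8, 0, 19, 8, 19, 2, 11, 13, 6, 8, 11, 4, 6, 8, 4, 6, 4, 11, 8, 10, 6, 8, 10, 6, 25]⟩))
  (.node (nat_lit 1315) (.leaf ⟨6, 6, true, [13, 19, 6, 8, 18, 10, 8, 18], [8, 19, 8, 0, 19, 2, 11, 12, 6, 8, 11, 4, 6, 8, 4, 6, 4, 11, 12, 8, 10, 20]⟩)
  (.leaf ⟨6, 6, true, [16, 8, 19, 19, 14, 8, 10, 6], [0, 19, 8, 19, 2, 11, 6, 4, 6, 8, 11, 6, 8, 10, 4, 6, 8, 4, 6, 4, 0, 11, 8, 10, 6, 8, 10, 6, 20]⟩)))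
  (.node (nat_lit 1318) (.node (nat_lit 1317) (.leaf ⟨6, 6, true, [12, 8, 18, 8, 0, 18, 10], [2, 18, 8, 19, 6, 8, 18, 18, 6, 8, 11, 13, 4, 6, 8, 11, 4, 6, 8, 4, 6, 4, 0, 10, 10, 6, 8, 10, 25]⟩)
  (.leaf ⟨6, 6, true, [8, 19, 19, 8, 15, 8, 6], [12, 0, 15, 8, 18, 18, 12, 10, 8, 6, 4, 12, 6, 8, 10, 6, 23]⟩))
  (.node (nat_lit 1319) (.leaf ⟨6, 6, true, [15, 8, 19, 6, 8, 19, 6, 2], [19, 19, 0, 19, 8, 19, 2, 12, 11, 6, 8, 4, 6, 4, 0, 13, 6, 8, 10, 6, 25]⟩)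
  (.leaf ⟨6, 6, true, [15, 8, 19, 6, 8, 19, 12, 16], [12, 18, 8, 18, 18, 4, 6, 8, 11, 8, 11, 4, 6, 8, 4, 6, 4, 0, 8, 11, 11, 6, 8, 11, 12]⟩))))
  (.node (nat_lit 1324) (.node (nat_lit 1322) (.node (nat_lit 1321) (.leaf ⟨6, 6, true, [0, 19, 16, 10, 8, 19, 8, 14, 6], [8, 16, 8, 19, 8, 0, 19, 2, 6, 8, 10, 6, 8, 4, 6, 4, 0, 12, 8, 11]⟩)
  (.leaf ⟨6, 6, true, [8, 18, 14, 8, 18, 18, 8, 6], [12, 6, 8, 18, 8, 0, 18, 18, 13, 8, 10, 6, 8, 11, 4, 6, 8, 4, 6, 4, 13, 10, 8, 11, 23]⟩))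
  (.node (nat_lit 1323) (.leaf ⟨6, 6, true, [18, 8, 15, 19, 6, 8, 6, 18, 10], [19, 16, 8, 19, 10, 8, 19, 2, 11, 6, 8, 10, 4, 6, 8, 4, 6, 4, 11, 6, 8, 10, 6, 22]⟩)
  (.leaf ⟨6, 6, true, [0, 14, 18, 8, 18, 4, 14, 8, 6], [0, 19, 8, 14, 6, 8, 18, 18, 4, 6, 8, 11, 4, 6, 8, 11, 4, 6, 8, 4, 6, 4, 0, 12, 6, 8, 10, 6]⟩)))
  (.node (nat_lit 1326) (.node (nat_lit 1325) (.leaf ⟨6, 6, true, [0, 19, 8, 16, 14, 8, 19, 19, 15], [12, 14, 8, 18, 18, 10, 10, 4, 6, 8, 11, 4, 6, 8, 10, 4, 6, 8, 4, 6, 4, 13, 6, 8, 10, 6, 21]⟩)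
  (.leaf ⟨6, 6, true, [10, 8, 19, 12, 19, 2], [19, 6, 18, 10, 8, 19, 2, 4, 6, 4, 0, 11, 11, 8, 11, 6, 8, 11, 22]⟩))
  (.node (nat_lit 1327) (.leaf ⟨6, 6, true, [12, 18, 8, 2, 18, 8, 6, 18], [10, 8, 18, 10, 8, 18, 18, 4, 0, 11, 8, 11, 6, 8, 11, 6, 21]⟩)
  (.leaf ⟨6, 6, true, [8, 0, 19, 6, 8, 19, 19, 14], [12, 8, 0, 19, 8, 0, 19, 2, 8, 10, 4, 6, 8, 4, 6, 4, 13, 8, 10, 6, 23]⟩)))))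
  (.node (nat_lit 1336) (.node (nat_lit 1332) (.node (nat_lit 1330) (.node (nat_lit 1329) (.leaf ⟨6, 6, true, [19, 19, 8, 6, 2], [8, 2, 18, 18, 13, 10, 8, 11, 4, 6, 8, 10, 4, 6, 8, 4, 6, 4, 11, 6, 8, 10, 6, 12]⟩)
  (.leaf ⟨6, 6, true, [8, 19, 8, 19, 15], [11, 8, 19, 8, 19, 2, 10, 12, 8, 11, 4, 6, 8, 4, 6, 4, 8, 11, 6, 24]⟩))
  (.node (nat_lit 1331) (.leaf ⟨6, 6, true, [18, 13, 18, 8, 18, 18, 14, 8, 16], [19, 8, 15, 19, 10, 8, 19, 2, 6, 8, 11, 6, 8, 10, 4, 6, 8, 4, 6, 4, 0, 11, 13, 8, 10, 6, 8, 11, 24]⟩)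
  (.leaf ⟨6, 6, true, [19, 14, 6, 0, 18, 8, 6, 18, 8, 6], [19, 10, 10, 8, 19, 2, 12, 11, 4, 6, 8, 10, 4, 6, 8, 4, 6, 4, 0, 10, 8, 11, 6, 8, 11, 22]⟩)))
  (.node (nat_lit 1334) (.node (nat_lit 1333) (.leaf ⟨6, 6, true, [18, 8, 18, 8, 19, 8, 6, 18, 8, 6], [8, 15, 18, 8, 18, 18, 8, 10, 6, 8, 11, 4, 6, 8, 10, 4, 6, 8, 4, 6, 4, 8, 11, 8, 11, 6, 24]⟩)
  (.leaf ⟨6, 6, true, [0, 14, 8, 18, 14, 8, 19, 19, 15], [13, 16, 8, 19, 6, 18, 8, 19, 2, 11, 4, 6, 8, 11, 4, 6, 8, 11, 4, 6, 8, 4, 6, 4, 0, 8, 10, 21]⟩))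
  (.node (nat_lit 1335) (.leaf ⟨6, 5, true, [14, 0, 19, 12, 8, 19, 8, 14, 6], [18, 10, 10, 8, 18, 18, 6, 8, 11, 6, 8, 10, 4, 6, 8, 4, 6, 4, 0, 12, 8, 11, 6, 8, 10, 13]⟩)
  (.leaf ⟨5, 6, true, [14, 18, 18, 8, 0, 18, 8, 18], [8, 15, 0, 19, 8, 19, 2, 10, 10, 8, 11, 4, 6, 8, 4, 6, 4, 10, 8, 10, 6, 8, 10, 13]⟩))))
  (.node (nat_lit 1340) (.node (nat_lit 1338) (.node (nat_lit 1337) (.leaf ⟨6, 6, true, [14, 18, 12, 18, 8, 19, 14, 6], [10, 8, 19, 8, 19, 2, 13, 10, 8, 11, 6, 8, 11, 4, 6, 8, 4, 6, 4, 13, 8, 11, 6, 8, 10, 25]⟩)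
  (.leaf ⟨6, 6, true, [0, 18, 10, 12, 8, 18, 8, 18, 10], [0, 19, 8, 19, 8, 0, 19, 2, 8, 6, 4, 11, 13, 6, 8, 11, 6, 21]⟩))
  (.node (nat_lit 1339) (.leaf ⟨6, 6, true, [0, 15, 18, 8, 19, 19, 15], [15, 12, 18, 8, 0, 18, 18, 8, 11, 13, 4, 6, 8, 11, 4, 6, 8, 4, 6, 4, 10, 10, 6, 23]⟩)
  (.leaf ⟨6, 6, true, [14, 6, 18, 8, 19, 19, 14, 10], [0, 19, 12, 8, 19, 8, 19, 2, 11, 8, 11, 6, 4, 6, 8, 10, 4, 6, 8, 4, 6, 4, 6, 8, 11, 6, 12]⟩)))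
  (.node (nat_lit 1342) (.node (nat_lit 1341) (.leaf ⟨6, 6, true, [19, 13, 11, 8, 19, 8, 19, 14, 8, 6], [18, 8, 19, 8, 0, 19, 2, 8, 11, 4, 6, 8, 11, 4, 6, 8, 4, 6, 4, 0, 8, 11, 6, 8, 11, 6, 22]⟩)
  (.leaf ⟨6, 6, true, [6, 18, 18, 18, 8, 6, 18, 8, 6], [12, 11, 8, 0, 19, 8, 19, 2, 6, 8, 10, 4, 6, 8, 4, 6, 4, 12, 11, 20]⟩))
  (.node (nat_lit 1343) (.leaf ⟨6, 6, true, [2, 18, 13, 8, 0, 18, 8, 18], [14, 0, 19, 8, 19, 2, 11, 13, 6, 8, 11, 4, 6, 8, 10, 4, 6, 8, 4, 6, 4, 11, 6, 8, 11, 6, 8, 10, 22]⟩)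
  (.leaf ⟨6, 6, true, [14, 4, 6, 8, 18, 8, 18, 10], [18, 11, 8, 19, 8, 19, 2, 8, 10, 10, 4, 6, 8, 10, 4, 6, 8, 4, 6, 4, 11, 11, 8, 10, 12]⟩))))))

noncomputable def f1344 : FT := (.node (nat_lit 1360) (.node (nat_lit 1352) (.node (nat_lit 1348) (.node (nat_lit 1346) (.node (nat_lit 1345) (.leaf ⟨6, 6, true, [18, 18, 14, 8, 19, 6, 18, 8, 6], [19, 8, 19, 10, 8, 19, 2, 4, 6, 4, 6, 8, 11, 6, 8, 10, 12]⟩)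
  (.leaf ⟨6, 6, true, [8, 18, 4, 6, 8, 18, 8, 18], [15, 18, 8, 19, 10, 8, 19, 2, 10, 4, 6, 8, 10, 4, 6, 8, 11, 4, 6, 8, 4, 6, 4, 11, 12, 6, 8, 11]⟩))
  (.node (nat_lit 1347) (.leaf ⟨6, 6, true, [18, 18, 13, 8, 18, 8, 6, 18], [14, 18, 8, 0, 18, 18, 10, 6, 8, 10, 4, 6, 8, 11, 4, 6, 8, 4, 6, 4, 11, 8, 10, 6, 8, 11, 6]⟩)
  (.leaf ⟨6, 6, true, [18, 18, 18, 8, 18, 4, 14, 8, 6], [13, 10, 8, 0, 19, 8, 19, 2, 11, 6, 8, 11, 4, 6, 8, 4, 6, 4, 0, 11, 8, 10, 6, 8, 10, 23]⟩)))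
  (.node (nat_lit 1350) (.node (nat_lit 1349) (.leaf ⟨6, 6, true, [18, 18, 18, 18, 12, 8, 19, 8, 16], [19, 0, 19, 8, 19, 2, 6, 8, 10, 10, 4, 6, 8, 11, 4, 6, 8, 4, 6, 4, 13, 10, 8, 11, 24]⟩)
  (.leaf ⟨6, 6, true, [8, 15, 18, 8, 18, 8, 6, 18], [0, 19, 19, 14, 8, 19, 0, 2, 4, 6, 8, 10, 10, 4, 6, 8, 11, 4, 6, 8, 4, 6, 4, 12, 10, 8, 10, 6, 8, 10, 13]⟩))
  (.node (nat_lit 1351) (.leaf ⟨6, 5, true, [8, 0, 2, 18, 8, 6, 18, 8, 19, 2], [13, 0, 19, 8, 19, 8, 0, 19, 2, 6, 8, 10, 6, 8, 4, 6, 4, 0, 8, 10, 13]⟩)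
  (.leaf ⟨5, 6, true, [15, 19, 19, 19, 8, 19, 12, 8, 16], [19, 10, 6, 8, 19, 8, 19, 2, 11, 13, 6, 8, 11, 4, 6, 8, 4, 6, 4, 13, 11, 6, 8, 11, 12]⟩))))
  (.node (nat_lit 1356) (.node (nat_lit 1354) (.node (nat_lit 1353) (.leaf ⟨6, 6, true, [8, 18, 13, 8, 18, 10, 8, 18], [10, 6, 8, 19, 19, 2, 13, 10, 8, 11, 6, 8, 11, 4, 6, 8, 4, 6, 4, 10, 13, 8, 11, 23]⟩)
  (.leaf ⟨6, 6, true, [18, 8, 18, 18, 18, 8, 19, 14, 6], [13, 19, 8, 19, 8, 19, 2, 11, 11, 8, 11, 6, 8, 11, 4, 6, 8, 4, 6, 4, 13, 8, 10, 6, 8, 11, 20]⟩))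
  (.node (nat_lit 1355) (.leaf ⟨6, 6, true, [0, 18, 8, 18, 8, 18, 8, 6], [18, 14, 8, 19, 0, 2, 4, 6, 8, 11, 4, 6, 8, 4, 6, 4, 10, 8, 11, 6, 8, 10, 12]⟩)
  (.leaf ⟨6, 6, true, [16, 8, 19, 6, 8, 19, 19, 14], [10, 8, 19, 8, 19, 8, 19, 2, 10, 10, 6, 8, 4, 6, 4, 10, 13, 8, 10, 13]⟩)))
  (.node (nat_lit 1358) (.node (nat_lit 1357) (.leaf ⟨6, 6, true, [8, 19, 10, 10, 8, 19, 8, 16], [10, 8, 0, 19, 10, 8, 19, 2, 12, 10, 8, 10, 6, 8, 10, 4, 6, 8, 4, 6, 4, 13, 11, 8, 11, 12]⟩)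
  (.leaf ⟨6, 6, true, [8, 15, 8, 19, 12, 8, 19, 8, 6, 2], [18, 10, 8, 19, 0, 2, 13, 8, 11, 6, 8, 10, 4, 6, 8, 4, 6, 4, 11, 13, 8, 10, 6, 8, 11, 12]⟩))
  (.node (nat_lit 1359) (.leaf ⟨6, 5, true, [18, 8, 14, 8, 19, 19, 14], [12, 18, 8, 0, 19, 8, 19, 2, 12, 10, 8, 10, 4, 6, 8, 4, 6, 4, 0, 11, 12, 8, 10, 6, 8, 11, 20]⟩)
  (.leaf ⟨5, 6, true, [12, 16, 8, 19, 19, 14, 10], [8, 2, 18, 18, 6, 8, 11, 13, 4, 6, 8, 11, 4, 6, 8, 4, 6, 4, 8, 10, 6, 8, 11, 6, 13]⟩)))))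
  (.node (nat_lit 1368) (.node (nat_lit 1364) (.node (nat_lit 1362) (.node (nat_lit 1361) (.leaf ⟨6, 6, true, [18, 14, 8, 0, 19, 8, 19, 8, 16], [2, 18, 8, 0, 18, 18, 12, 8, 11, 6, 8, 10, 4, 6, 8, 4, 6, 4, 8, 10, 6, 8, 11, 6, 22]⟩)
  (.leaf ⟨6, 6, true, [0, 19, 8, 11, 8, 19, 8, 19, 2], [14, 8, 19, 8, 19, 2, 10, 8, 11, 4, 6, 8, 4, 6, 4, 6, 8, 10, 6, 8, 11, 13]⟩))
  (.node (nat_lit 1363) (.leaf ⟨6, 6, true, [12, 8, 0, 2, 18, 8, 19, 19, 2], [19, 8, 16, 8, 19, 19, 2, 4, 6, 8, 11, 13, 4, 6, 8, 10, 4, 6, 8, 4, 6, 4, 12, 8, 11, 6, 8, 10, 23]⟩)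
  (.leaf ⟨6, 6, true, [18, 8, 0, 19, 6, 8, 19, 14, 6], [0, 19, 10, 8, 19, 2, 10, 12, 8, 11, 4, 6, 8, 4, 6, 4, 0, 8, 10, 8, 10, 6, 21]⟩)))
  (.node (nat_lit 1366) (.node (nat_lit 1365) (.leaf ⟨6, 6, true, [19, 19, 15, 19, 8, 19, 8, 16], [18, 18, 12, 8, 19, 8, 19, 2, 10, 10, 4, 6, 8, 11, 4, 6, 8, 10, 4, 6, 8, 4, 6, 4, 13, 6, 8, 10, 20]⟩)
  (.leaf ⟨6, 6, true, [18, 18, 18, 18, 8, 19, 14, 8, 6], [8, 19, 6, 8, 18, 18, 12, 11, 4, 6, 8, 10, 4, 6, 8, 4, 6, 4, 8, 10, 8, 10, 24]⟩))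
  (.node (nat_lit 1367) (.leaf ⟨6, 6, true, [18, 10, 8, 6, 18], [18, 10, 8, 19, 8, 19, 2, 6, 8, 11, 6, 8, 10, 4, 6, 8, 4, 6, 4, 8, 11, 12, 6, 8, 11, 22]⟩)
  (.leaf ⟨6, 6, true, [0, 19, 19, 8, 0, 19, 14, 8, 6], [15, 18, 8, 18, 18, 6, 8, 11, 8, 11, 4, 6, 8, 11, 4, 6, 8, 4, 6, 4, 10, 10, 8, 11, 13]⟩))))
  (.node (nat_lit 1372) (.node (nat_lit 1370) (.node (nat_lit 1369) (.leaf ⟨6, 6, true, [8, 18, 13, 8, 19, 6, 8, 6, 18], [11, 8, 19, 15, 19, 8, 19, 2, 13, 4, 6, 8, 10, 4, 6, 8, 4, 6, 4, 13, 11, 6, 8, 11]⟩)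
  (.leaf ⟨6, 6, true, [0, 14, 10, 8, 18, 8, 0, 18, 10], [13, 14, 8, 18, 8, 18, 18, 8, 10, 10, 4, 6, 8, 10, 4, 6, 8, 4, 6, 4, 6, 8, 11, 6, 8, 10]⟩))
  (.node (nat_lit 1371) (.leaf ⟨6, 6, true, [18, 18, 8, 18], [18, 18, 18, 13, 10, 8, 11, 6, 8, 4, 6, 4, 12, 10, 6, 8, 11, 20]⟩)
  (.leaf ⟨6, 6, true, [19, 6, 8, 18, 8, 19, 12, 19, 2], [12, 18, 8, 19, 19, 2, 11, 8, 11, 12, 6, 8, 11, 4, 6, 8, 4, 6, 4, 13, 10, 8, 10, 20]⟩)))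
  (.node (nat_lit 1374) (.node (nat_lit 1373) (.leaf ⟨6, 6, true, [11, 11, 8, 19, 8, 16, 10], [12, 8, 19, 8, 19, 8, 19, 2, 11, 8, 11, 12, 4, 6, 8, 11, 4, 6, 8, 4, 6, 4, 12, 8, 10, 6, 8, 11, 12]⟩)
  (.leaf ⟨6, 6, true, [18, 8, 19, 8, 16, 8, 19, 19, 15], [18, 8, 19, 14, 8, 19, 0, 2, 12, 11, 8, 6, 4, 11, 8, 11, 12, 6, 8, 11, 6, 24]⟩))
  (.node (nat_lit 1375) (.leaf ⟨6, 6, true, [12, 14, 6, 8, 6, 18, 8, 18, 10], [12, 0, 19, 8, 19, 8, 0, 19, 2, 11, 6, 8, 4, 6, 4, 11, 8, 10, 6, 8, 11, 6, 23]⟩)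
  (.leaf ⟨6, 6, true, [4, 6, 8, 18, 8, 19, 12, 19, 2], [0, 19, 6, 18, 10, 8, 19, 2, 10, 10, 4, 6, 8, 11, 4, 6, 8, 11, 4, 6, 8, 4, 6, 4, 11, 6, 8, 11, 6, 8, 10, 20]⟩))))))

noncomputable def f1376 : FT := (.node (nat_lit 1392) (.node (nat_lit 1384) (.node (nat_lit 1380) (.node (nat_lit 1378) (.node (nat_lit 1377) (.leaf ⟨6, 6, true, [10, 8, 18, 10, 8, 18, 8, 18, 10], [8, 19, 8, 19, 8, 19, 2, 13, 8, 11, 4, 6, 8, 4, 6, 4, 8, 10, 8, 10, 21]⟩)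
  (.leaf ⟨6, 6, true, [14, 10, 8, 19, 19, 15], [14, 8, 18, 18, 10, 8, 19, 2, 12, 11, 6, 8, 10, 4, 6, 8, 4, 6, 4, 0, 13, 6, 8, 10, 23]⟩))
  (.node (nat_lit 1379) (.leaf ⟨6, 5, true, [14, 4, 14, 6, 8, 18, 8, 18], [18, 6, 8, 10, 10, 4, 6, 8, 10, 4, 6, 8, 4, 6, 4, 8, 11, 8, 11, 6, 8, 11, 24]⟩)
  (.leaf ⟨5, 6, true, [6, 8, 0, 14, 6, 18, 8, 18], [0, 19, 8, 19, 10, 10, 8, 19, 2, 11, 11, 4, 6, 8, 4, 6, 4, 0, 8, 10, 13, 6, 8, 10, 21]⟩)))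
  (.node (nat_lit 1382) (.node (nat_lit 1381) (.leaf ⟨6, 6, true, [19, 14, 8, 18, 8, 18, 8, 4, 14, 6], [16, 8, 19, 19, 2, 4, 6, 8, 11, 4, 6, 8, 11, 4, 6, 8, 4, 6, 4, 0, 11, 6, 8, 11, 6, 23]⟩)
  (.leaf ⟨6, 6, true, [19, 15, 12, 8, 19, 8, 19, 14, 8, 6], [19, 19, 6, 8, 19, 8, 19, 2, 4, 6, 8, 11, 13, 4, 6, 8, 11, 4, 6, 8, 4, 6, 4, 10, 13, 8, 10, 6, 13]⟩))
  (.node (nat_lit 1383) (.leaf ⟨6, 6, true, [13, 16, 10, 8, 19, 8, 6, 2], [10, 8, 0, 19, 10, 8, 19, 2, 11, 6, 4, 6, 8, 10, 4, 6, 8, 11, 4, 6, 8, 4, 6, 4, 11, 25]⟩)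
  (.leaf ⟨6, 6, true, [19, 14, 10, 6, 8, 19, 19, 14], [6, 8, 0, 18, 18, 6, 8, 10, 4, 6, 8, 4, 6, 4, 0, 10, 8, 10, 6, 8, 10, 13]⟩))))
  (.node (nat_lit 1388) (.node (nat_lit 1386) (.node (nat_lit 1385) (.leaf ⟨6, 6, true, [18, 14, 8, 18, 8, 18, 8, 18, 10], [19, 16, 8, 19, 6, 8, 18, 18, 11, 11, 4, 6, 8, 4, 6, 4, 11, 11, 8, 10, 6, 8, 11, 23]⟩)
  (.leaf ⟨6, 6, true, [14, 18, 8, 0, 18, 8, 18, 10], [14, 8, 18, 8, 18, 18, 10, 12, 6, 8, 10, 4, 6, 8, 4, 6, 4, 6, 8, 11, 6, 22]⟩))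
  (.node (nat_lit 1387) (.leaf ⟨6, 6, true, [8, 2, 18, 8, 0, 18, 8, 18], [15, 18, 8, 0, 18, 18, 11, 11, 4, 6, 8, 4, 6, 4, 12, 6, 8, 11, 12]⟩)
  (.leaf ⟨6, 6, true, [0, 14, 10, 8, 18, 8, 18], [18, 8, 0, 18, 8, 18, 18, 10, 8, 10, 4, 6, 8, 10, 4, 6, 8, 4, 6, 4, 0, 6, 8, 10, 8, 10, 24]⟩)))
  (.node (nat_lit 1390) (.node (nat_lit 1389) (.leaf ⟨6, 6, true, [18, 8, 19, 6, 8, 18, 12, 10], [18, 18, 10, 8, 19, 2, 12, 10, 4, 6, 8, 4, 6, 4, 0, 13, 8, 10, 6, 23]⟩)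
  (.leaf ⟨6, 6, true, [6, 8, 0, 19, 6, 8, 19, 16], [19, 12, 16, 8, 19, 8, 19, 2, 6, 8, 10, 6, 8, 4, 6, 4, 8, 11, 13, 6, 8, 11, 22]⟩))
  (.node (nat_lit 1391) (.leaf ⟨6, 6, true, [2, 0, 18, 8, 18, 8, 6, 18], [12, 0, 15, 8, 18, 18, 8, 10, 10, 6, 8, 11, 4, 6, 8, 4, 6, 4, 10, 6, 8, 10, 6, 8, 11, 25]⟩)
  (.leaf ⟨6, 6, true, [19, 8, 19, 19, 15], [18, 6, 8, 19, 8, 19, 2, 8, 11, 6, 8, 4, 6, 4, 11, 6, 8, 11, 23]⟩)))))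
  (.node (nat_lit 1400) (.node (nat_lit 1396) (.node (nat_lit 1394) (.node (nat_lit 1393) (.leaf ⟨6, 6, true, [13, 15, 19, 8, 16, 8, 19, 19, 2], [10, 8, 18, 8, 18, 18, 11, 13, 6, 8, 11, 4, 6, 8, 4, 6, 4, 10, 8, 11, 6, 8, 10, 12]⟩)
  (.leaf ⟨6, 6, true, [8, 2, 19, 6, 8, 18, 8, 19, 16], [8, 18, 18, 18, 4, 6, 8, 10, 4, 6, 8, 4, 6, 4, 0, 12, 10, 6, 8, 11, 21]⟩))
  (.node (nat_lit 1395) (.leaf ⟨6, 6, true, [19, 8, 16, 12, 8, 6, 18], [18, 6, 8, 10, 4, 6, 8, 10, 4, 6, 8, 4, 6, 4, 0, 11, 11, 8, 10]⟩)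
  (.leaf ⟨6, 6, true, [18, 8, 19, 8, 19, 14, 8, 6], [18, 10, 8, 19, 19, 2, 12, 6, 8, 11, 4, 6, 8, 4, 6, 4, 12, 11, 6, 8, 10, 6]⟩)))
  (.node (nat_lit 1398) (.node (nat_lit 1397) (.leaf ⟨6, 6, true, [0, 14, 6, 8, 18, 8, 18, 11], [0, 19, 19, 8, 0, 19, 2, 8, 11, 8, 11, 4, 6, 8, 11, 4, 6, 8, 4, 6, 4, 8, 11, 6, 8, 10, 23]⟩)
  (.leaf ⟨6, 6, true, [18, 8, 18, 8, 0, 15, 18, 8, 18], [13, 19, 8, 0, 19, 8, 0, 19, 2, 12, 10, 8, 10, 4, 6, 8, 10, 4, 6, 8, 4, 6, 4, 11, 13, 6, 8, 11, 21]⟩))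
  (.node (nat_lit 1399) (.leaf ⟨6, 6, true, [8, 6, 18, 18, 8, 18, 8, 18, 10], [15, 19, 8, 6, 18, 8, 19, 2, 8, 11, 13, 6, 8, 10, 4, 6, 8, 4, 6, 4, 0, 11, 13, 6, 8, 11, 6, 24]⟩)
  (.leaf ⟨6, 6, true, [8, 2, 19, 8, 6, 18, 8, 6], [8, 4, 6, 18, 8, 19, 2, 12, 8, 10, 6, 8, 10, 4, 6, 8, 4, 6, 4, 12, 8, 11, 6, 8, 10, 6, 12]⟩))))
  (.node (nat_lit 1404) (.node (nat_lit 1402) (.node (nat_lit 1401) (.leaf ⟨6, 6, true, [6, 8, 18, 13, 8, 19, 8, 16], [14, 8, 19, 0, 2, 10, 8, 11, 4, 6, 8, 4, 6, 4, 8, 11, 6, 8, 11, 6, 25]⟩)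
  (.leaf ⟨6, 6, true, [0, 19, 8, 16, 10, 8, 6, 18], [8, 15, 18, 14, 8, 18, 18, 11, 4, 6, 8, 11, 4, 6, 8, 11, 4, 6, 8, 4, 6, 4, 6, 24]⟩))
  (.node (nat_lit 1403) (.leaf ⟨6, 6, true, [0, 19, 15, 19, 8, 19, 14, 8, 10, 6], [15, 18, 18, 8, 18, 18, 8, 10, 8, 10, 4, 6, 8, 10, 4, 6, 8, 4, 6, 4, 10, 13, 8, 11]⟩)
  (.leaf ⟨6, 6, true, [13, 10, 8, 19, 6, 8, 18], [15, 18, 14, 8, 19, 19, 2, 11, 8, 11, 4, 6, 8, 4, 6, 4, 0, 13, 10, 8, 10, 24]⟩)))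
  (.node (nat_lit 1406) (.node (nat_lit 1405) (.leaf ⟨6, 5, true, [15, 18, 12, 8, 18, 8, 19, 6, 2], [18, 8, 15, 19, 8, 19, 2, 8, 11, 4, 6, 8, 10, 4, 6, 8, 4, 6, 4, 11, 8, 10, 6, 25]⟩)
  (.leaf ⟨5, 6, true, [8, 18, 10, 12, 18, 8, 19, 8, 19, 2], [18, 10, 8, 18, 18, 6, 8, 10, 6, 8, 11, 22]⟩))
  (.node (nat_lit 1407) (.leaf ⟨6, 6, true, [6, 8, 19, 6, 8, 6, 18, 8, 18], [8, 18, 10, 8, 19, 19, 2, 8, 11, 13, 4, 6, 8, 11, 4, 6, 8, 4, 6, 4, 12, 11, 8, 10, 20]⟩)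
  (.leaf ⟨6, 6, true, [8, 6, 18, 12, 8, 19, 8, 19, 14], [19, 14, 8, 18, 8, 18, 18, 10, 6, 8, 10, 4, 6, 8, 10, 4, 6, 8, 4, 6, 4, 8, 11, 8, 11, 12]⟩))))))

noncomputable def f1408 : FT := (.node (nat_lit 1424) (.node (nat_lit 1416) (.node (nat_lit 1412) (.node (nat_lit 1410) (.node (nat_lit 1409) (.leaf ⟨6, 6, true, [19, 13, 0, 16, 8, 6, 18, 8, 6], [19, 19, 8, 0, 19, 2, 10, 10, 4, 6, 8, 11, 4, 6, 8, 4, 6, 4, 8, 10, 6, 8, 10, 21]⟩)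
  (.leaf ⟨6, 6, true, [16, 8, 19, 6, 8, 18, 10, 10], [11, 11, 8, 19, 8, 0, 19, 2, 11, 6, 4, 6, 8, 11, 4, 6, 8, 4, 6, 4, 12, 8, 11, 6, 8, 10, 20]⟩))
  (.node (nat_lit 1411) (.leaf ⟨6, 6, true, [15, 8, 19, 8, 19, 8, 19, 15], [0, 19, 15, 19, 10, 8, 19, 2, 10, 6, 8, 10, 4, 6, 8, 4, 6, 4, 0, 11, 13, 6, 8, 11, 6, 12]⟩)
  (.leaf ⟨6, 6, true, [13, 8, 16, 8, 19, 6, 8, 18, 10], [18, 2, 18, 8, 18, 18, 11, 6, 8, 10, 4, 6, 8, 10, 4, 6, 8, 4, 6, 4, 0, 10, 8, 11, 6, 8, 10, 6, 23]⟩)))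
  (.node (nat_lit 1414) (.node (nat_lit 1413) (.leaf ⟨6, 6, true, [12, 8, 11, 8, 16], [8, 15, 18, 8, 0, 18, 18, 11, 11, 8, 11, 4, 6, 8, 11, 4, 6, 8, 4, 6, 4, 8, 10, 8, 10, 6, 8, 10, 20]⟩)
  (.leaf ⟨6, 6, true, [14, 8, 18, 8, 18, 12, 10], [19, 16, 8, 19, 6, 8, 18, 18, 10, 10, 6, 8, 10, 4, 6, 8, 11, 4, 6, 8, 4, 6, 4, 11]⟩))
  (.node (nat_lit 1415) (.leaf ⟨6, 5, true, [15, 0, 15, 11, 8, 18, 8, 18, 10], [6, 8, 18, 14, 8, 18, 18, 8, 10, 6, 8, 4, 6, 4, 0, 10, 12, 8, 11, 23]⟩)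
  (.leaf ⟨5, 6, true, [15, 8, 6, 18, 12, 8, 18], [14, 12, 8, 19, 8, 19, 2, 6, 8, 10, 4, 6, 8, 10, 4, 6, 8, 4, 6, 4, 10, 12, 6, 8, 10, 13]⟩))))
  (.node (nat_lit 1420) (.node (nat_lit 1418) (.node (nat_lit 1417) (.leaf ⟨6, 6, true, [15, 18, 12, 8, 2, 18, 8, 18, 10], [18, 18, 18, 10, 10, 8, 4, 6, 4, 10, 13, 8, 10, 12]⟩)
  (.leaf ⟨6, 6, true, [10, 10, 8, 18], [6, 18, 8, 19, 10, 8, 19, 2, 8, 11, 6, 8, 11, 4, 6, 8, 11, 4, 6, 8, 4, 6, 4, 0, 6, 8, 11, 8, 11, 13]⟩))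
  (.node (nat_lit 1419) (.leaf ⟨6, 5, true, [19, 8, 14, 6, 8, 18, 8, 18, 11], [18, 10, 8, 18, 18, 12, 10, 8, 6, 4, 0, 8, 11]⟩)
  (.leaf ⟨5, 6, true, [12, 0, 18, 8, 18, 8, 6, 18], [8, 0, 15, 18, 8, 18, 18, 12, 8, 10, 6, 8, 4, 6, 4, 8, 10, 6, 8, 10, 6, 25]⟩)))
  (.node (nat_lit 1422) (.node (nat_lit 1421) (.leaf ⟨6, 6, true, [13, 18, 8, 6, 18, 8, 18, 8, 6], [0, 19, 19, 2, 8, 11, 8, 11, 4, 6, 8, 10, 4, 6, 8, 4, 6, 4, 12, 8, 11, 6, 8, 10, 6, 12]⟩)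
  (.leaf ⟨6, 6, true, [6, 18, 18, 8, 6, 18, 10], [8, 0, 19, 10, 10, 8, 19, 2, 12, 10, 4, 6, 8, 10, 4, 6, 8, 4, 6, 4, 11, 13]⟩))
  (.node (nat_lit 1423) (.leaf ⟨6, 5, true, [15, 8, 18, 12, 8, 6, 18], [11, 8, 19, 19, 2, 10, 8, 4, 6, 4, 11, 8, 10, 6, 8, 11, 25]⟩)
  (.leaf ⟨5, 6, true, [14, 8, 19, 8, 6, 18, 10, 8, 6], [8, 18, 8, 2, 18, 18, 12, 8, 10, 4, 6, 8, 4, 6, 4, 0, 6, 8, 11, 13]⟩)))))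
  (.node (nat_lit 1432) (.node (nat_lit 1428) (.node (nat_lit 1426) (.node (nat_lit 1425) (.leaf ⟨6, 6, true, [18, 8, 0, 19, 13, 16, 8, 6, 18, 10], [2, 18, 8, 19, 6, 18, 8, 19, 2, 10, 8, 11, 6, 4, 6, 8, 11, 4, 6, 8, 4, 6, 4, 8, 11, 6, 8, 10, 20]⟩)
  (.leaf ⟨6, 6, true, [19, 8, 15, 8, 19, 8, 19, 14], [16, 8, 19, 8, 0, 19, 2, 8, 11, 12, 6, 8, 11, 4, 6, 8, 4, 6, 4, 0, 10, 6, 21]⟩))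
  (.node (nat_lit 1427) (.leaf ⟨6, 6, true, [19, 10, 6, 8, 19, 8, 19, 8, 16], [18, 11, 8, 18, 8, 19, 19, 2, 10, 8, 4, 6, 4, 0, 10, 8, 11, 6, 23]⟩)
  (.leaf ⟨6, 6, true, [19, 8, 15, 8, 6], [0, 18, 18, 8, 19, 2, 12, 10, 8, 10, 6, 8, 4, 6, 4, 0, 11, 8, 11, 12, 6, 8, 11, 6, 20]⟩)))
  (.node (nat_lit 1430) (.node (nat_lit 1429) (.leaf ⟨6, 6, true, [15, 8, 6, 18, 8, 15, 18, 8, 18], [15, 8, 18, 18, 10, 8, 19, 2, 11, 6, 4, 6, 8, 11, 6, 8, 10, 4, 6, 8, 4, 6, 4, 0, 10, 8, 10, 6, 20]⟩)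
  (.leaf ⟨6, 6, true, [19, 19, 11, 8, 16, 8, 19, 19, 15], [10, 8, 18, 14, 8, 18, 18, 10, 6, 8, 11, 4, 6, 8, 10, 4, 6, 8, 4, 6, 4, 11, 6, 8, 10, 21]⟩))
  (.node (nat_lit 1431) (.leaf ⟨6, 6, true, [14, 8, 6, 18, 8, 18, 8, 6], [18, 8, 18, 10, 8, 19, 19, 2, 11, 6, 8, 11, 4, 6, 8, 10, 4, 6, 8, 4, 6, 4, 0, 10, 13, 6, 8, 10, 22]⟩)
  (.leaf ⟨6, 6, true, [19, 12, 16, 8, 19, 19, 14, 10], [13, 15, 8, 19, 8, 19, 2, 12, 11, 4, 6, 8, 10, 4, 6, 8, 4, 6, 4, 0, 8, 11, 6, 8, 11, 22]⟩))))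
  (.node (nat_lit 1436) (.node (nat_lit 1434) (.node (nat_lit 1433) (.leaf ⟨6, 5, true, [18, 12, 8, 18, 8, 6, 0, 18], [0, 19, 10, 8, 19, 0, 2, 10, 13, 8, 11, 6, 8, 4, 6, 4, 0, 10, 6, 8, 11, 6, 8, 10, 22]⟩)
  (.leaf ⟨5, 6, true, [8, 15, 8, 18, 8, 18, 11], [0, 18, 8, 18, 8, 19, 2, 10, 8, 10, 6, 8, 11, 4, 6, 8, 10, 4, 6, 8, 4, 6, 4, 12, 8, 10, 6, 8, 11, 12]⟩))
  (.node (nat_lit 1435) (.leaf ⟨6, 6, true, [8, 18, 18, 10, 8, 19, 16], [19, 8, 15, 19, 8, 0, 19, 2, 6, 4, 6, 8, 10, 4, 6, 8, 4, 6, 4, 10, 13, 8, 10, 12]⟩)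
  (.leaf ⟨6, 6, true, [6, 18, 18, 8, 18, 8, 18, 10], [19, 10, 8, 19, 0, 2, 8, 10, 4, 6, 8, 4, 6, 4, 10, 8, 10, 10, 6, 8, 11]⟩)))
  (.node (nat_lit 1438) (.node (nat_lit 1437) (.leaf ⟨6, 6, true, [8, 15, 0, 19, 8, 19, 8, 16, 10], [18, 14, 8, 19, 8, 19, 2, 6, 8, 10, 10, 4, 6, 8, 10, 4, 6, 8, 4, 6, 4, 6, 8, 10, 6, 8, 11, 20]⟩)
  (.leaf ⟨6, 6, true, [18, 12, 8, 2, 18, 8, 19, 19, 2], [8, 18, 14, 8, 18, 18, 8, 10, 6, 8, 10, 4, 6, 8, 4, 6, 4, 0, 11, 11, 8, 11, 12]⟩))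
  (.node (nat_lit 1439) (.leaf ⟨6, 6, true, [8, 19, 8, 10, 8, 16], [15, 18, 8, 2, 18, 18, 6, 8, 10, 6, 8, 11, 4, 6, 8, 10, 4, 6, 8, 4, 6, 4, 11, 6, 8, 11, 24]⟩)
  (.leaf ⟨6, 6, true, [8, 15, 19, 8, 0, 19, 8, 6, 2], [8, 14, 18, 18, 8, 19, 2, 12, 4, 6, 8, 10, 4, 6, 8, 4, 6, 4, 0, 12, 11, 8, 11]⟩))))))

noncomputable def f1440 : FT := (.node (nat_lit 1456) (.node (nat_lit 1448) (.node (nat_lit 1444) (.node (nat_lit 1442) (.node (nat_lit 1441) (.leaf ⟨6, 6, true, [12, 8, 19, 8, 0, 19, 8, 16, 10], [12, 8, 18, 8, 2, 18, 18, 11, 6, 8, 11, 6, 4, 6, 8, 11, 4, 6, 8, 4, 6, 4, 8, 11, 11, 6, 8, 11, 20]⟩)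
  (.leaf ⟨6, 6, true, [19, 0, 19, 8, 16, 8, 6, 18], [18, 8, 18, 10, 8, 18, 18, 12, 10, 8, 6, 4, 8, 11, 6, 8, 11, 24]⟩))
  (.node (nat_lit 1443) (.leaf ⟨6, 6, true, [10, 8, 18, 18, 8, 18], [11, 11, 8, 19, 8, 0, 19, 2, 11, 13, 8, 10, 4, 6, 8, 4, 6, 4, 11]⟩)
  (.leaf ⟨6, 6, true, [0, 14, 18, 13, 8, 15, 18, 8, 18], [18, 8, 19, 6, 8, 18, 18, 13, 8, 10, 4, 6, 8, 11, 4, 6, 8, 4, 6, 4, 10, 6, 8, 11, 6, 8, 10, 6, 23]⟩)))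
  (.node (nat_lit 1446) (.node (nat_lit 1445) (.leaf ⟨6, 6, true, [18, 10, 10, 8, 6], [19, 0, 19, 11, 8, 19, 2, 6, 8, 11, 6, 8, 10, 4, 6, 8, 4, 6, 4, 0, 12, 11, 20]⟩)
  (.leaf ⟨6, 6, true, [18, 8, 0, 15, 12, 18, 8, 18], [19, 8, 19, 6, 18, 8, 19, 2, 4, 6, 8, 10, 6, 4, 6, 8, 11, 4, 6, 8, 4, 6, 4, 10, 8, 11, 6, 8, 11, 24]⟩))
  (.node (nat_lit 1447) (.leaf ⟨6, 6, true, [18, 18, 10, 8, 18, 8, 19, 16], [0, 19, 19, 14, 8, 19, 0, 2, 8, 6, 4, 8, 11, 6, 8, 11, 6]⟩)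
  (.leaf ⟨6, 6, true, [19, 19, 11, 8, 19, 8, 14, 10, 6], [12, 8, 18, 8, 18, 18, 13, 10, 8, 10, 4, 6, 8, 4, 6, 4, 10, 6, 21]⟩))))
  (.node (nat_lit 1452) (.node (nat_lit 1450) (.node (nat_lit 1449) (.leaf ⟨6, 6, true, [12, 15, 8, 19, 8, 19, 15], [0, 19, 15, 19, 10, 8, 19, 2, 12, 11, 8, 11, 6, 8, 4, 6, 4, 10, 13, 8, 10, 22]⟩)
  (.leaf ⟨6, 6, true, [18, 8, 18, 12, 18, 8, 19, 6, 2], [15, 8, 0, 19, 8, 19, 2, 13, 10, 6, 8, 10, 4, 6, 8, 10, 4, 6, 8, 4, 6, 4, 11, 11, 8, 10, 23]⟩))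
  (.node (nat_lit 1451) (.leaf ⟨6, 6, true, [18, 8, 10, 6, 8, 18], [15, 0, 15, 18, 8, 19, 2, 12, 10, 8, 6, 4, 0, 12, 8, 10, 6, 8, 10, 22]⟩)
  (.leaf ⟨6, 6, true, [18, 8, 19, 8, 10, 12, 19, 8, 16], [12, 19, 8, 0, 19, 8, 19, 2, 13, 8, 10, 4, 6, 8, 4, 6, 4, 12, 6, 8, 11]⟩)))
  (.node (nat_lit 1454) (.node (nat_lit 1453) (.leaf ⟨6, 6, true, [12, 8, 0, 19, 8, 16, 10], [18, 18, 8, 18, 18, 4, 8, 11, 8, 11, 20]⟩)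
  (.leaf ⟨6, 6, true, [15, 19, 8, 19, 8, 19, 8, 16], [19, 19, 8, 6, 18, 8, 19, 2, 10, 6, 8, 10, 6, 8, 4, 6, 4, 0, 6, 8, 11, 13]⟩))
  (.node (nat_lit 1455) (.leaf ⟨6, 6, true, [8, 18, 8, 19, 10, 6, 8, 19, 6, 2], [8, 19, 10, 6, 8, 19, 19, 2, 11, 8, 11, 6, 8, 4, 6, 4, 0, 12, 6, 8, 11, 22]⟩)
  (.leaf ⟨6, 6, true, [14, 18, 8, 19, 6, 18, 8, 6], [6, 8, 16, 8, 19, 19, 2, 10, 10, 8, 11, 6, 8, 4, 6, 4, 8, 11, 11, 6, 8, 11, 13]⟩)))))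
  (.node (nat_lit 1464) (.node (nat_lit 1460) (.node (nat_lit 1458) (.node (nat_lit 1457) (.leaf ⟨6, 3, true, [8, 19, 13, 8, 6, 18, 8, 19, 6, 2], [8, 2, 0, 18, 8, 18, 18, 12, 10, 8, 10, 4, 6, 8, 4, 6, 4, 0, 10, 10, 8, 11, 12]⟩)
  (.leaf ⟨3, 6, true, [12, 19, 8, 19, 8, 0, 14, 6], [19, 6, 18, 10, 8, 19, 2, 13, 8, 10, 6, 8, 4, 6, 4, 0, 11, 12, 6, 8, 11, 25]⟩))
  (.node (nat_lit 1459) (.leaf ⟨6, 6, true, [19, 11, 8, 19, 8, 19, 14, 8, 6], [0, 14, 4, 6, 8, 18, 18, 12, 8, 11, 4, 6, 8, 10, 4, 6, 8, 4, 6, 4, 0, 13, 10, 8, 11, 6, 8, 11, 23]⟩)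
  (.leaf ⟨6, 6, true, [8, 14, 6, 8, 18, 8, 6, 18], [8, 11, 8, 19, 8, 19, 2, 12, 8, 11, 4, 6, 8, 10, 4, 6, 8, 4, 6, 4, 11, 8, 11, 12, 6, 8, 11, 6]⟩)))
  (.node (nat_lit 1462) (.node (nat_lit 1461) (.leaf ⟨6, 6, true, [0, 19, 8, 19, 8, 14, 8, 6], [19, 12, 8, 19, 8, 19, 2, 10, 13, 6, 8, 10, 4, 6, 8, 11, 4, 6, 8, 4, 6, 4, 10, 8, 11, 23]⟩)
  (.leaf ⟨6, 6, true, [19, 6, 8, 15, 8, 18, 8, 18], [10, 8, 19, 14, 8, 19, 0, 2, 12, 10, 4, 6, 8, 4, 6, 4, 11, 6, 8, 10, 22]⟩))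
  (.node (nat_lit 1463) (.leaf ⟨6, 5, true, [19, 19, 19, 8, 19, 12, 8, 16], [15, 11, 8, 19, 8, 19, 2, 11, 6, 8, 10, 4, 6, 8, 4, 6, 4, 12, 10, 6, 12]⟩)
  (.leaf ⟨5, 6, true, [0, 2, 18, 8, 19, 14, 8, 6], [16, 10, 8, 19, 0, 2, 10, 13, 8, 11, 6, 8, 10, 4, 6, 8, 4, 6, 4, 12, 11, 6, 25]⟩))))
  (.node (nat_lit 1468) (.node (nat_lit 1466) (.node (nat_lit 1465) (.leaf ⟨6, 6, true, [19, 8, 6, 18, 8, 6], [12, 11, 8, 19, 8, 0, 19, 2, 12, 10, 6, 8, 10, 4, 6, 8, 10, 4, 6, 8, 4, 6, 4, 8, 11, 6, 8, 11]⟩)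
  (.leaf ⟨6, 6, true, [14, 0, 19, 8, 16, 8, 19, 14, 6], [11, 8, 18, 10, 8, 18, 18, 11, 8, 10, 4, 6, 8, 11, 4, 6, 8, 4, 6, 4, 13, 11, 8, 10, 6, 8, 10, 20]⟩))
  (.node (nat_lit 1467) (.leaf ⟨6, 5, true, [12, 6, 4, 6, 8, 6, 18], [12, 14, 8, 19, 8, 19, 2, 10, 10, 4, 6, 8, 4, 6, 4, 13, 11, 8, 11, 22]⟩)
  (.leaf ⟨5, 6, true, [15, 19, 10, 8, 19, 8, 14, 6], [19, 2, 19, 8, 19, 2, 10, 8, 4, 6, 4, 12, 11, 6, 8, 10, 13]⟩)))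
  (.node (nat_lit 1470) (.node (nat_lit 1469) (.leaf ⟨6, 6, true, [8, 18, 10, 8, 18, 8, 18], [0, 19, 12, 19, 8, 19, 2, 8, 10, 4, 6, 8, 10, 4, 6, 8, 4, 6, 4, 8, 10, 6, 21]⟩)
  (.leaf ⟨6, 6, true, [0, 19, 8, 19, 8, 0, 14, 6], [8, 18, 8, 19, 19, 2, 6, 4, 6, 8, 10, 6, 8, 11, 4, 6, 8, 4, 6, 4, 13, 8, 11, 24]⟩))
  (.node (nat_lit 1471) (.leaf ⟨6, 6, true, [19, 12, 8, 6, 18, 8, 19, 8, 6, 2], [13, 10, 8, 0, 18, 8, 18, 18, 13, 11, 8, 11, 6, 8, 4, 6, 4, 12, 10, 6, 20]⟩)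
  (.leaf ⟨6, 6, true, [8, 6, 18, 18, 8, 18, 10, 8, 18], [12, 18, 8, 19, 8, 0, 19, 2, 11, 11, 4, 6, 8, 4, 6, 4, 10, 8, 10, 10, 6, 8, 11, 21]⟩))))))

noncomputable def f1472 : FT := (.node (nat_lit 1488) (.node (nat_lit 1480) (.node (nat_lit 1476) (.node (nat_lit 1474) (.node (nat_lit 1473) (.leaf ⟨6, 5, true, [2, 18, 12, 8, 6, 18], [11, 8, 19, 10, 8, 19, 2, 10, 6, 8, 10, 4, 6, 8, 11, 4, 6, 8, 4, 6, 4, 12, 11, 6, 13]⟩)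
  (.leaf ⟨5, 6, true, [19, 19, 12, 8, 0, 19, 8, 6, 2], [15, 18, 18, 18, 8, 19, 2, 10, 4, 6, 8, 11, 4, 6, 8, 11, 4, 6, 8, 4, 6, 4, 0, 8, 11, 13, 6, 8, 10, 25]⟩))
  (.node (nat_lit 1475) (.leaf ⟨6, 6, true, [10, 10, 8, 19, 19, 15], [15, 18, 14, 8, 19, 19, 2, 10, 10, 8, 4, 6, 4, 0, 10, 8, 10, 6, 8, 10, 13]⟩)
  (.leaf ⟨6, 6, true, [18, 13, 8, 18, 14, 8, 0, 18], [10, 8, 18, 0, 18, 8, 11, 4, 6, 8, 11, 4, 6, 8, 4, 6, 4, 10, 8, 11, 6, 8, 10, 6, 25]⟩)))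
  (.node (nat_lit 1478) (.node (nat_lit 1477) (.leaf ⟨6, 6, true, [14, 6, 18, 8, 19, 0, 14, 6], [8, 10, 8, 19, 2, 13, 10, 8, 10, 4, 6, 8, 10, 4, 6, 8, 4, 6, 4, 8, 10, 10, 6, 8, 11]⟩)
  (.leaf ⟨6, 6, true, [0, 19, 8, 0, 19, 12, 8, 14, 6], [15, 11, 8, 19, 8, 19, 2, 13, 4, 6, 8, 10, 4, 6, 8, 4, 6, 4, 10, 6, 8, 10, 6, 8, 11, 22]⟩))
  (.node (nat_lit 1479) (.leaf ⟨6, 6, true, [8, 0, 19, 19, 8, 16, 10], [10, 8, 19, 8, 19, 8, 19, 2, 12, 10, 8, 10, 4, 6, 8, 4, 6, 4, 11, 13, 8, 10, 6, 8, 11, 23]⟩)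
  (.leaf ⟨6, 6, true, [8, 6, 18, 10, 8, 6], [19, 16, 8, 19, 6, 8, 18, 18, 11, 11, 8, 10, 4, 6, 8, 11, 4, 6, 8, 4, 6, 4, 11, 12, 6, 8, 11, 6, 13]⟩))))
  (.node (nat_lit 1484) (.node (nat_lit 1482) (.node (nat_lit 1481) (.leaf ⟨6, 6, true, [11, 8, 19, 19, 16, 10, 8, 6, 18], [19, 16, 8, 2, 19, 8, 19, 2, 12, 8, 10, 4, 6, 8, 11, 4, 6, 8, 4, 6, 4, 8, 11, 12, 6, 8, 11, 6, 22]⟩)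
  (.leaf ⟨6, 6, true, [18, 13, 18, 8, 6, 18, 10], [8, 15, 18, 10, 8, 18, 18, 10, 8, 11, 6, 8, 10, 4, 6, 8, 4, 6, 4, 8, 11, 6, 8, 10, 23]⟩))
  (.node (nat_lit 1483) (.leaf ⟨6, 6, true, [15, 12, 18, 8, 19, 0, 14, 6], [0, 15, 18, 14, 8, 18, 18, 10, 6, 8, 4, 6, 4, 13, 8, 11, 6, 8, 10, 24]⟩)
  (.leaf ⟨6, 6, true, [0, 18, 8, 18, 8, 18, 10], [16, 8, 19, 8, 19, 8, 19, 2, 11, 13, 4, 6, 8, 11, 4, 6, 8, 10, 4, 6, 8, 4, 6, 4, 11, 8, 11, 24]⟩)))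
  (.node (nat_lit 1486) (.node (nat_lit 1485) (.leaf ⟨6, 6, true, [15, 8, 6, 18, 8, 19, 8, 19, 15], [6, 18, 8, 19, 10, 8, 19, 2, 12, 4, 6, 8, 11, 4, 6, 8, 10, 4, 6, 8, 4, 6, 4, 11, 11, 8, 10, 6, 8, 11]⟩)
  (.leaf ⟨6, 6, true, [2, 19, 19, 12, 8, 19, 8, 16, 10], [14, 8, 19, 10, 8, 19, 2, 10, 10, 6, 8, 10, 4, 6, 8, 11, 4, 6, 8, 4, 6, 4, 11, 8, 10, 6, 8, 11, 21]⟩))
  (.node (nat_lit 1487) (.leaf ⟨6, 6, true, [6, 4, 6, 8, 18, 8, 19, 16], [0, 19, 2, 19, 8, 19, 2, 11, 11, 8, 11, 6, 8, 11, 4, 6, 8, 4, 6, 4, 8, 11, 6, 8, 11, 24]⟩)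
  (.leaf ⟨6, 6, true, [15, 0, 19, 8, 10, 6, 8, 18], [19, 15, 8, 19, 8, 19, 2, 12, 11, 8, 10, 4, 6, 8, 4, 6, 4, 20]⟩)))))
  (.node (nat_lit 1496) (.node (nat_lit 1492) (.node (nat_lit 1490) (.node (nat_lit 1489) (.leaf ⟨6, 6, true, [14, 8, 18, 10, 8, 19, 19, 15], [10, 12, 8, 19, 8, 19, 2, 4, 6, 8, 11, 4, 6, 8, 11, 4, 6, 8, 4, 6, 4, 0, 10, 8, 10, 6, 8, 10, 21]⟩)
  (.leaf ⟨6, 6, true, [15, 8, 19, 19, 16, 8, 19, 12, 16], [6, 8, 6, 18, 8, 19, 2, 13, 11, 6, 8, 10, 4, 6, 8, 10, 4, 6, 8, 4, 6, 4, 11, 11, 8, 10, 23]⟩))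
  (.node (nat_lit 1491) (.leaf ⟨6, 6, true, [19, 6, 8, 15, 8, 19, 6, 8, 18], [8, 15, 18, 8, 2, 18, 18, 6, 8, 11, 12, 4, 6, 8, 11, 4, 6, 8, 4, 6, 4, 11, 8, 11, 6, 13]⟩)
  (.leaf ⟨6, 6, true, [8, 15, 8, 19, 8, 19, 2], [13, 10, 8, 0, 19, 8, 19, 2, 8, 10, 6, 8, 4, 6, 4, 0, 10, 8, 11, 11, 6, 8, 11, 13]⟩)))
  (.node (nat_lit 1494) (.node (nat_lit 1493) (.leaf ⟨6, 6, true, [0, 19, 15, 19, 10, 8, 19, 8, 6, 2], [18, 8, 18, 18, 10, 13, 8, 10, 6, 8, 4, 6, 4, 0, 8, 10, 6, 8, 11, 24]⟩)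
  (.leaf ⟨6, 3, true, [13, 8, 16, 8, 19, 19, 10, 8, 16], [0, 19, 19, 8, 19, 2, 6, 8, 11, 13, 4, 6, 8, 11, 4, 6, 8, 4, 6, 4, 0, 11, 8, 11, 6, 8, 10, 24]⟩))
  (.node (nat_lit 1495) (.leaf ⟨3, 6, true, [14, 0, 14, 18, 8, 19, 8, 16, 10], [16, 10, 8, 19, 0, 2, 10, 8, 10, 6, 8, 11, 4, 6, 8, 4, 6, 4, 12, 8, 10, 6, 8, 11, 25]⟩)
  (.leaf ⟨6, 6, true, [8, 19, 19, 16, 10, 8, 19, 6, 2], [12, 8, 19, 8, 19, 8, 19, 2, 10, 13, 8, 11, 6, 8, 10, 4, 6, 8, 4, 6, 4, 6, 8, 10, 6, 8, 11, 23]⟩))))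
  (.node (nat_lit 1500) (.node (nat_lit 1498) (.node (nat_lit 1497) (.leaf ⟨6, 6, true, [19, 6, 8, 19, 6, 8, 18, 12, 10], [13, 18, 8, 18, 8, 18, 18, 10, 10, 6, 8, 10, 4, 6, 8, 11, 4, 6, 8, 4, 6, 4, 13, 10, 8, 11, 6, 8, 10, 6, 13]⟩)
  (.leaf ⟨6, 5, true, [11, 8, 18, 8, 0, 18], [8, 16, 8, 19, 8, 19, 2, 6, 8, 11, 6, 4, 6, 8, 10, 4, 6, 8, 4, 6, 4, 11, 13, 6, 8, 10, 6, 13]⟩))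
  (.node (nat_lit 1499) (.leaf ⟨5, 6, true, [0, 15, 8, 18, 12, 8, 18], [12, 0, 15, 8, 18, 18, 10, 12, 4, 6, 8, 10, 4, 6, 8, 4, 6, 4, 11, 8, 11, 6, 8, 11]⟩)
  (.leaf ⟨6, 6, true, [13, 15, 19, 8, 19, 8, 19, 8, 16, 10], [18, 18, 12, 8, 19, 8, 19, 2, 11, 6, 8, 11, 4, 6, 8, 10, 4, 6, 8, 4, 6, 4, 10, 8, 11, 6, 8, 11, 6, 22]⟩)))
  (.node (nat_lit 1502) (.node (nat_lit 1501) (.leaf ⟨6, 6, true, [8, 19, 12, 16, 8, 19, 8, 19, 15], [8, 0, 18, 18, 10, 8, 19, 2, 11, 11, 6, 8, 11, 4, 6, 8, 4, 6, 4, 10, 10, 6, 25]⟩)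
  (.leaf ⟨6, 6, true, [12, 18, 8, 19, 8, 14, 6], [18, 8, 18, 8, 19, 8, 19, 2, 10, 10, 4, 6, 8, 10, 4, 6, 8, 4, 6, 4, 12, 8, 11, 6, 8, 10, 25]⟩))
  (.node (nat_lit 1503) (.leaf ⟨6, 6, true, [6, 18, 18, 13, 18, 8, 19, 6, 2], [15, 12, 8, 19, 8, 19, 2, 10, 13, 8, 10, 4, 6, 8, 4, 6, 4, 12, 8, 10, 13]⟩)
  (.leaf ⟨6, 6, true, [8, 18, 8, 11, 8, 19, 19, 15], [15, 12, 0, 18, 8, 18, 18, 6, 8, 10, 10, 4, 6, 8, 10, 4, 6, 8, 4, 6, 4, 6, 8, 11, 6, 8, 10, 6, 12]⟩))))))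

noncomputable def f1504 : FT := (.node (nat_lit 1520) (.node (nat_lit 1512) (.node (nat_lit 1508) (.node (nat_lit 1506) (.node (nat_lit 1505) (.leaf ⟨6, 6, true, [13, 0, 18, 8, 18, 8, 6, 18, 10], [10, 8, 19, 8, 19, 2, 6, 8, 11, 4, 6, 8, 4, 6, 4, 0, 13, 10, 8, 11, 6, 8, 10, 6, 23]⟩)
  (.leaf ⟨6, 6, true, [18, 12, 8, 6, 0, 18], [0, 19, 15, 19, 8, 19, 2, 10, 6, 8, 11, 12, 4, 6, 8, 11, 4, 6, 8, 4, 6, 4, 10, 8, 11, 6, 8, 11, 21]⟩))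
  (.node (nat_lit 1507) (.leaf ⟨6, 6, true, [18, 12, 18, 8, 2, 18, 8, 19, 16], [18, 14, 18, 8, 18, 18, 8, 10, 8, 10, 6, 8, 10, 4, 6, 8, 4, 6, 4, 11, 11, 22]⟩)
  (.leaf ⟨6, 5, true, [8, 6, 18, 12, 18, 8, 6, 18, 10], [12, 14, 8, 19, 0, 2, 8, 10, 4, 6, 8, 4, 6, 4, 0, 13, 10, 8, 11, 6, 8, 11, 12]⟩)))
  (.node (nat_lit 1510) (.node (nat_lit 1509) (.leaf ⟨5, 6, true, [0, 15, 18, 8, 19, 8, 10, 8, 16], [12, 19, 8, 6, 18, 8, 19, 2, 11, 8, 10, 4, 6, 8, 4, 6, 4, 11, 8, 11, 6, 23]⟩)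
  (.leaf ⟨6, 6, true, [12, 6, 18, 8, 6, 18, 8, 18, 10], [19, 2, 19, 8, 6, 18, 8, 19, 2, 6, 8, 11, 6, 4, 6, 8, 11, 4, 6, 8, 4, 6, 4, 13, 11, 6, 8, 11, 24]⟩))
  (.node (nat_lit 1511) (.leaf ⟨6, 6, true, [14, 18, 8, 19, 12, 6, 8, 18], [8, 15, 8, 19, 8, 0, 19, 2, 10, 13, 4, 6, 8, 10, 4, 6, 8, 11, 4, 6, 8, 4, 6, 4, 6, 8, 11, 6, 8, 10, 23]⟩)
  (.leaf ⟨6, 6, true, [8, 15, 18, 8, 18, 8, 18, 10, 10], [14, 8, 19, 6, 18, 8, 19, 2, 6, 8, 11, 13, 4, 6, 8, 10, 4, 6, 8, 4, 6, 4, 11, 8, 10, 6, 8, 11]⟩))))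
  (.node (nat_lit 1516) (.node (nat_lit 1514) (.node (nat_lit 1513) (.leaf ⟨6, 6, true, [12, 0, 18, 13, 8, 18, 8, 18], [19, 19, 0, 19, 8, 19, 2, 10, 10, 6, 8, 4, 6, 4, 0, 10, 6, 8, 11, 6, 8, 10, 23]⟩)
  (.leaf ⟨6, 6, true, [13, 11, 8, 19, 10, 8, 19, 2], [12, 14, 8, 19, 8, 19, 2, 10, 4, 6, 8, 11, 4, 6, 8, 10, 4, 6, 8, 4, 6, 4, 11, 13, 6, 8, 11, 20]⟩))
  (.node (nat_lit 1515) (.leaf ⟨6, 6, true, [12, 14, 8, 18, 8, 18, 8, 18, 11], [8, 19, 0, 2, 8, 11, 6, 8, 10, 4, 6, 8, 10, 4, 6, 8, 4, 6, 4, 12, 11, 6, 25]⟩)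
  (.leaf ⟨6, 6, true, [18, 8, 6, 18, 8, 19, 0, 14, 6], [18, 13, 18, 8, 19, 8, 19, 2, 11, 6, 8, 10, 6, 4, 6, 8, 11, 4, 6, 8, 4, 6, 4, 8, 11, 13, 6, 8, 11, 6, 12]⟩)))
  (.node (nat_lit 1518) (.node (nat_lit 1517) (.leaf ⟨6, 6, true, [19, 15, 19, 8, 16, 8, 19, 19, 2], [2, 18, 8, 19, 8, 0, 19, 2, 4, 6, 8, 11, 4, 6, 8, 4, 6, 4, 8, 11, 13, 6, 8, 11, 21]⟩)
  (.leaf ⟨6, 6, true, [0, 18, 13, 10, 8, 18, 8, 18, 10], [18, 12, 14, 8, 18, 18, 13, 8, 10, 6, 8, 11, 4, 6, 8, 4, 6, 4, 6, 8, 10, 8, 10, 6, 23]⟩))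
  (.node (nat_lit 1519) (.leaf ⟨6, 6, true, [18, 12, 18, 8, 19, 8, 19, 14, 8, 6], [8, 18, 8, 18, 18, 10, 10, 8, 11, 4, 6, 8, 4, 6, 4, 8, 10, 10, 6, 8, 11, 12]⟩)
  (.leaf ⟨6, 6, true, [11, 8, 0, 19, 19, 8, 15, 8, 6], [12, 18, 8, 0, 19, 2, 6, 8, 10, 12, 4, 6, 8, 10, 4, 6, 8, 4, 6, 4, 10, 6, 25]⟩)))))
  (.node (nat_lit 1528) (.node (nat_lit 1524) (.node (nat_lit 1522) (.node (nat_lit 1521) (.leaf ⟨6, 6, true, [12, 8, 16, 8, 0, 19, 16], [13, 11, 8, 18, 8, 18, 18, 10, 4, 6, 8, 11, 4, 6, 8, 11, 4, 6, 8, 4, 6, 4, 0, 8, 11, 12, 6, 8, 11, 22]⟩)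
  (.leaf ⟨6, 6, true, [15, 19, 8, 0, 19, 14, 8, 10, 6], [6, 8, 18, 18, 8, 19, 8, 19, 2, 10, 13, 4, 6, 8, 10, 4, 6, 8, 4, 6, 4, 10, 8, 10, 6, 24]⟩))
  (.node (nat_lit 1523) (.leaf ⟨6, 6, true, [14, 18, 8, 19, 12, 19, 8, 16], [8, 0, 14, 18, 18, 8, 19, 2, 12, 10, 6, 8, 10, 4, 6, 8, 4, 6, 4, 10, 8, 11, 6, 8, 11, 6, 25]⟩)
  (.leaf ⟨6, 6, true, [14, 0, 14, 12, 8, 18, 8, 18], [8, 0, 19, 8, 19, 0, 2, 10, 6, 8, 4, 6, 4, 0, 12, 10, 6, 8, 10, 22]⟩)))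
  (.node (nat_lit 1526) (.node (nat_lit 1525) (.leaf ⟨6, 6, true, [18, 18, 8, 19, 14, 8, 6], [12, 10, 8, 19, 8, 19, 2, 10, 6, 8, 11, 12, 4, 6, 8, 11, 4, 6, 8, 4, 6, 4, 8, 11, 6, 8, 10, 24]⟩)
  (.leaf ⟨6, 6, true, [15, 12, 19, 8, 19, 8, 16], [15, 19, 8, 19, 2, 8, 11, 6, 4, 6, 8, 10, 4, 6, 8, 4, 6, 4, 11, 11, 8, 10, 6, 8, 11, 23]⟩))
  (.node (nat_lit 1527) (.leaf ⟨6, 6, true, [10, 8, 6, 18, 8, 19, 8, 19, 15], [0, 14, 4, 6, 18, 8, 19, 2, 10, 8, 10, 4, 6, 8, 10, 4, 6, 8, 4, 6, 4, 0, 10, 10, 6, 8, 11, 25]⟩)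
  (.leaf ⟨6, 6, true, [18, 14, 8, 18, 13, 18, 8, 19, 6, 2], [12, 0, 19, 6, 8, 18, 18, 8, 11, 8, 11, 6, 8, 4, 6, 4, 11, 8, 10, 6, 8, 11, 6]⟩))))
  (.node (nat_lit 1532) (.node (nat_lit 1530) (.node (nat_lit 1529) (.leaf ⟨6, 6, true, [8, 18, 8, 19, 8, 0, 19, 8, 16], [15, 19, 8, 19, 8, 19, 2, 4, 6, 8, 10, 10, 4, 6, 8, 11, 4, 6, 8, 4, 6, 4, 10, 10, 8, 11, 13]⟩)
  (.leaf ⟨6, 6, true, [18, 10, 8, 18, 8, 18, 10], [8, 10, 6, 8, 19, 19, 2, 6, 4, 6, 8, 11, 6, 8, 10, 4, 6, 8, 4, 6, 4, 10, 8, 10, 6, 8, 10, 20]⟩))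
  (.node (nat_lit 1531) (.leaf ⟨6, 6, true, [6, 18, 8, 19, 8, 19, 8, 14, 6], [12, 10, 8, 19, 2, 12, 6, 8, 11, 4, 6, 8, 10, 4, 6, 8, 4, 6, 4, 8, 11, 13, 6, 8, 10, 6, 23]⟩)
  (.leaf ⟨6, 6, true, [13, 8, 0, 19, 8, 19, 8, 14, 6], [0, 19, 19, 8, 19, 2, 10, 8, 11, 11, 6, 8, 11, 4, 6, 8, 4, 6, 4, 10, 6, 8, 10, 6, 23]⟩)))
  (.node (nat_lit 1534) (.node (nat_lit 1533) (.leaf ⟨6, 6, true, [18, 12, 18, 8, 19, 16], [12, 16, 8, 19, 19, 2, 4, 6, 8, 10, 8, 10, 4, 6, 8, 4, 6, 4, 0, 10, 10, 8, 11, 21]⟩)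
  (.leaf ⟨6, 6, true, [13, 8, 16, 14, 8, 19, 19, 15], [10, 12, 8, 19, 8, 0, 19, 2, 13, 11, 8, 11, 4, 6, 8, 4, 6, 4, 8, 10, 6, 8, 11, 22]⟩))
  (.node (nat_lit 1535) (.leaf ⟨6, 6, true, [15, 0, 15, 8, 18, 8, 18, 11], [0, 15, 8, 18, 18, 13, 11, 6, 8, 11, 4, 6, 8, 4, 6, 4, 10, 13, 8, 10, 12]⟩)
  (.leaf ⟨6, 6, true, [15, 18, 18, 8, 19, 14, 6], [13, 19, 8, 16, 8, 19, 19, 2, 10, 8, 11, 4, 6, 8, 4, 6, 4, 10, 22]⟩))))))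

noncomputable def f1536 : FT := (.node (nat_lit 1552) (.node (nat_lit 1544) (.node (nat_lit 1540) (.node (nat_lit 1538) (.node (nat_lit 1537) (.leaf ⟨6, 6, true, [18, 12, 8, 18, 8, 6], [0, 15, 18, 14, 8, 18, 18, 12, 10, 6, 8, 4, 6, 4, 8, 11, 8, 11, 6, 8, 11, 21]⟩)
  (.leaf ⟨6, 6, true, [6, 18, 8, 6, 18, 10], [6, 18, 12, 8, 19, 8, 19, 2, 10, 8, 11, 6, 8, 4, 6, 4, 12, 10, 8, 10, 6, 24]⟩))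
  (.node (nat_lit 1539) (.leaf ⟨6, 6, true, [18, 18, 8, 18, 8, 18, 10, 8, 6], [0, 19, 2, 19, 8, 19, 2, 12, 11, 8, 6, 4, 12, 6, 8, 11, 6, 23]⟩)
  (.leaf ⟨6, 6, true, [14, 8, 18, 8, 10, 8, 0, 18], [13, 18, 8, 19, 8, 19, 2, 8, 10, 8, 10, 6, 8, 10, 4, 6, 8, 4, 6, 4, 8, 10, 8, 10, 6, 8, 10, 6, 21]⟩)))
  (.node (nat_lit 1542) (.node (nat_lit 1541) (.leaf ⟨6, 6, true, [0, 15, 8, 18, 18, 8, 19, 8, 16], [8, 11, 8, 0, 19, 8, 19, 2, 8, 11, 12, 6, 8, 11, 4, 6, 8, 4, 6, 4, 11, 11, 8, 11, 6, 8, 11, 22]⟩)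
  (.leaf ⟨6, 6, true, [8, 18, 18, 10, 8, 19, 8, 19, 15], [0, 19, 6, 18, 10, 8, 19, 2, 12, 11, 8, 10, 4, 6, 8, 4, 6, 4, 11, 21]⟩))
  (.node (nat_lit 1543) (.leaf ⟨6, 6, true, [19, 19, 13, 19, 8, 19, 8, 6, 2], [15, 18, 14, 8, 19, 19, 2, 11, 4, 6, 8, 4, 6, 4, 0, 10, 8, 10, 6, 8, 10, 6, 21]⟩)
  (.leaf ⟨6, 6, true, [8, 16, 13, 8, 19, 6, 8, 18], [15, 19, 6, 18, 8, 19, 2, 11, 11, 8, 10, 4, 6, 8, 4, 6, 4, 11, 6, 8, 11, 6, 23]⟩))))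
  (.node (nat_lit 1548) (.node (nat_lit 1546) (.node (nat_lit 1545) (.leaf ⟨6, 6, true, [19, 19, 16, 8, 19, 8, 19, 14, 8, 6], [6, 18, 10, 8, 19, 2, 12, 11, 4, 6, 8, 4, 6, 4, 0, 10, 8, 10, 6, 24]⟩)
  (.leaf ⟨6, 5, true, [6, 18, 18, 8, 16, 8, 19, 12, 16], [18, 8, 19, 8, 19, 2, 12, 10, 6, 8, 11, 4, 6, 8, 4, 6, 4, 13, 8, 10, 6, 21]⟩))
  (.node (nat_lit 1547) (.leaf ⟨5, 6, true, [8, 19, 16, 10, 8, 19, 8, 16], [12, 19, 8, 14, 6, 8, 18, 18, 11, 4, 6, 8, 11, 4, 6, 8, 4, 6, 4, 0, 12, 10, 6]⟩)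
  (.leaf ⟨6, 5, true, [8, 2, 19, 6, 8, 19, 16], [18, 8, 6, 18, 8, 19, 0, 2, 11, 6, 8, 11, 13, 4, 6, 8, 10, 4, 6, 8, 4, 6, 4, 11, 8, 11, 6, 8, 10, 6, 12]⟩)))
  (.node (nat_lit 1550) (.node (nat_lit 1549) (.leaf ⟨5, 6, true, [11, 8, 18, 8, 19, 19, 14], [19, 6, 8, 18, 18, 10, 4, 6, 8, 11, 4, 6, 8, 4, 6, 4, 12, 8, 11, 6, 13]⟩)
  (.leaf ⟨6, 6, true, [0, 18, 8, 18, 12, 8, 0, 18], [19, 13, 19, 8, 19, 8, 19, 2, 8, 11, 6, 8, 11, 4, 6, 8, 10, 4, 6, 8, 4, 6, 4, 10, 8, 10, 10, 6, 8, 11, 23]⟩))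
  (.node (nat_lit 1551) (.leaf ⟨6, 6, true, [8, 0, 19, 6, 8, 19, 19, 14, 10], [8, 4, 6, 18, 8, 19, 2, 11, 13, 4, 6, 8, 11, 4, 6, 8, 4, 6, 4, 0, 10, 6, 8, 11, 22]⟩)
  (.leaf ⟨6, 5, true, [13, 18, 11, 8, 19, 8, 19, 2], [8, 18, 8, 19, 8, 0, 19, 2, 10, 8, 10, 4, 6, 8, 11, 4, 6, 8, 4, 6, 4, 10, 13, 8, 10, 6]⟩)))))
  (.node (nat_lit 1560) (.node (nat_lit 1556) (.node (nat_lit 1554) (.node (nat_lit 1553) (.leaf ⟨5, 6, true, [12, 8, 2, 18, 8, 19, 16], [13, 19, 8, 19, 6, 8, 18, 18, 11, 6, 8, 11, 4, 6, 8, 10, 4, 6, 8, 4, 6, 4, 0, 10, 12, 6, 8, 10, 25]⟩)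
  (.leaf ⟨6, 4, true, [13, 18, 14, 8, 19, 19, 15, 8, 6], [8, 6, 18, 8, 19, 0, 2, 13, 8, 11, 6, 8, 10, 4, 6, 8, 4, 6, 4, 11, 8, 10, 6, 8, 10, 6, 20]⟩))
  (.node (nat_lit 1555) (.leaf ⟨4, 6, true, [19, 12, 10, 8, 19, 8, 14, 6], [0, 18, 8, 18, 18, 10, 8, 19, 2, 13, 4, 6, 8, 11, 4, 6, 8, 4, 6, 4, 12, 11, 8, 11, 12]⟩)
  (.leaf ⟨6, 6, true, [14, 0, 14, 8, 18, 10, 8, 18], [8, 19, 19, 2, 13, 11, 8, 11, 4, 6, 8, 4, 6, 4, 10, 8, 10, 6, 8, 10, 6, 13]⟩)))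
  (.node (nat_lit 1558) (.node (nat_lit 1557) (.leaf ⟨6, 6, true, [10, 8, 19, 10, 8, 19, 8, 6, 2], [0, 14, 10, 8, 18, 0, 18, 6, 8, 11, 8, 11, 4, 6, 8, 10, 4, 6, 8, 4, 6, 4, 13, 8, 11, 6, 8, 10, 24]⟩)
  (.leaf ⟨6, 6, true, [18, 13, 8, 15, 19, 8, 19, 8, 16], [15, 8, 19, 0, 2, 8, 10, 8, 10, 6, 8, 4, 6, 4, 8, 11, 13, 6, 8, 11, 23]⟩))
  (.node (nat_lit 1559) (.leaf ⟨6, 6, true, [18, 8, 18, 10, 8, 19, 16], [14, 10, 8, 19, 19, 2, 6, 4, 6, 8, 10, 6, 8, 11, 4, 6, 8, 4, 6, 4, 0, 13, 6, 8, 11, 6, 20]⟩)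
  (.leaf ⟨6, 6, true, [8, 18, 8, 6, 18, 10, 8, 6, 18], [12, 18, 8, 2, 18, 18, 11, 4, 6, 8, 11, 4, 6, 8, 10, 4, 6, 8, 4, 6, 4, 11, 11, 6, 12]⟩))))
  (.node (nat_lit 1564) (.node (nat_lit 1562) (.node (nat_lit 1561) (.leaf ⟨6, 6, true, [19, 12, 10, 8, 19, 8, 19, 8, 16, 10], [11, 11, 8, 19, 8, 0, 19, 2, 11, 13, 6, 8, 11, 4, 6, 8, 4, 6, 4, 0, 11, 8, 10, 25]⟩)
  (.leaf ⟨6, 6, true, [8, 18, 8, 18, 8, 6, 18], [12, 10, 8, 0, 19, 8, 19, 2, 10, 8, 11, 4, 6, 8, 4, 6, 4, 11, 13, 8, 10, 6, 8, 11, 13]⟩))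
  (.node (nat_lit 1563) (.leaf ⟨6, 6, true, [19, 19, 14, 12, 8, 19, 8, 19, 14], [15, 0, 15, 18, 8, 19, 2, 12, 11, 8, 10, 4, 6, 8, 4, 6, 4, 8, 10, 13, 6, 8, 10]⟩)
  (.leaf ⟨6, 6, true, [19, 6, 8, 11, 8, 18], [8, 0, 18, 8, 18, 18, 10, 6, 8, 10, 4, 6, 8, 11, 4, 6, 8, 4, 6, 4, 0, 12, 11, 6, 8, 10, 13]⟩)))
  (.node (nat_lit 1566) (.node (nat_lit 1565) (.leaf ⟨6, 6, true, [18, 10, 10, 8, 19, 19, 2], [19, 8, 14, 6, 8, 18, 18, 6, 8, 11, 4, 6, 8, 11, 4, 6, 8, 4, 6, 4, 0, 8, 10, 6, 8, 10, 20]⟩)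
  (.leaf ⟨6, 6, true, [12, 11, 8, 19, 12, 19, 8, 16, 10], [11, 8, 19, 8, 19, 8, 19, 2, 6, 8, 11, 13, 4, 6, 8, 10, 4, 6, 8, 4, 6, 4, 11, 8, 11, 12, 6, 8, 11, 23]⟩))
  (.node (nat_lit 1567) (.leaf ⟨6, 6, true, [18, 8, 2, 18, 12, 8, 18], [18, 14, 8, 18, 18, 11, 6, 4, 6, 8, 11, 4, 6, 8, 4, 6, 4, 8, 11, 6, 22]⟩)
  (.leaf ⟨6, 6, true, [8, 16, 13, 8, 19, 8, 16, 10], [18, 18, 8, 19, 0, 2, 11, 13, 4, 6, 8, 11, 4, 6, 8, 10, 4, 6, 8, 4, 6, 4, 13, 8, 11, 6]⟩))))))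

noncomputable def f1568 : FT := (.node (nat_lit 1584) (.node (nat_lit 1576) (.node (nat_lit 1572) (.node (nat_lit 1570) (.node (nat_lit 1569) (.leaf ⟨6, 6, true, [0, 15, 12, 18, 8, 19, 6, 2], [19, 12, 8, 19, 8, 0, 19, 2, 8, 10, 8, 10, 4, 6, 8, 4, 6, 4, 0, 8, 10, 8, 10, 6, 8, 10, 6, 24]⟩)
  (.leaf ⟨6, 6, true, [8, 15, 19, 8, 15, 19, 8, 19, 2], [8, 6, 18, 8, 19, 0, 2, 12, 8, 10, 4, 6, 8, 4, 6, 4, 13, 8, 11, 6, 20]⟩))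
  (.node (nat_lit 1571) (.leaf ⟨6, 6, true, [15, 18, 12, 8, 18, 8, 6, 18], [15, 0, 18, 8, 18, 18, 6, 8, 10, 4, 6, 8, 11, 4, 6, 8, 4, 6, 4, 10, 8, 11, 25]⟩)
  (.leaf ⟨6, 6, true, [12, 19, 8, 11, 8, 19, 8, 16], [6, 18, 14, 8, 18, 18, 4, 6, 8, 10, 4, 6, 8, 11, 4, 6, 8, 4, 6, 4, 11, 11, 6, 24]⟩)))
  (.node (nat_lit 1574) (.node (nat_lit 1573) (.leaf ⟨6, 6, true, [6, 8, 18, 8, 19, 6, 18, 8, 6], [18, 8, 4, 6, 18, 8, 19, 2, 10, 4, 6, 8, 11, 6, 8, 10, 4, 6, 8, 4, 6, 4, 0, 12, 11, 6, 8, 10, 6]⟩)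
  (.leaf ⟨6, 6, true, [19, 8, 16, 12, 8, 19, 8, 16], [18, 8, 19, 6, 8, 18, 18, 12, 10, 8, 10, 6, 8, 10, 4, 6, 8, 4, 6, 4, 8, 11, 8, 11, 6, 8, 10, 24]⟩))
  (.node (nat_lit 1575) (.leaf ⟨6, 6, true, [11, 11, 8, 19, 6, 8, 19, 6, 2], [0, 15, 18, 8, 18, 18, 10, 4, 6, 8, 11, 4, 6, 8, 4, 6, 4, 6, 8, 11, 8, 11, 6, 24]⟩)
  (.leaf ⟨6, 6, true, [19, 13, 19, 6, 8, 18, 8, 18], [19, 8, 15, 8, 19, 8, 19, 2, 12, 10, 6, 8, 4, 6, 4, 0, 8, 10, 10, 6, 8, 10, 22]⟩))))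
  (.node (nat_lit 1580) (.node (nat_lit 1578) (.node (nat_lit 1577) (.leaf ⟨6, 6, true, [0, 14, 18, 18, 8, 19, 8, 14, 6], [18, 8, 19, 19, 19, 8, 19, 2, 11, 4, 6, 8, 10, 4, 6, 8, 4, 6, 4, 10, 13, 8, 11, 12]⟩)
  (.leaf ⟨6, 6, true, [0, 15, 18, 8, 0, 18, 8, 18, 11], [19, 8, 19, 6, 8, 18, 18, 11, 6, 8, 10, 4, 6, 8, 10, 4, 6, 8, 4, 6, 4, 12, 10, 8, 10, 6, 8, 10, 20]⟩))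
  (.node (nat_lit 1579) (.leaf ⟨6, 6, true, [12, 6, 8, 18, 8, 19, 19, 14], [2, 18, 8, 18, 18, 12, 11, 8, 10, 4, 6, 8, 10, 4, 6, 8, 4, 6, 4, 11, 8, 10, 6, 8, 10, 22]⟩)
  (.leaf ⟨6, 6, true, [12, 16, 8, 19, 6, 2], [12, 18, 8, 19, 6, 8, 18, 18, 11, 6, 4, 6, 8, 11, 4, 6, 8, 4, 6, 4, 13, 6, 8, 11, 6, 13]⟩)))
  (.node (nat_lit 1582) (.node (nat_lit 1581) (.leaf ⟨6, 6, true, [12, 18, 13, 8, 19, 6, 8, 18], [0, 14, 4, 6, 8, 18, 18, 11, 13, 6, 8, 11, 4, 6, 8, 4, 6, 4, 0, 13, 10, 8, 11, 6, 8, 11]⟩)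
  (.leaf ⟨6, 6, true, [15, 0, 18, 8, 6, 18, 8, 6], [19, 6, 8, 19, 8, 19, 2, 12, 8, 10, 6, 8, 4, 6, 4, 11, 13, 6, 8, 10, 12]⟩))
  (.node (nat_lit 1583) (.leaf ⟨6, 6, true, [6, 18, 8, 18, 8, 18, 8, 19, 19, 2], [6, 8, 19, 8, 0, 19, 2, 11, 6, 8, 10, 10, 4, 6, 8, 11, 4, 6, 8, 4, 6, 4, 8, 11, 8, 11, 6, 8, 10, 22]⟩)
  (.leaf ⟨6, 6, true, [8, 19, 6, 8, 18, 8, 19, 14, 6], [18, 8, 19, 6, 8, 18, 18, 8, 11, 6, 8, 11, 4, 6, 8, 10, 4, 6, 8, 4, 6, 4, 13, 10, 8, 11, 23]⟩)))))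
  (.node (nat_lit 1592) (.node (nat_lit 1588) (.node (nat_lit 1586) (.node (nat_lit 1585) (.leaf ⟨6, 6, true, [8, 0, 18, 18, 8, 16, 8, 6, 18, 10], [12, 8, 18, 8, 18, 18, 13, 6, 8, 10, 4, 6, 8, 11, 4, 6, 8, 4, 6, 4, 10, 10, 6, 12]⟩)
  (.leaf ⟨6, 6, true, [10, 10, 8, 18, 14, 8, 0, 18], [15, 8, 6, 18, 8, 19, 2, 12, 4, 6, 8, 11, 4, 6, 8, 10, 4, 6, 8, 4, 6, 4, 12, 11, 8, 10, 21]⟩))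
  (.node (nat_lit 1587) (.leaf ⟨6, 6, true, [18, 8, 19, 8, 16, 8, 19, 16], [12, 19, 8, 19, 0, 2, 10, 8, 10, 6, 8, 10, 4, 6, 8, 4, 6, 4, 8, 11, 13, 6, 8, 10, 23]⟩)
  (.leaf ⟨6, 6, true, [12, 11, 8, 6, 18, 8, 6, 18, 10], [12, 10, 8, 19, 8, 19, 2, 10, 4, 6, 8, 4, 6, 4, 6, 8, 11, 23]⟩)))
  (.node (nat_lit 1590) (.node (nat_lit 1589) (.leaf ⟨6, 6, true, [15, 12, 18, 8, 19, 16], [8, 6, 18, 8, 19, 0, 2, 13, 11, 8, 11, 6, 8, 4, 6, 4, 8, 10, 10, 6, 8, 10, 25]⟩)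
  (.leaf ⟨6, 6, true, [8, 19, 13, 8, 19, 8, 16, 10], [19, 16, 8, 19, 6, 18, 8, 19, 2, 13, 10, 8, 11, 6, 8, 10, 4, 6, 8, 4, 6, 4, 10, 10, 21]⟩))
  (.node (nat_lit 1591) (.leaf ⟨6, 6, true, [15, 18, 10, 8, 6, 18, 8, 18, 10], [8, 0, 19, 8, 19, 2, 6, 8, 11, 4, 6, 8, 10, 4, 6, 8, 4, 6, 4, 10, 12, 8, 11, 24]⟩)
  (.leaf ⟨6, 5, true, [6, 18, 14, 8, 6, 18, 8, 18], [14, 8, 19, 6, 18, 8, 19, 2, 8, 10, 13, 6, 8, 10, 4, 6, 8, 4, 6, 4, 6, 8, 10, 8, 10, 6, 23]⟩))))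
  (.node (nat_lit 1596) (.node (nat_lit 1594) (.node (nat_lit 1593) (.leaf ⟨5, 6, true, [19, 19, 19, 11, 8, 19, 14, 8, 6], [10, 8, 18, 14, 8, 19, 19, 2, 8, 10, 6, 8, 4, 6, 4, 6, 8, 11, 6, 25]⟩)
  (.leaf ⟨6, 6, true, [0, 18, 8, 18, 8, 19, 14, 8, 6], [0, 19, 6, 8, 18, 18, 11, 8, 10, 4, 6, 8, 11, 4, 6, 8, 4, 6, 4, 13, 8, 10, 6, 8, 11, 22]⟩))
  (.node (nat_lit 1595) (.leaf ⟨6, 6, true, [12, 19, 6, 8, 6, 18, 8, 19, 2], [18, 8, 2, 18, 18, 10, 4, 6, 8, 10, 4, 6, 8, 10, 4, 6, 8, 4, 6, 4, 13, 10, 8, 11, 23]⟩)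
  (.leaf ⟨6, 6, true, [12, 18, 8, 6, 18, 8, 6], [12, 19, 8, 6, 18, 8, 19, 2, 11, 6, 8, 10, 4, 6, 8, 11, 4, 6, 8, 4, 6, 4, 10, 6, 8, 11, 6, 8, 10, 13]⟩)))
  (.node (nat_lit 1598) (.node (nat_lit 1597) (.leaf ⟨6, 6, true, [14, 6, 8, 19, 6, 8, 18], [4, 14, 8, 19, 8, 19, 2, 8, 6, 4, 0, 11, 6, 8, 10, 13]⟩)
  (.leaf ⟨6, 6, true, [18, 8, 18, 8, 16, 8, 19, 16], [10, 8, 6, 18, 8, 19, 2, 11, 8, 10, 6, 8, 11, 4, 6, 8, 4, 6, 4, 0, 10, 13, 8, 10, 23]⟩))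
  (.node (nat_lit 1599) (.leaf ⟨6, 6, true, [18, 18, 13, 18, 8, 19, 14, 6], [19, 0, 19, 10, 8, 19, 2, 10, 13, 6, 8, 10, 4, 6, 8, 4, 6, 4, 11, 12, 8, 10, 6, 8, 11, 20]⟩)
  (.leaf ⟨6, 6, true, [8, 15, 18, 8, 18, 12, 8, 18], [10, 8, 19, 0, 2, 6, 4, 6, 8, 11, 6, 8, 10, 4, 6, 8, 4, 6, 4, 0, 10, 6, 8, 11, 6, 8, 10, 6, 23]⟩))))))



end Cfsg.Agent.Lib.ThD
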