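import Cfsg.Agent.Lib.ThDN0

set_option autoImplicit false
set_option maxRecDepth 100000

namespace Cfsg.Agent.Lib.ThD
open Cfsg.Agent.Lib.PermNet

noncomputable def nets : NL := (.cons net0 (.cons net1 (.cons net2 (.cons net3 (.cons net4 (.cons net5 (.cons net6 (.cons net7 (.cons net8 (.cons net9 (.cons net10 (.cons net11 (.cons net12 (.cons net13 (.cons net14 (.cons net15 (.cons net16 (.cons net17 (.cons net18 (.cons net19 (.cons net20 (.cons net21 (.cons net22 (.cons net23 (.cons net24 (.cons net25 (.cons net26 (.cons net27 (.cons net28 .nil)))))))))))))))))))))))))))))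

theorem hv : nets.Valid 19656 := ⟨valid0, ⟨valid1, ⟨valid2, ⟨valid3, ⟨valid4, ⟨valid5, ⟨valid6, ⟨valid7, ⟨valid8, ⟨valid9, ⟨valid10, ⟨valid11, ⟨valid12, ⟨valid13, ⟨valid14, ⟨valid15, ⟨valid16, ⟨valid17, ⟨valid18, ⟨valid19, ⟨valid20, ⟨valid21, ⟨valid22, ⟨valid23, ⟨valid24, ⟨valid25, ⟨valid26, ⟨valid27, ⟨valid28, trivial⟩⟩⟩⟩⟩⟩⟩⟩⟩⟩⟩⟩⟩⟩⟩⟩⟩⟩⟩⟩⟩⟩⟩⟩⟩⟩⟩⟩⟩

def rels0 : List (List Nat × List Nat) := [([0], [1]),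
  ([2], [3]),
  ([4], [5]),
  ([6], [7]),
  ([8], [9]),
  ([0, 2, 0], [3, 1, 3]),
  ([0, 8], [9, 1]),
  ([2, 4, 2], [5, 3, 5]),
  ([2, 6], [7, 3]),
  ([2, 8], [9, 3]),
  ([0, 7, 5, 7, 5], [4, 6, 4, 6]),
  ([4, 8], [9, 5]),
  ([6, 8, 6], [9, 7, 9]),
  ([2, 4, 6, 8, 2, 4, 6, 8, 2, 4, 6, 8, 2, 4, 6, 8], [9, 7, 5, 3, 9, 7, 5, 3, 9, 7, 5, 3, 9, 7, 5, 3]),
  ([10, 10, 10, 10], [11, 11, 11]),
  ([11, 1], [1, 11]),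
  ([11, 3], [3, 11]),
  ([11, 5], [5, 11]),
  ([10, 6], [7, 11]),
  ([9, 11, 8, 10, 11, 11], [11, 11, 11, 8, 10]),
  ([12, 12], [13]),
  ([13, 1], [1, 13]),
  ([13, 3], [3, 13]),
  ([13, 5], [5, 13]),
  ([13, 7], [7, 13]),
  ([13, 9], [9, 13]),
  ([13, 10, 12], [10, 10]),
  ([4, 6, 11, 8, 4, 6, 11, 8, 4, 6, 11, 8, 4, 6, 11, 8, 4, 6], [9, 10, 7, 5, 9, 10, 7, 5, 9, 10, 7, 5, 9, 10, 7, 5, 9, 10]),
  ([15, 2, 10], []),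
  ([17, 6, 10, 2], []),
  ([19, 4, 2, 6, 10], []),
  ([21, 7, 8], []),
  ([23, 11, 9, 12, 10, 10, 10, 8, 11, 6], []),
  ([25, 10, 9, 7, 10, 10, 10, 13, 6, 8, 10, 6], []),
  ([27, 0], []),
  ([29, 0], []),
  ([31, 4], []),
  ([33, 4], []),
  ([35, 8], []),
  ([37, 8], []),
  ([39, 12], []),
  ([41, 13], []),
  ([43, 6, 4, 6], []),
  ([45, 10, 13, 8, 11, 4, 6, 8, 10, 4, 6, 8, 4, 6, 4, 10, 8, 10, 10, 6, 8, 11, 8, 6, 12], []),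
  ([47, 11, 8, 10], []),
  ([49, 10, 8, 11, 8], []),
  ([51, 2, 0, 4, 2], []),
  ([53, 4, 2, 8, 4, 0, 2, 0], []),
  ([55, 43, 47, 38, 43, 47, 39, 43, 47, 38, 46, 42, 38, 46, 42, 39, 46, 42], []),
  ([57, 45, 49, 40, 45, 49, 41, 45, 49, 40, 48, 44, 40, 48, 44, 41, 48, 44], [])]
def rels : List (List Nat × List Nat) := rels0

def defs : List (List Nat) := [[2, 10], [6, 10, 2], [4, 2, 6, 10], [7, 8], [11, 9, 12, 10, 10, 10, 8, 11, 6], [10, 9, 7, 10, 10, 10, 13, 6, 8, 10, 6], [0], [0], [4], [4], [8], [8], [12], [13], [6, 4, 6], [10, 13, 8, 11, 4, 6, 8, 10, 4, 6, 8, 4, 6, 4, 10, 8, 10, 10, 6, 8, 11, 8, 6, 12], [11, 8, 10], [10, 8, 11, 8], [2, 0, 4, 2], [4, 2, 8, 4, 0, 2, 0], [43, 47, 38, 43, 47, 39, 43, 47, 38, 46, 42, 38, 46, 42, 39, 46, 42], [45, 49, 40, 45, 49, 41, 45, 49, 40, 48, 44, 40, 48, 44, 41, 48,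 44]]

end Cfsg.Agent.Lib.ThD
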