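import Cfsg.Agent.Lib.ThE8S

set_option autoImplicit false
set_option maxRecDepth 100000
set_option Elab.async false

namespace Cfsg.Agent.Lib.ThE8
open Cfsg.Agent.Lib.PermNet Cfsg.Agent.Lib.ThE8R

def W0 : List (ℕ × ℕ) := [(121, 2), (124, 2), (145, 2), (150, 2), (154, 2), (172, 2), (157, 1), (159, 1), (179, 1), (186, 2), (181, 1), (189, 2), (161, 2), (195, 2), (183, 2), (205, 1), (200, 1), (210, 1), (209, 1), (203, 1), (212, 2), (219, 2), (216, 2), (221, 2), (222, 2), (228, 1), (229, 2), (233, 1), (234, 2), (235, 1), (236, 2), (237, 2), (238, 1), (239, 1), (0, 1), (238, 2), (1, 1), (162, 1), (163, 2), (164, 2), (165, 1), (166, 1), (170, 1), (171, 1), (174, 1), (172, 1), (175, 2), (184, 1), (178, 1), (179, 2), (188, 1), (181, 2), (194, 1), (195, 1), (204, 1), (197, 2), (205, 1), (207, 2), (210, 1), (226, 2), (162, 2), (77, 1), (226, 2), (13, 1), (219, 2), (20, 1), (128, 1), (137, 1), (143, 2), (133, 2), (148, 1), (145, 1), (150, 1), (154, 1), (157, 1), (159, 1), (80, 1), (157, 2),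 (82, 1), (131, 2), (136, 2), (142, 2), (137, 1), (143, 1), (148, 1), (152, 2), (130, 2), (109, 1), (152, 2), (87, 1), (148, 2), (91, 1), (135, 1), (104, 1), (135, 2), (141, 2), (98, 1), (141, 2), (126, 2), (113, 1), (126, 2), (118, 1), (121, 1), (118, 1), (121, 1), (118, 1), (121, 2), (218, 2), (21, 1), (218, 1), (21, 1), (218, 2), (121, 1), (123, 2), (130, 1), (135, 1), (162, 1), (122, 1), (124, 2), (127, 1), (136, 2), (142, 1), (163, 2), (125, 1), (132, 2), (137, 1), (143, 2), (164, 2), (129, 2), (133, 1), (138, 1), (144, 2), (148, 1), (165, 1), (169, 1), (149, 1), (152, 2), (166, 1), (170, 1), (150, 1), (171, 2), (174, 2), (156, 2), (168, 1), (175, 2), (184, 2), (155, 1), (157, 2), (176, 1), (178, 1), (185, 2), (158, 2), (159, 1), (177, 1), (179, 1), (186, 2), (188, 2), (181, 1), (189, 2), (161, 1), (182, 1), (190, 1), (191, 1), (195, 2), (183, 1), (192, 2), (197, 1), (205, 1), (193, 1), (198, 2), (200, 2), (206, 1), (199, 2), (208, 1), (202, 1), (209, 2), (211, 2), (214, 2),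 (203, 2), (219, 1), (216, 2), (226, 1), (221, 1), (227, 2), (228, 2), (230, 1), (225, 2), (232, 2), (233, 1), (234, 1), (236, 2), (237, 1), (238, 2), (239, 1)]

theorem h0 : chk sh (getW RepT8.ms 0) W0 = true := by decide +kernel

def W1 : List (ℕ × ℕ) := [(146, 1), (151, 1), (173, 1), (158, 2), (160, 1), (180, 1), (187, 1), (161, 2), (190, 2), (183, 1), (192, 1), (196, 2), (193, 2), (206, 1), (199, 1), (208, 1), (202, 2), (211, 2), (203, 2), (212, 1), (215, 1), (213, 1), (216, 2), (217, 2), (221, 1), (218, 2), (222, 2), (223, 1), (229, 1), (225, 1), (231, 2), (234, 1), (235, 1), (238, 2), (239, 2), (120, 2), (119, 1), (239, 2), (0, 1), (238, 2), (1, 1), (162, 1), (169, 2), (166, 1), (170, 1), (167, 1), (171, 1), (174, 1), (172, 2), (178, 1), (185, 1), (179, 1), (186, 2), (188, 2), (181, 1), (204, 2), (205, 1), (210, 2), (214, 2), (226, 2), (162, 2), (77, 1), (226, 2), (13, 1), (219, 2), (20, 1), (124, 1), (128, 2), (132, 2), (133, 1), (138, 2), (144, 2), (139, 2), (145, 1), (149,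 2), (150, 2), (153, 1), (154, 2), (156, 2), (157, 1), (159, 2), (128, 2), (111, 1), (159, 2), (80, 1), (153, 2), (86, 1), (130, 2), (131, 1), (136, 2), (147, 1), (152, 1), (130, 2), (109, 1), (152, 2), (87, 1), (148, 2), (91, 1), (141, 1), (98, 1), (141, 2), (121, 2), (118, 1), (121, 2), (120, 2), (119, 1), (120, 1), (119, 1), (120, 2), (174, 2), (65, 1), (174, 1), (65, 1), (174, 2), (123, 2), (126, 2), (135, 1), (141, 2), (162, 1), (122, 1), (124, 1), (127, 1), (131, 1), (136, 1), (128, 2), (137, 1), (147, 1), (164, 2), (129, 2), (138, 2), (144, 1), (148, 2), (169, 2), (134, 1), (145, 1), (149, 2), (152, 2), (166, 1), (170, 1), (140, 1), (167, 2), (171, 1), (174, 1), (151, 1), (168, 1), (172, 2), (175, 2), (184, 2), (155, 1), (157, 2), (176, 2), (158, 1), (159, 2), (177, 2), (179, 1), (186, 2), (180, 2), (181, 1), (189, 2), (161, 1), (182, 1), (191, 2), (195, 1), (204, 2), (192, 1), (197, 2), (205, 2), (198, 2), (200, 2), (206, 1), (208, 1), (210, 2), (202, 1), (211, 2), (214,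 1), (203, 2), (212, 1), (215, 2), (219, 2), (213, 2), (216, 1), (220, 2), (217, 2), (221, 1), (227, 1), (222, 2), (228, 1), (223, 1), (229, 2), (225, 2), (231, 1), (232, 2), (233, 2), (235, 2), (236, 2), (237, 2), (238, 1), (239, 2)]

theorem h1 : chk sh (getW RepT8.ms 2) W1 = true := by decide +kernel


end Cfsg.Agent.Lib.ThE8
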