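import Cfsg.Agent.Lib.ThE8R
import Cfsg.Agent.Lib.RepT8D

set_option autoImplicit false
set_option maxRecDepth 100000
set_option Elab.async false

namespace Cfsg.Agent.Lib.ThE8
open Cfsg.Agent.Lib.PermNet Cfsg.Agent.Lib.ThE8R

def sh : DCE.TT := (.node (nat_lit 124) (.node (nat_lit 62) (.node (nat_lit 31) (.node (nat_lit 15) (.node (nat_lit 7) (.node (nat_lit 3) (.node (nat_lit 1) (.leaf (nat_lit 0)) (.node (nat_lit 2) (.leaf (nat_lit 1)) (.leaf (nat_lit 2)))) (.node (nat_lit 5) (.node (nat_lit 4) (.leaf (nat_lit 3)) (.leaf (nat_lit 4))) (.node (nat_lit 6) (.leaf (nat_lit 5)) (.leaf (nat_lit 6))))) (.node (nat_lit 11) (.node (nat_lit 9) (.node (nat_lit 8) (.leaf (nat_lit 7)) (.leaf (nat_lit 8))) (.node (nat_lit 10) (.leaf (nat_lit 9)) (.leaf (nat_lit 10)))) (.node (nat_lit 13) (.node (nat_lit 12) (.leaf (nat_lit 11)) (.leaf (nat_lit 12))) (.node (nat_lit 14) (.leaf (nat_lit 13)) (.leaf (nat_lit 14)))))) (.node (nat_lit 23) (.node (nat_lit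 19) (.node (nat_lit 17) (.node (nat_lit 16) (.leaf (nat_lit 15)) (.leaf (nat_lit 16))) (.node (nat_lit 18) (.leaf (nat_lit 17)) (.leaf (nat_lit 18)))) (.node (nat_lit 21) (.node (nat_lit 20) (.leaf (nat_lit 19)) (.leaf (nat_lit 20))) (.node (nat_lit 22) (.leaf (nat_lit 21)) (.leaf (nat_lit 22))))) (.node (nat_lit 27) (.node (nat_lit 25) (.node (nat_lit 24) (.leaf (nat_lit 23)) (.leaf (nat_lit 24))) (.node (nat_lit 26) (.leaf (nat_lit 25)) (.leaf (nat_lit 26)))) (.node (nat_lit 29) (.node (nat_lit 28) (.leaf (nat_lit 27)) (.leaf (nat_lit 28))) (.node (nat_lit 30) (.leaf (nat_lit 29)) (.leaf (nat_lit 30))))))) (.node (nat_lit 46) (.node (nat_lit 38) (.node (nat_lit 34) (.node (nat_lit 32) (.leaf (nat_lit 31)) (.node (nat_lit 33) (.leaf (nat_lit 32)) (.leaf (nat_lit 33)))) (.node (nat_lit 36) (.node (nat_lit 35) (.leaf (nat_lit 34)) (.leaf (nat_lit 35))) (.node (nat_lit 37) (.leaf (nat_lit 36)) (.leaf (nat_lit 37))))) (.node (nat_lit 42)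 (.node (nat_lit 40) (.node (nat_lit 39) (.leaf (nat_lit 38)) (.leaf (nat_lit 39))) (.node (nat_lit 41) (.leaf (nat_lit 40)) (.leaf (nat_lit 41)))) (.node (nat_lit 44) (.node (nat_lit 43) (.leaf (nat_lit 42)) (.leaf (nat_lit 43))) (.node (nat_lit 45) (.leaf (nat_lit 44)) (.leaf (nat_lit 45)))))) (.node (nat_lit 54) (.node (nat_lit 50) (.node (nat_lit 48) (.node (nat_lit 47) (.leaf (nat_lit 46)) (.leaf (nat_lit 47))) (.node (nat_lit 49) (.leaf (nat_lit 48)) (.leaf (nat_lit 49)))) (.node (nat_lit 52) (.node (nat_lit 51) (.leaf (nat_lit 50)) (.leaf (nat_lit 51))) (.node (nat_lit 53) (.leaf (nat_lit 52)) (.leaf (nat_lit 53))))) (.node (nat_lit 58) (.node (nat_lit 56) (.node (nat_lit 55) (.leaf (nat_lit 54)) (.leaf (nat_lit 55))) (.node (nat_lit 57) (.leaf (nat_lit 56)) (.leaf (nat_lit 57)))) (.node (nat_lit 60) (.node (nat_lit 59) (.leaf (nat_lit 58)) (.leaf (nat_lit 59))) (.node (nat_lit 61) (.leaf (nat_lit 60)) (.leaf (nat_lit 61))))))))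 (.node (nat_lit 93) (.node (nat_lit 77) (.node (nat_lit 69) (.node (nat_lit 65) (.node (nat_lit 63) (.leaf (nat_lit 62)) (.node (nat_lit 64) (.leaf (nat_lit 63)) (.leaf (nat_lit 64)))) (.node (nat_lit 67) (.node (nat_lit 66) (.leaf (nat_lit 65)) (.leaf (nat_lit 66))) (.node (nat_lit 68) (.leaf (nat_lit 67)) (.leaf (nat_lit 68))))) (.node (nat_lit 73) (.node (nat_lit 71) (.node (nat_lit 70) (.leaf (nat_lit 69)) (.leaf (nat_lit 70))) (.node (nat_lit 72) (.leaf (nat_lit 71)) (.leaf (nat_lit 72)))) (.node (nat_lit 75) (.node (nat_lit 74) (.leaf (nat_lit 73)) (.leaf (nat_lit 74))) (.node (nat_lit 76) (.leaf (nat_lit 75)) (.leaf (nat_lit 76)))))) (.node (nat_lit 85) (.node (nat_lit 81) (.node (nat_lit 79) (.node (nat_lit 78) (.leaf (nat_lit 77)) (.leaf (nat_lit 78))) (.node (nat_lit 80) (.leaf (nat_lit 79)) (.leaf (nat_lit 80)))) (.node (nat_lit 83) (.node (nat_lit 82) (.leaf (nat_lit 81)) (.leaf (nat_lit 82))) (.node (nat_lit 84) (.leaf (nat_lit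 83)) (.leaf (nat_lit 84))))) (.node (nat_lit 89) (.node (nat_lit 87) (.node (nat_lit 86) (.leaf (nat_lit 85)) (.leaf (nat_lit 86))) (.node (nat_lit 88) (.leaf (nat_lit 87)) (.leaf (nat_lit 88)))) (.node (nat_lit 91) (.node (nat_lit 90) (.leaf (nat_lit 89)) (.leaf (nat_lit 90))) (.node (nat_lit 92) (.leaf (nat_lit 91)) (.leaf (nat_lit 92))))))) (.node (nat_lit 108) (.node (nat_lit 100) (.node (nat_lit 96) (.node (nat_lit 94) (.leaf (nat_lit 93)) (.node (nat_lit 95) (.leaf (nat_lit 94)) (.leaf (nat_lit 95)))) (.node (nat_lit 98) (.node (nat_lit 97) (.leaf (nat_lit 96)) (.leaf (nat_lit 97))) (.node (nat_lit 99) (.leaf (nat_lit 98)) (.leaf (nat_lit 99))))) (.node (nat_lit 104) (.node (nat_lit 102) (.node (nat_lit 101) (.leaf (nat_lit 100)) (.leaf (nat_lit 101))) (.node (nat_lit 103) (.leaf (nat_lit 102)) (.leaf (nat_lit 103)))) (.node (nat_lit 106) (.node (nat_lit 105) (.leaf (nat_lit 104)) (.leaf (nat_lit 105))) (.node (nat_lit 107) (.leaf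 (nat_lit 106)) (.leaf (nat_lit 107)))))) (.node (nat_lit 116) (.node (nat_lit 112) (.node (nat_lit 110) (.node (nat_lit 109) (.leaf (nat_lit 108)) (.leaf (nat_lit 109))) (.node (nat_lit 111) (.leaf (nat_lit 110)) (.leaf (nat_lit 111)))) (.node (nat_lit 114) (.node (nat_lit 113) (.leaf (nat_lit 112)) (.leaf (nat_lit 113))) (.node (nat_lit 115) (.leaf (nat_lit 114)) (.leaf (nat_lit 115))))) (.node (nat_lit 120) (.node (nat_lit 118) (.node (nat_lit 117) (.leaf (nat_lit 116)) (.leaf (nat_lit 117))) (.node (nat_lit 119) (.leaf (nat_lit 118)) (.leaf (nat_lit 119)))) (.node (nat_lit 122) (.node (nat_lit 121) (.leaf (nat_lit 120)) (.leaf (nat_lit 121))) (.node (nat_lit 123) (.leaf (nat_lit 122)) (.leaf (nat_lit 123))))))))) (.node (nat_lit 186) (.node (nat_lit 155) (.node (nat_lit 139) (.node (nat_lit 131) (.node (nat_lit 127) (.node (nat_lit 125) (.leaf (nat_lit 124)) (.node (nat_lit 126) (.leaf (nat_lit 125)) (.leaf (nat_lit 126)))) (.node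 (nat_lit 129) (.node (nat_lit 128) (.leaf (nat_lit 127)) (.leaf (nat_lit 128))) (.node (nat_lit 130) (.leaf (nat_lit 129)) (.leaf (nat_lit 130))))) (.node (nat_lit 135) (.node (nat_lit 133) (.node (nat_lit 132) (.leaf (nat_lit 131)) (.leaf (nat_lit 132))) (.node (nat_lit 134) (.leaf (nat_lit 133)) (.leaf (nat_lit 134)))) (.node (nat_lit 137) (.node (nat_lit 136) (.leaf (nat_lit 135)) (.leaf (nat_lit 136))) (.node (nat_lit 138) (.leaf (nat_lit 137)) (.leaf (nat_lit 138)))))) (.node (nat_lit 147) (.node (nat_lit 143) (.node (nat_lit 141) (.node (nat_lit 140) (.leaf (nat_lit 139)) (.leaf (nat_lit 140))) (.node (nat_lit 142) (.leaf (nat_lit 141)) (.leaf (nat_lit 142)))) (.node (nat_lit 145) (.node (nat_lit 144) (.leaf (nat_lit 143)) (.leaf (nat_lit 144))) (.node (nat_lit 146) (.leaf (nat_lit 145)) (.leaf (nat_lit 146))))) (.node (nat_lit 151) (.node (nat_lit 149) (.node (nat_lit 148) (.leaf (nat_lit 147)) (.leaf (nat_lit 148))) (.node (nat_lit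 150) (.leaf (nat_lit 149)) (.leaf (nat_lit 150)))) (.node (nat_lit 153) (.node (nat_lit 152) (.leaf (nat_lit 151)) (.leaf (nat_lit 152))) (.node (nat_lit 154) (.leaf (nat_lit 153)) (.leaf (nat_lit 154))))))) (.node (nat_lit 170) (.node (nat_lit 162) (.node (nat_lit 158) (.node (nat_lit 156) (.leaf (nat_lit 155)) (.node (nat_lit 157) (.leaf (nat_lit 156)) (.leaf (nat_lit 157)))) (.node (nat_lit 160) (.node (nat_lit 159) (.leaf (nat_lit 158)) (.leaf (nat_lit 159))) (.node (nat_lit 161) (.leaf (nat_lit 160)) (.leaf (nat_lit 161))))) (.node (nat_lit 166) (.node (nat_lit 164) (.node (nat_lit 163) (.leaf (nat_lit 162)) (.leaf (nat_lit 163))) (.node (nat_lit 165) (.leaf (nat_lit 164)) (.leaf (nat_lit 165)))) (.node (nat_lit 168) (.node (nat_lit 167) (.leaf (nat_lit 166)) (.leaf (nat_lit 167))) (.node (nat_lit 169) (.leaf (nat_lit 168)) (.leaf (nat_lit 169)))))) (.node (nat_lit 178) (.node (nat_lit 174) (.node (nat_lit 172) (.node (nat_lit 171)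 (.leaf (nat_lit 170)) (.leaf (nat_lit 171))) (.node (nat_lit 173) (.leaf (nat_lit 172)) (.leaf (nat_lit 173)))) (.node (nat_lit 176) (.node (nat_lit 175) (.leaf (nat_lit 174)) (.leaf (nat_lit 175))) (.node (nat_lit 177) (.leaf (nat_lit 176)) (.leaf (nat_lit 177))))) (.node (nat_lit 182) (.node (nat_lit 180) (.node (nat_lit 179) (.leaf (nat_lit 178)) (.leaf (nat_lit 179))) (.node (nat_lit 181) (.leaf (nat_lit 180)) (.leaf (nat_lit 181)))) (.node (nat_lit 184) (.node (nat_lit 183) (.leaf (nat_lit 182)) (.leaf (nat_lit 183))) (.node (nat_lit 185) (.leaf (nat_lit 184)) (.leaf (nat_lit 185)))))))) (.node (nat_lit 217) (.node (nat_lit 201) (.node (nat_lit 193) (.node (nat_lit 189) (.node (nat_lit 187) (.leaf (nat_lit 186)) (.node (nat_lit 188) (.leaf (nat_lit 187)) (.leaf (nat_lit 188)))) (.node (nat_lit 191) (.node (nat_lit 190) (.leaf (nat_lit 189)) (.leaf (nat_lit 190))) (.node (nat_lit 192) (.leaf (nat_lit 191)) (.leaf (nat_lit 192)))))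 (.node (nat_lit 197) (.node (nat_lit 195) (.node (nat_lit 194) (.leaf (nat_lit 193)) (.leaf (nat_lit 194))) (.node (nat_lit 196) (.leaf (nat_lit 195)) (.leaf (nat_lit 196)))) (.node (nat_lit 199) (.node (nat_lit 198) (.leaf (nat_lit 197)) (.leaf (nat_lit 198))) (.node (nat_lit 200) (.leaf (nat_lit 199)) (.leaf (nat_lit 200)))))) (.node (nat_lit 209) (.node (nat_lit 205) (.node (nat_lit 203) (.node (nat_lit 202) (.leaf (nat_lit 201)) (.leaf (nat_lit 202))) (.node (nat_lit 204) (.leaf (nat_lit 203)) (.leaf (nat_lit 204)))) (.node (nat_lit 207) (.node (nat_lit 206) (.leaf (nat_lit 205)) (.leaf (nat_lit 206))) (.node (nat_lit 208) (.leaf (nat_lit 207)) (.leaf (nat_lit 208))))) (.node (nat_lit 213) (.node (nat_lit 211) (.node (nat_lit 210) (.leaf (nat_lit 209)) (.leaf (nat_lit 210))) (.node (nat_lit 212) (.leaf (nat_lit 211)) (.leaf (nat_lit 212)))) (.node (nat_lit 215) (.node (nat_lit 214) (.leaf (nat_lit 213)) (.leaf (nat_lit 214))) (.node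 (nat_lit 216) (.leaf (nat_lit 215)) (.leaf (nat_lit 216))))))) (.node (nat_lit 232) (.node (nat_lit 224) (.node (nat_lit 220) (.node (nat_lit 218) (.leaf (nat_lit 217)) (.node (nat_lit 219) (.leaf (nat_lit 218)) (.leaf (nat_lit 219)))) (.node (nat_lit 222) (.node (nat_lit 221) (.leaf (nat_lit 220)) (.leaf (nat_lit 221))) (.node (nat_lit 223) (.leaf (nat_lit 222)) (.leaf (nat_lit 223))))) (.node (nat_lit 228) (.node (nat_lit 226) (.node (nat_lit 225) (.leaf (nat_lit 224)) (.leaf (nat_lit 225))) (.node (nat_lit 227) (.leaf (nat_lit 226)) (.leaf (nat_lit 227)))) (.node (nat_lit 230) (.node (nat_lit 229) (.leaf (nat_lit 228)) (.leaf (nat_lit 229))) (.node (nat_lit 231) (.leaf (nat_lit 230)) (.leaf (nat_lit 231)))))) (.node (nat_lit 240) (.node (nat_lit 236) (.node (nat_lit 234) (.node (nat_lit 233) (.leaf (nat_lit 232)) (.leaf (nat_lit 233))) (.node (nat_lit 235) (.leaf (nat_lit 234)) (.leaf (nat_lit 235)))) (.node (nat_lit 238) (.node (nat_lit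 237) (.leaf (nat_lit 236)) (.leaf (nat_lit 237))) (.node (nat_lit 239) (.leaf (nat_lit 238)) (.leaf (nat_lit 239))))) (.node (nat_lit 244) (.node (nat_lit 242) (.node (nat_lit 241) (.leaf (nat_lit 240)) (.leaf (nat_lit 241))) (.node (nat_lit 243) (.leaf (nat_lit 242)) (.leaf (nat_lit 243)))) (.node (nat_lit 246) (.node (nat_lit 245) (.leaf (nat_lit 244)) (.leaf (nat_lit 245))) (.node (nat_lit 247) (.leaf (nat_lit 246)) (.leaf (nat_lit 247))))))))))

theorem hs : ∀ j < 248, sh.get j = j := fun j hj => Nat.eq_of_beq_eq_true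
  (ChevEval.allN_spec (f := fun j => Nat.beq (sh.get j) j) (by decide +kernel) j hj)

end Cfsg.Agent.Lib.ThE8
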