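import Cfsg.Agent.Lib.ThEN0

set_option autoImplicit false
set_option maxRecDepth 100000

namespace Cfsg.Agent.Lib.ThE
open Cfsg.Agent.Lib.PermNet

noncomputable def nets : NL := (.cons net0 (.cons net1 (.cons net2 (.cons net3 (.cons net4 (.cons net5 (.cons net6 (.cons net7 .nil))))))))

theorem hv : nets.Valid 702 := ⟨valid0, ⟨valid1, ⟨valid2, ⟨valid3, ⟨valid4, ⟨valid5, ⟨valid6, ⟨valid7, trivial⟩⟩⟩⟩⟩⟩⟩⟩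

def rels0 : List (List Nat × List Nat) := [([0], [1]),
  ([2], [3]),
  ([4], [5]),
  ([6], [7]),
  ([8], [9]),
  ([0, 2, 0], [3, 1, 3]),
  ([0, 8], [9, 1]),
  ([2, 4, 2], [5, 3, 5]),
  ([2, 6], [7, 3]),
  ([2, 8], [9, 3]),
  ([0, 6, 4, 6, 4], [5, 7, 5, 7]),
  ([4, 8], [9, 5]),
  ([6, 8, 6], [9, 7, 9]),
  ([2, 4, 6, 8, 2, 4, 6, 8, 2, 4, 6, 8, 2, 4, 6, 8], [9, 7, 5, 3, 9, 7, 5, 3, 9, 7, 5, 3, 9, 7, 5, 3]),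
  ([14, 14], [1, 5]),
  ([15, 0], [1, 15]),
  ([15, 4], [5, 15]),
  ([15, 8], [9, 15]),
  ([6, 8, 15, 6, 14], [15, 7, 14, 9, 7]),
  ([15, 2, 4, 0, 2, 14], [9, 3, 5, 1, 3]),
  ([6, 15, 6, 2, 4, 0, 2, 6, 14, 6, 2, 0, 4], [14, 9, 3, 1, 5, 3, 7, 14, 7, 9, 5, 3]),
  ([2, 0, 4, 2, 14, 0, 2], [14, 5, 3, 9, 5, 1]),
  ([14, 6, 14, 4, 8, 6, 4, 14], [7, 1, 5, 15, 9, 7, 1, 5]),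
  ([14, 6, 14, 4, 6, 4, 2, 8, 6, 4, 6, 8, 4, 6, 4, 2, 0, 4, 6, 4, 2, 8, 4, 6, 8, 4, 6, 2, 4, 2, 0, 4], [3, 5, 7, 1, 3, 1, 5, 15, 5, 7, 3, 5, 7, 1, 3, 1, 5, 15, 7, 9, 3, 5, 3, 7, 5, 9, 7, 5, 9, 3, 5, 7]),
  ([14, 6, 14, 4, 6, 4, 8, 6, 4, 6, 8, 2, 4, 6, 4, 2, 0, 4, 6, 4, 2, 8, 4, 6, 8, 4, 6, 2, 4, 0, 2, 0, 4, 8, 2, 0], [7, 3, 5, 7, 1, 3, 1, 5, 15, 7, 9, 3, 5, 7, 1, 3, 1, 5, 15, 5, 7, 3, 5, 1, 5, 7, 5, 9, 7, 5, 7, 9, 3, 5, 7, 5]),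
  ([14, 6, 14, 4, 2, 6, 4, 8, 6, 4, 8, 2, 4, 6, 4, 0, 2, 4, 6, 4, 2, 8, 6, 4, 6], [9, 7, 3, 5, 7, 1, 3, 1, 5, 15, 5, 7, 3, 5, 7, 1, 3, 1, 5, 15, 7, 3, 7, 5, 9]),
  ([14, 4, 6, 2, 4, 6, 0, 2, 14, 0, 2, 0, 4, 8, 2, 0, 4, 2, 6, 4, 8, 6, 4, 8, 2, 4, 6, 4, 0, 2, 4, 2, 6, 4, 8, 6], [3, 1, 7, 5, 3, 7, 3, 5, 7, 1, 3, 1, 5, 15, 7, 9, 3, 5, 7, 1, 3, 1, 5, 15, 9, 5, 7, 5, 1, 5, 7, 5, 3, 9, 5]),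
  ([14, 4, 6, 2, 4, 6, 0, 2, 14, 4, 2, 6, 4, 8, 6, 4, 8, 2, 4, 6, 4, 0, 2, 4, 2, 6, 4, 8, 6, 4, 8, 2, 4, 6, 4, 0, 2, 4, 6, 4, 2], [3, 1, 7, 5, 3, 9, 3, 5, 7, 1, 3, 1, 5, 15, 7, 9, 3, 5, 7, 1, 3, 1, 5, 15, 5, 7, 1, 3, 5, 7, 9, 5, 3, 5, 7, 5, 9, 7, 5, 7, 9]),
  ([14, 4, 6, 2, 4, 6, 0, 2, 14, 0, 2, 0, 4, 8, 2, 0, 4, 6, 4, 2, 8, 6, 4, 6, 8, 4, 6, 4, 2, 0, 4, 6, 4, 2, 8, 4, 6, 8, 4, 6, 2], [3, 1, 7, 5, 3, 9, 7, 3, 5, 7, 1, 3, 1, 5, 15, 5, 7, 3, 5, 7, 1, 3, 1, 5, 15, 7, 9, 1, 3, 5, 7, 5, 3, 1, 3, 9, 5, 1, 3, 1, 5]),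
  ([14, 4, 6, 2, 4, 6, 0, 2, 14, 4, 6, 4, 8, 6, 4, 14, 4, 0, 2, 0, 6], [3, 1, 7, 5, 3, 7, 5, 7, 3, 5, 7, 1, 3, 1, 5, 15, 5, 7, 3, 5]),
  ([14, 4, 6, 2, 4, 6, 0, 2, 14, 4, 6, 4, 8, 6, 4, 6, 8, 2, 4, 6, 4, 0, 2, 0, 4, 8, 2, 8, 6, 4, 2], [3, 1, 7, 5, 3, 7, 5, 7, 9, 3, 5, 7, 1, 3, 1, 5, 15, 7, 9, 3, 5, 7, 1, 3, 1, 5, 15, 5, 7, 1]),
  ([14, 8, 6, 2, 14, 2, 0, 4, 6, 4, 2, 8, 4, 6, 8, 4, 6, 2, 4, 2, 0, 4, 6, 4, 2, 8, 4, 6, 8, 4, 6, 2, 4], [1, 3, 1, 5, 15, 5, 7, 3, 5, 7, 9, 7, 5, 7, 1, 3, 1, 5, 15, 7, 9, 1, 3, 5, 7, 3, 5, 3, 9, 5, 1, 3, 1]),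
  ([14, 8, 6, 2, 14, 0, 2, 0, 4, 8, 2, 0, 4, 6, 4, 2, 8, 6, 4, 6, 8, 4, 6, 4, 2, 0, 4, 6, 4, 2, 8, 4, 6, 8, 4, 6, 2], [7, 9, 7, 5, 7, 3, 1, 5, 15, 1, 3, 5, 7, 9, 3, 5, 7, 1, 3, 1, 5, 15, 7, 9, 1, 3, 5, 7, 3, 5, 3, 9, 5, 1, 3, 1, 5])]
def rels : List (List Nat × List Nat) := rels0

end Cfsg.Agent.Lib.ThE
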