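import Cfsg.Agent.Lib.ThMN0

set_option autoImplicit false
set_option maxRecDepth 100000

namespace Cfsg.Agent.Lib.ThM
open Cfsg.Agent.Lib.PermNet

noncomputable def nets : NL := (.cons net0 (.cons net1 (.cons net2 (.cons net3 (.cons net4 (.cons net5 (.cons net6 (.cons net7 .nil))))))))

theorem hv : nets.Valid 61440 := ⟨valid0, ⟨valid1, ⟨valid2, ⟨valid3, ⟨valid4, ⟨valid5, ⟨valid6, ⟨valid7, trivial⟩⟩⟩⟩⟩⟩⟩⟩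

def rels0 : List (List Nat × List Nat) := [([0], [1]),
  ([4], [5]),
  ([6], [7]),
  ([8], [9]),
  ([0, 8], [9, 1]),
  ([0, 6, 4, 6, 4], [5, 7, 5, 7]),
  ([4, 8], [9, 5]),
  ([6, 8, 6], [9, 7, 9]),
  ([10, 10, 10, 10], [11, 11, 11]),
  ([11, 0], [1, 11]),
  ([11, 4], [5, 11]),
  ([10, 6], [7, 11]),
  ([8, 11, 8, 11, 11], [11, 11, 11, 9]),
  ([12, 12], [13]),
  ([13, 0], [1, 13]),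
  ([13, 4], [5, 13]),
  ([13, 6], [7, 13]),
  ([13, 8], [9, 13]),
  ([13, 10, 12], [10, 10]),
  ([14, 14], [1, 5]),
  ([15, 0], [1, 15]),
  ([15, 4], [5, 15]),
  ([15, 8], [9, 15]),
  ([6, 8, 15, 6, 14], [15, 7, 14, 9, 7]),
  ([15, 12], [13, 15]),
  ([8, 11, 11, 15, 10, 10], [11, 11, 15, 10, 10, 9]),
  ([0, 4, 11, 15], [14, 10, 14, 10]),
  ([0, 4, 11, 15, 10, 14, 11, 15, 10], [15, 11, 14, 10, 15, 11, 14, 10, 15]),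
  ([6, 11, 11, 14, 10, 10, 6, 11, 11, 14, 10, 10, 6, 11, 11, 14, 10, 10, 6, 11, 11], [1, 5, 7, 5, 7, 10, 9, 7, 5, 7, 9, 11, 11, 11, 9, 7, 5, 7, 9, 15]),
  ([4, 6, 11, 8, 4, 6, 11, 8, 4, 6, 11, 8, 4, 6, 11, 8, 4, 6], [9, 10, 7, 5, 9, 10, 7, 5, 9, 10, 7, 5, 9, 10, 7, 5, 9, 10]),
  ([6, 4, 6, 14, 13, 6, 8, 10, 8, 6, 11, 11, 8, 11, 4], [14, 10, 13, 9, 11, 5, 7, 9, 10, 5, 7, 9, 5, 7]),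
  ([11, 8, 10, 14, 8], [14, 10, 9, 11]),
  ([14, 10, 14, 10], [11, 15, 5, 1]),
  ([14, 11, 14], [10, 15, 10])]
def rels1 : List (List Nat × List Nat) := [([14, 10, 6, 14, 8, 6, 10, 8, 6, 10, 12, 4, 6, 4], [10, 9, 10, 7, 15, 9, 10, 13, 7, 9, 10, 5, 7, 9]),
  ([0, 8, 11, 6, 8, 14, 4, 11, 0, 8, 11, 6, 8, 14, 4, 11, 0, 8, 11, 6, 8, 14, 4, 11, 0, 8, 11, 6, 8, 14, 4, 11, 0, 8, 11, 6, 8, 14, 4, 11, 0, 8, 11, 6, 8, 14, 4, 11, 0, 8, 11, 6, 8, 14, 4, 11, 0, 8, 11, 6], [10, 5, 15, 9, 7, 10, 9, 1, 10, 5, 15, 9, 7, 10, 9, 1, 10, 5, 15, 9, 7, 10, 9, 1, 10, 5, 15, 9, 7, 10, 9, 1, 10, 5, 15, 9, 7, 10, 9, 1, 10, 5, 15, 9, 7, 10, 9, 1, 10, 5, 15, 9, 7, 10, 9, 1, 10, 5, 15, 9])]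
def rels2 : List (List Nat × List Nat) := [([0, 8, 11, 6, 8, 14, 4, 11, 0, 8, 11, 6, 8, 14, 4, 11, 0, 8, 11, 6, 8, 14, 4, 11, 6, 0, 8, 11, 6, 8, 14, 4, 11, 0, 8, 11, 6, 8, 14, 4, 11, 0, 8, 11, 6, 8, 14, 4, 11, 6, 0, 8, 11, 6, 8, 14, 4, 11, 0, 8, 11, 6, 8, 14, 4, 11, 0, 8, 11, 6, 8, 14, 4, 11, 6, 0, 8, 11, 6, 8, 14, 4, 11, 0, 8, 11, 6, 8], [7, 10, 5, 15, 9, 7, 10, 9, 1, 10, 5, 15, 9, 7, 10, 9, 1, 10, 5, 15, 9, 7, 10, 9, 1, 7, 10, 5, 15, 9, 7, 10, 9, 1, 10, 5, 15, 9, 7, 10, 9, 1, 10, 5, 15, 9, 7, 10, 9, 1, 7, 10, 5, 15, 9, 7, 10, 9, 1, 10, 5, 15, 9, 7, 10, 9, 1, 10, 5, 15, 9, 7, 10, 9, 1, 7, 10, 5, 15, 9, 7, 10, 9, 1, 10, 5, 15])]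
def rels : List (List Nat × List Nat) := ((rels0 ++ rels1) ++ rels2)

end Cfsg.Agent.Lib.ThM
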