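/-
Automorphisms of order three of the Suzuki groups.
-/
import Cfsg.Agent.Lib.BsPure
import Cfsg.Agent.Lib.SFreeSz

set_option autoImplicit false
set_option linter.unusedSectionVars false
set_option linter.style.haveILetI false
set_option linter.unusedVariables false

namespace Cfsg.Agent.Lib.Tp

open Subgroup MulAction Cfsg.Agent.Lib.BsDefs Cfsg.Agent.Lib.PCoreConj Cfsg.Agent.Lib.PCore
  Cfsg.Agent.Lib.PCoreResidual Cfsg.Agent.Lib.FTDefs Cfsg.Agent.Lib.SFreeSzAbs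
open scoped commutatorElement Pointwise

universe u

theorem exists_fixed {A : Type*} (f : A → A) {S : Set A} (hS : S.Finite) (hf : ∀ x ∈ S, f (f (f x)) = x)
    (h : ∀ x ∈ S, f x ∈ S) (h3 : ¬ 3 ∣ S.ncard) : ∃ x ∈ S, f x = x := by
  classical
  haveI := hS.fintype
  haveI : Fact (Nat.Prime 3) := ⟨Nat.prime_three⟩
  let σ : Equiv.Perm S := ⟨fun x => ⟨f x, h _ x.2⟩, fun x => ⟨f (f x), h _ (h _ x.2)⟩,
    fun x => Subtype.ext (hf _ x.2), fun x => Subtype.ext (hf _ x.2)⟩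
  obtain ⟨a, ha⟩ := Equiv.Perm.exists_fixed_point_of_prime (p := 3) (n := 1) (σ := σ)
    (by rwa [← Nat.card_eq_fintype_card, Nat.card_coe_set_eq]) (Equiv.ext fun x => Subtype.ext (hf _ x.2))
  exact ⟨a, a.2, congrArg Subtype.val ha⟩

section Fx

variable {G : Type*} [Group G] {σ : MulAut G} {g : G}

/-- The fixed points of an automorphism. -/
def Fx (σ : MulAut G) : Subgroup G := σ.toMonoidHom.eqLocus (MonoidHom.id G)

theorem mem_Fx : g ∈ Fx σ ↔ σ g = g := Iff.rfl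

theorem Fx_conj (σ c : MulAut G) : Fx (c⁻¹ * σ * c) = (Fx σ).map c⁻¹.toMonoidHom := by
  ext x
  refine ⟨fun h => ⟨c x, ?_, by simp⟩, ?_⟩
  · have := congrArg c (mem_Fx.1 h)
    exact mem_Fx.2 (by simpa using this)
  · rintro ⟨y, hy, rfl⟩
    simp [mem_Fx, mem_Fx.1 hy]

theorem cube (h : σ ^ 3 = 1) (x : G) : σ (σ (σ x)) = x := by
  have := DFunLike.congr_fun h x
  simpa [pow_succ] using this

theorem cube_conj (h : σ ^ 3 = 1) (c : MulAut G) : (c⁻¹ * σ * c) ^ 3 = 1 := by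
  have := conj_pow (a := c⁻¹) (b := σ) (i := 3)
  rw [inv_inv, h] at this
  simpa using this

/-- The holomorph. -/
abbrev Hol (G : Type*) [Group G] := G ⋊[MonoidHom.id (MulAut G)] MulAut G

instance [Finite G] : Finite (Hol G) := Finite.of_equiv _ SemidirectProduct.equivProd.symm

/-- The embedding of a group in its holomorph. -/
abbrev iL (G : Type*) [Group G] : G →* Hol G := SemidirectProduct.inl

/-- The embedding of the automorphism group in the holomorph. -/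
abbrev iR (G : Type*) [Group G] : MulAut G →* Hol G := SemidirectProduct.inr

theorem iL_inj : Function.Injective (iL G) := SemidirectProduct.inl_injective

theorem iR_conj (σ : MulAut G) (g : G) : iR G σ * iL G g * (iR G σ)⁻¹ = iL G (σ g) := by
  rw [← map_inv]; exact (SemidirectProduct.inl_aut (φ := MonoidHom.id (MulAut G)) σ g).symm

theorem iL_mem_cent : iL G g ∈ c[iR G σ] ↔ σ g = g := by
  rw [mem_cent1, eq_comm, ← mul_inv_eq_iff_eq_mul, iR_conj, iL_inj.eq_iff]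

theorem map_inf_cent (A : Subgroup G) (σ : MulAut G) : A.map (iL G) ⊓ c[iR G σ] = (A ⊓ Fx σ).map (iL G) := by
  ext x
  constructor
  · rintro ⟨⟨g, h1, rfl⟩, h2⟩
    exact ⟨g, ⟨h1, iL_mem_cent.1 h2⟩, rfl⟩
  · rintro ⟨g, h1, rfl⟩
    exact ⟨⟨g, h1.1, rfl⟩, iL_mem_cent.2 h1.2⟩

theorem iR_norm [Finite G] {A : Subgroup G} (h : ∀ x ∈ A, σ x ∈ A) : iR G σ ∈ N[A.map (iL G)] :=
  mem_normalizer_of_conj_le (conj_le_iff.2 (by
    rintro _ ⟨x, hx, rfl⟩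
    rw [iR_conj]
    exact ⟨_, h x hx, rfl⟩))

theorem orderOf_iR (h : σ ^ 3 = 1) (h1 : σ ≠ 1) : orderOf (iR G σ) = 3 := by
  haveI : Fact (Nat.Prime 3) := ⟨Nat.prime_three⟩
  rw [orderOf_injective _ SemidirectProduct.inr_injective, orderOf_eq_prime h h1]

theorem map_inf_cent' (A B : Subgroup G) : A.map (iL G) ⊓ C[B.map (iL G)] = (A ⊓ C[B]).map (iL G) := by
  ext x
  constructor
  · rintro ⟨⟨g, h1, rfl⟩, h2⟩
    refine ⟨g, ⟨h1, mem_cent_iff.2 fun y hy => iL_inj ?_⟩, rfl⟩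
    rw [map_mul, map_mul]
    exact mem_cent_iff.1 h2 _ ⟨y, hy, rfl⟩
  · rintro ⟨g, h1, rfl⟩
    refine ⟨⟨g, h1.1, rfl⟩, mem_cent_iff.2 ?_⟩
    rintro _ ⟨y, hy, rfl⟩
    rw [← map_mul, ← map_mul, mem_cent_iff.1 h1.2 y hy]

end Fx

theorem frob_card0 {Y : Type u} [Group Y] [Finite Y] {H Z : Subgroup Y} {s : Y} (ho : orderOf s = 3) (n1 : s ∈ N[H])
    (n2 : s ∈ N[Z]) (n3 : H ≤ N[Z]) (h1 : H ≠ ⊥) (fpf : H ⊓ c[s] = ⊥) (hH : Odd (Nat.card H)) (p2 : IsPGroup 2 Z)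
    (c1 : Z ⊓ C[H] = ⊥) : Nat.card Z = Nat.card ↥(Z ⊓ c[s]) ^ 3 := by
  have hE : Nat.card (zpowers s) = 3 := by rw [Nat.card_zpowers, ho]
  have fr : Frob (H ⊔ zpowers s) H (zpowers s) := by
    refine Frob.mk' (zpowers_le.2 n1) h1 (fun e => by rw [e, card_bot] at hE; omega) fun x hx x1 => ?_
    rw [← centralizer_zpowers_eq, zpowers_eq_of_card_prime (by rw [hE]; exact Nat.prime_three) hx x1,
      centralizer_zpowers_eq, fpf]
  have W := wielandt fr (H := Z) (sup_le n3 (zpowers_le.2 n2))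
    (Bs.cop_two p2 (Bs.odd_sup' hH (by rw [hE]; exact ⟨1, rfl⟩) (zpowers_le.2 n1))) (solv_of_isPGroup Nat.prime_two p2)
  have c3 : C[H ⊔ zpowers s] ≤ C[H] := centralizer_le (SetLike.coe_subset_coe.2 le_sup_left)
  have c2 : Z ⊓ C[H ⊔ zpowers s] = ⊥ := eq_bot_iff.2 ((inf_le_inf_left Z c3).trans c1.le)
  rw [c1, c2, hE, centralizer_zpowers_eq, card_bot] at W
  rwa [one_pow, one_mul, mul_one] at W

theorem frob_card {X : Type u} [Group X] [Finite X] {H Z : Subgroup X} {σ : MulAut X} (hσ : σ ^ 3 = 1)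
    (n1 : ∀ h ∈ H, σ h ∈ H) (n2 : ∀ z ∈ Z, σ z ∈ Z) (n3 : H ≤ N[Z]) (h1 : H ≠ ⊥) (fpf : ∀ h ∈ H, σ h = h → h = 1)
    (hH : Odd (Nat.card H)) (p2 : IsPGroup 2 Z) (c1 : Z ⊓ C[H] = ⊥) : Nat.card Z = Nat.card ↥(Z ⊓ Fx σ) ^ 3 := by
  have hσ1 : σ ≠ 1 := fun e => h1 (eq_bot_iff.2 fun h hh => fpf h hh (by rw [e]; rfl))
  have := frob_card0 (H := H.map (iL X)) (Z := Z.map (iL X)) (orderOf_iR hσ hσ1) (iR_norm n1) (iR_norm n2)
    ((map_mono n3).trans (le_normalizer_map _)) (fun e => h1 ((map_eq_bot_iff_of_injective _ iL_inj).1 e))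
    (by
      rw [map_inf_cent, map_eq_bot_iff_of_injective _ iL_inj]
      exact eq_bot_iff.2 fun h hh => fpf h hh.1 hh.2)
    (by rwa [card_map_of_injective iL_inj]) (p2.map _) (by rw [map_inf_cent', c1, Subgroup.map_bot])
  rwa [map_inf_cent, card_map_of_injective iL_inj, card_map_of_injective iL_inj] at this

theorem not_three {n : ℕ} (hn : Odd n) : ¬ 3 ∣ 2 ^ n - 1 ∧ ¬ 3 ∣ 2 ^ n * 2 ^ n + 1 ∧ ¬ 3 ∣ 2 ^ n * 2 ^ n := by
  obtain ⟨k, rfl⟩ := hn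
  have h : 2 ^ (2 * k + 1) % 3 = 2 := by
    rw [pow_succ, pow_mul, Nat.mul_mod, Nat.pow_mod]; simp
  obtain ⟨m, hm⟩ : ∃ m, 2 ^ (2 * k + 1) = 3 * m + 2 := ⟨2 ^ (2 * k + 1) / 3, by omega⟩
  rw [hm]
  have : (3 * m + 2) * (3 * m + 2) = 3 * (3 * m * m + 4 * m + 1) + 1 := by ring
  omega

section Sz

variable {X : Type u} [Group X] [Finite X] {n : ℕ} {T Z H : Subgroup X} {w : X} (D : SzData X n T Z H w)
  {σ : MulAut X}
include D

theorem cent_eq {z : X} (hz : z ∈ Z) (h1 : z ≠ 1) : c[z] = T :=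
  D.syl.eq_of_le le_top (fun y => ⟨2, Subtype.ext (D.cit z y (D.memZ.1 hz).2 h1 (mem_cent1.1 y.2))⟩)
    fun t ht => mem_cent1.2 (D.cenZ z hz t ht)

theorem not_solv {C : Subgroup X} {a b g : X} (ha : a ∈ Z) (hb : b ∈ Z) (a1 : a ≠ 1) (b1 : b ≠ 1) (hne : a ≠ b)
    (haC : a ∈ C) (hbC : b ∈ C) (hg : g ∈ C) (hn : g ∉ N[T]) : ¬ Group.IsSolvable C := fun hs => by
  have ia : Invol a := ⟨D.Zsq ha, a1⟩
  have ib : Invol b := ⟨D.Zsq hb, b1⟩
  have e := D.cenZ b hb a (D.Zle ha)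
  have key : ∀ z ∈ Z, z ≠ 1 → pPrimeCoreOf 2 C ⊓ c[z] ≤ ⊥ := fun z hz z1 => by
    rw [cent_eq D hz z1]
    exact (inf_eq_bot_of_cop (Bs.cop_two D.syl.isPGroup (Bs.odd_core C)).symm).le
  have hO : pPrimeCoreOf 2 C = ⊥ := le_bot_iff.1 (Bs.le_of_four (Bs.odd_core C) ia ib hne e
    (le_normalizer_pPrimeCoreOf 2 C haC) (le_normalizer_pPrimeCoreOf 2 C hbC) (key a ha a1) (key b hb b1)
    (key _ (mul_mem ha hb) (Bs.imul ia ib hne e).ne))
  have hR := Bs.pCore_ne_bot Nat.prime_two hs (zpowers_le.2 haC) (Bs.two_group_zpowers ia)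
    (ne_bot_of_mem (mem_zpowers a) a1) (by rw [hO, centralizer_bot']; exact le_top)
  have hp := pCoreOf_isPGroup 2 C
  have hN := le_normalizer_pCoreOf 2 C
  set R := pCoreOf 2 C
  have h2 : IsPGroup 2 ↥(R ⊔ zpowers a) :=
    isPGroup_sup hp (Bs.two_group_zpowers ia) (zpowers_le.2 (hN haC))
  have h3 := CoprimeBasic.inf_centralizer_ne_bot hp h2 (sup_le le_normalizer (zpowers_le.2 (hN haC))) hR
  obtain ⟨r, hr, ir⟩ := Bs.exists_invol (X := R ⊓ C[R ⊔ zpowers a]) fun ho => h3 (by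
    have := Bs.cop_two (hp.to_le (inf_le_left : R ⊓ C[R ⊔ zpowers a] ≤ R)) ho
    rwa [Nat.coprime_self, card_eq_one] at this)
  have h4 : r ∈ Z := D.memZ.2 ⟨cent_eq D ha a1 ▸ mem_cent1.2
    (mem_cent_iff.1 hr.2 a (mem_sup_right (mem_zpowers a))).symm, by rw [pow_two, ir.sq]⟩
  have h5 : R ≤ T := fun x hx => cent_eq D h4 ir.ne ▸ mem_cent1.2 (mem_cent_iff.1 hr.2 x (mem_sup_left hx))
  have i2 := Bs.iconj ir g
  have h6 : g * r * g⁻¹ ∈ Z := D.memZ.2 ⟨h5 (Bs.conj_mem_of_norm (hN hg) hr.1), by rw [pow_two, i2.sq]⟩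
  refine hn (mem_normalizer_iff_conj_eq.2 ?_)
  conv_lhs => rw [← cent_eq D h4 ir.ne, conj_cent1, cent_eq D h6 i2.ne]

theorem normal_form (hσ : σ ^ 3 = 1) : ∃ c : MulAut X, T.map (c⁻¹ * σ * c).toMonoidHom = T ∧
    (T ^ᶜ w).map (c⁻¹ * σ * c).toMonoidHom = T ^ᶜ w := by
  obtain ⟨-, n2, n3⟩ := not_three D.odd
  have hc : (Set.univ : Set (Sylow 2 X)).ncard = 2 ^ n * 2 ^ n + 1 := by
    rw [Set.ncard_univ, D.syl.toSylowTop.card_eq_index_normalizer, ← D.index_eq]; rfl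
  have h3 : ∀ P : Sylow 2 X, σ • σ • σ • P = P := fun P => by
    rw [smul_smul, smul_smul, ← pow_two, ← pow_succ, hσ, one_smul]
  obtain ⟨P, -, hP⟩ := exists_fixed (fun P : Sylow 2 X => σ • P) Set.finite_univ (fun P _ => h3 P)
    (fun _ _ => trivial) (hc ▸ n2)
  obtain ⟨Q, hQP, hQ⟩ := exists_fixed (fun P : Sylow 2 X => σ • P) (S := Set.univ \ {P}) (Set.toFinite _)
    (fun P _ => h3 P) (fun Q hQ => ⟨trivial, fun e => hQ.2 (smul_left_cancel σ (e.trans hP.symm))⟩)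
    (by rwa [Set.ncard_sdiff_singleton_of_mem (Set.mem_univ P), hc])
  have h1 : (P : Subgroup X).map σ.toMonoidHom = P := congrArg (fun Q : Sylow 2 X => (Q : Subgroup X)) hP
  have h2 : (Q : Subgroup X).map σ.toMonoidHom = Q := congrArg (fun Q : Sylow 2 X => (Q : Subgroup X)) hQ
  obtain ⟨a, -, ha⟩ := D.syl.exists_conj_eq (isSylowIn_top P)
  obtain ⟨b, -, hb⟩ := D.syl.exists_conj_eq (isSylowIn_top Q)
  have key : ∀ (K L : Subgroup X) (g : X), K ^ᶜ g = L → L.map σ.toMonoidHom = L →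
      K.map ((MulAut.conj g)⁻¹ * σ * MulAut.conj g).toMonoidHom = K := fun K L g e e' => by
    conv_rhs => rw [← conj_conj_inv K g, e, ← e', ← e]
    simp only [Subgroup.map_map]
    rw [← map_inv]
    rfl
  rcases D.decomp (a⁻¹ * b) with ⟨t, ht, h, hh, e⟩ | ⟨t, ht, t', ht', h, hh, e⟩
  · refine absurd (Sylow.ext ?_) hQP.2
    rw [← ha, ← hb, ← mul_inv_cancel_left a b, e, ← conj_conj,
      conj_eq_of_mem_normalizer (mul_mem (le_normalizer ht) (D.Hle hh))]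
  refine ⟨MulAut.conj (a * t), key _ P _ (by rw [← conj_conj, conj_eq_of_mem ht, ha]) h1, key _ Q _ ?_ h2⟩
  rw [← hb, ← mul_inv_cancel_left a b, e, conj_conj, show a * (t * w * t' * h) = a * t * w * (t' * h) by group,
    ← conj_conj T (t' * h), conj_eq_of_mem_normalizer (mul_mem (le_normalizer ht') (D.Hle hh))]

theorem map_Z (h₁ : T.map σ.toMonoidHom = T) {z : X} (hz : z ∈ Z) : σ z ∈ Z :=
  D.memZ.2 ⟨h₁.le ⟨z, D.Zle hz, rfl⟩, by rw [← map_pow, (D.memZ.1 hz).2, map_one]⟩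

theorem fix_Z (hσ : σ ^ 3 = 1) (h₁ : T.map σ.toMonoidHom = T) : ∃ z ∈ Z, z ≠ 1 ∧ σ z = z := by
  obtain ⟨z, hz, e⟩ := exists_fixed σ (S := (Z : Set X) \ {1}) (Set.toFinite _) (fun x _ => cube hσ x)
    (fun x hx => ⟨map_Z D h₁ hx.1, fun e => hx.2 (σ.injective (e.trans (map_one σ).symm))⟩) (by
      rw [Set.ncard_sdiff_singleton_of_mem (SetLike.mem_coe.2 (one_mem Z)), ← Nat.card_coe_set_eq,
        SetLike.coe_sort_coe, D.cardZ]
      exact (not_three D.odd).1)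
  exact ⟨z, hz.1, hz.2, e⟩

theorem exists_invol_fixed (hσ : σ ^ 3 = 1) : ∃ z ∈ Fx σ, Invol z := by
  obtain ⟨c, h1, -⟩ := normal_form D hσ
  obtain ⟨z, hz, z1, e⟩ := fix_Z D (cube_conj hσ c) h1
  have : z ∈ Fx (c⁻¹ * σ * c) := e
  rw [Fx_conj] at this
  obtain ⟨y, hy, rfl⟩ := this
  exact ⟨y, hy, c⁻¹.injective (by rw [map_mul, map_one]; exact D.Zsq hz), fun e => z1 (by rw [e, map_one])⟩

theorem eq_three0 (hn : 1 < n) (hσ : σ ^ 3 = 1) (h₁ : T.map σ.toMonoidHom = T)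
    (h₂ : (T ^ᶜ w).map σ.toMonoidHom = T ^ᶜ w) (hs : Group.IsSolvable (Fx σ)) : n = 3 := by
  have nm : ∀ K : Subgroup X, K.map σ.toMonoidHom = K → ∀ x ∈ N[K], σ x ∈ N[K] := fun K e x hx => by
    rw [← e, ← map_equiv_normalizer_eq]; exact ⟨x, hx, rfl⟩
  have hH : ∀ h ∈ H, σ h ∈ H := fun h hh =>
    D.mem_H (nm _ h₁ _ (D.Hle hh)) (nm _ h₂ _ (D.mem_normalizer_conj.2 (D.Hle (D.wH h hh))))
  have e₁ : T ^ᶜ σ w = T ^ᶜ w := by
    conv_rhs => rw [← h₂, map_conj, h₁]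
    rfl
  have e₂ : (T ^ᶜ w) ^ᶜ σ w = T := by
    conv_rhs => rw [← h₁, ← conj_conj_inv T w, D.w_inv, map_conj, h₂]
    rfl
  have hw : w * σ w ∈ H := by
    refine D.mem_H (mem_normalizer_iff_conj_eq.2 ?_) (mem_normalizer_iff_conj_eq.2 ?_)
    · rw [← conj_conj, e₁, conj_conj, D.ww, conj_one]
    · rw [← conj_conj, e₂]
  obtain ⟨g, hg, e⟩ := exists_fixed σ (S := {g | w * g ∈ H}) (Set.toFinite _) (fun x _ => cube hσ x)
    (fun x hx => by
      have := mul_mem hw (hH _ hx)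
      rwa [map_mul, mul_assoc, ← mul_assoc (σ w), ← map_mul, D.ww, map_one, one_mul] at this) (by
      have : {g | w * g ∈ H}.ncard = Nat.card H := by
        rw [← SetLike.coe_sort_coe, Nat.card_coe_set_eq]
        exact Set.ncard_congr (fun g _ => w * g) (fun _ h => h) (fun _ _ _ _ e => mul_left_cancel e)
          fun h hh => ⟨w⁻¹ * h, by simpa using hh, by simp⟩
      rw [this, show Nat.card H = 2 ^ n - 1 by rw [← D.cardH]; rfl]
      exact (not_three D.odd).1)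
  have hgn : g ∉ N[T] := fun h => D.w_not_mem (by simpa using mul_mem (D.Hle hg) (inv_mem h))
  obtain ⟨z, hz, z1, ez⟩ := fix_Z D hσ h₁
  have uniq : ∀ y ∈ Z, σ y = y → y = 1 ∨ y = z := fun y hy ey => by
    by_contra hc
    push Not at hc
    exact not_solv D hy hz hc.1 z1 hc.2 ey ez e hgn hs
  have fpf : ∀ h ∈ H, σ h = h → h = 1 := fun h hh eh => by
    have := (uniq _ (D.conjZ hh hz) (by rw [map_mul, map_mul, map_inv, eh, ez])).resolve_left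
      fun e => z1 (conj_eq_one_iff.1 e)
    exact D.eq_one_of_comm hh hz z1 (mul_inv_eq_iff_eq_mul.1 this)
  have hH1 : H ≠ ⊥ := fun e => by
    have := D.cardH
    rw [e, card_bot] at this
    have := Nat.pow_lt_pow_right one_lt_two hn
    omega
  have hZ : Z ⊓ Fx σ = zpowers z := by
    refine le_antisymm (fun y hy => ?_) (zpowers_le.2 ⟨hz, ez⟩)
    rcases uniq y hy.1 hy.2 with rfl | rfl
    exacts [one_mem _, mem_zpowers _]
  have hHo : Odd (Nat.card H) := by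
    rw [← Nat.not_even_iff_odd, ← Nat.odd_add_one.trans Nat.not_odd_iff_even, D.cardH, Nat.not_odd_iff_even]
    exact (Nat.even_pow' D.odd.pos.ne').2 even_two
  have W := frob_card hσ hH (fun z => map_Z D h₁) (le_normalizer_iff_conj_le.2 fun h hh =>
    conj_le_iff.2 fun z hz => D.conjZ hh hz) hH1 fpf hHo (IsPGroup.of_card D.cardZ) (eq_bot_iff.2 fun y hy => by
      obtain ⟨h, hh, h1⟩ := exists_mem_ne_one hH1
      by_contra y1
      exact h1 (D.eq_one_of_comm hh hy.1 y1 (mem_cent_iff.1 hy.2 h hh)))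
  rw [hZ, D.cardZ, Nat.card_zpowers, Bs.order_two ⟨D.Zsq hz, z1⟩] at W
  exact Nat.pow_right_injective le_rfl W

theorem eq_three (hn : 1 < n) (hσ : σ ^ 3 = 1) (hs : Group.IsSolvable (Fx σ)) : n = 3 := by
  obtain ⟨c, h1, h2⟩ := normal_form D hσ
  exact eq_three0 D hn (cube_conj hσ c) h1 h2 (Fx_conj σ c ▸ solv_map hs _)

theorem card_dvd : Nat.card X ∣ 2 ^ n * 2 ^ n * (2 ^ n - 1) * (2 ^ n * 2 ^ n + 1) := by
  rw [← (N[T]).card_mul_index, D.index_eq, ← D.cardT, show 2 ^ n - 1 = Nat.card H by rw [← D.cardH]; rfl]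
  refine Nat.mul_dvd_mul_right ?_ _
  rw [show N[T] = T ⊔ H from le_antisymm (fun g hg => let ⟨t, ht, h, hh, e⟩ := D.normT hg
    e ▸ mul_mem (mem_sup_left ht) (mem_sup_right hh)) (sup_le le_normalizer D.Hle)]
  rw [sup_comm, mul_comm]
  exact card_sup_dvd D.Hle

end Sz

theorem sz_data {F : Type} [Field F] [Fintype F] {m : ℕ} (hm : 1 ≤ m) (hF : Fintype.card F = 2 ^ (2 * m + 1)) :
    ∃ (T Z H : Subgroup (Lie.Sz F (2 ^ (m + 1)))) (w : _), SzData _ (2 * m + 1) T Z H w := by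
  haveI : CharP F 2 := charP_of_card_eq_prime_pow hF
  have hθ : ∀ x : F, (x ^ 2 ^ (m + 1)) ^ 2 ^ (m + 1) = x ^ 2 := fun x => by
    rw [← pow_mul, ← pow_add, show m + 1 + (m + 1) = 2 * m + 1 + 1 by ring, pow_succ, pow_mul, ← hF,
      FiniteField.pow_card]
  exact ⟨_, _, _, _, SFreeSz.data hθ ⟨m, rfl⟩ (by omega) hF⟩

end Cfsg.Agent.Lib.Tp
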