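import Mathlib

/-! A transfer lemma: if only the elements of `T` conjugate the 2-group `W` into `T`, then in a perfect group
every involution of `T` centralizing `W` lies in `T'`. -/

set_option autoImplicit false
set_option linter.style.haveILetI false

namespace Cfsg.Agent.Lib.WTrans

open Subgroup MulAction

variable {G : Type*} [Group G] {T : Subgroup G} {A : Type*} [CommGroup A] (φ : T →* A)

theorem mem_c (g : G) (q : G ⧸ T) : (g • q).out⁻¹ * (g * q.out) ∈ T := by
  rw [← QuotientGroup.eq, QuotientGroup.out_eq', ← smul_eq_mul, ← Quotient.coe_smul_out]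

/-- the transfer cocycle -/
noncomputable def c (g : G) (q : G ⧸ T) : A := φ ⟨(g • q).out⁻¹ * (g * q.out), mem_c g q⟩

theorem c_mul (g h : G) (q : G ⧸ T) : c φ (g * h) q = c φ g (h • q) * c φ h q := by
  rw [c, c, c, ← map_mul]
  congr 1
  ext
  simp [mul_smul, mul_assoc]

theorem c_one (q : G ⧸ T) : c φ 1 q = 1 := by
  rw [c, ← map_one φ]
  congr 1
  ext
  simp

theorem main [Finite G] (hG : _root_.commutator G = ⊤) {W : Subgroup G} (hW : IsPGroup 2 W) (hWT : W ≤ T)
    (hw : ∀ g : G, (∀ w ∈ W, g⁻¹ * w * g ∈ T) → g ∈ T) {d : G} (hd : d ∈ T) (hc : ∀ w ∈ W, w * d = d * w)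
    (h2 : d * d = 1) : φ ⟨d, hd⟩ = 1 := by
  classical
  haveI : Fintype (G ⧸ T) := Fintype.ofFinite _
  let V : G →* A := MonoidHom.mk' (fun g => ∏ q : G ⧸ T, c φ g q) fun g h => by
    simp only [c_mul, Finset.prod_mul_distrib]
    exact congrArg (· * _) (Equiv.prod_comp (toPerm h) (c φ g))
  have hV : ∏ q : G ⧸ T, c φ d q = 1 := Abelianization.commutator_subset_ker V (hG ▸ mem_top d)
  have hdd : ∀ q : G ⧸ T, d • d • q = q := fun q => by rw [← mul_smul, h2, one_smul]
  have hsq : ∀ q : G ⧸ T, c φ d (d • q) * c φ d q = 1 := fun q => by rw [← c_mul, h2, c_one]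
  rw [← Finset.prod_filter_mul_prod_filter_not Finset.univ (fun q : G ⧸ T => d • q = q),
    Finset.prod_involution (s := Finset.univ.filter fun q : G ⧸ T => ¬ d • q = q) (fun q _ => d • q)
      (fun q _ => by rw [mul_comm, hsq]) (fun q hq _ => (Finset.mem_filter.1 hq).2)
      (fun q hq => Finset.mem_filter.2 ⟨Finset.mem_univ _, fun e =>
        (Finset.mem_filter.1 hq).2 (by rw [hdd] at e; exact e.symm)⟩) (fun q _ => hdd q), mul_one,
    Finset.prod_comp (fun a : A => a) (c φ d)] at hV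
  have h1 : ∀ t ∈ T, t • ((1 : G) : G ⧸ T) = ((1 : G) : G ⧸ T) := fun t ht => by
    rw [Quotient.smul_coe, smul_eq_mul, mul_one, QuotientGroup.eq]
    simpa using ht
  have h0 : c φ d ((1 : G) : G ⧸ T) = φ ⟨d, hd⟩ := by
    have ho : ((1 : G) : G ⧸ T).out ∈ T := by
      have := QuotientGroup.eq.1 (QuotientGroup.out_eq' ((1 : G) : G ⧸ T))
      simpa using this
    have e : c φ d ((1 : G) : G ⧸ T) = φ (⟨_, ho⟩⁻¹ * (⟨d, hd⟩ * ⟨_, ho⟩)) := by
      rw [c]
      congr 1
      ext
      simp [h1 d hd]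
    rw [e, map_mul, map_mul, map_inv, mul_comm (φ ⟨d, hd⟩), inv_mul_cancel_left]
  have hpar : ∀ a : A, ((Finset.univ.filter fun q : G ⧸ T => d • q = q).filter fun q => c φ d q = a).card ≡
      if a = φ ⟨d, hd⟩ then 1 else 0 [MOD 2] := fun a => by
    let F : SubMulAction W (G ⧸ T) :=
      { carrier := {q | d • q = q ∧ c φ d q = a}
        smul_mem' := by
          rintro ⟨w, hw'⟩ q ⟨q1, q2⟩
          change d • w • q = w • q ∧ c φ d (w • q) = a
          refine ⟨by rw [← mul_smul, ← hc w hw', mul_smul, q1], ?_⟩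
          have e := c_mul φ d w q
          rw [← hc w hw', c_mul, q1, mul_comm] at e
          rw [← mul_right_cancel e, q2] }
    have e1 := hW.card_modEq_card_fixedPoints F
    have e2 : Nat.card F =
        ((Finset.univ.filter fun q : G ⧸ T => d • q = q).filter fun q => c φ d q = a).card :=
      Nat.subtype_card _ fun q => by simp [F]; rfl
    have e3 : ∀ q ∈ fixedPoints W F, (q : G ⧸ T) = ((1 : G) : G ⧸ T) := fun q hq => by
      rw [← QuotientGroup.out_eq' (q : G ⧸ T), QuotientGroup.eq, mul_one, inv_mem_iff]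
      refine hw _ fun w hw' => ?_
      have e4 : w • (q : G ⧸ T) = q := congrArg Subtype.val (hq ⟨w, hw'⟩)
      have e5 := mem_c w (q : G ⧸ T)
      rwa [e4, ← mul_assoc] at e5
    rw [← e2]
    refine e1.trans ?_
    split_ifs with ha
    · rw [Nat.card_eq_one_iff_exists.2 ⟨⟨⟨((1 : G) : G ⧸ T), h1 d hd, h0.trans ha.symm⟩,
        fun w : W => Subtype.ext (h1 w (hWT w.2))⟩, fun q => Subtype.ext (Subtype.ext (e3 q q.2))⟩]
    · haveI : IsEmpty (fixedPoints W F) := ⟨fun q => ha (by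
        have := q.1.2.2
        rw [e3 q q.2, h0] at this
        exact this.symm)⟩
      rw [Nat.card_of_isEmpty]
  have hs : ∀ a ∈ (Finset.univ.filter fun q : G ⧸ T => d • q = q).image (c φ d), a ^ 2 = 1 := fun a ha => by
    obtain ⟨q, hq, rfl⟩ := Finset.mem_image.1 ha
    have := hsq q
    rwa [(Finset.mem_filter.1 hq).2, ← sq] at this
  have hm : φ ⟨d, hd⟩ ∈ (Finset.univ.filter fun q : G ⧸ T => d • q = q).image (c φ d) :=
    Finset.mem_image.2 ⟨_, Finset.mem_filter.2 ⟨Finset.mem_univ _, h1 d hd⟩, h0⟩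
  rw [Finset.prod_eq_single_of_mem _ hm fun a ha hne => by
    rw [pow_eq_pow_of_modEq (hpar a) (hs a ha), if_neg hne, pow_zero],
    pow_eq_pow_of_modEq (hpar _) (hs _ hm), if_pos rfl, pow_one] at hV
  exact hV

/-- the form with subgroups of `G` -/
theorem mem_commutator [Finite G] (hG : _root_.commutator G = ⊤) {W : Subgroup G} (hW : IsPGroup 2 W)
    (hWT : W ≤ T) (hw : ∀ g : G, (∀ w ∈ W, g⁻¹ * w * g ∈ T) → g ∈ T) {d : G} (hd : d ∈ T)
    (hc : ∀ w ∈ W, w * d = d * w) (h2 : d * d = 1) : d ∈ ⁅T, T⁆ := by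
  have h := main (Abelianization.of (G := T)) hG hW hWT hw hd hc h2
  rw [← MonoidHom.mem_ker, Abelianization.ker_of] at h
  rw [← map_subtype_commutator]
  exact mem_map_of_mem _ h

end Cfsg.Agent.Lib.WTrans
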