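import Cfsg.Agent.Lib.WrB1b
import Cfsg.Agent.Lib.WrNJ

/-! The class `WB1` for S1832. -/

set_option autoImplicit false

namespace Cfsg.Agent.Lib.WR

universe u

instance instWB1 [WLo.{u}] [WN.{u}] [WE.{u}] : WB1.{u} :=
  B1.wb1 fun hc hq T h _ _ _ _ t hK k1 l1 f1 f2 => nj hc hq T h t hK k1 l1 f1 f2

end Cfsg.Agent.Lib.WR
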