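import Cfsg.Agent.Lib.WrDefs
import Cfsg.Agent.S1823

/-! The class `WF1` for S1832. -/

set_option autoImplicit false

namespace Cfsg.Agent.Lib.WR

open Cfsg Subgroup Cfsg.Agent.Lib.PCoreConj Cfsg.Agent.Lib.PCore Cfsg.Agent.Lib.PCoreResidual
  Cfsg.Agent.Lib.PReduced Cfsg.Agent.Lib.LocIdx Cfsg.Agent.Lib.LocFour Cfsg.Agent.Lib.ThompsonJ
  Cfsg.Agent.Lib.JComp Cfsg.Agent.Lib.JTop Cfsg.Agent.Lib.JGlobal
open scoped commutatorElement

universe u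

namespace F1

variable {G : Type u} [Group G] [Finite G]

/-- `O₂(K) = [O₂(K), K]` -/
theorem core_le {I K D : Subgroup G} (h : JC I K) (hD : K ≤ normalizer (D : Set G))
    (hc : ⁅pCoreOf 2 K, K⁆ ≤ D) : pCoreOf 2 K ≤ D := by
  obtain ⟨y, hy, y3, hy'⟩ := exists_three h.idx
  have nQ := le_normalizer_pCoreOf 2 K
  have n0 : K ≤ normalizer ((D ⊓ pCoreOf 2 K : Subgroup G) : Set G) := le_normalizer_inf hD nQ
  have yK : zpowers y ≤ K := zpowers_le.2 hy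
  have c0 : ⁅pCoreOf 2 K, K⁆ ≤ D ⊓ pCoreOf 2 K := le_inf hc (commutator_le_left_of_le_normalizer nQ)
  have nN : pCoreOf 2 K ≤ normalizer (((D ⊓ pCoreOf 2 K) ⊔ zpowers y : Subgroup G) : Set G) := by
    refine le_normalizer_of_commutator_le ?_
    rw [commutator_comm]
    exact (((commutator_mono le_rfl (sup_le (inf_le_right.trans (pCoreOf_le 2 K)) yK)).trans c0).trans le_sup_left)
  have hK : K ≤ ((D ⊓ pCoreOf 2 K) ⊔ zpowers y) ⊔ pCoreOf 2 K :=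
    le_of_not_mem h.idx le_sup_right hy hy' (mem_sup_left (mem_sup_right (mem_zpowers y)))
  have hK' : K ≤ (D ⊓ pCoreOf 2 K) ⊔ zpowers y :=
    h.res.ge.trans ((pResidualOf_mono hK).trans (pResidualOf_sup_le (pCoreOf_isPGroup 2 K) nN))
  intro q hq
  obtain ⟨d, hd, a, ha, rfl⟩ := (mem_sup_iff_of_le_normalizer' (yK.trans n0)).1 (hK' (pCoreOf_le 2 K hq))
  have ha' : a ∈ pCoreOf 2 K := (mul_mem_cancel_left (mem_inf.1 hd).2).1 hq
  obtain ⟨k, hk⟩ := isPGroup_iff_forall_mem.1 (pCoreOf_isPGroup 2 K) a ha'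
  have : a = 1 := eq_one_of_coprime_of_pow_eq_one
    (Nat.Coprime.coprime_dvd_left (orderOf_dvd_of_mem_zpowers ha) (by rw [y3]; norm_num)) hk
  rw [this, mul_one]
  exact (mem_inf.1 hd).1

omit [Finite G] in
theorem odd_eq (H : Subgroup G) : oddGenerated H = pResidualOf 2 H := by
  rw [pResidualOf_eq_closure, oddGenerated]
  simp only [Nat.coprime_two_right]

/-- `O₂(E) ≰ Q'` -/
theorem not_le [WLo.{u}] [IsSimpleGroup G] (hG : ¬ IsMulCommutative G) (hQ : IsQTKE G) {T : Sylow 2 G}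
    (h : Ctx T) {K₁ K₂ L₁ L₂ : Subgroup G} (h2 : Two (T : Subgroup G) K₁ K₂ L₁ L₂) :
    ¬ pCoreOf 2 (K₁ ⊔ K₂) ≤ pCoreOf 2 (L₁ ⊔ L₂ ⊔ T) := by
  intro hle
  obtain ⟨lo, e1, -, e3⟩ := WLo.out T h K₁ K₂ h2.l
  obtain ⟨lo', -, -, -⟩ := WLo.out T h L₁ L₂ h2.r
  have nE : K₁ ⊔ K₂ ⊔ T ≤ normalizer ((K₁ ⊔ K₂ : Subgroup G) : Set G) := by
    have := le_normalizer_pResidualOf 2 (K₁ ⊔ K₂ ⊔ (T : Subgroup G))
    rwa [← odd_eq, e1] at this
  have sE : IsSylowIn 2 (pCoreOf 2 (K₁ ⊔ K₂)) (K₁ ⊔ K₂) := by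
    rw [← e3]
    exact (isSylowIn_of_sylow_le T le_sup_right).inf_normal le_sup_left nE
  obtain ⟨R₀, r1, r2, r3⟩ := Cfsg.Agent.S1823.result hG hQ T (L₁ ⊔ L₂ ⊔ T) (K₁ ⊔ K₂ ⊔ T)
    ⟨fun e => h2.r.ne (pCoreOf_eq_bot_iff.2 e), le_sup_right⟩
    ⟨fun e => h2.l.ne (pCoreOf_eq_bot_iff.2 e), le_sup_right⟩ (by
      have co : IsCoatom ((T : Subgroup G).subgroupOf (K₁ ⊔ K₂ ⊔ T)) := by
        refine ⟨fun e => h2.l.j1.not_le T.isPGroup' (le_sup_left.trans (le_sup_left.trans (subgroupOf_eq_top.1 e))),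
          fun b hb => ?_⟩
        obtain ⟨a, ha, ha'⟩ := SetLike.exists_of_lt hb
        have := lo.max (b.map (K₁ ⊔ K₂ ⊔ (T : Subgroup G)).subtype)
          ((map_subgroupOf_eq_of_le le_sup_right).ge.trans (map_mono hb.le)) a a.2 ha' ⟨a, ha, rfl⟩
        refine eq_top_iff.2 fun x _ => ?_
        obtain ⟨y, hy, e⟩ := this x.2
        exact (Subtype.ext e : y = x) ▸ hy
      exact ⟨_, ⟨co, le_rfl⟩, fun b hb => (co.le_iff.1 hb.2).resolve_left hb.1.1⟩)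
    (pCoreOf 2 (L₁ ⊔ L₂ ⊔ T)) h2.r.ne lo'.QT (by
      rw [e1]
      refine (isSylowIn_iff_exists_subgroupOf le_sup_right).1 ⟨le_sup_right, pCoreOf_isPGroup 2 _, fun S s1 s2 s3 => ?_⟩
      have s4 : S ⊓ (K₁ ⊔ K₂) = pCoreOf 2 (K₁ ⊔ K₂) :=
        sE.eq_of_le inf_le_right (s2.to_le inf_le_left) (le_inf (hle.trans s3) (pCoreOf_le 2 _))
      refine le_antisymm (fun x hx => ?_) s3
      obtain ⟨n, hn, a, ha, rfl⟩ :=
        (mem_sup_iff_of_le_normalizer' ((lo'.QT.trans le_sup_right).trans nE)).1 (s1 hx)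
      exact mul_mem (hle (s4.le ⟨(mul_mem_cancel_right (s3 ha)).1 hx, hn⟩)) ha)
    (le_normalizer_pCoreOf 2 _)
  exact r1 (h2.core R₀ (r2.trans lo'.QT) (le_sup_right.trans r3) (le_sup_left.trans r3))

end F1

instance instWF1 [WLo.{u}] : WF1.{u} where
  out := by
    intro G _ _ _ hG hQ T h K₁ K₂ L₁ L₂ h2 hn
    have n1 := F1.not_le hG hQ h h2
    have n2 := F1.not_le hG hQ h h2.symm
    obtain ⟨lo, e1, e2, -⟩ := WLo.out T h K₁ K₂ h2.l
    obtain ⟨lo', e1', -, -⟩ := WLo.out T h L₁ L₂ h2.r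
    have nE' : L₁ ⊔ L₂ ⊔ T ≤ normalizer ((L₁ ⊔ L₂ : Subgroup G) : Set G) := by
      have := le_normalizer_pResidualOf 2 (L₁ ⊔ L₂ ⊔ (T : Subgroup G))
      rwa [← F1.odd_eq, e1'] at this
    have nE : K₁ ⊔ K₂ ⊔ T ≤ normalizer ((K₁ ⊔ K₂ : Subgroup G) : Set G) := by
      have := le_normalizer_pResidualOf 2 (K₁ ⊔ K₂ ⊔ (T : Subgroup G))
      rwa [← F1.odd_eq, e1] at this
    set P := K₁ ⊔ K₂ ⊔ (T : Subgroup G) with hP
    set P' := L₁ ⊔ L₂ ⊔ (T : Subgroup G) with hP'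
    have n3 : ¬ pCoreOf 2 P' ≤ pCoreOf 2 P := fun e => n2 ((pCoreOf_le_of_normal le_sup_left nE').trans e)
    have eD : pCoreOf 2 P ⊓ pCoreOf 2 P' =
        P ⊓ centralizer ((wOf K₁ ⊔ wOf K₂ ⊔ (wOf L₁ ⊔ wOf L₂) : Subgroup G) : Set G) := by
      rw [centralizer_sup, ← inf_assoc, ← lo.Q]
      refine le_antisymm (inf_le_inf_left _ (lo'.Q.le.trans inf_le_right)) (le_inf inf_le_left ?_)
      rw [lo'.Q]
      exact inf_le_inf_right _ (lo.QT.trans lo'.le)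
    have nD : P ≤ normalizer ((pCoreOf 2 P ⊓ pCoreOf 2 P' : Subgroup G) : Set G) := by
      rw [eD]
      exact le_normalizer_inf le_normalizer (le_normalizer_centralizer hn)
    have QP : pCoreOf 2 P' ≤ P := lo'.QT.trans lo.le
    have c1 : ⁅pCoreOf 2 P, pCoreOf 2 P'⁆ ≤ pCoreOf 2 P ⊓ pCoreOf 2 P' :=
      le_inf (commutator_le_left_of_le_normalizer (QP.trans (le_normalizer_pCoreOf 2 P)))
        (commutator_le_right_of_le_normalizer ((lo.QT.trans lo'.le).trans (le_normalizer_pCoreOf 2 P')))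
    have c2 := commutator_nclIn_le nD (QP.trans nD) (le_normalizer_pCoreOf 2 P) c1
    have NP : nclIn (pCoreOf 2 P') P ≤ P := nclIn_le QP le_normalizer
    have nN := le_normalizer_nclIn (pCoreOf 2 P') P
    have n4 : ¬ nclIn (pCoreOf 2 P') P ≤ T := fun e =>
      n3 ((le_nclIn _ _).trans (le_pCoreOf NP nN (T.isPGroup'.to_le e)))
    obtain ⟨a, ha, ha'⟩ := SetLike.not_le_iff_exists.1 n4
    have hPN := lo.max (nclIn (pCoreOf 2 P') P ⊔ T) le_sup_right a (NP ha) ha' (mem_sup_left ha)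
    have hE : K₁ ⊔ K₂ ≤ nclIn (pCoreOf 2 P') P := by
      rw [← e1, F1.odd_eq]
      exact (pResidualOf_mono hPN).trans (pResidualOf_sup_le T.isPGroup' (lo.le.trans nN))
    have hO : pCoreOf 2 (K₁ ⊔ K₂) ≤ pCoreOf 2 P := pCoreOf_le_of_normal le_sup_left nE
    apply n1
    refine le_trans ?_ (inf_le_right : pCoreOf 2 P ⊓ pCoreOf 2 P' ≤ _)
    rw [e2] at hO ⊢
    refine sup_le (F1.core_le h2.l.j1 ((le_sup_left.trans le_sup_left).trans nD) ?_)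
      (F1.core_le h2.l.j2 ((le_sup_right.trans le_sup_left).trans nD) ?_)
    · exact (commutator_mono (le_sup_left.trans hO) (le_sup_left.trans hE)).trans c2
    · exact (commutator_mono (le_sup_right.trans hO) (le_sup_right.trans hE)).trans c2

end Cfsg.Agent.Lib.WR
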