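import Cfsg.Agent.Lib.WrB1a
import Cfsg.Agent.Lib.WrF1
import Cfsg.Agent.Lib.WTrans

/-! Critical distance one, wreathed type: reduction to `WE`. -/

set_option autoImplicit false

namespace Cfsg.Agent.Lib.WR

open Cfsg Subgroup Cfsg.Agent.Lib.PCoreConj Cfsg.Agent.Lib.PCore Cfsg.Agent.Lib.PCoreResidual
  Cfsg.Agent.Lib.PReduced Cfsg.Agent.Lib.LocIdx Cfsg.Agent.Lib.LocFour Cfsg.Agent.Lib.ThompsonJ
  Cfsg.Agent.Lib.JComp Cfsg.Agent.Lib.JTop Cfsg.Agent.Lib.JGlobal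
open scoped commutatorElement

universe u

namespace B1

variable {G : Type u} [Group G] {K₁ K₂ L₁ L₂ : Subgroup G}

theorem jt_swap {T : Subgroup G} (h : Jt T K₁ K₂) : Jt T K₂ K₁ where
  j1 := h.j2
  j2 := h.j1
  perm := fun g hg => (h.perm g hg).imp And.symm And.symm
  tr := by
    obtain ⟨t, ht, e⟩ := h.tr
    exact ⟨t⁻¹, inv_mem ht, by rw [← e, conj_conj_inv]⟩
  ne := by rw [sup_comm K₂]; exact h.ne

theorem two_swap {T : Subgroup G} (h : Two T K₁ K₂ L₁ L₂) : Two T K₂ K₁ L₁ L₂ :=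
  ⟨jt_swap h.l, h.r, fun N h1 h2 h3 => h.core N h1 (by rwa [sup_comm K₁]) h3⟩

theorem jt_norm {T : Subgroup G} (h : Jt T K₁ K₂) : T ≤ normalizer ((K₁ ⊔ K₂ : Subgroup G) : Set G) :=
  fun g hg => by
    rw [mem_normalizer_iff_conj_eq, conj_sup]
    rcases h.perm g hg with ⟨e1, e2⟩ | ⟨e1, e2⟩
    · rw [e1, e2]
    · rw [e1, e2, sup_comm]

variable [Finite G]

theorem sep {T : Sylow 2 G} (h : Ctx T) (j : Jt (T : Subgroup G) K₁ K₂) (hK : K₁ ≠ K₂) :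
    wOf K₁ ⊓ wOf K₂ = ⊥ ∧ K₂ ≤ centralizer (wOf K₁ : Set G) := by
  have := h.eq_or (L := K₁ ⊔ K₂ ⊔ T) le_sup_right j.ne j.j1 (le_sup_left.trans le_sup_left) j.j2
    (le_sup_right.trans le_sup_left) (one_mem _)
  rw [conj_one] at this
  exact this.resolve_left hK

theorem core_eq {I K : Subgroup G} (h : JC I K) (hs : ∀ x ∈ pCoreOf 2 K, x * x = 1) : pCoreOf 2 K = wOf K := by
  have hs' : ∀ x ∈ pCoreOf 2 K, x ^ 2 = 1 := fun x hx => by rw [sq, hs x hx]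
  have h1 : pCoreOf 2 K ≤ omegaOneCenter 2 (pCoreOf 2 K) :=
    le_omegaOneCenter (isElementaryAbelian_two_of_sq hs') le_rfl (abExp_of_sq hs').le_centralizer
  exact le_antisymm (F1.core_le h (le_normalizer_wOf K) (commutator_mono h1 le_rfl)) (wOf_le_pCoreOf K)

theorem main [WLo.{u}] [WE.{u}] [IsSimpleGroup G] (hc : ¬ IsMulCommutative G) (hq : IsQTKE G) (T : Sylow 2 G)
    (h : Ctx T) (t : Two (T : Subgroup G) K₁ K₂ L₁ L₂) (hK : K₁ ≠ K₂)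
    (s : Sy (K₁ ⊔ K₂ ⊔ T) (L₁ ⊔ L₂ ⊔ T) T (J 2 (T : Subgroup G)) (wOf K₁) (wOf K₂) (wOf L₁) (wOf L₂))
    (hN : normalizer (J 2 (T : Subgroup G) : Set G) ≤ T) : False := by
  obtain ⟨-, -, e1, e2⟩ := WLo.out T h K₁ K₂ t.l
  have k2 := (sep h t.l hK).2
  have k1 := (sep h (jt_swap t.l) hK.symm).2
  have hT : pCoreOf 2 K₁ ⊔ pCoreOf 2 K₂ ≤ T := by rw [← e1, ← e2]; exact inf_le_left
  have o1 : pCoreOf 2 K₁ = wOf K₁ := core_eq t.l.j1 fun x hx => s.sqQ t.core (s.l.Q ▸ mem_inf.2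
    ⟨s.l.le (hT (mem_sup_left hx)), Sy.mem_C_sup (pCoreOf_le_centralizer_wOf K₁ hx) (k1 (pCoreOf_le 2 K₁ hx))⟩)
  have o2 : pCoreOf 2 K₂ = wOf K₂ := core_eq t.l.j2 fun x hx => s.sqQ t.core (s.l.Q ▸ mem_inf.2
    ⟨s.l.le (hT (mem_sup_right hx)), Sy.mem_C_sup (k2 (pCoreOf_le 2 K₂ hx)) (pCoreOf_le_centralizer_wOf K₂ hx)⟩)
  refine WE.out hc hq T h K₁ K₂ t.l hK o1 o2 ?_
  have hG : _root_.commutator G = ⊤ := by
    rcases IsSimpleGroup.eq_bot_or_eq_top_of_normal (_root_.commutator G) inferInstance with e | e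
    · refine absurd ⟨⟨fun a b => commutatorElement_eq_one_iff_mul_comm.1 ?_⟩⟩ hc
      exact mem_bot.1 (e ▸ commutator_mem_commutator (mem_top a) (mem_top b))
    · exact e
  have hw : ∀ g : G, (∀ w ∈ J 2 (T : Subgroup G), g⁻¹ * w * g ∈ (T : Subgroup G)) → g ∈ (T : Subgroup G) :=
    fun g hg => inv_mem_iff.1 (hN (mem_normalizer_iff_conj_eq.2 (conj_J_eq_of_le (conj_le_iff.2 fun x hx => by
      rw [inv_inv]; exact hg x hx))))
  have hC := s.C_le fun c hc' => WTrans.mem_commutator hG t.l.j1.pg s.l.IT hw (mem_inf.1 hc').1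
    (fun w hw' => s.commC t.core hc' (s.l.IT hw') (s.l.n1 hw')) (s.sqC t.core hc')
  set D := (T : Subgroup G) ⊓ centralizer ((K₁ ⊔ K₂ : Subgroup G) : Set G) with hD
  have nD : (T : Subgroup G) ≤ normalizer (D : Set G) :=
    le_normalizer_inf le_normalizer (PCoreConj.le_normalizer_centralizer (jt_norm t.l))
  have d1 : D ≤ centralizer (K₁ : Set G) := inf_le_right.trans (centralizer_anti le_sup_left)
  have d2 : D ≤ centralizer (K₂ : Set G) := inf_le_right.trans (centralizer_anti le_sup_right)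
  have w1 : wOf K₁ ≤ K₁ := (wOf_le_pCoreOf K₁).trans (pCoreOf_le 2 K₁)
  have w2 : wOf K₂ ≤ K₂ := (wOf_le_pCoreOf K₂).trans (pCoreOf_le 2 K₂)
  have c1 := s.D_le inf_le_left nD (d1.trans (centralizer_anti w1))
    (le_bot_iff.1 (t.l.j1.W_inf ▸ inf_le_inf_left _ d1))
  have c2 := s.swap.D_le inf_le_left nD (d2.trans (centralizer_anti w2))
    (le_bot_iff.1 (t.l.j2.W_inf ▸ inf_le_inf_left _ d2))
  refine le_bot_iff.1 fun d hd => ?_
  have cU := Sy.mem_C_sup (centralizer_anti w1 (d1 hd)) (centralizer_anti w2 (d2 hd))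
  have hU := s.mem_U (hC (mem_inf.2 ⟨(mem_inf.1 hd).1, Sy.mem_C_sup cU (Sy.mem_C_sup (c1 hd) (c2 hd))⟩)) cU
  obtain ⟨a, ha, b, hb, rfl⟩ := (mem_sup_iff_of_le_normalizer (le_normalizer_of_le_centralizer s.l.c12)).1 hU
  have a1 : a = 1 := mem_bot.1 (t.l.j1.W_inf ▸ mem_inf.2
    ⟨ha, (mul_mem_cancel_right (le_centralizer_iff.1 k1 hb)).1 (d1 hd)⟩)
  have b1 : b = 1 := mem_bot.1 (t.l.j2.W_inf ▸ mem_inf.2
    ⟨hb, (mul_mem_cancel_left (le_centralizer_iff.1 k2 ha)).1 (d2 hd)⟩)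
  rw [a1, b1, mul_one]
  exact one_mem _

/-- the normalizer of `J(T)` -/
def NJ : Prop := ∀ {G : Type u} [Group G] [Finite G] [IsSimpleGroup G], ¬ IsMulCommutative G → IsQTKE G →
  ∀ T : Sylow 2 G, Ctx T → ∀ {K₁ K₂ L₁ L₂ : Subgroup G}, Two (T : Subgroup G) K₁ K₂ L₁ L₂ → K₁ ≠ K₂ →
  K₁ ≤ centralizer (wOf K₂ : Set G) → L₁ ≤ centralizer (wOf L₂ : Set G) →
  ¬ wOf L₁ ≤ centralizer (wOf K₁ : Set G) → wOf L₂ ≤ centralizer (wOf K₁ : Set G) →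
  normalizer (J 2 (T : Subgroup G) : Set G) ≤ T

theorem fin [WLo.{u}] [WE.{u}] (nj : NJ.{u}) [IsSimpleGroup G] (hc : ¬ IsMulCommutative G) (hq : IsQTKE G)
    (T : Sylow 2 G) (h : Ctx T) (t : Two (T : Subgroup G) K₁ K₂ L₁ L₂) (hK : K₁ ≠ K₂)
    (hn : ¬ wOf L₁ ≤ centralizer (wOf K₁ : Set G)) : False := by
  have s := sy_of (WLo.out T h K₁ K₂ t.l).1 (WLo.out T h L₁ L₂ t.r).1 (sep h t.l hK).1 hn
  have hL : L₂ ≠ L₁ := fun e => hn (e ▸ s.f21)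
  exact main hc hq T h t hK s
    (nj hc hq T h t hK (sep h (jt_swap t.l) hK.symm).2 (sep h (jt_swap t.r) hL).2 hn s.f21)

theorem wb1 [WLo.{u}] [WE.{u}] (nj : NJ.{u}) : WB1.{u} where
  out := by
    intro G _ _ _ hc hq T h K₁ K₂ L₁ L₂ t hn
    by_contra hK
    refine hn (le_centralizer_iff.1 fun v hv => ?_)
    have a : ∀ {A B : Subgroup G}, (¬ A ≤ B → False) → A ≤ B := fun h => not_not.1 h
    have f11 := a (fin nj hc hq T h t hK)
    have f21 := a (fin nj hc hq T h (two_swap t.symm).symm hK)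
    have f12 := a (fin nj hc hq T h (two_swap t) (Ne.symm hK))
    have f22 := a (fin nj hc hq T h (two_swap (two_swap t).symm).symm (Ne.symm hK))
    exact Sy.mem_C_sup (sup_le f11 f21 hv) (sup_le f12 f22 hv)

end B1

end Cfsg.Agent.Lib.WR
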