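import Cfsg.Agent.Lib.WrQ
import Cfsg.Agent.Lib.WrLo
import Cfsg.Agent.Lib.WrF1
import Cfsg.Agent.Lib.WrNJ

/-! Critical distance one: the wreathed type is a block with trivial centralizer. -/

set_option autoImplicit false
set_option linter.unusedSectionVars false

namespace Cfsg.Agent.Lib.WrD

open Cfsg Subgroup Cfsg.Agent.Lib.PCoreConj Cfsg.Agent.Lib.PCore Cfsg.Agent.Lib.ThompsonJ
  Cfsg.Agent.Lib.JComp Cfsg.Agent.Lib.WR Cfsg.Agent.Lib.WrAb Cfsg.Agent.Lib.WrQ Cfsg.Agent.Lib.LocIdx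
  Cfsg.Agent.Lib.LocFour
open scoped commutatorElement

local notation "C(" X ")" => centralizer (SetLike.coe (X : Subgroup _))
local notation "N(" X ")" => normalizer (SetLike.coe (X : Subgroup _))

universe u

variable {G : Type u} [Group G] [Finite G] {T : Sylow 2 G} {K₁ K₂ L₁ L₂ R : Subgroup G} {x y j : G}

/-- both ends of wreathed type, strands matched -/
structure St (T : Sylow 2 G) (K₁ K₂ L₁ L₂ : Subgroup G) : Prop where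
  h : Ctx T
  t : Two (T : Subgroup G) K₁ K₂ L₁ L₂
  ne : wOf K₁ ≠ wOf K₂
  n : NF (T : Subgroup G) (wOf K₁) (wOf K₂) (wOf L₁) (wOf L₂)

omit [Finite G] in
theorem two_swap {T : Subgroup G} (t : Two T K₁ K₂ L₁ L₂) : Two T K₁ K₂ L₂ L₁ :=
  ⟨t.l, WrLo.jt_symm t.r, fun N a b c => t.core N a b (by rwa [sup_comm L₁])⟩

namespace St

variable (s : St T K₁ K₂ L₁ L₂)
include s

omit [Finite G] in
theorem flip : St T L₁ L₂ K₁ K₂ :=
  ⟨s.h, s.t.symm, s.n.ne, s.ne, fun e => s.n.f11 (le_centralizer_iff.mp e), fun e => s.n.f22 (le_centralizer_iff.mp e),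
    le_centralizer_iff.mp s.n.f12, le_centralizer_iff.mp s.n.f21, fun t ht => (s.n.perm t ht).imp
      (fun e => ⟨e.2.2.1, e.2.2.2, e.1, e.2.1⟩) fun e => ⟨e.2.2.1, e.2.2.2, e.1, e.2.1⟩⟩

omit [Finite G] in
theorem swap : St T K₂ K₁ L₂ L₁ :=
  ⟨s.h, (two_swap (two_swap s.t).symm).symm, s.ne.symm, s.n.ne.symm, s.n.f22, s.n.f11, s.n.f12, s.n.f21,
    fun t ht => (s.n.perm t ht).imp (fun e => ⟨e.2.1, e.1, e.2.2.2, e.2.2.1⟩) fun e => ⟨e.2.1, e.1, e.2.2.2, e.2.2.1⟩⟩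

theorem lo : Lo (K₁ ⊔ K₂ ⊔ T) T (J 2 (T : Subgroup G)) (wOf K₁) (wOf K₂) := WrLo.lo s.h s.t.l

theorem WT : wOf K₁ ≤ T := le_T s.lo

theorem VW : wOf L₁ ≤ N(wOf K₁) := qn s.lo s.flip.lo

theorem WW : wOf K₁ ≤ C(wOf K₁) := (wOf_le_pCoreOf K₁).trans (pCoreOf_le_centralizer_wOf K₁)

theorem WW' : wOf K₂ ≤ C(wOf K₁) := fun _ hx _ hy => cm s.lo (mem_sup_left hy) (mem_sup_right hx)

theorem KW : K₂ ≤ C(wOf K₁) := (WrLo.far s.h s.t.l fun e => s.ne (congrArg wOf e)).2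

theorem A (hx : x ∈ wOf L₁) (hc : x ∈ C(wOf K₁)) : x ∈ wOf K₁ := by
  obtain ⟨r, r1, r2, r3⟩ := exists_r s.lo s.flip.lo s.n.f11
  by_contra hn
  exact s.n.f11 fun a ha w hw => (fo s.flip.lo).all r2 hx r3 (fun e => hn (e ▸ one_mem _)) (fun e => hn (e ▸ r1))
    ((fo s.lo).cm _ hw _ r1) (hc w hw) ha

omit [Finite G] in
theorem fx (hx : x ∈ (T : Subgroup G)) (hn : x ∈ N(wOf K₁)) : x ∈ N(wOf K₂) ∧ x ∈ N(wOf L₁) := by
  rcases s.n.perm x hx with e | e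
  · exact ⟨mem_normalizer_iff_conj_eq.mpr e.2.1, mem_normalizer_iff_conj_eq.mpr e.2.2.1⟩
  · exact absurd ((conj_eq_of_mem_normalizer hn).symm.trans e.1) s.ne

theorem B (h₁ : R ≤ T) (h₂ : R ≤ C(wOf K₁)) : ⁅R, wOf L₁⁆ ≤ wOf K₁ := fun _ hx =>
  s.A (commutator_le_right_of_le_normalizer
      (fun _ hy => (s.fx (h₁ hy) (le_normalizer_of_le_centralizer h₂ hy)).2) hx)
    (commutator_le_left_of_le_normalizer (le_normalizer_centralizer s.VW) (commutator_mono h₂ le_rfl hx))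

theorem VK : wOf L₁ ≤ N(K₁) := fun _ hx => mem_normalizer_iff_conj_eq.mpr
  (WrLo.eq_of_W s.h s.t.l (mem_sup_right (s.flip.WT hx)) (s.VW hx))

theorem Cc (h₁ : R ≤ T) (h₂ : R ≤ C(wOf K₁)) (h₃ : K₁ ≤ N(R)) : ⁅K₁, R⁆ ≤ wOf K₁ :=
  (commutator_mono (s.t.l.j1.commutator_eq (T.isPGroup'.to_le s.flip.WT) s.VK s.n.f11).ge le_rfl).trans
    (three_subgroups (le_normalizer_wOf K₁) s.VW (le_normalizer_of_le_centralizer h₂)
      ((commutator_mono ((commutator_comm _ _).le.trans (s.B h₁ h₂)) le_rfl).trans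
        (commutator_le_left_of_le_normalizer (le_normalizer_wOf K₁)))
      ((commutator_mono (commutator_le_left_of_le_normalizer h₃) le_rfl).trans (s.B h₁ h₂)))

theorem O : pCoreOf 2 K₁ = wOf K₁ :=
  le_antisymm (F1.core_le s.t.l.j1 (le_normalizer_wOf K₁) ((commutator_comm _ _).le.trans
    (s.Cc (WrLo.O_le_T s.h s.t.l) (pCoreOf_le_centralizer_wOf K₁) (le_normalizer_pCoreOf 2 K₁)))) (wOf_le_pCoreOf K₁)

theorem KQ : ⁅K₁, (T : Subgroup G) ⊓ (C(wOf K₁) ⊓ C(wOf K₂))⁆ ≤ wOf K₁ := by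
  refine s.Cc inf_le_left (inf_le_right.trans inf_le_left) ?_
  have e : (T : Subgroup G) ⊓ (C(wOf K₁) ⊓ C(wOf K₂)) = pCoreOf 2 (K₁ ⊔ K₂ ⊔ T) := by
    rw [← centralizer_sup]
    exact le_antisymm (s.lo.Q ▸ inf_le_inf_right _ le_sup_right) (le_inf s.lo.QT (s.lo.Q.le.trans inf_le_right))
  exact e ▸ (WrLo.K_le s.h s.t.l).trans (le_normalizer_pCoreOf 2 _)

theorem sq (hx : x ∈ (T : Subgroup G)) (h₁ : x ∈ C(wOf K₁)) (h₂ : x ∈ C(wOf K₂)) : x ^ 2 ∈ C(K₁) := fun k hk => by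
  have hw := s.KQ (commutator_mem_commutator hk (mem_inf.mpr ⟨hx, h₁, h₂⟩))
  have c : Commute ⁅k, x⁆ x := h₁ _ hw
  have e : k * x * k⁻¹ = ⁅k, x⁆ * x := by rw [commutatorElement_def, inv_mul_cancel_right]
  refine cj.mp ?_
  rw [← conj_pow, e, c.mul_pow, wOf_sq hw, one_mul]

theorem QQ (hx : x ∈ (T : Subgroup G)) (h₁ : x ∈ C(wOf K₁)) (h₂ : x ∈ C(wOf K₂))
    (hy : y ∈ (T : Subgroup G)) (k₁ : y ∈ C(wOf K₁)) (k₂ : y ∈ C(wOf K₂)) : ⁅x, y⁆ ∈ C(K₁) := by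
  have k : ⁅wOf K₁, (T : Subgroup G) ⊓ (C(wOf K₁) ⊓ C(wOf K₂))⁆ ≤ ⊥ :=
    (commutator_eq_bot_iff_le_centralizer'.mpr (inf_le_right.trans inf_le_left)).le
  exact commutator_eq_bot_iff_le_centralizer.mp (le_bot_iff.mp (three_subgroups le_normalizer_of_normal
    le_normalizer_of_normal le_normalizer_of_normal
    ((commutator_mono ((commutator_comm _ _).le.trans s.KQ) le_rfl).trans k) ((commutator_mono s.KQ le_rfl).trans k)))
    (commutator_mem_commutator (mem_inf.mpr ⟨hx, h₁, h₂⟩) (mem_inf.mpr ⟨hy, k₁, k₂⟩))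

theorem DD (hx : x ∈ (T : Subgroup G)) (h₁ : x ∈ C(K₁)) (h₂ : x ∈ C(K₂)) (h₃ : x ∈ C(L₁)) (h₄ : x ∈ C(L₂)) : x = 1 := by
  have n : (T : Subgroup G) ≤ N((T : Subgroup G) ⊓ (C(K₁ ⊔ K₂) ⊓ C(L₁ ⊔ L₂))) := le_normalizer_inf le_normalizer
    (le_normalizer_inf (le_normalizer_centralizer (NJ.norm_sup s.t.l)) (le_normalizer_centralizer (NJ.norm_sup s.t.r)))
  have := s.t.core _ inf_le_left
    (sup_le (le_normalizer_of_le_centralizer (le_centralizer_iff.mp (inf_le_right.trans inf_le_left))) n)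
    (sup_le (le_normalizer_of_le_centralizer (le_centralizer_iff.mp (inf_le_right.trans inf_le_right))) n)
  rw [centralizer_sup, centralizer_sup] at this
  exact mem_bot.mp (this ▸ mem_inf.mpr ⟨hx, ⟨h₁, h₂⟩, h₃, h₄⟩)

theorem mv (hj : j ∈ (T : Subgroup G)) (hn : j ∈ N(wOf K₁)) : ∃ v ∈ wOf L₁, j * v ∈ C(wOf K₁) := by
  obtain ⟨r, r1, r2, r3⟩ := exists_r s.lo s.flip.lo s.n.f11
  have f := fo s.lo
  have jr : Commute j r := by
    by_contra hc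
    exact s.n.f11 fun a ha w hw => (fo s.flip.lo).all r2 (cj_mem (s.fx hj hn).2 r2) r3 (cj_ne r3) (fun e => hc (cj.mp e))
      (f.cm _ hw _ r1) (f.cm _ hw _ (cj_mem hn r1)) ha
  obtain ⟨a, ha, a1, ar⟩ := f.other r
  obtain ⟨v, hv, nv⟩ := SetLike.not_le_iff_exists.mp s.n.f11
  have vr : Commute v r := (fo s.flip.lo).cm _ hv _ r2
  rcases f.fixr hn r1 r3 jr ha with e | e
  · exact ⟨1, one_mem _, fun w hw => by rw [mul_one]; exact (f.all r1 ha r3 a1 ar jr (cj.mp e) hw).symm⟩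
  · have e' := (f.fixr (s.VW hv) r1 r3 vr ha).resolve_left fun e' => nv fun w hw =>
      (f.all r1 ha r3 a1 ar vr (cj.mp e') hw).symm
    refine ⟨v, hv, fun w hw => (f.all r1 ha r3 a1 ar (jr.mul_left vr) (cj.mp ?_) hw).symm⟩
    calc _ = j * (v * a * v⁻¹) * j⁻¹ := by group
      _ = j * r * j⁻¹ * (j * a * j⁻¹) := by rw [e']; group
      _ = a := by rw [cj.mpr jr, e, ← mul_assoc, ← pow_two, f.sq r r1, one_mul]

theorem mv2 (hj : j ∈ (T : Subgroup G)) (hn : j ∈ N(wOf K₁)) :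
    ∃ v ∈ wOf L₁ ⊔ wOf L₂, j * v ∈ C(wOf K₁) ⊓ C(wOf K₂) := by
  obtain ⟨v, hv, c⟩ := s.mv hj hn
  have hj' := mul_mem hj (s.flip.WT hv)
  obtain ⟨v', hv', c'⟩ := s.swap.mv hj' (s.fx hj' (le_normalizer_of_le_centralizer le_rfl c)).1
  exact ⟨v * v', mul_mem (mem_sup_left hv) (mem_sup_right hv'), by
    rw [← mul_assoc]; exact ⟨mul_mem c (s.n.f21 hv'), c'⟩⟩

omit s [Finite G] in
/-- the centralizer of the four strands in `T` -/
def Z (T : Sylow 2 G) (K₁ K₂ L₁ L₂ : Subgroup G) : Subgroup G :=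
  (T : Subgroup G) ⊓ (C(wOf K₁) ⊓ C(wOf K₂) ⊓ (C(wOf L₁) ⊓ C(wOf L₂)))

theorem UT : wOf K₁ ⊔ wOf K₂ ≤ T := sup_le s.WT s.swap.WT

theorem T0 (hj : j ∈ (T : Subgroup G)) (hn : j ∈ N(wOf K₁)) :
    j ∈ wOf K₁ ⊔ wOf K₂ ⊔ (wOf L₁ ⊔ wOf L₂) ⊔ Z T K₁ K₂ L₁ L₂ := by
  obtain ⟨v, hv, c⟩ := s.mv2 hj hn
  have hj' := mul_mem hj (s.flip.UT hv)
  obtain ⟨w, hw, c'⟩ := s.flip.mv2 hj' (s.fx hj' (le_normalizer_of_le_centralizer le_rfl c.1)).2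
  have k : j * v * w ∈ Z T K₁ K₂ L₁ L₂ := ⟨mul_mem hj' (s.UT hw),
    mul_mem c ((sup_le (le_inf s.WW s.swap.WW') (le_inf s.WW' s.swap.WW) : _ ≤ C(wOf K₁) ⊓ C(wOf K₂)) hw), c'⟩
  simpa using mul_mem (mul_mem (mem_sup_right k) (inv_mem (mem_sup_left (mem_sup_left hw))))
    (inv_mem (mem_sup_left (mem_sup_right hv)))

theorem Z_le : Z T K₁ K₂ L₁ L₂ ≤ omegaOneCenter 2 (J 2 (T : Subgroup G)) := fun x hx => by
  obtain ⟨h₀, ⟨h₁, h₂⟩, h₃, h₄⟩ := hx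
  have k : wOf K₁ ⊔ wOf K₂ ⊔ (wOf L₁ ⊔ wOf L₂) ⊔ Z T K₁ K₂ L₁ L₂ ≤ centralizer {x} := by
    refine sup_le (sup_le (sup_le (mem_centralizer_iff_le.mp h₁) (mem_centralizer_iff_le.mp h₂))
      (sup_le (mem_centralizer_iff_le.mp h₃) (mem_centralizer_iff_le.mp h₄))) fun y hy => ?_
    obtain ⟨k₀, ⟨k₁, k₂⟩, k₃, k₄⟩ := hy
    exact mem_centralizer_singleton_iff.mpr (commutatorElement_eq_one_iff_commute.mp (s.DD
      (mul_mem (mul_mem (mul_mem k₀ h₀) (inv_mem k₀)) (inv_mem h₀)) (s.QQ k₀ k₁ k₂ h₀ h₁ h₂)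
      (s.swap.QQ k₀ k₂ k₁ h₀ h₂ h₁) (s.flip.QQ k₀ k₃ k₄ h₀ h₃ h₄) (s.flip.swap.QQ k₀ k₄ k₃ h₀ h₄ h₃)))
  rw [omegaOneCenter_J]
  exact mem_ZJ_iff.mpr ⟨h₀, mem_centralizer_iff_le.mpr fun j hj => k (s.T0 (s.lo.IT hj) (s.lo.n1 hj)),
    s.DD (pow_mem h₀ 2) (s.sq h₀ h₁ h₂) (s.swap.sq h₀ h₂ h₁) (s.flip.sq h₀ h₃ h₄) (s.flip.swap.sq h₀ h₄ h₃)⟩

omit [Finite G] in
theorem nU : (T : Subgroup G) ≤ N(wOf K₁ ⊔ wOf K₂) := fun t ht => by
  rw [mem_normalizer_iff_conj_eq, conj_sup]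
  rcases s.n.perm t ht with e | e <;> rw [e.1, e.2.1]
  exact sup_comm _ _

theorem Z_le_E (hZ : omegaOneCenter 2 (J 2 (T : Subgroup G)) ≤ ⁅(T : Subgroup G), (T : Subgroup G)⁆) :
    Z T K₁ K₂ L₁ L₂ ≤ wOf K₁ ⊔ wOf K₂ ⊔ (wOf L₁ ⊔ wOf L₂) := by
  have nE := le_normalizer_sup s.nU s.flip.nU
  have nZ : (T : Subgroup G) ≤ N(Z T K₁ K₂ L₁ L₂) := by
    rw [Z, ← centralizer_sup, ← centralizer_sup]
    exact le_normalizer_inf le_normalizer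
      (le_normalizer_inf (le_normalizer_centralizer s.nU) (le_normalizer_centralizer s.flip.nU))
  have ET := sup_le s.UT s.flip.UT
  have ZT : Z T K₁ K₂ L₁ L₂ ≤ T := inf_le_left
  have T0 := fun j => s.T0 (j := j)
  have zl := s.Z_le
  generalize Z T K₁ K₂ L₁ L₂ = Y at *
  generalize wOf K₁ ⊔ wOf K₂ ⊔ (wOf L₁ ⊔ wOf L₂) = E at *
  refine le_of_le_sup_commutator T.isPGroup' (T.isPGroup'.to_le ZT) nZ nE (ZT.trans nE) (zl.trans (hZ.trans ?_))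
  obtain ⟨t, ht, e⟩ := s.lo.tr
  have gen : (T : Subgroup G) ≤ E ⊔ Y ⊔ zpowers t := fun x hx => by
    rcases s.n.perm x hx with e' | e'
    · exact mem_sup_left (T0 x hx (mem_normalizer_iff_conj_eq.mpr e'.1))
    · have := T0 _ (mul_mem (inv_mem ht) hx) (mem_normalizer_iff_conj_eq.mpr (by
        rw [← conj_conj, e'.1, ← e, conj_conj_inv]))
      simpa using mul_mem (mem_sup_right (mem_zpowers t)) (mem_sup_left this : _ ∈ E ⊔ Y ⊔ zpowers t)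
  have nN : (T : Subgroup G) ≤ N(E ⊔ ⁅Y, (T : Subgroup G)⁆) := le_normalizer_sup nE (normalizer_commutator_ge_right _ _)
  have tT := zpowers_le.mpr ht
  have k : ⁅(T : Subgroup G), E ⊔ Y⁆ ≤ E ⊔ ⁅Y, (T : Subgroup G)⁆ := commutator_sup_le (ET.trans nN) (ZT.trans nN)
    ((commutator_le_right_of_le_normalizer nE).trans le_sup_left) ((commutator_comm _ _).le.trans le_sup_right)
  refine (commutator_mono le_rfl gen).trans (commutator_sup_le ((sup_le ET ZT).trans nN) (tT.trans nN) k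
    ((commutator_comm _ _).le.trans ((commutator_mono le_rfl gen).trans (commutator_sup_le ((sup_le ET ZT).trans nN)
      (tT.trans nN) ((commutator_mono tT le_rfl).trans k) ?_))))
  exact (commutator_eq_bot_iff_le_centralizer.mpr (le_centralizer _)).le.trans bot_le

theorem DV (hx : x ∈ (T : Subgroup G)) (h₁ : x ∈ C(K₁)) : x ∈ C(wOf L₁) := fun v hv => by
  have c := centralizer_anti ((wOf_le_pCoreOf K₁).trans (pCoreOf_le 2 K₁)) h₁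
  have m := commutator_mem_commutator (mem_zpowers x) hv
  exact (commutatorElement_eq_one_iff_commute.mp (mem_bot.mp (s.t.l.j1.W_inf ▸ mem_inf.mpr
    ⟨s.B (zpowers_le.mpr hx) (zpowers_le.mpr c) m, commutator_le_left_of_le_normalizer (le_normalizer_centralizer s.VK)
      (commutator_mono (zpowers_le.mpr h₁) le_rfl m)⟩))).symm

theorem D_bot (hZ : omegaOneCenter 2 (J 2 (T : Subgroup G)) ≤ ⁅(T : Subgroup G), (T : Subgroup G)⁆) :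
    (T : Subgroup G) ⊓ C(K₁ ⊔ K₂) = ⊥ := by
  rw [centralizer_sup, eq_bot_iff]
  rintro x ⟨h₀, h₁, h₂⟩
  have c₁ := centralizer_anti ((wOf_le_pCoreOf K₁).trans (pCoreOf_le 2 K₁)) h₁
  have c₂ := centralizer_anti ((wOf_le_pCoreOf K₂).trans (pCoreOf_le 2 K₂)) h₂
  obtain ⟨w, hw, v, hv, rfl⟩ := (mem_sup_iff_of_le_normalizer' (s.flip.UT.trans s.nU)).mp
    (s.Z_le_E hZ ⟨h₀, ⟨c₁, c₂⟩, s.DV h₀ h₁, s.swap.DV h₀ h₂⟩)
  obtain ⟨a, ha, b, hb, rfl⟩ := (mem_sup_iff_of_le_normalizer' (le_normalizer_of_le_centralizer s.flip.WW')).mp hv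
  have ha' := s.A ha ((mul_mem_cancel_right (s.n.f21 hb)).mp
    ((mul_mem_cancel_left ((sup_le s.WW s.WW' : _ ≤ C(wOf K₁)) hw)).mp c₁))
  have hb' := s.swap.A hb ((mul_mem_cancel_left (s.n.f12 ha)).mp
    ((mul_mem_cancel_left ((sup_le s.swap.WW' s.swap.WW : _ ≤ C(wOf K₂)) hw)).mp c₂))
  obtain ⟨p, hp, q, hq, e⟩ := (mem_sup_iff_of_le_normalizer' (le_normalizer_of_le_centralizer s.WW')).mp
    (mul_mem hw (mul_mem (mem_sup_left ha') (mem_sup_right hb')))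
  rw [← e] at h₁ h₂ ⊢
  have p1 : p = 1 := mem_bot.mp (s.t.l.j1.W_inf ▸ mem_inf.mpr
    ⟨hp, (mul_mem_cancel_right (le_centralizer_iff.mp s.swap.KW hq)).mp h₁⟩)
  have q1 : q = 1 := mem_bot.mp (s.t.l.j2.W_inf ▸ mem_inf.mpr
    ⟨hq, (mul_mem_cancel_left (le_centralizer_iff.mp s.KW hp)).mp h₂⟩)
  rw [p1, q1, mul_one]
  exact one_mem _

theorem false [WN.{u}] [WR.WT.{u}] [WE.{u}] [IsSimpleGroup G] (hG : ¬ IsMulCommutative G) (hQ : IsQTKE G) : False := by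
  have hne : K₁ ≠ K₂ := fun e => s.ne (congrArg wOf e)
  have k := nj hG hQ T s.h s.t hne s.swap.KW s.flip.swap.KW s.n.f11 s.n.f21
  exact WE.out hG hQ T s.h K₁ K₂ s.t.l hne s.O s.swap.O
    (s.D_bot (WR.WT.out hG T (le_antisymm k (le_normalizer.trans (normalizer_le_normalizer_J 2 _)))))

end St

instance instWB1 [WN.{u}] [WT.{u}] [WE.{u}] : WB1.{u} := ⟨fun hG hQ T h K₁ K₂ L₁ L₂ t n => by
  by_contra hne
  have ne : wOf K₁ ≠ wOf K₂ := fun e => t.l.j1.W_ne_bot (by rw [← (WrLo.far h t.l hne).1, ← e, inf_idem])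
  rcases nf_or (WrLo.lo h t.l) (WrLo.lo h t.r) ne n with k | k
  exacts [St.false ⟨h, t, ne, k⟩ hG hQ, St.false ⟨h, two_swap t, ne, k⟩ hG hQ]⟩

end Cfsg.Agent.Lib.WrD
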