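import Cfsg.Agent.Lib.WrDefs
import Cfsg.Agent.Lib.QZB1
import Cfsg.Agent.Lib.QZWr

/-! The wreathed block does not occur. -/

set_option autoImplicit false

namespace Cfsg.Agent.Lib.WR

open Cfsg Subgroup Cfsg.Agent.Lib.PCoreConj Cfsg.Agent.Lib.PCore Cfsg.Agent.Lib.PCoreResidual
  Cfsg.Agent.Lib.PReduced Cfsg.Agent.Lib.LocIdx Cfsg.Agent.Lib.LocFour Cfsg.Agent.Lib.ThompsonJ
  Cfsg.Agent.Lib.JComp Cfsg.Agent.Lib.JTop Cfsg.Agent.Lib.JGlobal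
open scoped commutatorElement

local notation "C(" X ")" => centralizer (SetLike.coe (X : Subgroup _))
local notation "N(" X ")" => normalizer (SetLike.coe (X : Subgroup _))

universe u

variable {G : Type u} [Group G] [Finite G] {I K K' S L : Subgroup G}

theorem we_blk (h : JC I K) (hO : pCoreOf 2 K = wOf K) (hS : IsPGroup 2 S) (hI : I ≤ S) (hn : S ≤ N(K))
    (hW : wOf K ≤ S) : ∃ z u ρ : G, QZ.Blk S z u ρ ∧ K = closure {z, u, ρ} ∧
      ∀ x, x ∈ wOf K ↔ x = 1 ∨ x = z ∨ x = u ∨ x = z * u := by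
  obtain ⟨ρ, hρ, hr, hρO⟩ := exists_three h.idx
  have fix : ∀ w ∈ wOf K, ρ * w * ρ⁻¹ = w → w = 1 := fun w hw e =>
    mem_bot.mp (inf_centralizer_eq_bot h.idx h.W_inf (pCoreOf_le_centralizer_wOf K) hρ hρO ▸
      mem_inf.mpr ⟨hw, mem_centralizer_singleton_iff.mpr (mul_inv_eq_iff_eq_mul.mp e).symm⟩)
  have gen : ∀ {H : Subgroup G}, wOf K ≤ H → ρ ∈ H → K ≤ H := fun h₁ h₂ =>
    le_of_not_mem h.idx (hO.le.trans h₁) hρ hρO h₂
  have ab : wOf K ≤ C(wOf K) := (wOf_le_pCoreOf K).trans (pCoreOf_le_centralizer_wOf K)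
  have hWE : wOf K ≤ K := (wOf_le_pCoreOf K).trans (pCoreOf_le 2 K)
  have hEW := le_normalizer_wOf K
  have hBW := hn.trans (normalizer_le_normalizer_wOf K)
  have irr := fun {U : Subgroup G} => h.eq_bot_or_eq (U := U)
  have nc := h.not_le_C'
  have hp : IsPGroup 2 (wOf K) := (pCoreOf_isPGroup 2 K).to_le (wOf_le_pCoreOf K)
  have sq : ∀ w ∈ wOf K, w * w = 1 := fun w hw => by rw [← sq]; exact wOf_sq hw
  have hne := h.W_ne_bot
  generalize wOf K = W at *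
  have r3 : ρ ^ 3 = 1 := hr ▸ pow_orderOf_eq_one ρ
  obtain ⟨⟨z, hz, hzB⟩, z1⟩ := (ne_bot_iff_exists_ne_one).mp (inf_centralizer_ne_bot hS hp hBW hne)
  have z1 : z ≠ 1 := fun e => z1 (Subtype.ext e)
  have cj : ∀ g ∈ N(W), ∀ w ∈ W, g * w * g⁻¹ ∈ W := fun g hg w hw => (mem_normalizer_iff.mp hg w).mp hw
  obtain ⟨u, hu⟩ : ∃ u, ρ * z * ρ⁻¹ = u := ⟨_, rfl⟩
  have huW : u ∈ W := hu ▸ cj ρ (hEW hρ) z hz
  obtain ⟨v, hv⟩ : ∃ v, ρ * u * ρ⁻¹ = v := ⟨_, rfl⟩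
  have hvW : v ∈ W := hv ▸ cj ρ (hEW hρ) u huW
  have zu : z * u = u * z := ab huW z hz
  have hvz : ρ * v * ρ⁻¹ = z := by
    rw [← hv, ← hu]
    calc _ = ρ ^ 3 * z * (ρ ^ 3)⁻¹ := by simp only [pow_succ, pow_zero, one_mul, mul_inv_rev, mul_assoc]
      _ = z := by rw [r3]; group
  have cu : v = z * u := by
    have k := fix (z * u * v) (mul_mem (mul_mem hz huW) hvW) (by
      calc _ = ρ * z * ρ⁻¹ * (ρ * u * ρ⁻¹) * (ρ * v * ρ⁻¹) := by group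
        _ = _ := by rw [hu, hv, hvz, ab hz _ (mul_mem huW hvW), mul_assoc])
    rw [← inv_eq_of_mul_eq_one_right k, inv_eq_of_mul_eq_one_right (sq _ (mul_mem hz huW))]
  subst cu
  set Y := QZB1.four z u (sq z hz) (sq u huW) zu
  have mY : ∀ x, x ∈ Y ↔ x = 1 ∨ x = z ∨ x = u ∨ x = z * u := fun x => Iff.rfl
  have hYW : Y ≤ W := by
    rintro x (rfl | rfl | rfl | rfl)
    exacts [one_mem _, hz, huW, hvW]
  have hWY : W ≤ Y := ((irr hYW (gen (le_normalizer_of_le_centralizer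
      (ab.trans (centralizer_anti hYW))) (mem_normalizer_of_conj_le (conj_le_iff.mpr (by
        rintro x (rfl | rfl | rfl | rfl)
        · simp
        · exact (mY _).mpr (Or.inr (Or.inr (Or.inl hu)))
        · exact (mY _).mpr (Or.inr (Or.inr (Or.inr hv)))
        · exact (mY _).mpr (Or.inr (Or.inl hvz))))))).resolve_left fun h =>
      z1 (mem_bot.mp (h ▸ (mY z).mpr (Or.inr (Or.inl rfl))))).ge
  have hE : K = closure {z, u, ρ} := le_antisymm (gen (hWY.trans (by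
      rintro x (rfl | rfl | rfl | rfl)
      · exact one_mem _
      · exact subset_closure (by simp)
      · exact subset_closure (by simp)
      · exact mul_mem (subset_closure (by simp)) (subset_closure (by simp)))) (subset_closure (by simp)))
    ((closure_le _).mpr (by
      rintro x (rfl | rfl | rfl)
      exacts [hWE hz, hWE huW, hρ]))
  have fz : ∀ s ∈ S, s * z * s⁻¹ = z := fun s hs => by rw [hzB s hs, mul_inv_cancel_right]
  have fu : ∀ s ∈ S, s * u * s⁻¹ = u ∨ s * u * s⁻¹ = z * u := fun s hs => by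
    rcases (mY _).mp (hWY (cj s (hBW hs) u huW)) with e | e | e | e
    · refine absurd ?_ z1
      have : u = 1 := by simpa using e
      simpa [this] using hu
    · refine absurd (fix z hz ?_) z1
      rw [← fz s hs] at e
      rw [hu, (by simpa using e : u = z)]
    exacts [Or.inl e, Or.inr e]
  refine ⟨z, u, ρ, ⟨z1, sq z hz, zu, hu, hv, r3, hS, hW hz, hW huW, hE ▸ hn, fz, fu, ?_⟩, hE,
    fun x => ⟨fun hx => hWY hx, fun hx => hYW hx⟩⟩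
  by_contra! hn
  refine nc fun s hs x hx => ?_
  have e₁ := mul_inv_eq_iff_eq_mul.mp (fz s (hI hs))
  have e₂ := mul_inv_eq_iff_eq_mul.mp ((fu s (hI hs)).resolve_right (hn s (hI hs)))
  rcases (mY _).mp (hWY hx) with rfl | rfl | rfl | rfl
  · simp
  · exact e₁.symm
  · exact e₂.symm
  · rw [mul_assoc, ← e₂, ← mul_assoc, ← e₁, mul_assoc]

theorem we_top (h : JTop.Top S) (hK : JC (J 2 S) K) (hK' : JC (J 2 S) K') (hne : wOf K ≠ wOf K') :
    ∃ a ∈ J 2 S, a ∉ C(wOf K) ∧ a ∈ C(wOf K') := by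
  by_contra! hn
  obtain ⟨s, hs, -, e⟩ := h.exists_eq hK
  obtain ⟨s', hs', -, e'⟩ := h.exists_eq hK'
  refine hK.not_le_C' (h.J_le_of (inf_le_right.trans (Q_le_C.trans (centralizer_anti
    (e.le.trans (W_le s))))) fun A hA t htA ht => ?_)
  by_contra ht'
  by_cases q : W s' = W t
  · exact ht' (e ▸ h.far_le_C hs ht (fun q' => hne (e.trans (q'.trans (q.symm.trans e'.symm))))
      (mem_sup_right (mem_zpowers t)))
  · exact hn t (hA.le_J htA) ht' (e' ▸ h.far_le_C hs' ht q (mem_sup_right (mem_zpowers t)))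

variable {T : Sylow 2 G}

theorem Ctx.exists_a (h : Ctx T) (hL : (T : Subgroup G) ≤ L) (hO : pCoreOf 2 L ≠ ⊥)
    (hK : JC (J 2 (T : Subgroup G)) K) (hKL : K ≤ L) (hK' : JC (J 2 (T : Subgroup G)) K') (hKL' : K' ≤ L)
    (hne : wOf K ≠ wOf K') : ∃ a ∈ J 2 (T : Subgroup G), a ∉ C(wOf K) ∧ a ∈ C(wOf K') := by
  obtain ⟨a, h₁, h₂, h₃⟩ := we_top (h.top hL hO) ((jc_sub (h.ov hL hO) hKL).2 hK) ((jc_sub (h.ov hL hO) hKL').2 hK')
    fun e => hne (by rw [← map_wOf_subgroupOf hKL, e, map_wOf_subgroupOf hKL'])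
  rw [centralizer_eq_subgroupOf, map_wOf_subgroupOf hKL] at h₂
  rw [centralizer_eq_subgroupOf, map_wOf_subgroupOf hKL'] at h₃
  rw [J_subgroupOf hL] at h₁
  exact ⟨a, h₁, h₂, h₃⟩

theorem Ctx.far (h : Ctx T) (hL : (T : Subgroup G) ≤ L) (hO : pCoreOf 2 L ≠ ⊥)
    (hK : JC (J 2 (T : Subgroup G)) K) (hKL : K ≤ L) (hK' : JC (J 2 (T : Subgroup G)) K') (hKL' : K' ≤ L)
    (hne : K ≠ K') : wOf K ⊓ wOf K' = ⊥ ∧ K' ≤ C(wOf K) ∧ K' ≤ N(K) := by
  have k := h.eq_or hL hO hK hKL hK' hKL' (one_mem L)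
  rw [conj_one] at k
  obtain ⟨k₁, k₂⟩ := k.resolve_left hne
  refine ⟨k₁, k₂, fun g hg => mem_normalizer_iff_conj_eq.mpr ?_⟩
  refine ((h.eq_or hL hO hK hKL hK hKL (hKL' hg)).resolve_right fun k₃ => hK.W_ne_bot ?_).symm
  rw [← k₃.1, ← conj_wOf, conj_eq_of_mem_normalizer (le_normalizer_of_le_centralizer k₂ hg), inf_idem]

omit [Finite G] in
/-- the elements permuting `K` and `K'` -/
def perm2 (K K' : Subgroup G) : Subgroup G where
  carrier := {g | (K ^ᶜ g = K ∧ K' ^ᶜ g = K') ∨ (K ^ᶜ g = K' ∧ K' ^ᶜ g = K)}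
  one_mem' := Or.inl ⟨conj_one _, conj_one _⟩
  mul_mem' := by
    rintro a b (⟨a₁, a₂⟩ | ⟨a₁, a₂⟩) (⟨b₁, b₂⟩ | ⟨b₁, b₂⟩) <;>
      simp only [Set.mem_ofPred_eq, ← conj_conj, a₁, a₂, b₁, b₂, and_self, true_or, or_true]
  inv_mem' := by
    rintro a (⟨a₁, a₂⟩ | ⟨a₁, a₂⟩)
    · exact Or.inl ⟨by conv_lhs => rw [← a₁, conj_conj_inv], by conv_lhs => rw [← a₂, conj_conj_inv]⟩
    · exact Or.inr ⟨by conv_lhs => rw [← a₂, conj_conj_inv], by conv_lhs => rw [← a₁, conj_conj_inv]⟩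

instance instWE [WR2.{u}] : WE.{u} := ⟨fun {G} _ _ _ hG hQ T h K₁ K₂ j hne o₁ o₂ hD => by
  obtain ⟨M, hM, hLM⟩ : ∃ M, IsMaximalTwoLocal M ∧ N(pCoreOf 2 (K₁ ⊔ K₂ ⊔ T)) ≤ M := by
    obtain ⟨M, hM, hm⟩ := (Set.toFinite {M : Subgroup G | IsTwoLocal M}).exists_le_maximal
      (a := N(pCoreOf 2 (K₁ ⊔ K₂ ⊔ T))) ⟨_, pCoreOf_isPGroup 2 _, j.ne, rfl⟩
    exact ⟨M, ⟨hm.1, fun K hK hle => le_antisymm (hm.2 hK hle) hle⟩, hM⟩
  have hLM := (le_normalizer_pCoreOf 2 _).trans hLM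
  have hT : (T : Subgroup G) ≤ M := le_sup_right.trans hLM
  have h₁ : K₁ ≤ M := (le_sup_left.trans le_sup_left).trans hLM
  have h₂ : K₂ ≤ M := (le_sup_right.trans le_sup_left).trans hLM
  have hO : pCoreOf 2 M ≠ ⊥ := by
    obtain ⟨Q, hQ, hne, rfl⟩ := hM.1
    exact fun e => hne (le_bot_iff.1 (e ▸ le_pCoreOf le_normalizer le_rfl hQ))
  obtain ⟨d, c₂, n₂⟩ := h.far hT hO j.j1 h₁ j.j2 h₂ hne
  obtain ⟨-, c₁, n₁⟩ := h.far hT hO j.j2 h₂ j.j1 h₁ hne.symm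
  have two : ∀ K ≤ M, JC (J 2 (T : Subgroup G)) K → K = K₁ ∨ K = K₂ := fun K hK hj =>
    ((WR2.out T h M hT hO K₁ K₂ K h₁ h₂ hK j.j1 j.j2 hj).resolve_left hne).imp Eq.symm Eq.symm
  have hp : M ≤ perm2 K₁ K₂ := by
    refine h.le_of hT hO (fun K hK hj g hg => Or.inl ?_) fun g hg => ?_
    · rcases two K hK hj with rfl | rfl
      exacts [⟨conj_eq_of_mem_normalizer (le_normalizer hg), conj_eq_of_mem_normalizer (n₁ hg)⟩,
        ⟨conj_eq_of_mem_normalizer (n₂ hg), conj_eq_of_mem_normalizer (le_normalizer hg)⟩]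
    · have inj : K₁ ^ᶜ g ≠ K₂ ^ᶜ g := fun e => hne (by rw [← conj_conj_inv K₁ g, e, conj_conj_inv])
      rcases two _ (conj_le_of_mem h₁ hg.1) (j.j1.conj_of_mem hg.2) with e₁ | e₁ <;>
        rcases two _ (conj_le_of_mem h₂ hg.1) (j.j2.conj_of_mem hg.2) with e₂ | e₂
      exacts [absurd (e₁.trans e₂.symm) inj, Or.inl ⟨e₁, e₂⟩, Or.inr ⟨e₁, e₂⟩, absurd (e₁.trans e₂.symm) inj]
  have hc : ⁅K₁, K₂⁆ = ⊥ := by
    have k₁ := commutator_le_left_of_le_normalizer n₂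
    have k₂ := commutator_le_right_of_le_normalizer n₁
    exact le_bot_iff.mp (d ▸ le_inf (fun x hx => o₁ ▸ j.j1.mem_pCoreOf (k₁ hx) (c₂ (k₂ hx)))
      fun x hx => o₂ ▸ j.j2.mem_pCoreOf (k₂ hx) (c₁ (k₁ hx)))
  obtain ⟨t, ht, rfl⟩ := j.tr
  have hWT : wOf K₁ ≤ T := (h.wOf_eq hT hO j.j1 h₁).le.trans ((commutator_le_left_of_le_normalizer
    (h₁.trans (le_normalizer_omegaOneCenter (le_normalizer_pCoreOf 2 M)))).trans
      ((omegaOneCenter_le 2 _).trans (h.ov hT hO).syl.pCoreOf_le))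
  have hJ : J 2 (T : Subgroup G) ≤ (T : Subgroup G) ⊓ N(K₁) := le_inf (J_le 2 _) j.j1.norm
  obtain ⟨z, u, ρ, b, e, m⟩ := we_blk j.j1 o₁ (T.isPGroup'.to_le inf_le_left) hJ inf_le_right
    (le_inf hWT (((wOf_le_pCoreOf K₁).trans (pCoreOf_le 2 K₁)).trans le_normalizer))
  obtain ⟨a, ha, a₁, a₂⟩ := h.exists_a hT hO j.j1 h₁ j.j2 h₂ fun e => j.j1.W_ne_bot (by rw [← d, ← e, inf_idem])
  rw [← conj_wOf] at a₂
  have cm : ∀ w ∈ wOf K₁, Commute a (t * w * t⁻¹) := fun w hw => (a₂ _ (mem_conj_iff'.mpr ⟨w, hw, rfl⟩)).symm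
  refine QZWr.wr b hG hQ T ⟨hM, hT⟩ inf_le_left (h₁ (e ▸ subset_closure (by simp))) ht (fun x hx x' hx' => ?_)
    (fun g hg => e ▸ (hp hg).imp And.left And.left) (J_le 2 _ ha) (b.fz a (hJ ha))
    ((b.fu a (hJ ha)).resolve_left fun e₂ => a₁ fun x hx => ?_) (cm z ((m z).mpr (by simp))) (cm u ((m u).mpr (by simp)))
    (e ▸ hD)
  · rw [← e] at hx hx'
    exact (commutator_eq_bot_iff_le_centralizer.mp hc hx _ (mem_conj_iff'.mpr ⟨x', hx', rfl⟩)).symm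
  · have e₁ := mul_inv_eq_iff_eq_mul.mp (b.fz a (hJ ha))
    have e₂ := mul_inv_eq_iff_eq_mul.mp e₂
    rcases (m x).mp hx with rfl | rfl | rfl | rfl
    · simp
    · exact e₁.symm
    · exact e₂.symm
    · rw [mul_assoc, ← e₂, ← mul_assoc, ← e₁, mul_assoc]⟩

end Cfsg.Agent.Lib.WR
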