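import Cfsg.Agent.Lib.WrDefs
import Cfsg.Agent.Lib.QZEnd
import Cfsg.Agent.S1833

/-! Final assembly for S1832. -/

set_option autoImplicit false

namespace Cfsg.Agent.Lib.WR

open Cfsg Subgroup Cfsg.Agent.Lib.PCoreConj Cfsg.Agent.Lib.PCore Cfsg.Agent.Lib.PCoreResidual
  Cfsg.Agent.Lib.ThompsonJ Cfsg.Agent.Lib.JComp Cfsg.Agent.Lib.JGlobal

universe u

theorem fin_loc {G : Type u} [Group G] [Finite G] {T : Sylow 2 G} (h : Ctx T) {K : Subgroup G}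
    (j : Jt (T : Subgroup G) K K) : AmalgS3.Loc (K ⊔ T) (T : Subgroup G) := by
  have o := j.ne
  rw [sup_idem] at o
  exact JAmalg.loc j.j1 (h.ov le_sup_right o) le_sup_left fun t ht =>
    mem_normalizer_iff_conj_eq.mpr ((j.perm t ht).elim And.left And.left)

theorem final [WP1.{u}] [WF1.{u}] [WLo.{u}] [WGr.{u}] [WB1.{u}] {G : Type u} [Group G] [Finite G] [IsSimpleGroup G]
    (hG : ¬ IsMulCommutative G) (hQ : Cfsg.IsQTKE G) (T : Sylow 2 G)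
    (hE : Cfsg.calLf (T : Subgroup G) = ∅)
    (hZ : ∃ M₁ M₂ : Subgroup G,
      M₁ ∈ Cfsg.maxTwoLocalsContaining (Subgroup.centralizer ((Cfsg.omegaOne 2 ((T : Subgroup G) ⊓ Subgroup.centralizer ((T : Subgroup G) : Set G))) : Set G)) ∧
      M₂ ∈ Cfsg.maxTwoLocalsContaining (Subgroup.centralizer ((Cfsg.omegaOne 2 ((T : Subgroup G) ⊓ Subgroup.centralizer ((T : Subgroup G) : Set G))) : Set G)) ∧ M₁ ≠ M₂) :
    (∃ (F : Type) (_ : Field F) (_ : Fintype F), Fintype.card F = 2 ∧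
        Nonempty (G ≃* Matrix.ProjectiveSpecialLinearGroup (Fin 3) F)) ∨
      Nonempty (G ≃* ↥(alternatingGroup (Fin 6))) := by
  have hC : centralizer (omegaOneCenter 2 (T : Subgroup G) : Set G) = (T : Subgroup G) :=
    Cfsg.Agent.S1833.result hG hQ T hE hZ
  obtain ⟨M₁, M₂, h₁, h₂, hne⟩ := hZ
  have h : Ctx T := ⟨(QZ.Q0.out hG hQ T hE M₁ M₂ h₁ h₂ hne).1, hC⟩
  obtain ⟨K₁, K₂, L₁, L₂, t⟩ := WP1.out hG hQ T h M₁ M₂ ⟨h₁.1, hC.ge.trans h₁.2⟩ ⟨h₂.1, hC.ge.trans h₂.2⟩ hne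
  have f₂ := WF1.out hG hQ T h _ _ _ _ t.symm
  rw [sup_comm (wOf L₁ ⊔ wOf L₂)] at f₂
  have nc := WGr.out (WLo.out T h _ _ t.l).1 (WLo.out T h _ _ t.r).1 t.core (WF1.out hG hQ T h _ _ _ _ t) f₂
  obtain rfl := WB1.out hG hQ T h _ _ _ _ t nc
  obtain rfl := WB1.out hG hQ T h _ _ _ _ t.symm fun e => nc (le_centralizer_iff.mp e)
  have p : AmalgS3.Pair (K₁ ⊔ T) (L₁ ⊔ T) (T : Subgroup G) := ⟨fin_loc h t.l, fin_loc h t.r, fun N a b c =>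
    t.core N a (by rwa [sup_idem]) (by rwa [sup_idem])⟩
  exact QZEnd.fin hG T hC le_sup_right (p.equiv.imp And.left And.left)

end Cfsg.Agent.Lib.WR
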