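import Cfsg.Agent.Lib.WrDefs
import Cfsg.Agent.Lib.BlkBase
import Cfsg.Agent.S1823

/-! S1832, piece `WN`: the normalizer of `J(T)` permutes the two components. -/

set_option autoImplicit false

namespace Cfsg.Agent.Lib.WrN

open Cfsg Subgroup Cfsg.Agent.Lib.PCoreConj Cfsg.Agent.Lib.PCore Cfsg.Agent.Lib.PCoreResidual
  Cfsg.Agent.Lib.ThompsonJ Cfsg.Agent.Lib.JComp Cfsg.Agent.Lib.WR

universe u

variable {G : Type u} [Group G] [Finite G]

theorem core_le {I K : Subgroup G} (h : JC I K) :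
    pCoreOf 2 K ≤ centralizer (omegaOneCenter 2 I : Set G) := by
  intro q hq
  rw [mem_centralizer_iff]
  intro z hz
  obtain ⟨w, hw, c, hc, rfl⟩ := h.Z_split hz
  have e1 : w * q = q * w := mem_centralizer_iff.1 (pCoreOf_le_centralizer_wOf K hq) w hw.2
  have e2 : q * c = c * q := mem_centralizer_iff.1 hc.2 q (pCoreOf_le 2 K hq)
  rw [mul_assoc, ← e2, ← mul_assoc, e1, mul_assoc]

omit [Finite G] in
/-- `T` lies in a unique maximal subgroup of `P` -/
theorem uniq {P T : Subgroup G} (hl : T ≤ P) (hne : ¬ P ≤ T)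
    (hm : ∀ H : Subgroup G, T ≤ H → ∀ a ∈ P, a ∉ T → a ∈ H → P ≤ H) :
    ∃! K : Subgroup P, IsCoatom K ∧ T.subgroupOf P ≤ K := by
  have hc : IsCoatom (T.subgroupOf P) := by
    refine ⟨fun e => hne (subgroupOf_eq_top.1 e), fun K hK => ?_⟩
    obtain ⟨a, ha, ha'⟩ := SetLike.exists_of_lt hK
    have hT : T ≤ K.map P.subtype := fun x hx => ⟨⟨x, hl hx⟩, hK.le hx, rfl⟩
    have := hm _ hT a a.2 ha' ⟨a, ha, rfl⟩
    refine eq_top_iff.2 fun x _ => ?_
    obtain ⟨y, hy, e⟩ := this x.2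
    exact (Subtype.ext e : y = x) ▸ hy
  exact ⟨_, ⟨hc, le_rfl⟩, fun K hK => (hc.le_iff.1 hK.2).resolve_left hK.1.1⟩

/-- `N(J(T))` and `K₁ K₂ T` lie in a common member of `𝓗(T)` -/
theorem common [WLo.{u}] [IsSimpleGroup G] (hG : ¬ IsMulCommutative G) (hQ : IsQTKE G) (T : Sylow 2 G)
    (h : Ctx T) {K₁ K₂ : Subgroup G} (j : Jt (T : Subgroup G) K₁ K₂) :
    ∃ L : Subgroup G, pCoreOf 2 L ≠ ⊥ ∧ normalizer (J 2 (T : Subgroup G) : Set G) ≤ L ∧ K₁ ⊔ K₂ ⊔ T ≤ L := by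
  haveI : Fact (Nat.Prime 2) := ⟨Nat.prime_two⟩
  obtain ⟨lo, e1, e2, e3⟩ := WLo.out T h K₁ K₂ j
  have T0 : (T : Subgroup G) ≠ ⊥ := fun e => j.ne (eq_bot_iff.2 (lo.QT.trans e.le))
  have ZT : omegaOneCenter 2 (T : Subgroup G) ≤ omegaOneCenter 2 (J 2 (T : Subgroup G)) := by
    rw [omegaOneCenter_J]; exact Cfsg.Agent.Lib.Blk.omegaOneCenter_le_ZJ 2 _
  have BT : centralizer (omegaOneCenter 2 (J 2 (T : Subgroup G)) : Set G) ≤ T :=
    (centralizer_anti ZT).trans h.cz.le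
  have nB : normalizer (J 2 (T : Subgroup G) : Set G) ≤
      normalizer (centralizer (omegaOneCenter 2 (J 2 (T : Subgroup G)) : Set G) : Set G) :=
    le_normalizer_centralizer (normalizer_le_normalizer_omegaOneCenter 2 _)
  have JB : J 2 (T : Subgroup G) ≤ centralizer (omegaOneCenter 2 (J 2 (T : Subgroup G)) : Set G) :=
    le_centralizer_omegaOneCenter 2 _
  have OB : pCoreOf 2 (K₁ ⊔ K₂) ≤ centralizer (omegaOneCenter 2 (J 2 (T : Subgroup G)) : Set G) :=
    e2 ▸ sup_le (core_le j.j1) (core_le j.j2)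
  have J0 : J 2 (T : Subgroup G) ≠ ⊥ := fun e => lo.nc1 (e ▸ bot_le)
  have TJ : (T : Subgroup G) ≤ normalizer (J 2 (T : Subgroup G) : Set G) :=
    le_normalizer.trans (normalizer_le_normalizer_J 2 _)
  generalize centralizer (omegaOneCenter 2 (J 2 (T : Subgroup G)) : Set G) = B at BT nB JB OB
  have nE : (T : Subgroup G) ≤ normalizer ((K₁ ⊔ K₂ : Subgroup G) : Set G) := by
    rw [← e1, oddGenerated, closure_odd_eq]
    exact le_sup_right.trans (le_normalizer_pResidualOf 2 _)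
  have sy : IsSylowIn 2 B (K₁ ⊔ K₂ ⊔ B) := by
    have := (isSylowIn_of_sylow_le T (le_sup_right : (T : Subgroup G) ≤ K₁ ⊔ K₂ ⊔ T)).inf_of_le_normalizer
      (N := K₁ ⊔ K₂ ⊔ B) (sup_le_sup_left BT _) (le_normalizer_sup nE (TJ.trans nB))
    rwa [inf_comm, sup_comm (K₁ ⊔ K₂) B, sup_inf_of_le_normalizer (BT.trans nE) BT, inf_comm, e3,
      sup_eq_left.2 OB, sup_comm B] at this
  obtain ⟨R, r1, r2, r3⟩ := Cfsg.Agent.S1823.result hG hQ T (normalizer (J 2 (T : Subgroup G) : Set G))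
    (K₁ ⊔ K₂ ⊔ T)
    ⟨fun e => J0 (eq_bot_iff.2 ((le_pCoreOf le_normalizer le_rfl j.j1.pg).trans (pCoreOf_eq_bot_iff.2 e).le)), TJ⟩
    ⟨fun e => j.ne (pCoreOf_eq_bot_iff.2 e), le_sup_right⟩
    (uniq le_sup_right (fun e => j.j1.not_le T.isPGroup' ((le_sup_left.trans le_sup_left).trans e)) lo.max) B
    (fun e => J0 (eq_bot_iff.2 (JB.trans e.le))) BT
    (by rw [e1]; exact (isSylowIn_iff_exists_subgroupOf le_sup_right).1 sy) nB
  exact ⟨normalizer (R : Set G), fun e => r1 (eq_bot_iff.2 ((le_pCoreOf le_normalizer le_rfl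
    (T.isPGroup'.to_le (r2.trans BT))).trans e.le)), le_sup_left.trans r3, le_sup_right.trans r3⟩

instance instWN [WLo.{u}] [WR2.{u}] : WN.{u} where
  out := by
    intro G _ _ _ hG hQ T h K₁ K₂ j g hg
    haveI : Fact (Nat.Prime 2) := ⟨Nat.prime_two⟩
    obtain ⟨L, hO, l1, l2⟩ := common hG hQ T h j
    have hT : (T : Subgroup G) ≤ L := le_sup_right.trans l2
    have k1 : K₁ ≤ L := (le_sup_left.trans le_sup_left).trans l2
    have k2 : K₂ ≤ L := (le_sup_right.trans le_sup_left).trans l2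
    have two := WR2.out T h L hT hO
    by_cases e : K₁ = K₂
    · subst e
      have TJ : (T : Subgroup G) ≤ normalizer (J 2 (T : Subgroup G) : Set G) :=
    le_normalizer.trans (normalizer_le_normalizer_J 2 _)
      have : normalizer (J 2 (T : Subgroup G) : Set G) ≤ normalizer (K₁ : Set G) := by
        rw [← pResidualOf_sup_of_isSylowIn (isSylowIn_of_sylow_le T TJ)]
        refine sup_le (pResidualOf_le_iff.2 fun y hy hc => ?_) fun t ht =>
          mem_normalizer_iff_conj_eq.2 ((j.perm t ht).elim (·.1) (·.1))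
        have hy2 := mul_mem hy hy
        rcases two K₁ (K₁ ^ᶜ y) (K₁ ^ᶜ (y * y)) k1 (conj_le_of_mem k1 (l1 hy)) (conj_le_of_mem k1 (l1 hy2))
          j.j1 (j.j1.conj_of_mem hy) (j.j1.conj_of_mem hy2) with a | a | a
        · exact mem_normalizer_iff_conj_eq.2 a.symm
        · exact mem_of_pow_mem_of_coprime hc (by rw [pow_two]; exact mem_normalizer_iff_conj_eq.2 a.symm)
        · rw [← conj_conj, conj_inj] at a
          exact mem_normalizer_iff_conj_eq.2 a.symm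
      have a := mem_normalizer_iff_conj_eq.1 (this hg)
      exact Or.inl ⟨a, a⟩
    · have a := (two K₁ K₂ (K₁ ^ᶜ g) k1 k2 (conj_le_of_mem k1 (l1 hg)) j.j1 j.j2
        (j.j1.conj_of_mem hg)).resolve_left e
      have b := (two K₁ K₂ (K₂ ^ᶜ g) k1 k2 (conj_le_of_mem k2 (l1 hg)) j.j1 j.j2
        (j.j2.conj_of_mem hg)).resolve_left e
      have c : K₁ ^ᶜ g ≠ K₂ ^ᶜ g := fun x => e (conj_inj.1 x)
      rcases a with a | a <;> rcases b with b | b
      · exact absurd (a.symm.trans b) c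
      · exact Or.inl ⟨a.symm, b.symm⟩
      · exact Or.inr ⟨a.symm, b.symm⟩
      · exact absurd (a.symm.trans b) c

end Cfsg.Agent.Lib.WrN
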